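/-
The outer automorphism group of J1 (generated by tools/pc/gm.py).
-/
import Cfsg.Agent.Known.GJ1

set_option autoImplicit false
set_option maxRecDepth 100000
set_option linter.all false

namespace CL.Pc.GJ1
open Cfsg CL.Spor

namespace O
noncomputable def sigT : ℕ := 0x14398b39460418820
noncomputable def ivBT : ℕ := 0xcab9000034120
noncomputable def b1pT : ℕ := 0xdb3236534d450a4c970b6e45092a33096d466251b8cc6925136a370b32470c66265c3148e248b6d324c6cb9146d145c6948d36916ca4d48d46e46e12a36a491c7118a324b24b90b6a29096897214536d488950b72231b49c69c91b49a4d93112544598e14a13114c950a6dc45924c4526c949269b31328b8a249166151486131364a4d46a129a72471c4d96496a149389471949965b68a2a18a230929471c8924dc8a428b71372465c3238dc49b44a31b6db4d250b2cc50a2596d329c6a151171a45b26389a6632a44d93212919222d39132924c946384a84a5232d24a270a4a248b65991c44c24b26348a2e48a46e45144a484a5238a225c50a6492a28e170b6e270b91c6e16514e14a18d29234916612518da48c85b4d245985b4944c94632c944c49a8d172331a4a16636e46a245484c64965185b51b2d391b7093192d46e25148622c949c25b2534a349c4dc68c6d391369c26144c29b64c2528d985329a6cb2a471c8e171345429c92230b64a45484b28b2943134598e22d17143126c98ca8da4d425a70a2db69c2623246dc45451b92170c44a91425a52445245430a4498da25128a8cb4e325945c29331185b6594db6a451b65a2d97192e149a51170970c45c4d284a44965245a2d18dc68c8c96ca6ca31944a90c8936c968c4542a250c4da89a8cc2596d49236618d92a230a45a28b4e248a92389189b25a69b6d14913198e231b2542598a245148b2da8e344945a86445388c6498238a371264a2a471a8898d4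
noncomputable def b2pT : ℕ := 0xaaba9bab9baaa9babab9a9ba9abab9ab9a99ba9ba9b9bab9a9b9a9baba90
noncomputable def b2xT : ℕ := 0x1d000000000013009780000022700cc00000230000000000000000000000000000000000000000000003c0dc0000340000e0000080002d000d80008e8000000000000c000000980000014000000000000000000000000000000000000017000b80000000000000000c40b00035000000000000ac000000200003900e00000000000000000000000100000303400002400000000003b01800000000002500000002100002f400000000000000000000000012007000680000028c1f0000000000000000000270001802c000000003200000002900045502a64000000000000000a6c0000000584005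
noncomputable def b2yT : ℕ := 0x856394e8a321f6d9e3087a242f7c54bfaaac2d6549e6b2f448ad83ea55250d18769b33856e0ef574e9dd93a150e6080aaea170a054b35075461c0cc166f7631bab5a54e029d44a3a840ad3f280376c517f47f
noncomputable def b3pT : ℕ := 0xc0
noncomputable def b3xT : ℕ := 1
noncomputable def b3yT : ℕ := 0x12c405
noncomputable def WVT : ℕ := 0xe0000000000000340000000000000b000000000000028000000000000090000000000000200000020614614600000081471471c00000000000206814614610104104001471410440440000000000000480000000000001100000000000004000000000000000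
noncomputable def sig (i : ℕ) : ℕ := tget 5 0x1f sigT i
noncomputable def ivB (i : ℕ) : ℕ := tget 4 0xf ivBT i
noncomputable def b1p (i : ℕ) : ℕ := tget2 3 7 384 0xffffffffffffffffffffffffffffffffffffffffffffffffffffffffffffffffffffffffffffffffffffffffffffffff b1pT i
noncomputable def b1 : Lev := ⟨30, 0, 1463, fun i => i, fun i => i, b1p, fun _ => 0⟩
noncomputable def b2p (i : ℕ) : ℕ := tget 4 0xf b2pT i
noncomputable def b2x (i : ℕ) : ℕ := tget2 6 0x3f 768 0xffffffffffffffffffffffffffffffffffffffffffffffffffffffffffffffffffffffffffffffffffffffffffffffffffffffffffffffffffffffffffffffffffffffffffffffffffffffffffffffffffffffffffffffffffffffffffffffff b2xT i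
noncomputable def b2y (i : ℕ) : ℕ := tget 11 0x7ff b2yT i
noncomputable def b2 : Lev := ⟨1151, 8, 60, b2y, fun i => forceN (Nat.mod i 319) b2x, b2p, fun _ => 0⟩
noncomputable def b3p (i : ℕ) : ℕ := tget 4 0xf b3pT i
noncomputable def b3x (i : ℕ) : ℕ := tget 1 1 b3xT i
noncomputable def b3y (i : ℕ) : ℕ := tget 11 0x7ff b3yT i
noncomputable def b3 : Lev := ⟨1029, 11, 2, b3y, fun i => forceN (Nat.mod i 2) b3x, b3p, fun _ => 0⟩
noncomputable def b4 : Lev := ⟨1089, 12, 1, fun _ => 1089, fun _ => 0, fun _ => 0, fun _ => 0⟩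
noncomputable def bch : List Lev := [b1, b2, b3, b4]
noncomputable def bls : List (Lev × ℕ) := [(b2, 1), (b3, 1), (b4, 1)]
noncomputable def D : OutD := ⟨5, 6, 7, 6, 8, 19, 8, 1, 5, 6, 30, [1, 2, 4], [0x410830410c10420c1043], [(1, 7)]⟩
noncomputable def WV (i : ℕ) : ℕ := tget 58 0x3ffffffffffffff WVT i
noncomputable def rv0 : List (ℕ × ℕ) := [(0x44, 0), (0x85, 0), (0x4144145, 6), (0x5043043104, 7), (0x1c8, 0), (0x7188187188206, 9), (0x91c7188203042042, 0xa), (0x208208084083045, 0xb), (0x1c71882030420c40c4, 0xc), (0x2461c71c71c20c41440c4, 0xd), (0x91871880c40c2, 0xe)]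
noncomputable def rv : List (ℕ × ℕ) := (rv0 ++ [])
theorem b1_fix : fixChk (selA A sig) 12 1463 [] b1 = true := by decide +kernel
theorem b1_pt_0 : allR (ptChk (selA A sig) 12 1463 9 b1) 0 1463 = true := by decide +kernel
theorem b2_fix : fixChk (selA A sig) 12 1463 [30] b2 = true := by decide +kernel
theorem b2_pt_0 : allR (ptChk (selA A sig) 12 1463 9 b2) 0 60 = true := by decide +kernel
theorem b3_fix : fixChk (selA A sig) 12 1463 [1151, 30] b3 = true := by decide +kernel
theorem b3_pt_0 : allR (ptChk (selA A sig) 12 1463 9 b3) 0 2 = true := by decide +kernel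
theorem b4_fix : fixChk (selA A sig) 12 1463 [1029, 1151, 30] b4 = true := by decide +kernel
theorem b4_pt_0 : allR (ptChk (selA A sig) 12 1463 9 b4) 0 1 = true := by decide +kernel
theorem cent1_0 : allR (topChk A 8 9 17 (iter (A 16) 1) iv (fun W => eqB A 8 17 [30, 572, 281, 1316] W 0) a1 als 18) 0 1463 = true := by decide +kernel
theorem srch_0 : allR (topChk (selA A sig) 12 9 18 (selA A sig D.ls') ivB (D.leaf (selA A sig) 18 [30, 572, 281, 1316]) b1 bls 5) 0 1463 = true := by decide +kernel
theorem rv0_ok : allL (fun p : ℕ × ℕ => eqB (lazyA A 16 WV) 14 16 [30, 572, 281, 1316] p.1 p.2) rv0 = true := by decide +kernel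
theorem bch_ok : ChainOk (selA A sig) 12 1463 9 bch [] :=
  ChainOk.cons b1_fix (allR_step b1_pt_0 (allR_end (by decide))) (ChainOk.cons b2_fix (allR_step b2_pt_0 (allR_end (by decide))) (ChainOk.cons b3_fix (allR_step b3_pt_0 (allR_end (by decide))) (ChainOk.cons b4_fix (allR_step b4_pt_0 (allR_end (by decide))) (trivial))))
universe u
variable {G : Type u} {X : Type*} [Group G] [MulAction G X] {pt : ℕ → X} {x : ℕ → G}
theorem cent1 (h : Ful pt x) : ∀ g, x 16 * g = g * x 16 ^ 1 → g ∈ Subgroup.zpowers (x 16) :=
  Full.cent (v := a1) (ls := als) h (by decide +kernel) (allR_step cent1_0 (allR_end (by decide)))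
theorem gen3 (h : Ful pt x) : Subgroup.closure {x 16, x 17, x 18} = ⊤ :=
  h.gen3 (f := 16) (W := WV) (M' := 14) (rs := rv) (defs := [(4, 1), (5, 2), (6, 0x4144145), (7, 0x5043043104), (8, 7), (9, 0x7188187188206), (10, 0x91c7188203042042), (11, 0x208208084083045), (12, 0x1c71882030420c40c4), (13, 0x2461c71c71c20c41440c4), (14, 0x91871880c40c2)]) (tops := [10, 11, 12, 13, 14]) (by decide +kernel) (allL_app rv0_ok (allL_end))
theorem sig_a : sig D.la = 16 ∧ sig D.lu = 17 ∧ sig D.ly = 18 := by decide +kernel
theorem out_le (h : Ful pt x) : Nat.card (Out G) ≤ 1 ∧ orderOf (x 16) = 19 := by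
  have := h.out_le (σ := sig) (D := D) (v := b1) (ls := bls) (by norm_num : Nat.Prime 19) (by rw [sig_a.1]; exact cent1 h)
    (by rw [sig_a.1, sig_a.2.1, sig_a.2.2]; exact gen3 h) bch_ok (by decide +kernel) (allR_step srch_0 (allR_end (by decide)))
  rwa [sig_a.1] at this
theorem out (h : Ful pt x) : Nat.card (Out G) = 1 := h.out_one (out_le h).1
end O

end CL.Pc.GJ1
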