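/-
Certificates for the 2- and 3-parts of the Schur multiplier of M11 (generated).
-/
import Cfsg.Agent.Known.PcM24

set_option autoImplicit false

namespace CL.Pc
open Cfsg CL.Spor

namespace M11p2
def relT : ℕ := 0x8040200008038180006c2000100000
def dT : ℕ := 0
def eT : ℕ := 0
def D : Data :=
  ⟨2, 4, 64, 1, 2, 12, 15, 16, 4, fun i j => tget 9 0x1ff relT (tri i j), 15, 1, 0,
    fun k l => tget 1 1 dT (Nat.add (Nat.mul 1 k) l), fun k l => tget 1 1 eT (Nat.add (Nat.mul 1 k) l)⟩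
def S : Fin2 :=
  ⟨24, 2, [0, 0x70300201, 0x50100403, 0x402, 0x702],
    [0, 0, 0, 0, 0, 0, 0, 0, 0x100, 0x10000010100, 0, 1, 0x1000000, 0x10000, 0x100010001],
    []⟩
def r0 : List RelC := [⟨0, 1, 0x41, 0xb01⟩, ⟨0, 2, 0x82, 0x801⟩, ⟨0, 3, 0xc3, 0xd01⟩, ⟨0, 3, 0x83, 0xc01⟩, ⟨0, 3, 0x41, 0xe0100d0100b01⟩, ⟨0, 2, 0x42, 0xd01009010080100701⟩]
theorem r0_ok : allL (chkRel D) r0 = true := by decide +kernel
def rels : List RelC := (r0 ++ [])
theorem params : Params D S rels 0 :=
  ⟨(by norm_num : Nat.Prime 2), by decide +kernel, by decide +kernel, by decide +kernel, by decide +kernel,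
    by decide +kernel, by decide +kernel, by decide +kernel, by decide +kernel, by decide +kernel,
    by decide +kernel, by decide +kernel⟩
theorem g1 : goalsChk D S (rels.map (·.s)) 1 4 = true := by decide +kernel
theorem checks : Checks D S rels :=
  ⟨by decide +kernel, allL_app r0_ok (allL_end), cover_step g1 (cover_end (by decide)), by decide +kernel⟩
def PT : ℕ := 0x8da6fac2f2a390c59ccd524a410c207b95739a898d86c2ce42ac16443420a95e7a0a6352e0cb4512bb5c149880996e788ea252d2c751067b6c484820000000000000000000000000000000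
def tbl (l : ℕ) : ℕ := tget 120 0xffffffffffffffffffffffffffffff PT l
abbrev A : ℕ → ℕ → ℕ := fun l => pf (tbl l)
theorem w1 : rowsChk D (eqB A (D.n + D.NF) 4 [23, 0, 1, 2, 3, 4, 5]) 1 4 = true := by decide +kernel
theorem rows : ∀ j, 1 ≤ j → j ≤ D.n → ∃ lo len, lo ≤ j ∧ j < lo + len ∧
    rowsChk D (eqB A (D.n + D.NF) 4 [23, 0, 1, 2, 3, 4, 5]) lo len = true := cover_step w1 (cover_end (by decide))
theorem fus : ∀ k < D.NF, fusChk D (eqB A (D.n + D.NF) 4 [23, 0, 1, 2, 3, 4, 5]) k = true :=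
  show ∀ k < 0, _ from below_end
theorem bound (hG : ¬ 2 ^ 5 ∣ Nat.card Spor.M11) : PBound Spor.M11 2 0 := by
  obtain ⟨a, ha⟩ := m24_alph t11 t11_ok tbl (D.n + D.NF) (by decide +kernel)
  exact ha.pbound gPt_inj (m24_isBase M11_le) params checks (by decide) rows fus (e := 1)
    (L := [(1, 24, [2]), (5, 24, [3, 1]), (2, 24, [4])]) (by decide) (by decide +kernel) hG
end M11p2

namespace M11p3
def relT : ℕ := 0x200
def dT : ℕ := 0x24
def eT : ℕ := 0x814100
def D : Data :=
  ⟨3, 2, 4096, 65, 3, 10, 9, 10, 1, fun i j => tget 2 3 relT (tri i j), 6, 3, 1,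
    fun k l => tget 2 3 dT (Nat.add (Nat.mul 3 k) l), fun k l => tget 8 0xff eT (Nat.add (Nat.mul 3 k) l)⟩
def S : Fin2 :=
  ⟨22, 3, [0, 0x201, 0x501],
    [0, 0, 0, 0, 2, 0],
    []⟩
def r0 : List RelC := [⟨1, 0x42, 0x81, 0x401⟩]
theorem r0_ok : allL (chkRel D) r0 = true := by decide +kernel
def rels : List RelC := (r0 ++ [])
theorem params : Params D S rels 0 :=
  ⟨(by norm_num : Nat.Prime 3), by decide +kernel, by decide +kernel, by decide +kernel, by decide +kernel,
    by decide +kernel, by decide +kernel, by decide +kernel, by decide +kernel, by decide +kernel,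
    by decide +kernel, by decide +kernel⟩
theorem g1 : goalsChk D S (rels.map (·.s)) 1 2 = true := by decide +kernel
theorem checks : Checks D S rels :=
  ⟨by decide +kernel, allL_app r0_ok (allL_end), cover_step g1 (cover_end (by decide)), by decide +kernel⟩
def PT : ℕ := 0x758b1792e399d86a56415a54d82040bbcb4b05d09ad068d6443894d1b1203beb7b21709c452729aca04a61a480000000000000000000000000000000
def tbl (l : ℕ) : ℕ := tget 120 0xffffffffffffffffffffffffffffff PT l
abbrev A : ℕ → ℕ → ℕ := fun l => pf (tbl l)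
theorem w1 : rowsChk D (eqB A (D.n + D.NF) 4 [23, 0, 1, 2, 3, 4, 5]) 1 2 = true := by decide +kernel
theorem rows : ∀ j, 1 ≤ j → j ≤ D.n → ∃ lo len, lo ≤ j ∧ j < lo + len ∧
    rowsChk D (eqB A (D.n + D.NF) 4 [23, 0, 1, 2, 3, 4, 5]) lo len = true := cover_step w1 (cover_end (by decide))
theorem f0 : fusChk D (eqB A (D.n + D.NF) 4 [23, 0, 1, 2, 3, 4, 5]) 0 = true := by decide +kernel
theorem fus : ∀ k < D.NF, fusChk D (eqB A (D.n + D.NF) 4 [23, 0, 1, 2, 3, 4, 5]) k = true :=
  show ∀ k < 1, _ from below_step f0 (below_end)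
theorem bound (hG : ¬ 3 ^ 3 ∣ Nat.card Spor.M11) : PBound Spor.M11 3 0 := by
  obtain ⟨a, ha⟩ := m24_alph t11 t11_ok tbl (D.n + D.NF) (by decide +kernel)
  exact ha.pbound gPt_inj (m24_isBase M11_le) params checks (by decide) rows fus (e := 2)
    (L := [(5, 24, [2]), (1, 24, [1])]) (by decide) (by decide +kernel) hG
end M11p3

end CL.Pc
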