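/-
Certificates for the 2- and 3-parts of the Schur multiplier of M23 (generated).
-/
import Cfsg.Agent.Known.PcM24

set_option autoImplicit false

namespace CL.Pc
open Cfsg CL.Spor

namespace M23p2
def relT : ℕ := 0x1c0038007000e001c0038000000000180030006000c07180000000038a06140028005000000000020184000800000007183020600000007142000000000000000
def dT : ℕ := 0x38180803a08000e060281004010001c0c050200c0400
def eT : ℕ := 0x8000000c00388180001840000382000000000000380001c5000030a001c5040038a171851010000000000001800000380071820000388071840c0000c28000000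
def D : Data :=
  ⟨2, 7, 64, 1, 2, 13, 57, 35, 11, fun i j => tget 15 0x7fff relT (tri i j), 36, 7, 3,
    fun k l => tget 9 0x1ff dT (Nat.add (Nat.mul 7 k) l), fun k l => tget 27 0x7ffffff eT (Nat.add (Nat.mul 7 k) l)⟩
def S : Fin2 :=
  ⟨28, 2, [0, 0x201, 0x501, 0x901, 0x702, 0xc020080200402, 0xc02, 0xc0200802],
    [0, 0, 0, 0, 0, 0, 0, 0, 0, 0, 0, 0x100000000000000010000000000000000000100000001, 0, 0x100000000000000010000000000000000010100000000, 0x100000000000000010000000000000000000100000000, 0, 0x1000000000001000100000100000001000100010000, 0x1000000000001010101010001000001000100010100, 0x10101010000000000010000000000000000, 0x10101010101000000010001010100000101010100, 0x1000000000001010100000000010001000100010000, 0, 0x10101010000000100010000010100000101000100, 0x1010100000000000001000100010100, 0x1010100000000000001000100000000, 0x1010100000000000000000100010000, 0x1010100000000000101000100010000, 0x1010100000000000001000100010000, 0, 0x10000000000000000000000000000, 0x10001000000000000000100,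 0x100000001000000000000010000, 0x10000000000000000000101000000, 0x10000000000010000000100000000, 0x10000000001000000000100000000, 0x10000000000000000000100000000],
    []⟩
def r0 : List RelC := [⟨0, 3, 0x41, 0xe0100b01⟩, ⟨0, 4, 0x82, 0x1b0101701⟩, ⟨0, 5, 0xc3, 0x1b0101801⟩, ⟨0, 5, 0x104, 0x230102001⟩, ⟨0, 6, 0x41, 0x230101d01⟩, ⟨0, 3, 0x43, 0xe0100d01⟩, ⟨0, 4, 0x84, 0x1b0101901⟩, ⟨0, 5, 0xc5, 0x1b0101a01⟩, ⟨0, 5, 0x105, 0x230102101⟩, ⟨0, 6, 0x46, 0x230102201⟩, ⟨0, 2, 0x41, 0x23010210101d010140101001⟩, ⟨0, 3, 0x82, 0x23010220101e0101b0101701⟩, ⟨0, 2, 0x42, 0x23010210101e010140101101⟩, ⟨0, 3, 0x83, 0x23010220101f0101b0101801⟩, ⟨0, 5, 0x44, 0x1d01⟩, ⟨0, 5, 0xc4, 0x220101f0101901⟩, ⟨0, 5, 0x43, 0x2201019010160101301⟩, ⟨0, 3, 0x42, 0x23010210101f0101d0101601013010120100c01⟩, ⟨1, 0x43, 0x50c1, 0x29010230102101019010130100c01⟩, ⟨1, 0xc4, 0x6103, 0x2a01022010200101e0101b01019010130100c01⟩, ⟨1, 0x42, 0x185081, 0x2a010290102301022010210101b0101a0101801013010120100801⟩, ⟨2, 0x145, 0, 0x23010210101b0101401⟩,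 ⟨3, 0x145, 0, 0x230100e01⟩]
theorem r0_ok : allL (chkRel D) r0 = true := by decide +kernel
def rels : List RelC := (r0 ++ [])
theorem params : Params D S rels 0 :=
  ⟨(by norm_num : Nat.Prime 2), by decide +kernel, by decide +kernel, by decide +kernel, by decide +kernel,
    by decide +kernel, by decide +kernel, by decide +kernel, by decide +kernel, by decide +kernel,
    by decide +kernel, by decide +kernel⟩
theorem g1 : goalsChk D S (rels.map (·.s)) 1 7 = true := by decide +kernel
theorem checks : Checks D S rels :=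
  ⟨by decide +kernel, allL_app r0_ok (allL_end), cover_step g1 (cover_end (by decide)), by decide +kernel⟩
def PT : ℕ := 0xbc2ae3c56254c29195f444984336c0bceae218b21b10209e0d4a8167ae91b948bb3e63818e9136414323572a80bdaa69862b6a9e783843650a442640bdaaf9aa27a04cb64909834a410dc0bdab098e343a58d309c17aca492900bc6af2cacca38d03a8435b66442420bceadb48ab33a878290963e2410c20bdab29d223535c943d8b104a481cc0bc6ab9cac63a98da38487c0a01a424000000000000000000000000000000
def tbl (l : ℕ) : ℕ := tget 120 0xffffffffffffffffffffffffffffff PT l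
abbrev A : ℕ → ℕ → ℕ := fun l => pf (tbl l)
theorem w1 : rowsChk D (eqB A (D.n + D.NF) 7 [23, 0, 1, 2, 3, 4, 5]) 1 7 = true := by decide +kernel
theorem rows : ∀ j, 1 ≤ j → j ≤ D.n → ∃ lo len, lo ≤ j ∧ j < lo + len ∧
    rowsChk D (eqB A (D.n + D.NF) 7 [23, 0, 1, 2, 3, 4, 5]) lo len = true := cover_step w1 (cover_end (by decide))
theorem f0 : fusChk D (eqB A (D.n + D.NF) 7 [23, 0, 1, 2, 3, 4, 5]) 0 = true := by decide +kernel
theorem f1 : fusChk D (eqB A (D.n + D.NF) 7 [23, 0, 1, 2, 3, 4, 5]) 1 = true := by decide +kernel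
theorem f2 : fusChk D (eqB A (D.n + D.NF) 7 [23, 0, 1, 2, 3, 4, 5]) 2 = true := by decide +kernel
theorem fus : ∀ k < D.NF, fusChk D (eqB A (D.n + D.NF) 7 [23, 0, 1, 2, 3, 4, 5]) k = true :=
  show ∀ k < 3, _ from below_step f2 (below_step f1 (below_step f0 (below_end)))
theorem bound (hG : ¬ 2 ^ 8 ∣ Nat.card Spor.M23) : PBound Spor.M23 2 0 := by
  obtain ⟨a, ha⟩ := m24_alph t23 t23_ok tbl (D.n + D.NF) (by decide +kernel)
  exact ha.pbound gPt_inj (m24_isBase M23_le) params checks (by decide) rows fus (e := 1)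
    (L := [(0, 24, [1]), (5, 24, [4, 3]), (1, 24, [7, 6, 5, 2])]) (by decide) (by decide +kernel) hG
end M23p2

namespace M23p3
def relT : ℕ := 0x200
def dT : ℕ := 0x24
def eT : ℕ := 0x418200
def D : Data :=
  ⟨3, 2, 4096, 65, 3, 11, 9, 14, 1, fun i j => tget 2 3 relT (tri i j), 6, 3, 1,
    fun k l => tget 2 3 dT (Nat.add (Nat.mul 3 k) l), fun k l => tget 8 0xff eT (Nat.add (Nat.mul 3 k) l)⟩
def S : Fin2 :=
  ⟨22, 3, [0, 0x201, 0x501],
    [0, 0, 0, 0, 2, 0],
    []⟩
def r0 : List RelC := [⟨1, 0x42, 0x81, 0x401⟩]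
theorem r0_ok : allL (chkRel D) r0 = true := by decide +kernel
def rels : List RelC := (r0 ++ [])
theorem params : Params D S rels 0 :=
  ⟨(by norm_num : Nat.Prime 3), by decide +kernel, by decide +kernel, by decide +kernel, by decide +kernel,
    by decide +kernel, by decide +kernel, by decide +kernel, by decide +kernel, by decide +kernel,
    by decide +kernel, by decide +kernel⟩
theorem g1 : goalsChk D S (rels.map (·.s)) 1 2 = true := by decide +kernel
theorem checks : Checks D S rels :=
  ⟨by decide +kernel, allL_app r0_ok (allL_end), cover_step g1 (cover_end (by decide)), by decide +kernel⟩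
def PT : ℕ := 0xba98d4be418da881941574c4459cd0bb8f40c5f0921a523136119435d413baad49be468b1a725605724435a020000000000000000000000000000000
def tbl (l : ℕ) : ℕ := tget 120 0xffffffffffffffffffffffffffffff PT l
abbrev A : ℕ → ℕ → ℕ := fun l => pf (tbl l)
theorem w1 : rowsChk D (eqB A (D.n + D.NF) 4 [23, 0, 1, 2, 3, 4, 5]) 1 2 = true := by decide +kernel
theorem rows : ∀ j, 1 ≤ j → j ≤ D.n → ∃ lo len, lo ≤ j ∧ j < lo + len ∧
    rowsChk D (eqB A (D.n + D.NF) 4 [23, 0, 1, 2, 3, 4, 5]) lo len = true := cover_step w1 (cover_end (by decide))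
theorem f0 : fusChk D (eqB A (D.n + D.NF) 4 [23, 0, 1, 2, 3, 4, 5]) 0 = true := by decide +kernel
theorem fus : ∀ k < D.NF, fusChk D (eqB A (D.n + D.NF) 4 [23, 0, 1, 2, 3, 4, 5]) k = true :=
  show ∀ k < 1, _ from below_step f0 (below_end)
theorem bound (hG : ¬ 3 ^ 3 ∣ Nat.card Spor.M23) : PBound Spor.M23 3 0 := by
  obtain ⟨a, ha⟩ := m24_alph t23 t23_ok tbl (D.n + D.NF) (by decide +kernel)
  exact ha.pbound gPt_inj (m24_isBase M23_le) params checks (by decide) rows fus (e := 2)
    (L := [(0, 24, [2]), (2, 24, [1])]) (by decide) (by decide +kernel) hG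
end M23p3

end CL.Pc
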