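/-
Projective representations of alternating groups of small degree, part 1: eigenvectors, fixed spaces of the
alternating groups of subsets.
-/
import Cfsg.Agent.Known.AltCover
import Cfsg.Agent.Known.AltOn

set_option autoImplicit false

open Equiv Equiv.Perm Module Subgroup

namespace CL.AltGL

open CL.Known

section Lin
variable {k V : Type*} [Field k] [AddCommGroup V] [Module k V]

/-- joint eigenvectors with different weights are independent -/
theorem linearIndependent_of_weights {ι J : Type*} (f : ι → End k V) (v : J → V) (w : J → ι → k)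
    (hv : ∀ j, v j ≠ 0) (hw : Function.Injective w) (h : ∀ j i, f i (v j) = w j i • v j) :
    LinearIndependent k v := by
  classical
  rw [linearIndependent_iff']
  intro s
  induction s using Finset.induction_on with
  | empty => simp
  | insert a s ha ih =>
    intro g hg
    rw [Finset.sum_insert ha] at hg
    have key : ∀ j ∈ s, g j = 0 := by
      intro j hj
      obtain ⟨i, hi⟩ := Function.ne_iff.1 (hw.ne (show j ≠ a by rintro rfl; exact ha hj))
      have h1 := congrArg (f i) hg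
      rw [map_add, map_smul, map_sum, h, map_zero] at h1
      have h2 : ∑ j ∈ s, (g j * (w j i - w a i)) • v j = 0 := by
        have h3 : ∑ j ∈ s, (g j * (w j i - w a i)) • v j =
            ∑ j ∈ s, f i (g j • v j) - w a i • ∑ j ∈ s, g j • v j := by
          rw [Finset.smul_sum, ← Finset.sum_sub_distrib]
          refine Finset.sum_congr rfl fun j _ => ?_
          rw [map_smul, h, smul_smul, smul_smul, ← sub_smul]
          congr 1
          ring
        rw [h3, eq_neg_of_add_eq_zero_right h1, eq_neg_of_add_eq_zero_right hg, smul_neg, smul_comm, sub_self]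
      exact (mul_eq_zero.1 (ih _ h2 j hj)).resolve_right (sub_ne_zero.2 hi)
    intro j hj
    rcases Finset.mem_insert.1 hj with rfl | hj
    · rw [Finset.sum_eq_zero fun j hj => by rw [key j hj, zero_smul], add_zero] at hg
      exact (smul_eq_zero.1 hg).resolve_right (hv _)
    · exact key j hj

variable [FiniteDimensional k V]

theorem card_le_of_weights {ι J : Type*} [Fintype J] (f : ι → End k V) (U : Submodule k V) (w : J → ι → k)
    (hw : Function.Injective w) (h : ∀ j, ∃ v ∈ U, v ≠ 0 ∧ ∀ i, f i v = w j i • v) :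
    Fintype.card J ≤ finrank k U := by
  choose v hU hv h using h
  have h1 := linearIndependent_of_weights f v w hv hw h
  have h2 : LinearIndependent k (fun j => (⟨v j, hU j⟩ : U)) := LinearIndependent.of_comp U.subtype h1
  exact h2.fintype_card_le_finrank

theorem sum_finrank_eigenspace_le (f : End k V) {J : Type*} (s : Finset J) (c : J → k) (hc : Set.InjOn c s)
    (U : Submodule k V) (hU : ∀ j ∈ s, f.eigenspace (c j) ≤ U) :
    ∑ j ∈ s, finrank k (f.eigenspace (c j)) ≤ finrank k U := by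
  classical
  have key : ∀ t : Finset J, t ⊆ s →
      ∑ j ∈ t, finrank k (f.eigenspace (c j)) = finrank k (t.sup fun j => f.eigenspace (c j) : Submodule k V) := by
    intro t
    induction t using Finset.induction_on with
    | empty => intro _; rw [Finset.sum_empty, Finset.sup_empty, finrank_bot]
    | insert a t ha ih =>
      intro ht
      have h1 : Disjoint (f.eigenspace (c a)) (t.sup fun j => f.eigenspace (c j)) := by
        refine (f.eigenspaces_iSupIndep (c a)).mono_right (Finset.sup_le fun j hj => ?_)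
        refine le_iSup₂_of_le (c j) (fun e => ha ?_) le_rfl
        rwa [← hc (ht (Finset.mem_insert_of_mem hj)) (ht (Finset.mem_insert_self _ _)) e]
      have h2 := Submodule.finrank_sup_add_finrank_inf_eq (f.eigenspace (c a)) (t.sup fun j => f.eigenspace (c j))
      rw [h1.eq_bot, finrank_bot, add_zero] at h2
      rw [Finset.sum_insert ha, Finset.sup_insert, h2, ih ((Finset.subset_insert _ _).trans ht)]
  rw [key s le_rfl]
  exact Submodule.finrank_mono (Finset.sup_le hU)

variable [IsAlgClosed k]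

theorem exists_eigenvector_mem (f : End k V) {U : Submodule k V} (h0 : U ≠ ⊥) (hU : ∀ v ∈ U, f v ∈ U) :
    ∃ v ∈ U, v ≠ 0 ∧ ∃ c : k, f v = c • v := by
  haveI : Nontrivial U := Submodule.nontrivial_iff_ne_bot.2 h0
  obtain ⟨c, hc⟩ := End.exists_eigenvalue (f.restrict hU)
  obtain ⟨v, hv⟩ := hc.exists_hasEigenvector
  exact ⟨v, v.2, fun h => hv.2 (Subtype.ext h), c, congrArg Subtype.val hv.apply_eq_smul⟩

theorem exists_common_eigenvector {ι : Type*} (f : ι → End k V) (hc : ∀ i j, Commute (f i) (f j))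
    {U : Submodule k V} (h0 : U ≠ ⊥) (hU : ∀ i, ∀ v ∈ U, f i v ∈ U) :
    ∃ v ∈ U, v ≠ 0 ∧ ∀ i, ∃ c : k, f i v = c • v := by
  obtain ⟨W, ⟨hW0, hWU, hW⟩, hmin⟩ := (wellFounded_lt (α := Submodule k V)).has_min
    {W | W ≠ ⊥ ∧ W ≤ U ∧ ∀ i, ∀ v ∈ W, f i v ∈ W} ⟨U, h0, le_rfl, hU⟩
  obtain ⟨v, hv, hv0⟩ := Submodule.exists_mem_ne_zero_of_ne_bot hW0
  refine ⟨v, hWU hv, hv0, fun i => ?_⟩
  obtain ⟨u, hu, hu0, c, hc'⟩ := exists_eigenvector_mem (f i) hW0 (hW i)
  have h1 : W ⊓ (f i).eigenspace c = W := by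
    by_contra hne
    refine hmin (W ⊓ (f i).eigenspace c) ⟨fun h => hu0 ?_, inf_le_left.trans hWU, fun j x hx => ⟨hW j x hx.1, ?_⟩⟩
      (lt_of_le_of_ne inf_le_left hne)
    · rw [← Submodule.mem_bot k, ← h]
      exact ⟨hu, End.mem_eigenspace_iff.2 hc'⟩
    · have h2 := End.mem_eigenspace_iff.1 hx.2
      refine End.mem_eigenspace_iff.2 ?_
      rw [← End.mul_apply, (hc i j).eq, End.mul_apply, h2, map_smul]
  exact ⟨c, End.mem_eigenspace_iff.1 (h1.ge hv).2⟩

theorem exists_eigenvector_ne_one (f : End k V) {s : ℕ} (hs : (s : k) ≠ 0) (hf : f ^ s = 1) {U : Submodule k V}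
    (hU : ∀ v ∈ U, f v ∈ U) {u : V} (hu : u ∈ U) (hne : f u ≠ u) :
    ∃ v ∈ U, v ≠ 0 ∧ ∃ c : k, c ≠ 1 ∧ c ^ s = 1 ∧ f v = c • v := by
  obtain ⟨v, ⟨x, hx, rfl⟩, hv0, c, hc⟩ := exists_eigenvector_mem f (U := U.map (f - 1))
    (fun h => hne (by
      have : (f - 1) u ∈ U.map (f - 1) := Submodule.mem_map_of_mem hu
      rw [h, Submodule.mem_bot] at this
      exact sub_eq_zero.1 this))
    (by
      rintro _ ⟨x, hx, rfl⟩
      exact ⟨f x, hU x hx, by simp⟩)
  have hpow : ∀ i : ℕ, (f ^ i) ((f - 1) x) = c ^ i • (f - 1) x := fun i => by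
    induction i with
    | zero => simp
    | succ i ih => rw [pow_succ', End.mul_apply, ih, map_smul, hc, smul_smul, pow_succ]
  refine ⟨_, U.sub_mem (hU x hx) hx, hv0, c, ?_, ?_, hc⟩
  · rintro rfl
    have h1 : (∑ i ∈ Finset.range s, f ^ i) * (f - 1) = 0 := by rw [geom_sum_mul, hf, sub_self]
    have h2 := congrArg (fun g : End k V => g x) h1
    simp only [End.mul_apply, LinearMap.sum_apply, hpow, one_pow, one_smul, Finset.sum_const, Finset.card_range,
      LinearMap.zero_apply] at h2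
    rw [← Nat.cast_smul_eq_nsmul k] at h2
    exact hv0 ((smul_eq_zero.1 h2).resolve_left hs)
  · have h1 := hpow s
    rw [hf, End.one_apply] at h1
    have h2 : (c ^ s - 1) • (f - 1) x = 0 := by rw [sub_smul, ← h1, one_smul, sub_self]
    exact sub_eq_zero.1 ((smul_eq_zero.1 h2).resolve_right hv0)

end Lin

section Perms
variable {Ω : Type*} [Fintype Ω] [DecidableEq Ω]

theorem exists_alt_map (h4 : 4 ≤ Fintype.card Ω) {S T : Finset Ω} (h : S.card = T.card) :
    ∃ g ∈ alternatingGroup Ω, ∀ x, x ∈ S ↔ g x ∈ T := by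
  classical
  obtain ⟨g, hg⟩ : ∃ g : Perm Ω, ∀ x, x ∈ S ↔ g x ∈ T := by
    let e : {x // x ∈ S} ≃ {x // x ∈ T} := Finset.equivOfCardEq h
    refine ⟨e.extendSubtype, fun x => ⟨fun hx => e.extendSubtype_mem x hx, fun hx => ?_⟩⟩
    by_contra hx'
    exact e.extendSubtype_not_mem x hx' hx
  rcases Int.units_eq_one_or (sign g) with h1 | h1
  · exact ⟨g, h1, hg⟩
  obtain ⟨a, b, hab, hS⟩ : ∃ a b : Ω, a ≠ b ∧ (a ∈ S ↔ b ∈ S) := by
    by_cases h2 : 1 < S.card
    · obtain ⟨a, ha, b, hb, hab⟩ := Finset.one_lt_card.1 h2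
      exact ⟨a, b, hab, iff_of_true ha hb⟩
    · have : 1 < Sᶜ.card := by rw [Finset.card_compl]; omega
      obtain ⟨a, ha, b, hb, hab⟩ := Finset.one_lt_card.1 this
      exact ⟨a, b, hab, iff_of_false (Finset.mem_compl.1 ha) (Finset.mem_compl.1 hb)⟩
  refine ⟨g * swap a b, by rw [mem_alternatingGroup, map_mul, h1, sign_swap hab]; simp, fun x => ?_⟩
  rw [Perm.mul_apply, ← hg]
  by_cases hxa : x = a
  · rw [hxa, swap_apply_left, hS]
  by_cases hxb : x = b
  · rw [hxb, swap_apply_right, hS]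
  · rw [swap_apply_of_ne_of_ne hxa hxb]

end Perms

/-- a perfect extension of the alternating group by a central group of exponent two -/
structure Cov {H Ω : Type*} [Group H] [Fintype Ω] [DecidableEq Ω] (τ : H →* Perm Ω) : Prop where
  mem : ∀ h, τ h ∈ alternatingGroup Ω
  surj : ∀ g ∈ alternatingGroup Ω, ∃ h, τ h = g
  comm : ∀ z, τ z = 1 → ∀ h, h * z = z * h
  sq : ∀ z, τ z = 1 → z ^ 2 = 1
  min : ∀ L : Subgroup H, alternatingGroup Ω ≤ L.map τ → L = ⊤

section Cov
variable {H Ω : Type*} [Group H] [Fintype Ω] [DecidableEq Ω] {τ : H →* Perm Ω}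

theorem Cov.exists_mul (hτ : Cov τ) {y y' : H} (e : τ y = τ y') :
    ∃ z, τ z = 1 ∧ y' = y * z ∧ Commute y z :=
  ⟨y⁻¹ * y', by rw [map_mul, map_inv, e, inv_mul_cancel], by group,
    hτ.comm _ (by rw [map_mul, map_inv, e, inv_mul_cancel]) y⟩

theorem Cov.pow_even (hτ : Cov τ) {y y' : H} (e : τ y = τ y') {s : ℕ} (hs : Even s) : y' ^ s = y ^ s := by
  obtain ⟨z, hz, rfl, hc⟩ := hτ.exists_mul e
  obtain ⟨m, rfl⟩ := hs
  rw [hc.mul_pow, ← two_mul, pow_mul z, hτ.sq z hz, one_pow, mul_one]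

theorem Cov.uniq (hτ : Cov τ) {y y' : H} (e : τ y = τ y') {s : ℕ} (hs : Odd s) (h : y ^ s = 1) (h' : y' ^ s = 1) :
    y = y' := by
  have := hτ.pow_even e hs.add_one
  rwa [pow_succ, pow_succ, h, h', one_mul, one_mul, eq_comm] at this

theorem Cov.lift (hτ : Cov τ) {x : Perm Ω} (hx : x ∈ alternatingGroup Ω) {s : ℕ} (hs : Odd s) (h : x ^ s = 1) :
    ∃ y, τ y = x ∧ y ^ s = 1 := by
  obtain ⟨y, rfl⟩ := hτ.surj x hx
  have h1 : τ (y ^ s) = 1 := by rw [map_pow, h]
  refine ⟨y ^ (s + 1), by rw [pow_succ, map_mul, h1, one_mul], ?_⟩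
  obtain ⟨m, hm⟩ := hs.add_one
  rw [← pow_mul, mul_comm, pow_mul, hm, ← two_mul, pow_mul, hτ.sq _ h1, one_pow]

theorem Cov.conj (hτ : Cov τ) {y y' h : H} {s a : ℕ} (hs : Odd s) (hy : y ^ s = 1) (hy' : y' ^ s = 1)
    (e : τ h * τ y * (τ h)⁻¹ = τ y' ^ a) : h * y * h⁻¹ = y' ^ a :=
  hτ.uniq (by simpa using e) hs (by rw [conj_pow, hy]; group) (by rw [← pow_mul, mul_comm, pow_mul, hy', one_pow])

theorem Cov.commute (hτ : Cov τ) {y h : H} {s : ℕ} (hs : Odd s) (hy : y ^ s = 1) (e : Commute (τ h) (τ y)) :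
    Commute h y := by
  have := hτ.conj (h := h) (a := 1) hs hy hy (by rw [e.eq, pow_one, mul_inv_cancel_right])
  rwa [pow_one, mul_inv_eq_iff_eq_mul] at this

variable {k V : Type*} [Field k] [AddCommGroup V] [Module k V]

/-- the stabiliser of a vector -/
def stabV (ρ : Representation k H V) (v : V) : Subgroup H where
  carrier := {h | ρ h v = v}
  one_mem' := by simp
  mul_mem' {a b} ha hb := by
    simp only [Set.mem_ofPred_eq] at *
    rw [map_mul, End.mul_apply, hb, ha]
  inv_mem' {a} ha := by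
    simp only [Set.mem_ofPred_eq] at *
    nth_rewrite 1 [← ha]
    rw [← End.mul_apply, ← map_mul, inv_mul_cancel, map_one, End.one_apply]

/-- the vectors fixed by the elements of order three over the alternating group of `S` -/
def Fx (τ : H →* Perm Ω) (ρ : Representation k H V) (S : Finset Ω) : Submodule k V where
  carrier := {v | ∀ y, y ^ 3 = 1 → τ y ∈ altOn S → ρ y v = v}
  zero_mem' := by simp
  add_mem' ha hb y h1 h2 := by rw [map_add, ha y h1 h2, hb y h1 h2]
  smul_mem' c v hv y h1 h2 := by rw [map_smul, hv y h1 h2]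

variable {ρ : Representation k H V}

theorem Cov.fix_of_mem (hτ : Cov τ) {v : V} {y : H} {s : ℕ} (hs : Odd s) (hy : y ^ s = 1)
    (h : τ y ∈ (stabV ρ v).map τ) : ρ y v = v := by
  obtain ⟨h, hh, e⟩ := h
  have h1 := hτ.pow_even e hs.add_one
  rw [pow_succ, hy, one_mul] at h1
  rw [h1]
  exact pow_mem hh _

theorem Cov.mem_Fx (hτ : Cov τ) {S : Finset Ω} {v : V} : v ∈ Fx τ ρ S ↔ altOn S ≤ (stabV ρ v).map τ := by
  refine ⟨fun hv => altOn_le_of_three_cycles fun c hc h3 => ?_, fun h y h1 h2 =>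
    hτ.fix_of_mem (by decide : Odd 3) h1 (h h2)⟩
  obtain ⟨y, rfl, hy⟩ := hτ.lift (altOn_le_alt S hc) (by decide : Odd 3) (h3.orderOf ▸ pow_orderOf_eq_one c)
  exact ⟨y, hv y hy hc, rfl⟩

theorem Fx_anti {S T : Finset Ω} (h : S ⊆ T) : Fx τ ρ T ≤ Fx τ ρ S :=
  fun _ hv y h1 h2 => hv y h1 (altOn_mono h h2)

theorem Cov.inf_le (hτ : Cov τ) {S T : Finset Ω} (hS : 3 ≤ S.card) (hT : 3 ≤ T.card) (h : ¬ Disjoint S T) :
    Fx τ ρ S ⊓ Fx τ ρ T ≤ Fx τ ρ (S ∪ T) := fun _ hv =>
  hτ.mem_Fx.2 (altOn_union_le hS hT h (hτ.mem_Fx.1 hv.1) (hτ.mem_Fx.1 hv.2))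

theorem map_mem_Fx {S T : Finset Ω} {h : H} (hh : ∀ x, x ∈ S ↔ τ h x ∈ T) {v : V} (hv : v ∈ Fx τ ρ S) :
    ρ h v ∈ Fx τ ρ T := by
  intro y h1 h2
  have h3 : τ (h⁻¹ * y * h⁻¹⁻¹) ∈ altOn S := by
    rw [map_mul, map_mul, map_inv τ h⁻¹]
    refine conj_mem_altOn h2 fun x hx => (hh _).2 ?_
    rwa [← Perm.mul_apply, ← map_mul, mul_inv_cancel, map_one]
  have h4 := hv _ (by rw [conj_pow, h1]; group) h3
  nth_rewrite 2 [← h4]
  rw [← End.mul_apply, ← End.mul_apply, ← map_mul, ← map_mul]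
  congr 2
  group

theorem rep_injective (ρ : Representation k H V) (h : H) : Function.Injective (ρ h) := fun a b e => by
  have := congrArg (ρ h⁻¹) e
  simpa [← End.mul_apply, ← map_mul] using this

theorem finrank_le_of_map [FiniteDimensional k V] (h : H) {A B : Submodule k V} (hh : ∀ v ∈ A, ρ h v ∈ B) :
    finrank k A ≤ finrank k B :=
  LinearMap.finrank_le_finrank_of_injective (f := (ρ h).restrict hh) fun _ _ e =>
    Subtype.ext (rep_injective ρ h (congrArg Subtype.val e))

theorem Cov.Fx_univ (hτ : Cov τ) (hfix : ∀ v, (∀ h, ρ h v = v) → v = 0) : Fx τ ρ Finset.univ = ⊥ := by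
  rw [eq_bot_iff]
  intro v hv
  have := hτ.min _ (altOn_univ (Ω := Ω) ▸ hτ.mem_Fx.1 hv)
  exact hfix v fun h => show h ∈ stabV ρ v from this ▸ mem_top h

/-- the dimensions of the fixed spaces -/
theorem Cov.exists_dim [FiniteDimensional k V] (hτ : Cov τ) (hfix : ∀ v, (∀ h, ρ h v = v) → v = 0)
    (h4 : 4 ≤ Fintype.card Ω) : ∃ D : ℕ → ℕ, (∀ S, finrank k (Fx τ ρ S) = D S.card) ∧
      D (Fintype.card Ω) = 0 ∧
      (∀ j, 3 ≤ j → j < Fintype.card Ω → D (j + 1) ≤ D j ∧ (D j ≠ 0 → D (j + 1) < D j) ∧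
        D j + D 3 ≤ D (j + 1) + finrank k V) ∧
      ∀ j, 3 ≤ j → j + 2 ≤ Fintype.card Ω → 2 * D (j + 1) ≤ D j + D (j + 2) := by
  classical
  have h0 : ∀ S T : Finset Ω, S.card = T.card → finrank k (Fx τ ρ S) ≤ finrank k (Fx τ ρ T) := fun S T h => by
    obtain ⟨g, hg, e⟩ := exists_alt_map h4 h
    obtain ⟨h, rfl⟩ := hτ.surj g hg
    exact finrank_le_of_map h fun v hv => map_mem_Fx e hv
  let D : ℕ → ℕ := fun j => if h : ∃ S : Finset Ω, S.card = j then finrank k (Fx τ ρ h.choose) else 0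
  have hD : ∀ S, finrank k (Fx τ ρ S) = D S.card := fun S => by
    have h : ∃ T : Finset Ω, T.card = S.card := ⟨S, rfl⟩
    simp only [D, dif_pos h]
    exact le_antisymm (h0 _ _ h.choose_spec.symm) (h0 _ _ h.choose_spec)
  refine ⟨D, hD, ?_, fun j h3 hj => ?_, fun j h3 hj => ?_⟩
  · rw [← Finset.card_univ, ← hD, hτ.Fx_univ hfix, finrank_bot]
  · obtain ⟨S, -, rfl⟩ := Finset.exists_subset_card_eq (s := (Finset.univ : Finset Ω)) (n := j) hj.le
    obtain ⟨x, -, hx⟩ := Finset.exists_mem_notMem_of_card_lt_card (s := S) (t := Finset.univ) hj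
    obtain ⟨a, ha, b, hb, hab⟩ := Finset.one_lt_card.1 (show 1 < S.card by omega)
    have hle : ∀ y, Fx τ ρ (insert y S) ≤ Fx τ ρ S := fun y => Fx_anti (Finset.subset_insert _ _)
    have h1 : D (S.card + 1) ≤ D S.card := by
      rw [← Finset.card_insert_of_notMem hx, ← hD, ← hD]
      exact Submodule.finrank_mono (hle x)
    refine ⟨h1, fun hne => lt_of_le_of_ne h1 fun e => hne ?_, ?_⟩
    · rw [← hD, Submodule.finrank_eq_zero, eq_bot_iff, ← hτ.Fx_univ hfix]
      intro v hv
      rw [hτ.mem_Fx, altOn_univ]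
      refine alt_le_of_c3 hab fun y _ hby => ?_
      have h2 : v ∈ Fx τ ρ (insert y S) := by
        by_cases hy : y ∈ S
        · rwa [Finset.insert_eq_of_mem hy]
        · rwa [Submodule.eq_of_le_of_finrank_eq (hle y) (by rw [hD, hD, Finset.card_insert_of_notMem hy, e])]
      exact hτ.mem_Fx.1 h2 (c3_mem_altOn (Finset.mem_insert_of_mem ha) (Finset.mem_insert_of_mem hb)
        (Finset.mem_insert_self _ _) hab hby)
    · have hT : ({a, b, x} : Finset Ω).card = 3 := Finset.card_eq_three.2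
        ⟨a, b, x, hab, fun e => hx (e ▸ ha), fun e => hx (e ▸ hb), rfl⟩
      have h2 := Submodule.finrank_sup_add_finrank_inf_eq (Fx τ ρ S) (Fx τ ρ {a, b, x})
      have h5 := Submodule.finrank_mono (hτ.inf_le (ρ := ρ) h3 hT.ge
        (Finset.not_disjoint_iff.2 ⟨a, ha, by simp⟩))
      have h6 : S ∪ {a, b, x} = insert x S := by
        ext y
        simp only [Finset.mem_union, Finset.mem_insert, Finset.mem_singleton]
        constructor
        · rintro (h | rfl | rfl | rfl) <;> simp [*]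
        · rintro (h | h) <;> simp [h]
      have h7 := Submodule.finrank_le (Fx τ ρ S ⊔ Fx τ ρ {a, b, x})
      rw [h6, hD, Finset.card_insert_of_notMem hx] at h5
      rw [hD, hD, hT] at h2
      omega
  · obtain ⟨S, -, rfl⟩ := Finset.exists_subset_card_eq (s := (Finset.univ : Finset Ω)) (n := j)
      (by rw [Finset.card_univ]; omega)
    obtain ⟨x, hx, y, hy, hxy⟩ := Finset.one_lt_card.1 (show 1 < Sᶜ.card by rw [Finset.card_compl]; omega)
    rw [Finset.mem_compl] at hx hy
    obtain ⟨a, ha⟩ := Finset.card_pos.1 (show 0 < S.card by omega)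
    have cx := Finset.card_insert_of_notMem hx
    have cy := Finset.card_insert_of_notMem hy
    have h2 := Submodule.finrank_sup_add_finrank_inf_eq (Fx τ ρ (insert x S)) (Fx τ ρ (insert y S))
    have h5 := Submodule.finrank_mono (hτ.inf_le (ρ := ρ) (S := insert x S) (T := insert y S) (by omega) (by omega)
      (Finset.not_disjoint_iff.2 ⟨a, Finset.mem_insert_of_mem ha, Finset.mem_insert_of_mem ha⟩))
    have h6 : insert x S ∪ insert y S = insert x (insert y S) := by
      ext z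
      simp only [Finset.mem_union, Finset.mem_insert]
      tauto
    have h7 := Submodule.finrank_mono (sup_le (Fx_anti (τ := τ) (ρ := ρ) (Finset.subset_insert x S))
      (Fx_anti (Finset.subset_insert y S)))
    rw [h6, hD, Finset.card_insert_of_notMem (by simp [hx, hxy]), cy] at h5
    rw [hD, hD, cx, cy] at h2
    rw [hD] at h7
    have : S.card + 1 + 1 = S.card + 2 := rfl
    rw [this] at h5
    omega

end Cov

/-- the arithmetic of the dimensions -/
theorem dim_arith {r n : ℕ} {D : ℕ → ℕ} (hr : 9 ≤ r) (hn : n + 2 ≤ r) (h3 : D 3 < n)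
    (h1 : ∀ j, 3 ≤ j → j < r → D (j + 1) ≤ D j ∧ (D j ≠ 0 → D (j + 1) < D j) ∧ D j + D 3 ≤ D (j + 1) + n)
    (h2 : ∀ j, 3 ≤ j → j + 2 ≤ r → 2 * D (j + 1) ≤ D j + D (j + 2))
    (h : (D 3 + 2 ≤ n ∧ 2 ≤ D (r - 3)) ∨ (D 5 + 4 ≤ n ∧ 4 ≤ D (r - 5))) :
    n + 2 = r ∧ D (r - 1) = 0 ∧ D (r - 2) = 1 ∧ D (r - 3) = 2 := by
  have up : ∀ b, b ≤ r → D b ≠ 0 → ∀ i, i + 3 ≤ b → D b + i ≤ D (b - i) := by
    intro b hb h0 i
    induction i with
    | zero => simp
    | succ i ih =>
      intro hi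
      have e := ih (by omega)
      have := h1 (b - (i + 1)) (by omega) (by omega)
      rw [show b - (i + 1) + 1 = b - i by omega] at this
      omega
  have down : ∀ a, 3 ≤ a → D a ≤ D (a + 1) + 1 → ∀ i, a + i + 1 ≤ r →
      D (a + i) ≤ D (a + i + 1) + 1 ∧ D a ≤ D (a + i) + i := by
    intro a ha h0 i
    induction i with
    | zero => simpa using fun _ => h0
    | succ i ih =>
      intro hi
      have e := ih (by omega)
      have := h2 (a + i) (by omega) (by omega)
      rw [show a + (i + 1) = a + i + 1 by ring, show a + i + 1 + 1 = a + i + 2 by ring]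
      omega
  have fin : ∀ a, 3 ≤ a → a + 3 ≤ r → D a ≤ D (a + 1) + 1 → D a + a + 1 = r →
      D (r - 1) = 0 ∧ D (r - 2) = 1 ∧ D (r - 3) = 2 := by
    intro a ha har h0 e
    have d3 := down a ha h0 (r - 3 - a) (by omega)
    have d2 := down a ha h0 (r - 2 - a) (by omega)
    rw [show a + (r - 3 - a) = r - 3 by omega, show r - 3 + 1 = r - 2 by omega] at d3
    rw [show a + (r - 2 - a) = r - 2 by omega, show r - 2 + 1 = r - 1 by omega] at d2
    have u := up (r - 3) (by omega) (by omega) (r - 3 - a) (by omega)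
    rw [show r - 3 - (r - 3 - a) = a by omega] at u
    have s3 := h1 (r - 3) (by omega) (by omega)
    have s2 := h1 (r - 2) (by omega) (by omega)
    rw [show r - 3 + 1 = r - 2 by omega] at s3
    rw [show r - 2 + 1 = r - 1 by omega] at s2
    omega
  rcases h with ⟨a, b⟩ | ⟨a, b⟩
  · have u3 := up (r - 3) (by omega) (by omega) (r - 6) (by omega)
    have u4 := up (r - 3) (by omega) (by omega) (r - 7) (by omega)
    rw [show r - 3 - (r - 6) = 3 by omega] at u3
    rw [show r - 3 - (r - 7) = 3 + 1 by omega] at u4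
    exact ⟨by omega, fin 3 le_rfl (by omega) (by omega) (by omega)⟩
  · have s3 := h1 3 le_rfl (by omega)
    have s4 := h1 4 (by omega) (by omega)
    have c3 := h2 3 le_rfl (by omega)
    norm_num at s3 s4 c3
    by_cases h9 : r = 9
    · subst h9
      norm_num at b
      exact ⟨by omega, fin 4 (by omega) (by omega) (by norm_num; omega) (by omega)⟩
    · have u5 := up (r - 5) (by omega) (by omega) (r - 10) (by omega)
      rw [show r - 5 - (r - 10) = 5 by omega] at u5
      exact ⟨by omega, fin 4 (by omega) (by omega) (by norm_num; omega) (by omega)⟩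

end CL.AltGL
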