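/-
Projective representations of alternating groups of small degree, part 2: a module of dimension `r - 2` of the
natural type forces the characteristic to divide `r`.
-/
import Cfsg.Agent.Known.AltGL1

set_option autoImplicit false

open Equiv Equiv.Perm Module Subgroup

namespace CL.AltGL

open CL.Known

variable {H Ω : Type*} [Group H] [Fintype Ω] [DecidableEq Ω] {τ : H →* Perm Ω}
  {k V : Type*} [Field k] [AddCommGroup V] [Module k V] {ρ : Representation k H V}

/-- the dimensions of the fixed spaces in the extreme case -/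
structure Ext (τ : H →* Perm Ω) (ρ : Representation k H V) : Prop where
  cov : Cov τ
  card : 7 ≤ Fintype.card Ω
  irr : ∀ W : Submodule k V, (∀ h, ∀ v ∈ W, ρ h v ∈ W) → W = ⊥ ∨ W = ⊤
  dim : finrank k V + 2 = Fintype.card Ω
  d1 : ∀ a, Fx τ ρ {a}ᶜ = ⊥
  d2 : ∀ a b, a ≠ b → finrank k (Fx τ ρ {a, b}ᶜ) = 1
  d3 : ∀ a b c, a ≠ b → a ≠ c → b ≠ c → finrank k (Fx τ ρ {a, b, c}ᶜ) = 2

theorem ln_map (h : H) {a b : Ω} {v : V} (hv : v ∈ Fx τ ρ {a, b}ᶜ) : ρ h v ∈ Fx τ ρ {τ h a, τ h b}ᶜ :=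
  map_mem_Fx (fun x => by simp) hv

theorem exists_notMem_list (l : List Ω) (h : l.length < Fintype.card Ω) : ∃ x, x ∉ l := by
  obtain ⟨x, -, hx⟩ := Finset.exists_mem_notMem_of_card_lt_card (s := l.toFinset) (t := Finset.univ)
    ((List.toFinset_card_le l).trans_lt h)
  exact ⟨x, by simpa using hx⟩

namespace Ext
variable (E : Ext τ ρ)
include E

theorem eq_zero {a b c : Ω} (hbc : b ≠ c) {v : V} (h1 : v ∈ Fx τ ρ {a, b}ᶜ) (h2 : v ∈ Fx τ ρ {a, c}ᶜ) : v = 0 := by
  have hc := E.card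
  have c2 : ∀ x y : Ω, 3 ≤ ({x, y}ᶜ : Finset Ω).card := fun x y => by
    have := Finset.card_le_two (a := x) (b := y)
    rw [Finset.card_compl]
    omega
  obtain ⟨x, hx⟩ := exists_notMem_list [a, b, c] (by simp; omega)
  simp only [List.mem_cons, List.not_mem_nil, or_false, not_or] at hx
  have h3 := E.cov.inf_le (c2 a b) (c2 a c) (Finset.not_disjoint_iff.2 ⟨x, by simp [hx], by simp [hx]⟩) ⟨h1, h2⟩
  have h4 : ({a}ᶜ : Finset Ω) ⊆ {a, b}ᶜ ∪ {a, c}ᶜ := by
    intro y hy
    by_cases e : y = b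
    · subst e
      simp_all
    · simp_all
  have h5 := Fx_anti h4 h3
  rwa [E.d1, Submodule.mem_bot] at h5

theorem exists_smul {a b : Ω} (hab : a ≠ b) {v w : V} (hv : v ∈ Fx τ ρ {a, b}ᶜ) (h0 : v ≠ 0)
    (hw : w ∈ Fx τ ρ {a, b}ᶜ) : ∃ c : k, w = c • v := by
  obtain ⟨c, hc⟩ := (finrank_eq_one_iff_of_nonzero' (⟨v, hv⟩ : Fx τ ρ {a, b}ᶜ)
    (fun h => h0 (congrArg Subtype.val h))).1 (E.d2 a b hab) ⟨w, hw⟩
  exact ⟨c, (congrArg Subtype.val hc).symm⟩

theorem exists_comb [FiniteDimensional k V] {a b c : Ω} (hab : a ≠ b) (hac : a ≠ c) (hbc : b ≠ c) {u v w : V}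
    (hu : u ∈ Fx τ ρ {a, b}ᶜ) (hu0 : u ≠ 0) (hv : v ∈ Fx τ ρ {a, c}ᶜ) (hv0 : v ≠ 0) (hw : w ∈ Fx τ ρ {b, c}ᶜ) :
    ∃ α β : k, α • u + β • v = w := by
  have hli : LinearIndependent k ![u, v] := by
    refine LinearIndependent.pair_iff.2 fun s t h => ?_
    have h1 : s • u = 0 := E.eq_zero hbc (Submodule.smul_mem _ _ hu) (by
      rw [eq_neg_of_add_eq_zero_left h]
      exact Submodule.neg_mem _ (Submodule.smul_mem _ _ hv))
    rw [h1, zero_add] at h
    exact ⟨(smul_eq_zero.1 h1).resolve_right hu0, (smul_eq_zero.1 h).resolve_right hv0⟩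
  have hle : Submodule.span k (Set.range ![u, v]) ≤ Fx τ ρ {a, b, c}ᶜ := by
    rw [Submodule.span_le]
    rintro _ ⟨i, rfl⟩
    fin_cases i
    · exact Fx_anti (Finset.compl_subset_compl.2 (by intro x; simp; tauto)) hu
    · exact Fx_anti (Finset.compl_subset_compl.2 (by intro x; simp; tauto)) hv
  have he := Submodule.eq_of_le_of_finrank_eq hle (by rw [finrank_span_eq_card hli, E.d3 a b c hab hac hbc]; simp)
  have h3 : w ∈ Fx τ ρ {a, b, c}ᶜ := Fx_anti (Finset.compl_subset_compl.2 (by intro x; simp; tauto)) hw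
  rw [← he, Matrix.range_cons, Matrix.range_cons, Matrix.range_empty, Set.union_empty, Set.singleton_union] at h3
  exact Submodule.mem_span_pair.1 h3

theorem exists_ne_zero {a b : Ω} (hab : a ≠ b) : ∃ v ∈ Fx τ ρ {a, b}ᶜ, v ≠ 0 :=
  Submodule.exists_mem_ne_zero_of_ne_bot fun h => by
    have := E.d2 a b hab
    rw [h, finrank_bot] at this
    omega

theorem exists_frame [FiniteDimensional k V] (o : Ω) : ∃ y : Ω → V, y o = 0 ∧
    (∀ i, i ≠ o → y i ≠ 0 ∧ y i ∈ Fx τ ρ {o, i}ᶜ) ∧ ∑ i, y i = 0 ∧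
      ∀ a : Ω → k, ∑ i, a i • y i = 0 → ∀ i j, i ≠ o → j ≠ o → a i = a j := by
  have hc := E.card
  obtain ⟨u, hu0, hu⟩ : ∃ u : Ω → V, u o = 0 ∧ ∀ i, i ≠ o → u i ≠ 0 ∧ u i ∈ Fx τ ρ {o, i}ᶜ := by
    choose! u h1 h2 using fun i (hi : i ≠ o) => E.exists_ne_zero hi.symm
    exact ⟨fun i => if i = o then 0 else u i, by simp, fun i hi => by
      simp only [if_neg hi]
      exact ⟨h2 i hi, h1 i hi⟩⟩
  have hln : ∀ i j, i ≠ j → Fx τ ρ {i, j}ᶜ ≤ Submodule.span k (Set.range u) := by
    have h0 : ∀ j, j ≠ o → Fx τ ρ {o, j}ᶜ ≤ Submodule.span k (Set.range u) := fun j hj w hw => by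
      obtain ⟨c, rfl⟩ := E.exists_smul hj.symm (hu j hj).2 (hu j hj).1 hw
      exact Submodule.smul_mem _ _ (Submodule.subset_span ⟨j, rfl⟩)
    intro i j hij
    by_cases hi : i = o
    · exact hi ▸ h0 j (hi ▸ hij.symm)
    by_cases hj : j = o
    · rw [hj, Finset.pair_comm]
      exact h0 i hi
    intro w hw
    obtain ⟨α, β, rfl⟩ := E.exists_comb (Ne.symm hi) (Ne.symm hj) hij (hu i hi).2 (hu i hi).1 (hu j hj).2
      (hu j hj).1 hw
    exact Submodule.add_mem _ (Submodule.smul_mem _ _ (Submodule.subset_span ⟨i, rfl⟩))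
      (Submodule.smul_mem _ _ (Submodule.subset_span ⟨j, rfl⟩))
  have htop : Submodule.span k (Set.range u) = ⊤ := by
    refine (E.irr _ fun h v hv => ?_).resolve_left fun h => ?_
    · have : Submodule.span k (Set.range u) ≤ (Submodule.span k (Set.range u)).comap (ρ h) := by
        rw [Submodule.span_le]
        rintro _ ⟨i, rfl⟩
        by_cases hi : i = o
        · simp [hi, hu0]
        · exact hln _ _ ((τ h).injective.ne (Ne.symm hi)) (ln_map h (hu i hi).2)
      exact this hv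
    · obtain ⟨i, hi⟩ := exists_notMem_list [o] (by simp; omega)
      simp only [List.mem_cons, List.not_mem_nil, or_false] at hi
      exact (hu i hi).1 ((Submodule.eq_bot_iff _).1 h _ (Submodule.subset_span ⟨i, rfl⟩))
  let Φ : (Ω → k) →ₗ[k] V × k := (Fintype.linearCombination k u).prod (LinearMap.proj o)
  have hΦ : ∀ a, a ∈ LinearMap.ker Φ ↔ ∑ i, a i • u i = 0 ∧ a o = 0 := fun a => by
    simp [Φ, Fintype.linearCombination_apply]
  have hs : LinearMap.range Φ = ⊤ := by
    rw [eq_top_iff]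
    rintro ⟨v, c⟩ -
    obtain ⟨a, rfl⟩ := (Submodule.mem_span_range_iff_exists_fun k).1 (htop ▸ Submodule.mem_top (x := v))
    refine ⟨Function.update a o c, Prod.ext ?_ (by simp [Φ])⟩
    simp only [Φ, LinearMap.prod_apply, Function.prod, Fintype.linearCombination_apply]
    refine Finset.sum_congr rfl fun i _ => ?_
    by_cases hi : i = o
    · simp [hi, hu0]
    · simp [hi]
  have hk : finrank k (LinearMap.ker Φ) = 1 := by
    have h1 := LinearMap.finrank_range_add_finrank_ker Φ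
    rw [hs, finrank_top, finrank_prod, finrank_self, finrank_fintype_fun_eq_card] at h1
    have := E.dim
    omega
  obtain ⟨c, hc0, hc⟩ := finrank_eq_one_iff'.1 hk
  have hc' : ∀ a : Ω → k, ∑ i, a i • u i = 0 → a o = 0 → ∃ μ : k, ∀ i, a i = μ * c.1 i := fun a h1 h2 => by
    obtain ⟨μ, hμ⟩ := hc ⟨a, (hΦ a).2 ⟨h1, h2⟩⟩
    exact ⟨μ, fun i => (congrFun (congrArg Subtype.val hμ) i).symm⟩
  obtain ⟨c1, c2⟩ := (hΦ c).1 c.2
  have hne : ∀ j, j ≠ o → c.1 j ≠ 0 := by
    obtain ⟨i, hi⟩ := Function.ne_iff.1 (show c.1 ≠ 0 from fun h => hc0 (Subtype.ext h))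
    have hio : i ≠ o := by rintro rfl; exact hi c2
    intro j hj
    by_cases hij : i = j
    · exact hij ▸ hi
    obtain ⟨m, hm⟩ := exists_notMem_list [o, i, j] (by simp; omega)
    simp only [List.mem_cons, List.not_mem_nil, or_false, not_or] at hm
    obtain ⟨h, hh⟩ := E.cov.surj _ (c3_mem_alt (a := i) (b := j) (x := m) hij (Ne.symm hm.2.2))
    have ho : τ h o = o := hh ▸ c3_apply_of_ne hio.symm hj.symm (Ne.symm hm.1)
    have hi' : τ h i = j := hh ▸ c3_apply_fst hij (Ne.symm hm.2.1)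
    have hl : ∀ x, ∃ l : k, l ≠ 0 ∧ ρ h (u x) = l • u (τ h x) := fun x => by
      by_cases hx : x = o
      · exact ⟨1, one_ne_zero, by simp [hx, ho, hu0]⟩
      have hx' : τ h x ≠ o := ho ▸ (τ h).injective.ne hx
      obtain ⟨l, hl⟩ := E.exists_smul hx'.symm (hu _ hx').2 (hu _ hx').1 (ho ▸ ln_map h (hu x hx).2)
      refine ⟨l, ?_, hl⟩
      rintro rfl
      exact (hu x hx).1 (rep_injective ρ h (by rw [hl, zero_smul, map_zero]))
    choose l hl0 hl using hl
    obtain ⟨μ, hμ⟩ := hc' (fun x => c.1 ((τ h).symm x) * l ((τ h).symm x)) (by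
      rw [← Equiv.sum_comp (τ h), ← map_zero (ρ h), ← c1, map_sum]
      exact Finset.sum_congr rfl fun x _ => by simp [hl, smul_smul]) (by
      rw [show (τ h).symm o = o from (Equiv.symm_apply_eq _).2 ho.symm, c2, zero_mul])
    have := hμ j
    rw [show (τ h).symm j = i from (Equiv.symm_apply_eq _).2 hi'.symm] at this
    intro h0
    rw [h0, mul_zero] at this
    exact mul_ne_zero hi (hl0 i) this
  refine ⟨fun i => c.1 i • u i, by simp [hu0], fun i hi => ⟨smul_ne_zero (hne i hi) (hu i hi).1,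
    Submodule.smul_mem _ _ (hu i hi).2⟩, c1, fun a ha i j hi hj => ?_⟩
  obtain ⟨μ, hμ⟩ := hc' (fun x => a x * c.1 x) (by simpa [smul_smul] using ha) (by simp [c2])
  rw [mul_right_cancel₀ (hne i hi) (hμ i), mul_right_cancel₀ (hne j hj) (hμ j)]

theorem cast_card_eq_zero [FiniteDimensional k V] : (Fintype.card Ω : k) = 0 := by
  have hc := E.card
  obtain ⟨o⟩ : Nonempty Ω := Fintype.card_pos_iff.1 (by omega)
  obtain ⟨y, y0, hy, hsum, hrel⟩ := E.exists_frame o
  -- three-term relations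
  have rel3 : ∀ (i j m : Ω) (α β γ : k), i ≠ j → i ≠ m → j ≠ m → α • y i + β • y j + γ • y m = 0 →
      m ≠ o → γ = 0 := by
    intro i j m α β γ hij him hjm h hm
    obtain ⟨e, he⟩ := exists_notMem_list [o, i, j, m] (by simp; omega)
    simp only [List.mem_cons, List.not_mem_nil, or_false, not_or] at he
    have := hrel (Pi.single i α + Pi.single j β + Pi.single m γ)
      (by simpa [add_smul, Finset.sum_add_distrib, Pi.single_apply, ite_smul] using h) m e hm he.1
    simpa [him.symm, hjm.symm, he] using this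
  -- even permutations with two fixed points act by permuting the frame
  have perm : ∀ (g : Perm Ω) (e : Ω), e ≠ o → g ∈ altOn {o, e}ᶜ → ∃ h, τ h = g ∧ ∀ i, ρ h (y i) = y (g i) := by
    intro g e he hg
    obtain ⟨h, hh, rfl⟩ := E.cov.mem_Fx.1 (hy e he).2 hg
    have fix : ∀ x ∈ ({o, e} : Finset Ω), τ h x = x := fun x hx => by
      by_contra hne
      exact Finset.mem_compl.1 ((mem_altOn.1 hg).2 x hne) hx
    have ho : τ h o = o := fix o (by simp)
    have hl : ∀ x, ∃ l : k, ρ h (y x) = l • y (τ h x) := fun x => by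
      by_cases hx : x = o
      · exact ⟨1, by simp [hx, ho, y0]⟩
      have hx' : τ h x ≠ o := ho ▸ (τ h).injective.ne hx
      exact E.exists_smul hx'.symm (hy _ hx').2 (hy _ hx').1 (ho ▸ ln_map h (hy x hx).2)
    choose l hl using hl
    have h1 := hrel (fun x => l ((τ h).symm x)) (by
      rw [← Equiv.sum_comp (τ h), ← map_zero (ρ h), ← hsum, map_sum]
      exact Finset.sum_congr rfl fun x _ => by simp [hl])
    have h2 : l e = 1 := by
      have h3 := hl e
      rw [show ρ h (y e) = y e from hh, fix e (by simp)] at h3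
      exact smul_left_injective k (hy e he).1 (by simpa using h3.symm)
    refine ⟨h, rfl, fun i => ?_⟩
    by_cases hi : i = o
    · simp [hi, ho, y0]
    have h4 := h1 (τ h i) (τ h e) (ho ▸ (τ h).injective.ne hi) (ho ▸ (τ h).injective.ne he)
    simp only [symm_apply_apply] at h4
    rw [hl, h4, h2, one_smul]
  have hdiff : ∀ i j, i ≠ j → y i - y j ∈ Fx τ ρ {i, j}ᶜ ∧ y i - y j ≠ 0 := by
    intro i j hij
    by_cases hi : i = o
    · subst hi
      rw [y0, zero_sub]
      exact ⟨Submodule.neg_mem _ (hy j hij.symm).2, neg_ne_zero.2 (hy j hij.symm).1⟩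
    by_cases hj : j = o
    · subst hj
      rw [y0, sub_zero, Finset.pair_comm]
      exact ⟨(hy i hi).2, (hy i hi).1⟩
    obtain ⟨m, hm⟩ := exists_notMem_list [o, i, j] (by simp; omega)
    obtain ⟨b, hb⟩ := exists_notMem_list [o, i, j, m] (by simp; omega)
    obtain ⟨e, he⟩ := exists_notMem_list [o, i, j, m, b] (by simp; omega)
    simp only [List.mem_cons, List.not_mem_nil, or_false, not_or] at hm hb he
    obtain ⟨hmo, hmi, hmj⟩ := hm
    obtain ⟨hbo, hbi, hbj, hbm⟩ := hb
    obtain ⟨heo, hei, hej, hem, heb⟩ := he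
    refine ⟨?_, fun h => one_ne_zero (rel3 m j i 0 (-1) 1 hmj hmi (Ne.symm hij) (by
      rw [zero_smul, zero_add, neg_smul, one_smul, one_smul, neg_add_eq_sub, h]) hi)⟩
    obtain ⟨w, hw, hw0⟩ := E.exists_ne_zero hij
    obtain ⟨α, β, rfl⟩ := E.exists_comb (Ne.symm hi) (Ne.symm hj) hij (hy i hi).2 (hy i hi).1 (hy j hj).2
      (hy j hj).1 hw
    obtain ⟨h, hh, hp⟩ := perm (swap i j * swap m b) e heo (mem_altOn.2 ⟨by simp [hij, Ne.symm hbm], fun x hx => by
      rw [Finset.mem_compl, Finset.mem_insert, Finset.mem_singleton]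
      rintro (rfl | rfl)
      · exact hx (by rw [Perm.mul_apply, swap_apply_of_ne_of_ne (Ne.symm hmo) (Ne.symm hbo),
          swap_apply_of_ne_of_ne (Ne.symm hi) (Ne.symm hj)])
      · exact hx (by rw [Perm.mul_apply, swap_apply_of_ne_of_ne hem heb, swap_apply_of_ne_of_ne hei hej])⟩)
    have gi : (swap i j * swap m b) i = j := by
      rw [Perm.mul_apply, swap_apply_of_ne_of_ne (Ne.symm hmi) (Ne.symm hbi), swap_apply_left]
    have gj : (swap i j * swap m b) j = i := by
      rw [Perm.mul_apply, swap_apply_of_ne_of_ne (Ne.symm hmj) (Ne.symm hbj), swap_apply_right]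
    have h1 := ln_map h hw
    rw [hh, gi, gj, Finset.pair_comm, map_add, map_smul, map_smul, hp, hp, gi, gj] at h1
    obtain ⟨μ, hμ⟩ := E.exists_smul hij hw hw0 h1
    have e1 : α - μ * β = 0 := rel3 m i j 0 (β - μ * α) _ hmi hmj hij (by
      linear_combination (norm := module) hμ) hj
    have e2 : β - μ * α = 0 := rel3 m j i 0 (α - μ * β) _ hmj hmi (Ne.symm hij) (by
      linear_combination (norm := module) hμ) hi
    have hα : α ≠ 0 := by
      rintro rfl
      rw [mul_zero, sub_zero] at e2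
      exact hw0 (by simp [e2])
    have h2 : y i + μ • y j ∈ Fx τ ρ {i, j}ᶜ := by
      have := Submodule.smul_mem _ α⁻¹ hw
      rwa [smul_add, smul_smul, smul_smul, inv_mul_cancel₀ hα, one_smul, sub_eq_zero.1 e2, mul_comm μ,
        inv_mul_cancel_left₀ hα] at this
    suffices hμ1 : μ = -1 by rwa [hμ1, neg_smul, one_smul, ← sub_eq_add_neg] at h2
    have e3 : μ * μ = 1 := mul_right_cancel₀ hα (by linear_combination -e1 - μ * e2)
    rcases mul_self_eq_one_iff.1 e3 with rfl | h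
    swap
    · exact h
    rw [one_smul] at h2
    obtain ⟨h, hh, hp⟩ := perm (c3 i j m) e heo (c3_mem_altOn (by simp [hi, Ne.symm hei]) (by simp [hj, Ne.symm hej])
      (by simp [hmo, Ne.symm hem]) hij (Ne.symm hmj))
    have ti : c3 i j m i = j := c3_apply_fst hij (Ne.symm hmi)
    have tj : c3 i j m j = m := c3_apply_snd (Ne.symm hmi) (Ne.symm hmj)
    have tm : c3 i j m m = i := c3_apply_thd i j m
    have h3 := ln_map h h2
    rw [hh, map_add, hp, hp, ti, tj] at h3
    have h4 := ln_map h h3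
    rw [hh, map_add, hp, hp, tj, tm, Finset.pair_comm] at h4
    have n2 : y i + y j ≠ 0 := fun h => one_ne_zero (rel3 m j i 0 1 1 hmj hmi (Ne.symm hij) (by
      linear_combination (norm := module) h) hi)
    have n4 : y m + y i ≠ 0 := fun h => one_ne_zero (rel3 j m i 0 1 1 (Ne.symm hmj) (Ne.symm hij) hmi (by
      linear_combination (norm := module) h) hi)
    obtain ⟨a, c, hac⟩ := E.exists_comb hij (Ne.symm hmi) (Ne.symm hmj) h2 n2 h4 n4 h3
    have f1 := rel3 j m i (a - 1) (c - 1) (a + c) (Ne.symm hmj) (Ne.symm hij) hmi (by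
      linear_combination (norm := module) hac) hi
    have f2 := rel3 m i j (c - 1) (a + c) (a - 1) hmi hmj hij (by linear_combination (norm := module) hac) hj
    have f3 := rel3 i j m (a + c) (a - 1) (c - 1) hij (Ne.symm hmi) (Ne.symm hmj) (by
      linear_combination (norm := module) hac) hmo
    linear_combination f1 - f2 - f3
  obtain ⟨a, ha⟩ := exists_notMem_list [o] (by simp; omega)
  obtain ⟨b, hb⟩ := exists_notMem_list [o, a] (by simp; omega)
  simp only [List.mem_cons, List.not_mem_nil, or_false, not_or] at ha hb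
  obtain ⟨h, hh⟩ := E.cov.surj _ (c3_mem_alt (a := o) (b := a) (x := b) (Ne.symm ha) (Ne.symm hb.2))
  have ho : τ h o = a := hh ▸ c3_apply_fst (Ne.symm ha) (Ne.symm hb.1)
  have hl : ∀ i j, i ≠ j → ∃ l : k, ρ h (y i - y j) = l • (y (τ h i) - y (τ h j)) := fun i j hij =>
    E.exists_smul ((τ h).injective.ne hij) (hdiff _ _ ((τ h).injective.ne hij)).1
      (hdiff _ _ ((τ h).injective.ne hij)).2 (ln_map h (hdiff i j hij).1)
  obtain ⟨l, hla⟩ := hl a o ha
  rw [y0, sub_zero] at hla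
  have hall : ∀ i, ρ h (y i) = l • (y (τ h i) - y (τ h o)) := fun i => by
    by_cases hi : i = o
    · simp [hi, y0]
    by_cases hia : i = a
    · rw [hia, hla]
    obtain ⟨l', hl'⟩ := hl i o hi
    obtain ⟨μ, hμ⟩ := hl i a hia
    rw [y0, sub_zero] at hl'
    rw [map_sub, hl', hla] at hμ
    have := rel3 (τ h i) (τ h a) (τ h o) (l' - μ) (μ - l) (l - l') ((τ h).injective.ne hia) ((τ h).injective.ne hi)
      ((τ h).injective.ne ha) (by linear_combination (norm := module) hμ) (ho ▸ ha)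
    rw [hl', sub_eq_zero.1 this]
  have hl0 : l ≠ 0 := by
    rintro rfl
    exact (hy a ha).1 (rep_injective ρ h (by rw [hla, zero_smul, map_zero]))
  have h1 := congrArg (ρ h) hsum
  rw [map_sum, map_zero, Finset.sum_congr rfl fun i _ => hall i, ← Finset.smul_sum, Finset.sum_sub_distrib,
    Equiv.sum_comp (τ h) y, hsum, zero_sub, Finset.sum_const, Finset.card_univ, ← Nat.cast_smul_eq_nsmul k, ho] at h1
  exact (smul_eq_zero.1 (neg_eq_zero.1 ((smul_eq_zero.1 h1).resolve_left hl0))).resolve_right (hy a ha).1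

end Ext

end CL.AltGL
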