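/-
Projective representations of alternating groups of small degree, part 3: the bound for irreducible modules of the
alternating groups and their double covers.
-/
import Cfsg.Agent.Known.AltGL2

set_option autoImplicit false

open Equiv Equiv.Perm Module Subgroup

namespace CL.AltGL

open CL.Known

section Emb
variable {α Ω : Type*} [Fintype α] [DecidableEq α] [Fintype Ω] [DecidableEq Ω]

theorem emb_mem_altOn (ι : α ↪ Ω) {g : Perm α} {S : Finset α} (hg : sign g = 1 ∧ ∀ x, g x ≠ x → x ∈ S) :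
    viaEmbeddingHom ι g ∈ altOn (S.map ι) := by
  classical
  refine mem_altOn.2 ⟨?_, fun x hx => ?_⟩
  · rw [← hg.1, viaEmbeddingHom_apply, viaEmbedding]
    convert sign_extendDomain g (Equiv.ofInjective ι ι.injective) <;> rfl
  · by_cases h : x ∈ Set.range ι
    · obtain ⟨y, rfl⟩ := h
      rw [viaEmbeddingHom_apply, viaEmbedding_apply] at hx
      exact Finset.mem_map_of_mem _ (hg.2 y fun e => hx (by rw [e]))
    · exact absurd (viaEmbedding_apply_of_notMem g ι x h) hx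

theorem emb_mem_compl (ι : α ↪ Ω) {g : Perm α} (T : Finset α) (hg : sign g = 1 ∧ ∀ x, g x ≠ x → x ∈ Tᶜ) :
    viaEmbeddingHom ι g ∈ altOn (T.map ι)ᶜ := by
  refine altOn_mono (fun x hx => ?_) (emb_mem_altOn ι hg)
  obtain ⟨y, hy, rfl⟩ := Finset.mem_map.1 hx
  simpa using hy

theorem emb_mem_alt (ι : α ↪ Ω) {g : Perm α} (hg : sign g = 1) : viaEmbeddingHom ι g ∈ alternatingGroup Ω :=
  altOn_le_alt _ (emb_mem_altOn ι (S := Finset.univ) ⟨hg, fun _ _ => Finset.mem_univ _⟩)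

theorem commute_of_altOn_compl {T : Finset Ω} {g h : Perm Ω} (hg : g ∈ altOn Tᶜ) (hh : h ∈ altOn T) :
    Commute g h := by
  refine Perm.Disjoint.commute fun x => ?_
  by_cases hx : x ∈ T
  · exact Or.inl (by_contra fun e => Finset.mem_compl.1 ((mem_altOn.1 hg).2 x e) hx)
  · exact Or.inr (by_contra fun e => hx ((mem_altOn.1 hh).2 x e))

end Emb

variable {H Ω : Type*} [Group H] [Fintype Ω] [DecidableEq Ω] {τ : H →* Perm Ω}
  {k V : Type*} [Field k] [AddCommGroup V] [Module k V] {ρ : Representation k H V}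

theorem Cov.lift_emb (hτ : Cov τ) {α : Type*} [Fintype α] [DecidableEq α] (ι : α ↪ Ω) (g : Perm α) (s : ℕ)
    (h : sign g = 1 ∧ Odd s ∧ g ^ s = 1) : ∃ y, τ y = viaEmbeddingHom ι g ∧ y ^ s = 1 :=
  hτ.lift (emb_mem_alt ι h.1) h.2.1 (by rw [← map_pow, h.2.2, map_one])

theorem Cov.conj_emb (hτ : Cov τ) {α : Type*} [Fintype α] [DecidableEq α] {ι : α ↪ Ω} {g x x' : Perm α} {s a : ℕ}
    {h y y' : H} (hh : τ h = viaEmbeddingHom ι g) (e : τ y = viaEmbeddingHom ι x) (e' : τ y' = viaEmbeddingHom ι x')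
    (hy : y ^ s = 1) (hy' : y' ^ s = 1) (hc : Odd s ∧ g * x * g⁻¹ = x' ^ a) : h * y * h⁻¹ = y' ^ a :=
  hτ.conj hc.1 hy hy' (by rw [hh, e, e', ← map_inv, ← map_mul, ← map_mul, hc.2, map_pow])

theorem apply_pow_of_eigen {y : H} {v : V} {c : k} (hv : ρ y v = c • v) (a : ℕ) : ρ (y ^ a) v = c ^ a • v := by
  induction a with
  | zero => simp
  | succ a ih => rw [pow_succ, map_mul, End.mul_apply, hv, map_smul, ih, smul_smul, pow_succ']

theorem eigen_conj {h y y' : H} {a : ℕ} (e : h * y * h⁻¹ = y' ^ a) {v : V} {c : k} (hv : ρ y' v = c • v) :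
    ρ y (ρ h⁻¹ v) = c ^ a • ρ h⁻¹ v := by
  rw [← map_smul, ← apply_pow_of_eigen hv, ← e, ← End.mul_apply, ← End.mul_apply, ← map_mul, ← map_mul]
  congr 2
  group

theorem pow_eq_one_of_eigen {y : H} {v : V} {c : k} (hv : ρ y v = c • v) (h0 : v ≠ 0) {s : ℕ} (hy : y ^ s = 1) :
    c ^ s = 1 := by
  have := apply_pow_of_eigen hv s
  rw [hy, map_one, End.one_apply] at this
  exact smul_left_injective k h0 (by simpa using this.symm)

theorem mem_eigen_of_commute {h y : H} (hc : Commute h y) {c : k} {v : V} (hv : v ∈ End.eigenspace (ρ y) c) :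
    ρ h v ∈ End.eigenspace (ρ y) c := by
  rw [End.mem_eigenspace_iff] at *
  rw [← End.mul_apply, ← map_mul, ← hc.eq, map_mul, End.mul_apply, hv, map_smul]

/-- `y` is conjugate to all generators of the cyclic group it generates -/
def Rat (y : H) (s : ℕ) : Prop := ∀ a, 0 < a → a < s → ∃ h, h * y * h⁻¹ = y ^ a

theorem rat_of_gen {y h : H} {s g : ℕ} (hy : y ^ s = 1) (e : h * y * h⁻¹ = y ^ g)
    (hg : ∀ a < s, 0 < a → ∃ j < s, g ^ j % s = a) : Rat y s := by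
  intro a h0 ha
  obtain ⟨j, -, rfl⟩ := hg a ha h0
  refine ⟨h ^ j, ?_⟩
  rw [← pow_eq_pow_mod _ hy]
  clear h0 ha
  induction j with
  | zero => simp
  | succ j ih =>
    rw [pow_succ', mul_inv_rev, show h * h ^ j * y * ((h ^ j)⁻¹ * h⁻¹) = h * (h ^ j * y * (h ^ j)⁻¹) * h⁻¹ by group,
      ih, ← conj_pow, e, ← pow_mul, pow_succ']

theorem isPrimitiveRoot_of_prime {c : k} {s : ℕ} (hs : s.Prime) (h1 : c ≠ 1) (hc : c ^ s = 1) :
    IsPrimitiveRoot c s := by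
  haveI := Fact.mk hs
  exact orderOf_eq_prime hc h1 ▸ IsPrimitiveRoot.orderOf c

variable [FiniteDimensional k V]

theorem Rat.finrank_le {y : H} {s : ℕ} (hr : Rat y s) (c : k) {a : ℕ} (h0 : 0 < a) (ha : a < s) :
    finrank k (End.eigenspace (ρ y) c) ≤ finrank k (End.eigenspace (ρ y) (c ^ a)) := by
  obtain ⟨h, hh⟩ := hr a h0 ha
  exact finrank_le_of_map h⁻¹ fun v hv => End.mem_eigenspace_iff.2 (eigen_conj hh (End.mem_eigenspace_iff.1 hv))

theorem Rat.mul_le {y : H} {s : ℕ} (hs : s.Prime) (hr : Rat y s) {c : k} (h1 : c ≠ 1) (hc : c ^ s = 1)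
    {U : Submodule k V} (hU : ∀ a, 0 < a → a < s → End.eigenspace (ρ y) (c ^ a) ≤ U) :
    (s - 1) * finrank k (End.eigenspace (ρ y) c) ≤ finrank k U := by
  refine le_trans ?_ (sum_finrank_eigenspace_le (ρ y) (Finset.Ico 1 s) (fun a => c ^ a) (fun i hi j hj e =>
    (isPrimitiveRoot_of_prime hs h1 hc).pow_inj (Finset.mem_Ico.1 hi).2 (Finset.mem_Ico.1 hj).2 e) U
    fun a ha => hU a (Finset.mem_Ico.1 ha).1 (Finset.mem_Ico.1 ha).2)
  rw [← Nat.card_Ico, ← smul_eq_mul]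
  exact Finset.card_nsmul_le_sum _ _ _ fun a ha => hr.finrank_le c (Finset.mem_Ico.1 ha).1 (Finset.mem_Ico.1 ha).2

theorem Rat.mul_add_le {y : H} {s : ℕ} (hs : s.Prime) (hr : Rat y s) {c : k} (h1 : c ≠ 1) (hc : c ^ s = 1) :
    (s - 1) * finrank k (End.eigenspace (ρ y) c) + finrank k (End.eigenspace (ρ y) 1) ≤ finrank k V := by
  have h := sum_finrank_eigenspace_le (ρ y) (Finset.range s) (fun a => c ^ a) (fun i hi j hj e =>
    (isPrimitiveRoot_of_prime hs h1 hc).pow_inj (Finset.mem_range.1 hi) (Finset.mem_range.1 hj) e) ⊤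
    fun _ _ => le_top
  rw [finrank_top, Finset.range_eq_Ico, Finset.sum_eq_sum_Ico_succ_bot hs.pos, pow_zero, add_comm] at h
  refine le_trans (Nat.add_le_add_right ?_ _) h
  rw [← Nat.card_Ico, ← smul_eq_mul]
  exact Finset.card_nsmul_le_sum _ _ _ fun a ha => hr.finrank_le c (Finset.mem_Ico.1 ha).1 (Finset.mem_Ico.1 ha).2

theorem card_le_of_pairs {s : ℕ} [NeZero s] {c : k} (hc : IsPrimitiveRoot c s) (y₁ y₂ : H) (U : Submodule k V)
    (A : Finset (ZMod s × ZMod s))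
    (h : ∀ q ∈ A, ∃ v ∈ U, v ≠ 0 ∧ ρ y₁ v = c ^ q.1.val • v ∧ ρ y₂ v = c ^ q.2.val • v) :
    A.card ≤ finrank k U := by
  rw [← Fintype.card_coe]
  refine card_le_of_weights ![ρ y₁, ρ y₂] U (fun q : A => ![c ^ q.1.1.val, c ^ q.1.2.val]) (fun q q' e => ?_)
    fun q => ?_
  · exact Subtype.ext (Prod.ext
      (ZMod.val_injective s (hc.pow_inj (ZMod.val_lt _) (ZMod.val_lt _) (congrFun e 0)))
      (ZMod.val_injective s (hc.pow_inj (ZMod.val_lt _) (ZMod.val_lt _) (congrFun e 1))))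
  · obtain ⟨v, h1, h2, h3, h4⟩ := h q q.2
    exact ⟨v, h1, h2, Fin.forall_fin_two.2 ⟨h3, h4⟩⟩

omit [FiniteDimensional k V] in
theorem pow_val_mul {s : ℕ} [NeZero s] {c : k} (hc : c ^ s = 1) (a i : ZMod s) :
    c ^ (a * i).val = (c ^ i.val) ^ a.val := by
  rw [ZMod.val_mul, ← pow_eq_pow_mod _ hc, mul_comm, pow_mul]

variable [IsAlgClosed k]

theorem exists_pair {s : ℕ} (hs : s.Prime) (hk : (s : k) ≠ 0) {y₁ y₂ : H} (h1 : y₁ ^ s = 1) (h2 : y₂ ^ s = 1)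
    (hc : Commute y₂ y₁) {U : Submodule k V} (hU1 : ∀ v ∈ U, ρ y₁ v ∈ U) (hU2 : ∀ v ∈ U, ρ y₂ v ∈ U)
    (hne : ¬ ∀ v ∈ U, ρ y₁ v = v) : ∃ c : k, IsPrimitiveRoot c s ∧ ∃ j : ZMod s, ∃ v ∈ U, v ≠ 0 ∧
      ρ y₁ v = c • v ∧ ρ y₂ v = c ^ j.val • v := by
  push Not at hne
  obtain ⟨u, hu, hne⟩ := hne
  obtain ⟨v, hv, hv0, c, hc1, hcs, hcv⟩ := exists_eigenvector_ne_one (ρ y₁) hk (by rw [← map_pow, h1, map_one])
    hU1 hu hne
  obtain ⟨w, hw, hw0, d, hd⟩ := exists_eigenvector_mem (ρ y₂) (U := U ⊓ End.eigenspace (ρ y₁) c)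
    (fun h => hv0 ((Submodule.eq_bot_iff _).1 h v ⟨hv, End.mem_eigenspace_iff.2 hcv⟩))
    fun x hx => ⟨hU2 x hx.1, mem_eigen_of_commute hc hx.2⟩
  have hp := isPrimitiveRoot_of_prime hs hc1 hcs
  haveI : NeZero s := ⟨hs.ne_zero⟩
  obtain ⟨j, hj, rfl⟩ := hp.eq_pow_of_pow_eq_one (pow_eq_one_of_eigen hd hw0 h2)
  exact ⟨c, hp, j, w, hw.1, hw0, End.mem_eigenspace_iff.1 hw.2, by rwa [ZMod.val_cast_of_lt hj]⟩

/-- either the complement of a cycle centralizes its commutator space, or it acts on an eigenspace -/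
theorem Cov.dichotomy (hτ : Cov τ) {y : H} {s : ℕ} (hs : s.Prime) (ho : Odd s) (hk : (s : k) ≠ 0) (hy : y ^ s = 1)
    (h1 : ρ y ≠ 1) (hr : Rat y s) {T : Finset Ω} (hT : τ y ∈ altOn T) :
    (finrank k (Fx τ ρ T) + (s - 1) ≤ finrank k V ∧ s - 1 ≤ finrank k (Fx τ ρ Tᶜ)) ∨
      ∃ c : k, c ≠ 1 ∧ c ^ s = 1 ∧ ¬ End.eigenspace (ρ y) c ≤ Fx τ ρ Tᶜ ∧
        (s - 1) * finrank k (End.eigenspace (ρ y) c) + finrank k (Fx τ ρ T) ≤ finrank k V := by
  have hle : finrank k (Fx τ ρ T) ≤ finrank k (End.eigenspace (ρ y) 1) := Submodule.finrank_mono fun v hv =>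
    End.mem_eigenspace_iff.2 (by rw [one_smul]; exact hτ.fix_of_mem ho hy (hτ.mem_Fx.1 hv hT))
  by_cases h : ∀ c : k, c ≠ 1 → c ^ s = 1 → End.eigenspace (ρ y) c ≤ Fx τ ρ Tᶜ
  · left
    obtain ⟨u, hu⟩ := DFunLike.ne_iff.1 h1
    obtain ⟨v, -, hv0, c, hc1, hcs, hcv⟩ := exists_eigenvector_ne_one (ρ y) hk (by rw [← map_pow, hy, map_one])
      (U := ⊤) (fun _ _ => trivial) (u := u) trivial hu
    have h2 : 1 ≤ finrank k (End.eigenspace (ρ y) c) := Submodule.one_le_finrank_iff.2 fun h =>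
      hv0 ((Submodule.eq_bot_iff _).1 h v (End.mem_eigenspace_iff.2 hcv))
    have h3 := hr.mul_add_le (ρ := ρ) hs hc1 hcs
    have h4 := hr.mul_le (ρ := ρ) hs hc1 hcs fun a h0 ha => h _
      ((isPrimitiveRoot_of_prime hs hc1 hcs).pow_ne_one_of_pos_of_lt h0.ne' ha)
      (by rw [← pow_mul, mul_comm, pow_mul, hcs, one_pow])
    have h5 := Nat.mul_le_mul_left (s - 1) h2
    omega
  · right
    push Not at h
    obtain ⟨c, h1, h2, h3⟩ := h
    have h4 := hr.mul_add_le (ρ := ρ) hs h1 h2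
    exact ⟨c, h1, h2, h3, by omega⟩

omit [FiniteDimensional k V] [IsAlgClosed k] in
/-- a subspace invariant under the preimage of an alternating group is centralized or a faithful module -/
theorem Cov.exists_rep (hτ : Cov τ) {S : Finset Ω} (hS : 5 ≤ S.card) {U : Submodule k V}
    (hU : ∀ h, τ h ∈ altOn S → ∀ v ∈ U, ρ h v ∈ U) (hne : ¬ U ≤ Fx τ ρ S) :
    (∀ h, τ h ∈ altOn S → (∀ v ∈ U, ρ h v = v) → τ h = 1) ∧
      ∃ (L : Subgroup H) (σ : Representation k L U) (π : L →* alternatingGroup (Fin S.card)),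
        Function.Surjective π ∧ ∀ h, σ h = 1 → π h = 1 := by
  let L := (altOn S).comap τ
  let σ : Representation k L U :=
    { toFun := fun h => (ρ h).restrict (hU h h.2)
      map_one' := by ext; simp
      map_mul' := fun a b => by ext; simp }
  let π : L →* altOn S := τ.subgroupComap _
  have hπ : Function.Surjective π := fun g => by
    obtain ⟨h, hh⟩ := hτ.surj g (altOn_le_alt S g.2)
    exact ⟨⟨h, show τ h ∈ altOn S from hh ▸ g.2⟩, Subtype.ext hh⟩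
  haveI := isSimpleGroup_altOn hS
  have key : ∀ h, σ h = 1 → π h = 1 := by
    rcases ((MonoidHom.normal_ker σ).map π hπ).eq_bot_or_eq_top with h | h
    · exact fun x hx => (Subgroup.eq_bot_iff_forall _).1 h _ ⟨x, hx, rfl⟩
    · refine absurd (fun v hv => hτ.mem_Fx.2 fun g hg => ?_) hne
      obtain ⟨x, hx, e⟩ : (⟨g, hg⟩ : altOn S) ∈ (MonoidHom.ker σ).map π := h ▸ mem_top _
      exact ⟨x, congrArg Subtype.val (LinearMap.congr_fun (show σ x = 1 from hx) ⟨v, hv⟩), congrArg Subtype.val e⟩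
  obtain ⟨e⟩ := nonempty_altOn_equiv S (α := Fin S.card) (by simp)
  refine ⟨fun h hh hv => congrArg Subtype.val (key ⟨h, hh⟩ ?_), L, σ, e.toMonoidHom.comp π,
    e.surjective.comp hπ, fun h hh => by simp [key h hh]⟩
  ext v
  exact hv v v.2

/-- two three-cycles interchanged by an element of order four -/
theorem four_le (hk : ((3 : ℕ) : k) ≠ 0) {y₁ y₂ h : H} (h1 : y₁ ^ 3 = 1) (h2 : y₂ ^ 3 = 1) (hc : Commute y₂ y₁)
    (e1 : h * y₁ * h⁻¹ = y₂ ^ 1) (e2 : h * y₂ * h⁻¹ = y₁ ^ 2) {U : Submodule k V} (hU1 : ∀ v ∈ U, ρ y₁ v ∈ U)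
    (hU2 : ∀ v ∈ U, ρ y₂ v ∈ U) (hU : ∀ v ∈ U, ρ h⁻¹ v ∈ U) (hne : ¬ ∀ v ∈ U, ρ y₁ v = v) :
    4 ≤ finrank k U := by
  obtain ⟨c, hp, j, v, hv⟩ := exists_pair Nat.prime_three hk h1 h2 hc hU1 hU2 hne
  let P : ZMod 3 × ZMod 3 → Prop := fun q =>
    ∃ v ∈ U, v ≠ 0 ∧ ρ y₁ v = c ^ q.1.val • v ∧ ρ y₂ v = c ^ q.2.val • v
  have h0 : P (1, j) := ⟨v, hv.1, hv.2.1, (pow_one c).symm ▸ hv.2.2.1, hv.2.2.2⟩
  have st : ∀ q, P q → P (q.2, 2 * q.1) := by
    rintro q ⟨w, a, b, c1, c2⟩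
    refine ⟨ρ h⁻¹ w, hU w a, fun e => b (rep_injective ρ _ (e.trans (map_zero _).symm)), ?_, ?_⟩
    · simpa using eigen_conj e1 c2
    · rw [pow_val_mul hp.pow_eq_one]
      exact eigen_conj e2 c1
  refine le_trans ?_ (card_le_of_pairs (ρ := ρ) hp y₁ y₂ U {(1, j), (j, 2 * 1), (2 * 1, 2 * j), (2 * j, 2 * (2 * 1))} ?_)
  · clear h0 hv
    revert j
    decide
  · simp only [Finset.mem_insert, Finset.mem_singleton, forall_eq_or_imp, forall_eq]
    exact ⟨h0, st _ h0, st _ (st _ h0), st _ (st _ (st _ h0))⟩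

/-- two five-cycles -/
theorem sixteen_le (hk : ((5 : ℕ) : k) ≠ 0) {y₁ y₂ h g : H} (h1 : y₁ ^ 5 = 1) (h2 : y₂ ^ 5 = 1) (hc : Commute y₁ y₂)
    (e1 : h * y₁ * h⁻¹ = y₂ ^ 1) (e2 : h * y₂ * h⁻¹ = y₁ ^ 2) (f1 : g * y₁ * g⁻¹ = y₁ ^ 4)
    (f2 : g * y₂ * g⁻¹ = y₂ ^ 1) {d : k} (hd : d ≠ 1) (hne : ¬ ∀ v ∈ End.eigenspace (ρ y₁) d, ρ y₂ v = v) :
    16 ≤ finrank k V := by
  obtain ⟨c, hp, j, v, hv⟩ := exists_pair Nat.prime_five hk h2 h1 hc
    (fun v hv => mem_eigen_of_commute hc.symm hv) (fun v hv => mem_eigen_of_commute (Commute.refl _) hv) hne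
  let P : ZMod 5 × ZMod 5 → Prop := fun q =>
    ∃ v ∈ (⊤ : Submodule k V), v ≠ 0 ∧ ρ y₁ v = c ^ q.1.val • v ∧ ρ y₂ v = c ^ q.2.val • v
  have h0 : P (j, 1) := ⟨v, trivial, hv.2.1, hv.2.2.2, (pow_one c).symm ▸ hv.2.2.1⟩
  have hj : j ≠ 0 := by
    rintro rfl
    exact hd (smul_left_injective k hv.2.1 ((End.mem_eigenspace_iff.1 hv.1).symm.trans (by simpa using hv.2.2.2)))
  have st : ∀ q, P q → P (q.2, 2 * q.1) := by
    rintro q ⟨w, a, b, c1, c2⟩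
    refine ⟨ρ h⁻¹ w, trivial, fun e => b (rep_injective ρ _ (e.trans (map_zero _).symm)), ?_, ?_⟩
    · simpa using eigen_conj e1 c2
    · rw [pow_val_mul hp.pow_eq_one]
      exact eigen_conj e2 c1
  have st' : ∀ q, P q → P (4 * q.1, q.2) := by
    rintro q ⟨w, a, b, c1, c2⟩
    refine ⟨ρ g⁻¹ w, trivial, fun e => b (rep_injective ρ _ (e.trans (map_zero _).symm)), ?_, ?_⟩
    · rw [pow_val_mul hp.pow_eq_one]
      exact eigen_conj f1 c1
    · simpa using eigen_conj f2 c2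
  have it : ∀ n : ℕ, P ((fun q : ZMod 5 × ZMod 5 => (q.2, 2 * q.1))^[n] (j, 1)) := fun n => by
    induction n with
    | zero => exact h0
    | succ n ih => rw [Function.iterate_succ_apply']; exact st _ ih
  have key : ∀ j : ZMod 5, j ≠ 0 → ∀ q : ZMod 5 × ZMod 5, q.1 ≠ 0 ∧ q.2 ≠ 0 → ∃ n < 8,
      q = (fun q : ZMod 5 × ZMod 5 => (q.2, 2 * q.1))^[n] (j, 1) ∨
      q = (4 * ((fun q : ZMod 5 × ZMod 5 => (q.2, 2 * q.1))^[n] (j, 1)).1,
        ((fun q : ZMod 5 × ZMod 5 => (q.2, 2 * q.1))^[n] (j, 1)).2) := by decide +kernel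
  rw [← finrank_top]
  refine le_trans ?_ (card_le_of_pairs (ρ := ρ) hp y₁ y₂ ⊤ (Finset.univ.filter fun q => q.1 ≠ 0 ∧ q.2 ≠ 0) fun q hq => ?_)
  · decide +kernel
  · obtain ⟨n, -, e | e⟩ := key j hj q (Finset.mem_filter.1 hq).2
    · exact e ▸ it n
    · exact e ▸ st' _ (it n)

end CL.AltGL
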