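/-
Projective representations of alternating groups of small degree, part 4: irreducible modules of the covers.
-/
import Cfsg.Agent.Known.AltGL3

set_option autoImplicit false

open Equiv Equiv.Perm Module Subgroup
open scoped commutatorElement

namespace CL.AltGL

open CL.Known

variable {H Ω : Type*} [Group H] [Fintype Ω] [DecidableEq Ω] {τ : H →* Perm Ω}
  {k V : Type*} [Field k] [AddCommGroup V] [Module k V] {ρ : Representation k H V}

theorem Cov.exists_rat (hτ : Cov τ) {α : Type*} [Fintype α] [DecidableEq α] (ι : α ↪ Ω) (x g : Perm α) (s a : ℕ)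
    (h : (sign x = 1 ∧ Odd s ∧ x ^ s = 1) ∧ x ≠ 1 ∧ sign g = 1 ∧ g * x * g⁻¹ = x ^ a ∧
      ∀ b < s, 0 < b → ∃ j < s, a ^ j % s = b) :
    ∃ y, τ y = viaEmbeddingHom ι x ∧ y ^ s = 1 ∧ Rat y s ∧ τ y ≠ 1 := by
  obtain ⟨y, e, hy⟩ := hτ.lift_emb ι x s h.1
  obtain ⟨z, hz⟩ := hτ.surj _ (emb_mem_alt ι h.2.2.1)
  refine ⟨y, e, hy, rat_of_gen hy (hτ.conj_emb hz e e hy hy ⟨h.1.2.1, h.2.2.2.1⟩) h.2.2.2.2, fun e1 => h.2.1 ?_⟩
  exact viaEmbeddingHom_injective ι (by rw [← e, e1, map_one])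

variable [FiniteDimensional k V]

theorem exists_smul_of_le_one {U : Submodule k V} (hU : finrank k U ≤ 1) {v w : V} (hv : v ∈ U) (h0 : v ≠ 0)
    (hw : w ∈ U) : ∃ c : k, w = c • v := by
  have h1 : 1 ≤ finrank k U := Submodule.one_le_finrank_iff.2 fun h => h0 ((Submodule.eq_bot_iff _).1 h v hv)
  obtain ⟨c, hc⟩ := (finrank_eq_one_iff_of_nonzero' (⟨v, hv⟩ : U) (fun h => h0 (congrArg Subtype.val h))).1
    (le_antisymm hU h1) ⟨w, hw⟩
  exact ⟨c, (congrArg Subtype.val hc).symm⟩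

theorem comm_fix {U : Submodule k V} (hU : finrank k U ≤ 1) {a b : H} (ha : ∀ v ∈ U, ρ a v ∈ U)
    (hb : ∀ v ∈ U, ρ b v ∈ U) {v : V} (hv : v ∈ U) : ρ ⁅a, b⁆ v = v := by
  by_cases h0 : v = 0
  · simp [h0]
  obtain ⟨α, e1⟩ := exists_smul_of_le_one hU hv h0 (ha v hv)
  obtain ⟨β, e2⟩ := exists_smul_of_le_one hU hv h0 (hb v hv)
  have h1 : ρ (a * b) v = (α * β) • v := by rw [map_mul, End.mul_apply, e2, map_smul, e1, smul_smul, mul_comm]
  have h2 : ρ (b * a) v = (α * β) • v := by rw [map_mul, End.mul_apply, e1, map_smul, e2, smul_smul]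
  have h3 : α * β ≠ 0 := fun h => h0 (rep_injective ρ (a * b) (by rw [h1, h, zero_smul, map_zero]))
  refine smul_right_injective V h3 ?_
  show (α * β) • ρ ⁅a, b⁆ v = (α * β) • v
  rw [← map_smul, ← h2, ← End.mul_apply, ← map_mul, h2, ← h1, commutatorElement_def]
  congr 2
  group

/-- the bound for the sections of the proper subspaces -/
def Smaller (k H V : Type*) [Group H] [Field k] [AddCommGroup V] [Module k V] : Prop :=
  ∀ (L : Subgroup H) (U : Submodule k V) (σ : Representation k L U) (m : ℕ) (π : L →* alternatingGroup (Fin m)),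
    finrank k U < finrank k V → Function.Surjective π → (∀ h, σ h = 1 → π h = 1) → 9 ≤ m → m ≤ finrank k U + 2

variable [IsAlgClosed k]

theorem Cov.dich (hτ : Cov τ) (hker : ∀ h, ρ h = 1 → τ h = 1) (ih : Smaller k H V) {D : ℕ → ℕ}
    (hD : ∀ S, finrank k (Fx τ ρ S) = D S.card) {α : Type*} [Fintype α] [DecidableEq α] (ι : α ↪ Ω) (x g : Perm α)
    (s a : ℕ) (T : Finset α) (hs : s.Prime) (hk : (s : k) ≠ 0)
    (h : ((sign x = 1 ∧ Odd s ∧ x ^ s = 1) ∧ x ≠ 1 ∧ sign g = 1 ∧ g * x * g⁻¹ = x ^ a ∧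
      ∀ b < s, 0 < b → ∃ j < s, a ^ j % s = b) ∧ (∀ i, x i ≠ i → i ∈ T) ∧ T.card = s ∧ 3 ≤ s) :
    (D s + (s - 1) ≤ finrank k V ∧ s - 1 ≤ D (Fintype.card Ω - s)) ∨
      ∃ y, ∃ c : k, τ y = viaEmbeddingHom ι x ∧ y ^ s = 1 ∧ c ≠ 1 ∧
        ¬ End.eigenspace (ρ y) c ≤ Fx τ ρ (T.map ι)ᶜ ∧
        (s - 1) * finrank k (End.eigenspace (ρ y) c) + D s ≤ finrank k V ∧
        (∀ z, τ z ∈ altOn (T.map ι)ᶜ → Commute z y) ∧
        (s + 9 ≤ Fintype.card Ω → Fintype.card Ω ≤ finrank k (End.eigenspace (ρ y) c) + s + 2) ∧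
        (s + 5 ≤ Fintype.card Ω → ∀ z, τ z ∈ altOn (T.map ι)ᶜ → τ z ≠ 1 →
          ¬ ∀ v ∈ End.eigenspace (ρ y) c, ρ z v = v) := by
  obtain ⟨y, e, hy, hr, h1⟩ := hτ.exists_rat ι x g s a h.1
  have hT : τ y ∈ altOn (T.map ι) := e ▸ emb_mem_altOn ι ⟨h.1.1.1, h.2.1⟩
  have c1 : (T.map ι).card = s := by rw [Finset.card_map, h.2.2.1]
  have c2 : (T.map ι)ᶜ.card = Fintype.card Ω - s := by rw [Finset.card_compl, c1]
  rcases hτ.dichotomy (ρ := ρ) hs h.1.1.2.1 hk hy (fun e => h1 (hker y e)) hr hT with h2 | ⟨c, hc1, -, h3, h4⟩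
  · rw [hD, hD, c1, c2] at h2
    exact Or.inl h2
  · rw [hD, c1] at h4
    have hc : ∀ z, τ z ∈ altOn (T.map ι)ᶜ → Commute z y := fun z hz =>
      hτ.commute h.1.1.2.1 hy (commute_of_altOn_compl hz hT)
    have hrep := fun h5 => hτ.exists_rep (S := (T.map ι)ᶜ) h5 (fun z hz v hv => mem_eigen_of_commute (hc z hz) hv) h3
    refine Or.inr ⟨y, c, e, hy, hc1, h3, h4, hc, fun h9 => ?_, fun h5 z hz hz1 hv => hz1 ((hrep ?_).1 z hz hv)⟩
    · obtain ⟨L, σ, π, hπ, hσ⟩ := (hrep (by omega)).2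
      have h0 : 1 ≤ finrank k (End.eigenspace (ρ y) c) :=
        Submodule.one_le_finrank_iff.2 fun e => h3 (e ▸ bot_le)
      have h6 : 2 * finrank k (End.eigenspace (ρ y) c) ≤ (s - 1) * finrank k (End.eigenspace (ρ y) c) :=
        Nat.mul_le_mul_right _ (by omega)
      have := ih L _ σ _ π (by omega) hπ hσ (by omega)
      omega
    · omega

/-- three-cycles -/
theorem Cov.three (hτ : Cov τ) (hker : ∀ h, ρ h = 1 → τ h = 1) (ih : Smaller k H V) {D : ℕ → ℕ}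
    (hD : ∀ S, finrank k (Fx τ ρ S) = D S.card) (hr : 9 ≤ Fintype.card Ω) (hk : ((3 : ℕ) : k) ≠ 0) :
    (D 3 + 2 ≤ finrank k V ∧ 2 ≤ D (Fintype.card Ω - 3)) ∨
      ∃ m, 4 ≤ m ∧ 2 * m + D 3 ≤ finrank k V ∧ (12 ≤ Fintype.card Ω → Fintype.card Ω ≤ m + 5) := by
  obtain ⟨ι⟩ := Function.Embedding.nonempty_of_card_le (α := Fin 9) (β := Ω) (by simpa using hr)
  rcases hτ.dich hker ih hD ι (List.formPerm [0, 1, 2]) (swap 0 1 * swap 3 4) 3 2 {0, 1, 2} Nat.prime_three hk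
    (by decide +kernel) with h | ⟨y, c, -, -, -, -, h1, hc, h2, h3⟩
  · exact Or.inl h
  refine Or.inr ⟨_, ?_, h1, h2⟩
  obtain ⟨y₁, e1, p1⟩ := hτ.lift_emb ι (List.formPerm [3, 4, 5]) 3 (by decide +kernel)
  obtain ⟨y₂, e2, p2⟩ := hτ.lift_emb ι (List.formPerm [6, 7, 8]) 3 (by decide +kernel)
  obtain ⟨g, e⟩ := hτ.surj _ (emb_mem_alt ι (g := swap 3 6 * List.formPerm [4, 7, 5, 8]) (by decide +kernel))
  have m1 : τ y₁ ∈ altOn (Finset.map ι {0, 1, 2})ᶜ := e1 ▸ emb_mem_compl ι _ (by decide +kernel)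
  have m2 : τ y₂ ∈ altOn (Finset.map ι {0, 1, 2})ᶜ := e2 ▸ emb_mem_compl ι _ (by decide +kernel)
  have m3 : τ g ∈ altOn (Finset.map ι {0, 1, 2})ᶜ := e ▸ emb_mem_compl ι _ (by decide +kernel)
  refine four_le hk p1 p2 (hτ.commute (by decide : Odd 3) p1 ?_) (hτ.conj_emb e e1 e2 p1 p2 (by decide +kernel))
    (hτ.conj_emb e e2 e1 p2 p1 (by decide +kernel)) (fun v hv => mem_eigen_of_commute (hc _ m1) hv)
    (fun v hv => mem_eigen_of_commute (hc _ m2) hv) (fun v hv => mem_eigen_of_commute (hc _ m3).inv_left hv)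
    (h3 (by omega) _ m1 fun e => ?_)
  · rw [e1, e2]
    exact Commute.map (show _ * _ = _ * _ by decide +kernel) _
  · rw [e1, ← map_one (viaEmbeddingHom ι)] at e
    exact absurd (viaEmbeddingHom_injective ι e) (by decide +kernel)

/-- five-cycles in characteristic three -/
theorem Cov.five_three (hτ : Cov τ) (hker : ∀ h, ρ h = 1 → τ h = 1) (ih : Smaller k H V) {D : ℕ → ℕ}
    (hD : ∀ S, finrank k (Fx τ ρ S) = D S.card) (hr : 9 ≤ Fintype.card Ω) [CharP k 3] :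
    (D 5 + 4 ≤ finrank k V ∧ 4 ≤ D (Fintype.card Ω - 5)) ∨ 8 ≤ finrank k V := by
  obtain ⟨ι⟩ := Function.Embedding.nonempty_of_card_le (α := Fin 9) (β := Ω) (by simpa using hr)
  have hk : ((5 : ℕ) : k) ≠ 0 := by rw [Ne, CharP.cast_eq_zero_iff k 3]; decide
  rcases hτ.dich hker ih hD ι (List.formPerm [0, 1, 2, 3, 4]) (List.formPerm [1, 2, 4, 3] * swap 5 6) 5 2
    {0, 1, 2, 3, 4} Nat.prime_five hk (by decide +kernel) with h | ⟨y, c, -, -, -, h0, h1, hc, -, -⟩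
  · exact Or.inl h
  right
  by_contra h8
  refine h0 fun v hv z hz hT => ?_
  by_cases hv0 : v = 0
  · simp [hv0]
  obtain ⟨d, hd⟩ := exists_smul_of_le_one (by omega) hv hv0 (mem_eigen_of_commute (hc z hT) hv)
  have h3 := pow_eq_one_of_eigen hd hv0 hz
  haveI : Fact (Nat.Prime 3) := ⟨Nat.prime_three⟩
  have h4 : (d - 1) ^ 3 = 0 := by rw [sub_pow_char, h3, one_pow, sub_self]
  rw [hd, sub_eq_zero.1 (pow_eq_zero_iff (by decide) |>.1 h4), one_smul]

/-- five-cycles -/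
theorem Cov.five (hτ : Cov τ) (hker : ∀ h, ρ h = 1 → τ h = 1) (ih : Smaller k H V) {D : ℕ → ℕ}
    (hD : ∀ S, finrank k (Fx τ ρ S) = D S.card) (hr : 10 ≤ Fintype.card Ω) (hk : ((5 : ℕ) : k) ≠ 0) :
    (D 5 + 4 ≤ finrank k V ∧ 4 ≤ D (Fintype.card Ω - 5)) ∨ Fintype.card Ω ≤ finrank k V := by
  obtain ⟨ι⟩ := Function.Embedding.nonempty_of_card_le (α := Fin 10) (β := Ω) (by simpa using hr)
  rcases hτ.dich hker ih hD ι (List.formPerm [0, 1, 2, 3, 4]) (List.formPerm [1, 2, 4, 3] * swap 5 6) 5 2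
    {0, 1, 2, 3, 4} Nat.prime_five hk (by decide +kernel) with h | ⟨y₁, c, e1, p1, hc1, -, h1, hc, h2, h3⟩
  · exact Or.inl h
  right
  obtain ⟨y₂, e2, p2⟩ := hτ.lift_emb ι (List.formPerm [5, 6, 7, 8, 9]) 5 (by decide +kernel)
  obtain ⟨g, e⟩ := hτ.surj _ (emb_mem_alt ι (g := swap 1 4 * swap 2 3) (by decide +kernel))
  obtain ⟨h, e'⟩ := hτ.surj _ (emb_mem_alt ι (g := swap 0 5 * List.formPerm [1, 6, 2, 7, 4, 9, 3, 8])
    (by decide +kernel))
  have m2 : τ y₂ ∈ altOn (Finset.map ι {0, 1, 2, 3, 4})ᶜ := e2 ▸ emb_mem_compl ι _ (by decide +kernel)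
  have := sixteen_le (ρ := ρ) hk p1 p2 (hc _ m2).symm (hτ.conj_emb e' e1 e2 p1 p2 (by decide +kernel))
    (hτ.conj_emb e' e2 e1 p2 p1 (by decide +kernel)) (hτ.conj_emb e e1 e1 p1 p1 (by decide +kernel))
    (hτ.conj_emb e e2 e2 p2 p2 (by decide +kernel)) hc1 (h3 (by omega) _ m2 fun e => by
      rw [e2, ← map_one (viaEmbeddingHom ι)] at e
      exact absurd (viaEmbeddingHom_injective ι e) (by decide +kernel))
  omega

/-- seven-cycles -/
theorem Cov.seven (hτ : Cov τ) (hker : ∀ h, ρ h = 1 → τ h = 1) {D : ℕ → ℕ}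
    (hD : ∀ S, finrank k (Fx τ ρ S) = D S.card) (hr : 11 ≤ Fintype.card Ω) (hk : ((7 : ℕ) : k) ≠ 0)
    (hn : finrank k V ≤ 9) : 3 ≤ D 3 := by
  obtain ⟨ι⟩ := Function.Embedding.nonempty_of_card_le (α := Fin 11) (β := Ω) (by simpa using hr)
  obtain ⟨y, e, hy, hr, h1⟩ := hτ.exists_rat ι (List.formPerm [0, 1, 2, 3, 4, 5, 6])
    (List.formPerm [1, 3, 2, 6, 4, 5] * swap 7 8) 7 3 (by decide +kernel)
  obtain ⟨a, ea⟩ := hτ.surj _ (emb_mem_alt ι (g := List.formPerm [7, 8, 9]) (by decide +kernel))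
  obtain ⟨b, eb⟩ := hτ.surj _ (emb_mem_alt ι (g := List.formPerm [7, 8, 10]) (by decide +kernel))
  obtain ⟨g, eg⟩ := hτ.surj _ (emb_mem_alt ι (g := List.formPerm [10, 0, 1]) (by decide +kernel))
  have ca : Commute a y := hτ.commute (by decide : Odd 7) hy
    (by rw [e, ea]; exact Commute.map (show _ * _ = _ * _ by decide +kernel) _)
  have cb : Commute b y := hτ.commute (by decide : Odd 7) hy
    (by rw [e, eb]; exact Commute.map (show _ * _ = _ * _ by decide +kernel) _)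
  have h7 : Nat.Prime 7 := by decide
  obtain ⟨u, hu⟩ := DFunLike.ne_iff.1 (fun e => h1 (hker y e))
  obtain ⟨v, -, hv0, c, hc1, hcs, hcv⟩ := exists_eigenvector_ne_one (ρ y) hk (by rw [← map_pow, hy, map_one])
    (U := ⊤) (fun _ _ => trivial) (u := u) trivial hu
  have h2 : 1 ≤ finrank k (End.eigenspace (ρ y) c) := Submodule.one_le_finrank_iff.2 fun h =>
    hv0 ((Submodule.eq_bot_iff _).1 h v (End.mem_eigenspace_iff.2 hcv))
  have h3 := hr.mul_le (ρ := ρ) h7 hc1 hcs (U := End.eigenspace (ρ ⁅a, b⁆) 1) fun i h0 hi w hw => by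
    have := hr.mul_add_le (ρ := ρ) h7 ((isPrimitiveRoot_of_prime h7 hc1 hcs).pow_ne_one_of_pos_of_lt h0.ne' hi)
      (by rw [← pow_mul, mul_comm, pow_mul, hcs, one_pow])
    rw [End.mem_eigenspace_iff, one_smul]
    exact comm_fix (by omega) (fun v hv => mem_eigen_of_commute ca hv) (fun v hv => mem_eigen_of_commute cb hv) hw
  have h4 : finrank k (End.eigenspace (ρ ⁅a, b⁆) 1) ≤ finrank k (End.eigenspace (ρ (g * ⁅a, b⁆ * g⁻¹)) 1) :=
    finrank_le_of_map (ρ := ρ) g fun w hw => by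
      rw [End.mem_eigenspace_iff, one_smul] at *
      rw [← End.mul_apply, ← map_mul, inv_mul_cancel_right, map_mul, End.mul_apply, hw]
  have h5 := Submodule.finrank_sup_add_finrank_inf_eq (End.eigenspace (ρ ⁅a, b⁆) 1)
    (End.eigenspace (ρ (g * ⁅a, b⁆ * g⁻¹)) 1)
  have h6 := Submodule.finrank_le (End.eigenspace (ρ ⁅a, b⁆) 1 ⊔ End.eigenspace (ρ (g * ⁅a, b⁆ * g⁻¹)) 1)
  have h8 : IsThreeCycle (τ (⁅a, b⁆ * (g * ⁅a, b⁆ * g⁻¹))) := by
    rw [map_mul, map_mul, map_mul, map_inv, map_commutatorElement, ea, eb, eg, ← map_commutatorElement, ← map_inv,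
      ← map_mul, ← map_mul, ← map_mul, viaEmbeddingHom_apply, viaEmbedding]
    rw [IsThreeCycle, @cycleType_extendDomain _ _ _ _ _ _ _ (_)]
    exact card_support_eq_three_iff.1 (by decide +kernel)
  have h9 : End.eigenspace (ρ ⁅a, b⁆) 1 ⊓ End.eigenspace (ρ (g * ⁅a, b⁆ * g⁻¹)) 1 ≤
      Fx τ ρ (τ (⁅a, b⁆ * (g * ⁅a, b⁆ * g⁻¹))).support := fun w hw => by
    refine hτ.mem_Fx.2 (altOn_support_le h8 (mem_map_of_mem τ ?_))
    have w1 := End.mem_eigenspace_iff.1 hw.1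
    have w2 := End.mem_eigenspace_iff.1 hw.2
    rw [one_smul] at w1 w2
    exact mul_mem (show _ ∈ stabV ρ w from w1) (show _ ∈ stabV ρ w from w2)
  have h10 := Submodule.finrank_mono h9
  rw [hD, h8.card_support] at h10
  omega

/-- irreducible modules of the covers of the alternating groups -/
theorem Cov.bound (hτ : Cov τ) (hker : ∀ h, ρ h = 1 → τ h = 1) (ih : Smaller k H V) (p : ℕ) [hp : Fact p.Prime]
    [CharP k p] (irr : ∀ W : Submodule k V, (∀ h, ∀ v ∈ W, ρ h v ∈ W) → W = ⊥ ∨ W = ⊤)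
    (hr : 9 ≤ Fintype.card Ω) (hn : finrank k V + 2 ≤ Fintype.card Ω) :
    finrank k V + 2 = Fintype.card Ω ∧ p ∣ Fintype.card Ω := by
  obtain ⟨S, -, hS⟩ := Finset.exists_subset_card_eq (s := (Finset.univ : Finset Ω)) (n := 3)
    (by rw [Finset.card_univ]; omega)
  have hS3 : Fx τ ρ S ≠ ⊤ := fun e => by
    obtain ⟨a, b, c, hab, hac, hbc, rfl⟩ := Finset.card_eq_three.1 hS
    have h1 : swap a b * swap a c ∈ altOn ({a, b, c} : Finset Ω) := mem_altOn.2
      ⟨by simp [sign_swap hab, sign_swap hac], fun x hx => by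
        by_contra h
        simp only [Finset.mem_insert, Finset.mem_singleton, not_or] at h
        exact hx (by simp [swap_apply_of_ne_of_ne h.1 h.2.1, swap_apply_of_ne_of_ne h.1 h.2.2])⟩
    have h3 := isThreeCycle_swap_mul_swap_same hab hac hbc
    obtain ⟨y, e1, hy⟩ := hτ.lift (altOn_le_alt _ h1) (by decide : Odd 3) (h3.orderOf ▸ pow_orderOf_eq_one _)
    exact h3.isCycle.ne_one (e1 ▸ hker y (LinearMap.ext fun v => (e.ge trivial : v ∈ Fx τ ρ _) y hy (e1 ▸ h1)))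
  have hfix : ∀ v, (∀ h, ρ h v = v) → v = 0 := fun v hv => by
    rcases irr (⨅ h, End.eigenspace (ρ h) 1) (fun h w hw => by
      simp only [Submodule.mem_iInf, End.mem_eigenspace_iff, one_smul] at hw ⊢
      rw [hw h]
      exact hw) with h | h
    · exact (Submodule.eq_bot_iff _).1 h v (by simpa [Submodule.mem_iInf] using hv)
    · refine absurd (eq_top_iff.2 fun w _ y _ _ => ?_) hS3
      have : w ∈ ⨅ h, End.eigenspace (ρ h) 1 := h.ge trivial
      simp only [Submodule.mem_iInf, End.mem_eigenspace_iff, one_smul] at this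
      exact this y
  obtain ⟨D, hD, -, h1, h2⟩ := hτ.exists_dim hfix (by omega)
  have h3 : D 3 < finrank k V := by
    rw [← hS, ← hD]
    exact Submodule.finrank_lt hS3
  have nat := fun h => dim_arith hr hn h3 h1 h2 h
  have nat' : (D 3 + 2 ≤ finrank k V ∧ 2 ≤ D (Fintype.card Ω - 3)) ∨
      (D 5 + 4 ≤ finrank k V ∧ 4 ≤ D (Fintype.card Ω - 5)) → finrank k V + 2 = Fintype.card Ω ∧ p ∣ Fintype.card Ω :=
    fun h => ⟨(nat h).1, (CharP.cast_eq_zero_iff k p _).1 (Ext.cast_card_eq_zero (τ := τ) (ρ := ρ)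
      ⟨hτ, by omega, irr, (nat h).1, fun a => by
        rw [← Submodule.finrank_eq_zero, hD, Finset.card_compl, Finset.card_singleton, (nat h).2.1],
        fun a b hab => by rw [hD, Finset.card_compl, Finset.card_pair hab, (nat h).2.2.1],
        fun a b c hab hac hbc => by
          rw [hD, Finset.card_compl, Finset.card_eq_three.2 ⟨a, b, c, hab, hac, hbc, rfl⟩, (nat h).2.2.2]⟩)⟩
  have hk : ∀ s : ℕ, s.Prime → p ≠ s → (s : k) ≠ 0 := fun s hs h e =>
    h ((Nat.prime_dvd_prime_iff_eq hp.out hs).1 ((CharP.cast_eq_zero_iff k p s).1 e))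
  by_cases p3 : p = 3
  · subst p3
    by_cases h9 : Fintype.card Ω = 9
    · rcases hτ.five_three hker ih hD hr with h | h
      · exact nat' (Or.inr h)
      · omega
    · rcases hτ.five hker ih hD (by omega) (hk 5 Nat.prime_five (by decide)) with h | h
      · exact nat' (Or.inr h)
      · omega
  rcases hτ.three hker ih hD hr (hk 3 Nat.prime_three p3) with h | ⟨m, m1, m2, m3⟩
  · exact nat' (Or.inl h)
  by_cases p5 : p = 5
  · subst p5
    by_cases h11 : Fintype.card Ω = 11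
    · have := hτ.seven hker hD (by omega) (hk 7 (by decide) (by decide)) (by omega)
      omega
    · omega
  · rcases hτ.five hker ih hD (by omega) (hk 5 Nat.prime_five p5) with h | h
    · exact nat' (Or.inr h)
    · omega

end CL.AltGL
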