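/-
Projective representations of alternating groups of small degree, part 5: alternating sections of linear groups.
-/
import Cfsg.Agent.Known.AltGL4

set_option autoImplicit false

open Equiv Equiv.Perm Module Subgroup
open scoped commutatorElement

namespace CL.AltGL

open CL.Known

universe u

theorem card_le_of_ker_le {H A B : Type*} [Group H] [Group A] [Monoid B] [Finite B] {π : H →* A}
    (hπ : Function.Surjective π) (μ : H →* B) (h : ∀ x, μ x = 1 → π x = 1) : Nat.card A ≤ Nat.card B := by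
  choose s hs using hπ
  refine Nat.card_le_card_of_injective (fun a => μ (s a)) fun a b e => ?_
  have := h (s a * (s b)⁻¹) (by rw [map_mul, show μ (s a) = μ (s b) from e, ← map_mul, mul_inv_cancel, map_one])
  rwa [map_mul, map_inv, hs, hs, mul_inv_eq_one] at this

theorem exists_min_noncentral {H : Type*} [Group H] [Finite H] (K : Subgroup H) [K.Normal] [Group.IsSolvable K]
    (hK : ¬ K ≤ center H) : ∃ R : Subgroup H, R.Normal ∧ ¬ R ≤ center H ∧
      (∀ N : Subgroup H, N.Normal → N < R → N ≤ center H) ∧ ⁅R, R⁆ ≤ center H ∧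
      ∃ l : ℕ, l.Prime ∧ ∀ x ∈ R, x ^ l ∈ center H := by
  obtain ⟨R, ⟨hn, hRK, hR⟩, hmin⟩ := (wellFounded_lt (α := Subgroup H)).has_min
    {R | R.Normal ∧ R ≤ K ∧ ¬ R ≤ center H} ⟨K, inferInstance, le_rfl, hK⟩
  have h1 : ∀ N : Subgroup H, N.Normal → N < R → N ≤ center H := fun N hN hlt => by
    by_contra h
    exact hmin N ⟨hN, hlt.le.trans hRK, h⟩ hlt
  have h2 : ⁅R, R⁆ ≤ center H := by
    refine h1 _ inferInstance ?_
    haveI : Group.IsSolvable R := Group.isSolvable_of_isSolvable_injective (inclusion_injective hRK)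
    haveI : Nontrivial R := (nontrivial_iff_ne_bot R).2 fun e => hR (e ▸ bot_le)
    rw [← map_subtype_commutator]
    refine lt_of_le_of_ne (map_subtype_le _) fun e => (Group.IsSolvable.commutator_lt_top_of_nontrivial R).ne ?_
    exact map_injective R.subtype_injective (e.trans (by rw [← MonoidHom.range_eq_map, range_subtype]))
  refine ⟨R, hn, hR, h1, h2, ?_⟩
  obtain ⟨x, hx, hxZ⟩ := SetLike.not_le_iff_exists.1 hR
  let φ := QuotientGroup.mk' (center H)
  have hφ : ∀ y, φ y = 1 ↔ y ∈ center H := fun y => QuotientGroup.eq_one_iff y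
  obtain ⟨l, hl, m, hm⟩ := Nat.exists_prime_and_dvd (show orderOf (φ x) ≠ 1 by rwa [Ne, orderOf_eq_one_iff, hφ])
  have hc : ∀ a ∈ R, ∀ b ∈ R, Commute (φ a) (φ b) := fun a ha b hb => by
    rw [← commutatorElement_eq_one_iff_commute, ← map_commutatorElement, hφ]
    exact h2 (commutator_mem_commutator ha hb)
  let N : Subgroup H :=
    { carrier := {y | y ∈ R ∧ φ y ^ l = 1}
      one_mem' := ⟨one_mem _, by simp⟩
      mul_mem' := fun {a b} ha hb => ⟨mul_mem ha.1 hb.1, by rw [map_mul, (hc a ha.1 b hb.1).mul_pow, ha.2, hb.2, one_mul]⟩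
      inv_mem' := fun {a} ha => ⟨inv_mem ha.1, by rw [map_inv, inv_pow, ha.2, inv_one]⟩ }
  have hN : N.Normal := ⟨fun a ha g => ⟨hn.conj_mem a ha.1 g, by
    rw [map_mul, map_mul, map_inv, conj_pow, ha.2, mul_one, mul_inv_cancel]⟩⟩
  refine ⟨l, hl, fun y hy => ?_⟩
  rcases (show N ≤ R from fun _ h => h.1).lt_or_eq with h | h
  · have h3 := (hφ _).2 (h1 N hN h (show x ^ m ∈ N from ⟨pow_mem hx _, by
      rw [map_pow, ← pow_mul, mul_comm, ← hm, pow_orderOf_eq_one]⟩))
    rw [map_pow, ← orderOf_dvd_iff_pow_eq_one, hm] at h3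
    have h4 : 0 < m := Nat.pos_of_mul_pos_left (hm ▸ orderOf_pos (φ x))
    have h5 := Nat.le_of_dvd h4 h3
    have := hl.two_le
    nlinarith
  · rw [← hφ, map_pow]
    exact (h.ge hy).2

theorem exists_matrix_rep_add {Q M : Type*} [Group Q] [AddCommGroup M] [Finite M] (α : Q → M →+ M)
    (h1 : ∀ x, α 1 x = x) (h2 : ∀ a b x, α (a * b) x = α a (α b x)) (l : ℕ) [Fact l.Prime] [Module (ZMod l) M] :
    ∃ d, Nat.card M = l ^ d ∧ ∃ μ : Q →* Matrix (Fin d) (Fin d) (ZMod l), ∀ g, μ g = 1 → ∀ x, α g x = x := by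
  let σ : Q →* End (ZMod l) M :=
    { toFun := fun g => (α g).toZModLinearMap l
      map_one' := LinearMap.ext h1
      map_mul' := fun a b => LinearMap.ext (h2 a b) }
  let b := Module.finBasis (ZMod l) M
  refine ⟨_, ?_, MonoidHom.comp (LinearMap.toMatrixAlgEquiv b).toRingEquiv.toRingHom.toMonoidHom σ, fun g hg x => ?_⟩
  · exact (Module.natCard_eq_pow_finrank (K := ZMod l) (V := M)).trans (by rw [Nat.card_zmod])
  · have h1 : σ g = 1 := (LinearMap.toMatrixAlgEquiv b).injective (by simpa using hg)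
    exact LinearMap.congr_fun h1 x

theorem exists_matrix_rep_aux {Q E : Type*} [Group Q] [CommGroup E] [Finite E] (α : Q →* MulAut E) (l : ℕ)
    [Fact l.Prime] (hl : ∀ x : E, x ^ l = 1) :
    ∃ d, Nat.card E = l ^ d ∧ ∃ μ : Q →* Matrix (Fin d) (Fin d) (ZMod l), ∀ g, μ g = 1 → ∀ x, α g x = x :=
  @exists_matrix_rep_add Q (Additive E) _ _ _ (fun g => MonoidHom.toAdditive (α g).toMonoidHom) (fun x => by simp)
    (fun a b x => by simp) l _ (AddCommGroup.zmodModule fun x => hl (Additive.toMul x))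

theorem exists_matrix_rep {Q : Type*} [Group Q] [Finite Q] (E : Subgroup Q) [E.Normal] (l : ℕ) [Fact l.Prime]
    (hc : ∀ x ∈ E, ∀ y ∈ E, x * y = y * x) (hl : ∀ x ∈ E, x ^ l = 1) :
    ∃ d, Nat.card E = l ^ d ∧ ∃ μ : Q →* Matrix (Fin d) (Fin d) (ZMod l), ∀ g, μ g = 1 → ∀ x ∈ E, g * x = x * g := by
  letI : CommGroup E := { (inferInstance : Group E) with mul_comm := fun a b => Subtype.ext (hc a a.2 b b.2) }
  obtain ⟨d, h1, μ, h2⟩ := exists_matrix_rep_aux (E := E) (MulAut.conjNormal (H := E)) l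
    fun x => Subtype.ext (hl _ x.2)
  exact ⟨d, h1, μ, fun g hg x hx => mul_inv_eq_iff_eq_mul.1 (congrArg Subtype.val (h2 g hg ⟨x, hx⟩))⟩

theorem exists_rep_of_matrix {F H : Type*} [Field F] [Finite F] (p : ℕ) [Fact p.Prime] [CharP F p] [Group H] {d : ℕ}
    (μ : H →* Matrix (Fin d) (Fin d) F) :
    ∃ ρ : Representation (AlgebraicClosure (ZMod p)) H (Fin d → AlgebraicClosure (ZMod p)), ∀ h, ρ h = 1 → μ h = 1 := by
  letI := ZMod.algebra F p
  let φ : F →+* AlgebraicClosure (ZMod p) := (IsAlgClosed.lift : F →ₐ[ZMod p] _).toRingHom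
  refine ⟨Matrix.toLinAlgEquiv'.toMulEquiv.toMonoidHom.comp (φ.mapMatrix.toMonoidHom.comp μ), fun h hh => ?_⟩
  have h1 : φ.mapMatrix (μ h) = φ.mapMatrix 1 := Matrix.toLinAlgEquiv'.injective (by simpa using hh)
  exact Matrix.map_injective φ.injective h1

section Red
variable {H k V : Type*} [Group H] [Field k] [AddCommGroup V] [Module k V] [FiniteDimensional k V] [IsAlgClosed k]
  [Nontrivial V] {ρ : Representation k H V} (hf : ∀ h, ρ h = 1 → h = 1)
  (irr : ∀ W : Submodule k V, (∀ h, ∀ v ∈ W, ρ h v ∈ W) → W = ⊥ ∨ W = ⊤)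
include hf irr

theorem card_le_of_abelian {A : Type*} [Group A] {π : H →* A} (hπ : Function.Surjective π)
    (hN : ∀ N : Subgroup H, N.Normal → N = ⊤ ∨ N ≤ π.ker) {R : Subgroup H} (hn : R.Normal)
    (hc : ∀ x ∈ R, ∀ y ∈ R, x * y = y * x) (hR : ¬ R ≤ center H) : Nat.card A ≤ (finrank k V).factorial := by
  classical
  let Λ := {χ : R → k // ∃ v : V, v ≠ 0 ∧ ∀ x : R, ρ x v = χ x • v}
  haveI : Finite Λ := by
    choose v h0 hv using fun χ : Λ => χ.2
    exact (linearIndependent_of_weights (fun x : R => ρ x) v Subtype.val h0 Subtype.val_injective hv).finite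
  haveI := Fintype.ofFinite Λ
  have h1 : Fintype.card Λ ≤ finrank k V := by
    rw [← finrank_top]
    exact card_le_of_weights (fun x : R => ρ x) ⊤ Subtype.val Subtype.val_injective fun χ =>
      let ⟨v, h0, hv⟩ := χ.2; ⟨v, trivial, h0, hv⟩
  have key : ∀ (g : H) (χ : R → k) (v : V), (∀ x : R, ρ x v = χ x • v) →
      ∀ x : R, ρ x (ρ g v) = χ ⟨g⁻¹ * x * g, hn.conj_mem' x x.2 g⟩ • ρ g v := fun g χ v hv x => by
    rw [← map_smul, ← hv, ← End.mul_apply, ← End.mul_apply, ← map_mul, ← map_mul]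
    congr 2
    group
  letI : MulAction H Λ :=
    { smul := fun g χ => ⟨fun x => χ.1 ⟨g⁻¹ * x * g, hn.conj_mem' x x.2 g⟩,
        let ⟨v, h0, hv⟩ := χ.2; ⟨ρ g v, fun e => h0 (rep_injective ρ g (e.trans (map_zero _).symm)), key g _ v hv⟩⟩
      one_smul := fun χ => Subtype.ext (funext fun x => congrArg χ.1 (Subtype.ext (by simp)))
      mul_smul := fun a b χ => Subtype.ext (funext fun x => congrArg χ.1 (Subtype.ext (by simp [mul_assoc]))) }
  rcases hN (MulAction.toPermHom H Λ).ker inferInstance with h | h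
  · obtain ⟨v, -, h0, hv⟩ := exists_common_eigenvector (fun x : R => ρ x) (U := ⊤)
      (fun x y => (show Commute (x : H) y from hc x x.2 y y.2).map ρ) top_ne_bot fun _ _ _ => trivial
    choose χ hχ using hv
    have h2 : ∀ (g : H) (x : R), χ ⟨g⁻¹ * x * g, hn.conj_mem' x x.2 g⟩ = χ x := fun g x =>
      congrFun (congrArg Subtype.val (DFunLike.congr_fun
        (show MulAction.toPermHom H Λ g = 1 from h.ge (mem_top g)) (⟨χ, v, h0, hχ⟩ : Λ))) x
    rcases irr (⨅ x : R, End.eigenspace (ρ x) (χ x)) (fun g w hw => by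
      simp only [Submodule.mem_iInf, End.mem_eigenspace_iff] at hw ⊢
      intro x
      rw [key g χ w hw, h2]) with h3 | h3
    · exact absurd ((Submodule.eq_bot_iff _).1 h3 v (by simpa [Submodule.mem_iInf] using hχ)) h0
    · refine absurd (fun x hx => mem_center_iff.2 fun g => ?_) hR
      have h4 : ∀ w, ρ x w = χ ⟨x, hx⟩ • w := fun w => by
        have : w ∈ ⨅ x : R, End.eigenspace (ρ x) (χ x) := h3.ge trivial
        simp only [Submodule.mem_iInf, End.mem_eigenspace_iff] at this
        exact this ⟨x, hx⟩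
      rw [← mul_inv_eq_one]
      refine hf _ ?_
      rw [map_mul, show ρ (g * x) = ρ (x * g) by ext w; simp [h4], ← map_mul, mul_inv_cancel, map_one]
  · refine (card_le_of_ker_le hπ _ fun x hx => h hx).trans ?_
    rw [Nat.card_perm, Nat.card_eq_fintype_card]
    exact Nat.factorial_le h1

theorem card_le_sq [Finite H] {R : Subgroup H} (h1 : ⁅R, R⁆ ≤ center H)
    (h2 : ∀ y ∈ R, (∀ x ∈ R, x * y = y * x) → y ∈ center H) :
    Nat.card (R.map (QuotientGroup.mk' (center H))) ≤ finrank k V ^ 2 := by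
  have hs : ∀ z : H, ∃ c : k, z ∈ center H → ρ z = c • 1 := fun z => by
    obtain ⟨v, -, h0, c, hv⟩ := exists_eigenvector_mem (ρ z) (U := ⊤) top_ne_bot fun _ _ => trivial
    refine ⟨c, fun hz => ?_⟩
    rcases irr (End.eigenspace (ρ z) c) (fun g w hw => mem_eigen_of_commute (mem_center_iff.1 hz g) hw) with h | h
    · exact absurd ((Submodule.eq_bot_iff _).1 h v (End.mem_eigenspace_iff.2 hv)) h0
    · exact LinearMap.ext fun w => End.mem_eigenspace_iff.1 (h.ge trivial)
  choose c hc using hs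
  choose y hy e using fun j : R.map (QuotientGroup.mk' (center H)) => mem_map.1 j.2
  haveI := Fintype.ofFinite (R.map (QuotientGroup.mk' (center H)))
  rw [Nat.card_eq_fintype_card, sq, ← Module.finrank_linearMap k k V V, ← finrank_top]
  refine card_le_of_weights (fun x : R => LinearMap.mulLeft k (ρ x) * LinearMap.mulRight k (ρ (x : H)⁻¹)) ⊤
    (fun j x => c ⁅(x : H), y j⁆) (fun i j hij => ?_) fun j => ⟨ρ (y j), trivial, fun h => ?_, fun x => ?_⟩
  · refine Subtype.ext (((e i).symm.trans (QuotientGroup.eq.2 (h2 _ (mul_mem (inv_mem (hy i)) (hy j))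
      fun x hx => ?_))).trans (e j))
    have h3 : ⁅x⁻¹, y i⁆ = ⁅x⁻¹, y j⁆ := by
      rw [← mul_inv_eq_one]
      refine hf _ ?_
      rw [map_mul, hc _ (h1 (commutator_mem_commutator (inv_mem hx) (hy i))),
        show c ⁅x⁻¹, y i⁆ = c ⁅x⁻¹, y j⁆ from congrFun hij ⟨x⁻¹, inv_mem hx⟩,
        ← hc _ (h1 (commutator_mem_commutator (inv_mem hx) (hy j))), ← map_mul, mul_inv_cancel, map_one]
    calc x * ((y i)⁻¹ * y j) = (y i)⁻¹ * x * ⁅x⁻¹, y i⁆ * y j := by rw [commutatorElement_def]; group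
      _ = _ := by rw [h3, commutatorElement_def]; group
  · obtain ⟨v, hv⟩ := exists_ne (0 : V)
    exact hv (rep_injective ρ (y j) (by simp [h]))
  · rw [End.mul_apply, LinearMap.mulRight_apply, LinearMap.mulLeft_apply, ← smul_one_mul,
      ← hc _ (h1 (commutator_mem_commutator x.2 (hy j))), ← map_mul, ← map_mul, ← map_mul, commutatorElement_def]
    congr 1
    group

end Red

/-- the bound in dimension `n` -/
def Bound (n : ℕ) : Prop :=
  ∀ (p : ℕ) [Fact p.Prime] (k : Type) [Field k] [IsAlgClosed k] [CharP k p] (V : Type) [AddCommGroup V] [Module k V]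
    [FiniteDimensional k V] (H : Type u) [Group H] [Finite H] (ρ : Representation k H V) (r : ℕ)
    (π : H →* alternatingGroup (Fin r)), finrank k V = n → Function.Surjective π → (∀ h, ρ h = 1 → π h = 1) →
    9 ≤ r → n + 2 ≤ r → n + 2 = r ∧ p ∣ r

theorem Bound.matrix {d : ℕ} (hb : Bound.{u} d) {F : Type*} {H : Type u} [Field F] [Finite F] (p : ℕ) [Fact p.Prime]
    [CharP F p] [Group H] [Finite H] (μ : H →* Matrix (Fin d) (Fin d) F) {r : ℕ} {π : H →* alternatingGroup (Fin r)}
    (hπ : Function.Surjective π) (h : ∀ x, μ x = 1 → π x = 1) (hr : 9 ≤ r) (hd : d + 2 ≤ r) : d + 2 = r ∧ p ∣ r := by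
  obtain ⟨ρ, hρ⟩ := exists_rep_of_matrix p μ
  exact hb p _ _ H ρ r π (by simp) hπ (fun x hx => h x (hρ x hx)) hr hd

theorem factorial_lt_card_alt {r n : ℕ} (hr : 9 ≤ r) (hn : n + 2 ≤ r) :
    n.factorial < Nat.card (alternatingGroup (Fin r)) ∧ 16 ^ 4 < Nat.card (alternatingGroup (Fin r)) := by
  haveI : Nontrivial (Fin r) := Fin.nontrivial_iff_two_le.2 (by omega)
  have h := two_mul_nat_card_alternatingGroup (α := Fin r)
  rw [Nat.card_perm, Nat.card_eq_fintype_card (α := Fin r), Fintype.card_fin] at h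
  have h1 := Nat.factorial_le hr
  obtain ⟨m, rfl⟩ : ∃ m, r = m + 2 := ⟨r - 2, by omega⟩
  have h2 := Nat.factorial_le (show n ≤ m by omega)
  have h3 := Nat.factorial_pos m
  have h4 : Nat.factorial 9 = 362880 := rfl
  refine ⟨?_, by omega⟩
  rw [Nat.factorial_succ, Nat.factorial_succ, ← mul_assoc] at h
  have h5 : 3 * m.factorial ≤ (m + 1 + 1) * (m + 1) * m.factorial := Nat.mul_le_mul_right _ (by nlinarith)
  omega

theorem bound_step {n : ℕ} (ih : ∀ m < n, Bound.{u} m) : Bound.{u} n := by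
  intro p _ k _ _ _ V _ _ _ H _ _ ρ r π hV hπ hker hr hn
  induction hH : Nat.card H using Nat.strong_induction_on generalizing H with
  | _ c ihc =>
  subst hH
  haveI : IsSimpleGroup (alternatingGroup (Fin r)) := alternatingGroup.isSimpleGroup (by simpa using by omega)
  have hperf : commutator (alternatingGroup (Fin r)) = ⊤ := commutator_alternatingGroup_eq_top (by simpa using by omega)
  -- minimality
  by_cases hmin : ∃ L : Subgroup H, L.map π = ⊤ ∧ L ≠ ⊤
  · obtain ⟨L, hL, hne⟩ := hmin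
    refine ihc _ ?_ L (ρ.comp L.subtype) (π.comp L.subtype) (fun g => ?_) (fun h hh => hker h hh) rfl
    · exact lt_of_le_of_ne (card_le_card_group L) fun e => hne ((card_eq_iff_eq_top L).1 e)
    · obtain ⟨x, hx, e⟩ := hL.ge (mem_top g)
      exact ⟨⟨x, hx⟩, e⟩
  push Not at hmin
  have hN : ∀ N : Subgroup H, N.Normal → N = ⊤ ∨ N ≤ π.ker := fun N hN =>
    (hN.map π hπ).eq_bot_or_eq_top.symm.imp (hmin N) (map_eq_bot_iff N).1
  have hcomm : commutator H = ⊤ := hmin _ (by rw [map_commutator_eq, MonoidHom.range_eq_top.2 hπ]; exact hperf)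
  have hZ : ∀ x : H, (∀ a b : H, ⁅a, b⁆ * x = x * ⁅a, b⁆) → x ∈ center H := fun x hx => by
    have : commutator H ≤ centralizer {x} := commutator_le.2 fun a _ b _ => mem_centralizer_singleton_iff.2 (hx a b)
    exact mem_center_iff.2 fun g => mem_centralizer_singleton_iff.1 (this (hcomm ▸ mem_top g))
  have hne : ¬ ∀ a b : H, ρ ⁅a, b⁆ = 1 := fun h => by
    have : commutator H ≤ π.ker := commutator_le.2 fun a _ b _ => hker _ (h a b)
    rw [hcomm, top_le_iff, MonoidHom.ker_eq_top_iff] at this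
    obtain ⟨g, hg⟩ := exists_ne (1 : alternatingGroup (Fin r))
    obtain ⟨x, rfl⟩ := hπ g
    exact hg (by simp [this])
  -- faithfulness
  by_cases hf : ∃ h, ρ h = 1 ∧ h ≠ 1
  · obtain ⟨h, h1, h2⟩ := hf
    refine ihc _ ?_ (H ⧸ MonoidHom.ker ρ) (QuotientGroup.lift _ ρ le_rfl) (QuotientGroup.lift _ π fun x hx => hker x hx)
      (fun g => ?_) (fun x => ?_) rfl
    · have h3 : 1 < Nat.card (MonoidHom.ker ρ) := (one_lt_card_iff_ne_bot _).2 fun e =>
        h2 ((Subgroup.eq_bot_iff_forall _).1 e h h1)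
      rw [card_eq_card_quotient_mul_card_subgroup (MonoidHom.ker ρ)]
      exact lt_mul_of_one_lt_right Nat.card_pos h3
    · obtain ⟨x, rfl⟩ := hπ g
      exact ⟨x, rfl⟩
    · obtain ⟨x, rfl⟩ := QuotientGroup.mk_surjective x
      exact hker x
  push Not at hf
  -- irreducibility
  have irr : ∀ W : Submodule k V, (∀ h, ∀ v ∈ W, ρ h v ∈ W) → W = ⊥ ∨ W = ⊤ := fun W hW => by
    by_contra hc
    push Not at hc
    have d1 := Submodule.finrank_lt hc.2
    have d2 := Submodule.one_le_finrank_iff.2 hc.1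
    have d3 := W.finrank_quotient_add_finrank
    rcases hN (MonoidHom.ker (ρ.subrepresentation W hW)) inferInstance with e1 | e1
    · rcases hN (MonoidHom.ker (ρ.quotient W hW)) inferInstance with e2 | e2
      · have f1 : ∀ h, ∀ v ∈ W, ρ h v = v := fun h v hv =>
          congrArg Subtype.val (LinearMap.congr_fun (show ρ.subrepresentation W hW h = 1 from e1.ge (mem_top h)) ⟨v, hv⟩)
        have f2 : ∀ h v, ρ h v - v ∈ W := fun h v => (Submodule.Quotient.eq W).1
          (LinearMap.congr_fun (show ρ.quotient W hW h = 1 from e2.ge (mem_top h)) (Submodule.Quotient.mk v))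
        refine hne fun a b => ?_
        have : ρ (a * b) = ρ (b * a) := LinearMap.ext fun v => by
          have g1 := f1 a _ (f2 b v)
          have g2 := f1 b _ (f2 a v)
          rw [map_sub] at g1 g2
          rw [map_mul, map_mul, End.mul_apply, End.mul_apply]
          linear_combination (norm := module) g1 - g2
        rw [show ⁅a, b⁆ = a * b * (b * a)⁻¹ by rw [commutatorElement_def]; group, map_mul, this, ← map_mul,
          mul_inv_cancel, map_one]
      · have := ih _ (by omega) p k _ H (ρ.quotient W hW) r π rfl hπ (fun h hh => e2 hh) hr (by omega)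
        omega
    · have := ih _ (by omega) p k _ H (ρ.subrepresentation W hW) r π rfl hπ (fun h hh => e1 hh) hr (by omega)
      omega
  haveI : Nontrivial V := not_subsingleton_iff_nontrivial.1 fun _ => hne fun _ _ => Subsingleton.elim _ _
  by_cases hK : π.ker ≤ center H
  · have h2 := card_ker_dvd_two (σ := π) ⟨hπ, hK, hcomm ▸ le_top⟩ (Or.inr (by simpa using by omega))
    have h1 : ∀ z, ((alternatingGroup (Fin r)).subtype.comp π) z = 1 → z ∈ π.ker := fun z hz => Subtype.ext hz
    have hτ : Cov ((alternatingGroup (Fin r)).subtype.comp π) :=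
      ⟨fun h => (π h).2, fun g hg => let ⟨h, e⟩ := hπ ⟨g, hg⟩; ⟨h, congrArg Subtype.val e⟩,
        fun z hz => mem_center_iff.1 (hK (h1 z hz)),
        fun z hz => orderOf_dvd_iff_pow_eq_one.1 ((orderOf_dvd_natCard _ (h1 z hz)).trans h2),
        fun L hL => hmin L (eq_top_iff.2 fun g _ => let ⟨x, hx, e⟩ := hL g.2; ⟨x, hx, Subtype.ext e⟩)⟩
    have := hτ.bound (ρ := ρ) (fun h hh => congrArg Subtype.val (hker h hh)) (fun L U σ m π' a b c d => by
      by_contra e
      have := ih _ (hV ▸ a) p k U L σ m π' rfl b c d (by omega)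
      omega) p irr (by simpa using hr) (by simpa [hV] using hn)
    simpa [hV] using this
  exfalso
  haveI : Group.IsSolvable π.ker := by
    haveI : Group.IsNilpotent (frattini H) := frattini_nilpotent
    refine Group.isSolvable_of_isSolvable_injective (inclusion_injective (H := π.ker) (K := frattini H) ?_)
    refine le_iInf₂ fun M hM => ?_
    by_contra hle
    refine hM.1 (hmin M ?_)
    rw [← map_comap_eq_self_of_surjective hπ (M.map π), comap_map_eq, hM.2 _ (left_lt_sup.2 hle),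
      map_top_of_surjective π hπ]
  obtain ⟨R, hRn, hR, hRmin, hRR, l, hl, hRl⟩ := exists_min_noncentral π.ker hK
  have hA := factorial_lt_card_alt hr hn
  by_cases hc : ∀ x ∈ R, ∀ y ∈ R, x * y = y * x
  · have := card_le_of_abelian hf irr hπ hN hRn hc hR
    rw [hV] at this
    omega
  have h2 := card_le_sq hf irr hRR fun y hy h => hRmin (R ⊓ centralizer R) inferInstance
    (lt_of_le_of_ne inf_le_left fun e => hc fun a ha b hb => (e.ge hb).2 a ha) ⟨hy, h⟩
  haveI := Fact.mk hl
  let φ := QuotientGroup.mk' (center H)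
  have hφ : ∀ y, φ y = 1 ↔ y ∈ center H := fun y => QuotientGroup.eq_one_iff y
  haveI := hRn.map φ (QuotientGroup.mk'_surjective _)
  obtain ⟨d, hd, μ, hμ⟩ := exists_matrix_rep (R.map φ) l (by
      rintro _ ⟨a, ha, rfl⟩ _ ⟨b, hb, rfl⟩
      rw [← commutatorElement_eq_one_iff_mul_comm, ← map_commutatorElement, hφ]
      exact hRR (commutator_mem_commutator ha hb))
    (by rintro _ ⟨a, ha, rfl⟩; rw [← map_pow, hφ]; exact hRl a ha)
  have h3 : ∀ x, (μ.comp φ) x = 1 → π x = 1 := by
    rcases hN (μ.toHomUnits.comp φ).ker inferInstance with e | e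
    · refine absurd (fun x hx => hZ x fun a b => ?_) hR
      have h4 : ∀ g, ⁅g, x⁆ ∈ center H := fun g => by
        rw [← hφ, map_commutatorElement, commutatorElement_eq_one_iff_mul_comm]
        exact hμ _ (congrArg Units.val (show μ.toHomUnits (φ g) = 1 from e.ge (mem_top g))) _ (mem_map_of_mem φ hx)
      have h5 : ∀ a b : H, ⁅a * b, x⁆ = ⁅a, x⁆ * ⁅b, x⁆ := fun a b => by
        rw [show ⁅a * b, x⁆ = a * ⁅b, x⁆ * a⁻¹ * ⁅a, x⁆ by simp only [commutatorElement_def]; group,
          mem_center_iff.1 (h4 b) a, mul_inv_cancel_right, mem_center_iff.1 (h4 b)]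
      have h6 : ⁅a * b, x⁆ = ⁅b * a, x⁆ := by rw [h5, h5, mem_center_iff.1 (h4 b)]
      have h7 := h5 ⁅a, b⁆ (b * a)
      rw [show ⁅a, b⁆ * (b * a) = a * b by rw [commutatorElement_def]; group, h6, right_eq_mul] at h7
      exact commutatorElement_eq_one_iff_mul_comm.1 h7
    · exact fun x hx => e (Units.ext hx)
  rw [hd, hV] at h2
  rcases lt_or_ge d n with h | h
  · have := (ih d h).matrix l (μ.comp φ) hπ h3 hr (by omega)
    omega
  · have h4 := card_le_of_ker_le hπ _ h3
    have h5 : 2 ^ d ≤ l ^ d := Nat.pow_le_pow_left hl.two_le d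
    have h6 : ∀ m, 5 ≤ m → m ^ 2 < 2 ^ m := fun m hm => by
      induction m, hm using Nat.le_induction with
      | base => decide
      | succ m hm ih => rw [pow_succ 2]; nlinarith
    have h7 : d ≤ 4 := by
      by_contra h8
      have := h6 d (by omega)
      have := Nat.pow_le_pow_left h 2
      omega
    have h8 : l ^ d ≤ 16 := h2.trans (Nat.pow_le_pow_left (h.trans h7) 2)
    rw [Matrix, Nat.card_fun, Nat.card_fun, Nat.card_zmod, Nat.card_eq_fintype_card (α := Fin d),
      Fintype.card_fin] at h4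
    have h9 : (l ^ d) ^ d ≤ 16 ^ 4 := (Nat.pow_le_pow_left h8 d).trans (Nat.pow_le_pow_right (by decide) h7)
    omega

theorem bound (n : ℕ) : Bound.{u} n := Nat.strong_induction_on n fun _ => bound_step

/-- Alternating sections of linear groups over finite fields -/
theorem alt_section_bound {F : Type*} {H : Type u} [Field F] [Finite F] (p : ℕ) [Fact p.Prime] [CharP F p] [Group H]
    [Finite H] {n r : ℕ} (μ : H →* Matrix (Fin n) (Fin n) F) {π : H →* alternatingGroup (Fin r)}
    (hπ : Function.Surjective π) (h : ∀ x, μ x = 1 → π x = 1) (hr : 9 ≤ r) :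
    r - 1 - (if p ∣ r then 1 else 0) ≤ n := by
  by_cases hn : n + 2 ≤ r
  · obtain ⟨h1, h2⟩ := (bound n).matrix p μ hπ h hr hn
    rw [if_pos h2]
    omega
  · omega

end CL.AltGL
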