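/-
The Schur multiplier of `²F₄(q)`: root data.
-/
import Cfsg.Agent.Known.TwSD4b
import Cfsg.Agent.Known.StbTwo
import Cfsg.Agent.Known.StbPres
import Cfsg.Agent.Chev.TwF4

set_option autoImplicit false

namespace CL.TwS

open scoped commutatorElement

variable {G E : Type*} [Group G] [Group E] {π : E →* G} (hc : π.ker ≤ Subgroup.center E) {N : Subgroup E}
  {H X V : Subgroup G}
include hc

theorem ok_two_mod (hN : KAt π N V) (hV : V ≤ X) (hX : X ≤ π.range) (hH : H ≤ π.range) (lc : OK π ⊥ X V) (nH : Nrm π H N)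
    (h0 : ∀ x ∈ X, ∀ y ∈ X, ⁅x, y⁆ ∈ V) (hHX : ∀ g ∈ H, ∀ x ∈ X, g * x * g⁻¹ ∈ X) {h h' k k' : G} (hh : h ∈ H)
    (hh' : h' ∈ H) (hk : k ∈ H) (hk' : k' ∈ H) (h1 : ∀ x ∈ X, h' * x * h'⁻¹ * (h * x * h⁻¹) * x⁻¹ ∈ V)
    (h2 : ∀ x ∈ X, h * x * h⁻¹ * (h⁻¹ * x * h) * (k * x * k⁻¹)⁻¹ ∈ V)
    (h3 : ∀ x ∈ X, k' * x * k'⁻¹ * (k * x * k⁻¹) * x⁻¹ ∈ V) : OK π N X X := by
  have nX := nrm_of_ok (lc.mono bot_le le_rfl le_rfl) hN
  obtain ⟨β, hβ, e⟩ := exists_bi hc hN hX hX hH nX nX nH h0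
  have b1 : ∀ x ∈ X, ∀ y, ∀ z ∈ X, y * z⁻¹ ∈ V → β x y = β x z ∧ β y x = β z x := fun x hx y z hz hv => by
    obtain ⟨a, rfl⟩ := hX hx
    obtain ⟨b, hb⟩ := hX (hV hv)
    have e1 := (e a b hx (hb ▸ hV hv)).1 (bot_le (a := N) (lc a b hx (hb ▸ hv)))
    have e2 := (e b a (hb ▸ hV hv) hx).1 (bot_le (a := N) (lc.symm b a (hb ▸ hv) hx))
    rw [← inv_mul_cancel_right y z, hβ.mul_right _ hx _ (hV hv) _ hz, hβ.mul_left _ (hV hv) _ hz _ hx, ← hb,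
      e1, e2, one_mul, one_mul]
    exact ⟨rfl, rfl⟩
  refine fun a b ha hb => (e a b ha hb).2 ?_
  have hy : k'⁻¹ * π b * k'⁻¹⁻¹ ∈ X := hHX _ (inv_mem hk') _ hb
  have e1 := hβ.two hc hh hh' hHX hHX
    (fun x hx y hy => by rw [← hβ.mul_left _ (hHX _ hh' _ hx) _ (hHX _ hh _ hx) _ hy, (b1 y hy _ x hx (h1 x hx)).2])
    (fun x hx y hy => by rw [← hβ.mul_right _ hx _ (hHX _ hh' _ hy) _ (hHX _ hh _ hy), (b1 x hx _ y hy (h1 y hy)).1]) ha hy
  have e2 := (b1 _ ha _ _ hy (h3 _ hy)).1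
  rw [hβ.mul_right _ ha _ (hHX _ hk' _ hy) _ (hHX _ hk _ hy), ← (b1 _ ha _ _ (hHX _ hk _ hy) (h2 _ hy)).1, e1] at e2
  simpa [mul_assoc] using e2

theorem commute_commutator' {g a b : E} (ha : Commute (π g) (π a)) (hb : Commute a ⁅b⁻¹, g⁆) : Commute g ⁅a, b⁆ := by
  have := CL.Schur.commElt_eq_of_map_eq hc (x := g * a * g⁻¹) (x' := a) (y := g * b * g⁻¹) (y' := b * ⁅b⁻¹, g⁆)
    (by simp [ha.eq]) (by simp [commutatorElement_def, mul_assoc])
  generalize ⁅b⁻¹, g⁆ = w at this hb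
  refine mul_inv_eq_iff_eq_mul.1 ?_
  calc g * ⁅a, b⁆ * g⁻¹ = ⁅g * a * g⁻¹, g * b * g⁻¹⁆ := by simp only [commutatorElement_def]; group
    _ = a * b * (w * a⁻¹) * w⁻¹ * b⁻¹ := by rw [this, commutatorElement_def]; group
    _ = ⁅a, b⁆ := by rw [← hb.inv_left.eq, commutatorElement_def]; group

end CL.TwS

namespace CL.Chev

open Cfsg CL.TwS CL.Cox RS
open scoped commutatorElement

section
variable {ι Φ : Type} [Fintype ι] [DecidableEq ι] {R : RS ι Φ} {F : Type*} [Field F] {G : Type*} [Group G]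
  {S : StSys R F G} {B B' I : Set Φ}

theorem StSys.commute_XS_of (h : ∀ r ∈ B, ∀ s ∈ B', ∀ t u, Commute (S.x r t) (S.x s u)) {x y : G} (hx : x ∈ S.XS B)
    (hy : y ∈ S.XS B') : Commute x y :=
  Subgroup.mem_centralizer_singleton_iff.1 (S.XS_le_iff.2 (fun r hr t => Subgroup.mem_centralizer_singleton_iff.2
    (Subgroup.mem_centralizer_singleton_iff.1 (S.XS_le_iff.2 (fun s hs u => Subgroup.mem_centralizer_singleton_iff.2
      (h r hr s hs t u).symm.eq) hy)).symm) hx)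

theorem StSys.prodL_congr_mod (h1 : ∀ r ∈ B, R.Pos r) (h2 : I ⊆ B) (h : ∀ r ∈ B, ∀ s ∈ B, ∀ k, R.Comb k r s → k ∈ I)
    {l : List Φ} (hl : ∀ r ∈ l, r ∈ B) {t u v : Φ → F} (e : ∀ r ∈ B, r ∈ I ∨ t r + u r = v r) :
    S.prodL l t * S.prodL l u * (S.prodL l v)⁻¹ ∈ S.XS I := by
  have hI : R.Ideal B I := fun k r s hr hs => h r hr s (h2 hs) k
  induction l with
  | nil => simp
  | cons a l ih =>
    rw [List.forall_mem_cons] at hl
    have a1 : S.x a (t a) * S.x a (u a) * (S.x a (v a))⁻¹ ∈ S.XS I := (e a hl.1).elim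
      (fun h => mul_mem (mul_mem (S.x_mem_XS h _) (S.x_mem_XS h _)) (inv_mem (S.x_mem_XS h _)))
      fun h => by rw [← S.x_add, h, mul_inv_cancel]; exact one_mem _
    have a2 := (StSys.comm_mem_XK (K := ⊤) h1 h1 (fun r hr => h1 r (h2 hr)) hI hI h
      ⟨(S.XS B).inv_mem (S.x_mem_XS hl.1 (u a)), trivial⟩ ⟨S.prodL_mem_XS hl.2 t, trivial⟩).1
    convert mul_mem a1 (conj_mem_of_normalizer (S.XS_le_normalizer_of_pos hI h1 (fun r hr => h1 r (h2 hr))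
      (S.x_mem_XS hl.1 (v a))) (mul_mem a2 (ih hl.2))) using 1
    simp only [StSys.prodL_cons, commutatorElement_def]; group

theorem RS.comb_ord {J : Type*} [LinearOrder J] {cls : Φ → J} {b : (ι → ℤ) →ₗ[ℤ] (ι → ℤ) →ₗ[ℤ] ℤ} (hb : ∀ v, b v v = 0)
    (hc : ∀ r s, R.Pos r → R.Pos s → (cls r < cls s ↔ 0 < b (R.root r) (R.root s))) {k r s : Φ} (hr : R.Pos r)
    (hs : R.Pos s) (hk : R.Comb k r s) : (cls r < cls k ↔ cls r < cls s) ∧ (cls k < cls r ↔ cls s < cls r) := by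
  have hk' := hk.pos hr hs
  obtain ⟨i, j, -, hj, e⟩ := hk
  simp only [hc, hr, hs, hk', e, hb, map_add, map_smul, LinearMap.add_apply, LinearMap.smul_apply, smul_eq_mul, mul_zero,
    zero_add, mul_pos_iff_of_pos_left hj, and_self]

end

/-- The positive roots of `F₄`. -/
def posF4 : List (Fin 4 → ℤ) := [![1, 0, 0, 0], ![0, 1, 0, 0], ![0, 0, 1, 0], ![0, 0, 0, 1], ![1, 1, 0, 0], ![0, 1, 1, 0],
  ![0, 0, 1, 1], ![1, 1, 1, 0], ![0, 2, 1, 0], ![0, 1, 1, 1], ![1, 2, 1, 0], ![1, 1, 1, 1], ![0, 2, 1, 1], ![2, 2, 1, 0],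
  ![1, 2, 1, 1], ![0, 2, 2, 1], ![2, 2, 1, 1], ![1, 2, 2, 1], ![2, 2, 2, 1], ![1, 3, 2, 1], ![2, 3, 2, 1], ![2, 4, 2, 1],
  ![2, 4, 3, 1], ![2, 4, 3, 2]]
/-- The classes of the positive roots, in the order of `posF4`. -/
def clsF4 (v : Fin 4 → ℤ) : Fin 8 :=
  [0, 7, 7, 0, 1, 7, 1, 5, 7, 3, 6, 1, 5, 3, 2, 6, 1, 4, 2, 5, 3, 4, 5, 3].getD (posF4.idxOf v) 0
/-- The alternating form that orders the classes. -/
def altF4 : Matrix (Fin 4) (Fin 4) ℤ := !![0, 1, 1, 0; -1, 0, 0, -1; -1, 0, 0, -2; 0, 1, 2, 0]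
/-- The invariant form. -/
def sF4 : Matrix (Fin 4) (Fin 4) ℤ := !![2, -1, 0, 0; -1, 2, -2, 0; 0, -2, 4, -2; 0, 0, -2, 4]
/-- The permutation of the roots. -/
def rhoF4 (v : Fin 4 → ℤ) : Fin 4 → ℤ :=
  if v 0 % 2 = 0 ∧ v 1 % 2 = 0 then ![v 3, v 2, v 1 / 2, v 0 / 2] else ![2 * v 3, 2 * v 2, v 1, v 0]
/-- Exponents of a torus element. -/
def lamF4 (x : Fin 4 → ℤ) : Fin 4 → Fin 2 → ℤ := ![![x 0, x 1], ![x 2, x 3], ![2 * x 3, x 2], ![2 * x 1, x 0]]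
/-- The torus elements that centralize the classes. -/
def xF4 : Fin 8 → Fin 4 → ℤ := ![![-1, 0, -2, 0], ![-1, 0, -1, -1], ![-1, 1, 0, 1], ![0, 0, -1, 0], ![-1, 0, 0, 0],
  ![-1, 0, -1, 0], ![-1, 0, 0, -1], ![0, -1, -1, -1]]

theorem tab_xF4 : ∀ v ∈ posF4, ∀ i, if clsF4 v = i then expV cF4 (lamF4 (xF4 i)) v = 0 else
    expV cF4 (lamF4 (xF4 i)) v 0 ^ 2 - 2 * expV cF4 (lamF4 (xF4 i)) v 1 ^ 2 ∣ 2 ^ 3 := by decide +kernel

theorem tab_altF4 : ∀ v ∈ posF4, ∀ w ∈ posF4, clsF4 v < clsF4 w ↔ 0 < bil altF4 v w := by decide +kernel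

variable {Φ : Type} {R : RS (Fin 4) Φ} {F : Type*} [Field F] {G : Type*} [Group G]

variable (R) in
/-- The classes of positive roots. -/
def clF4 (i : Fin 8) : Set Φ := {r | R.Pos r ∧ clsF4 (R.root r) = i}

/-- The power with exponent `e₀ + e₁ √2`. -/
def evF4 (θ : F ≃+* F) (e : Fin 2 → ℤ) : Fˣ →* Fˣ :=
  MonoidHom.mk' (fun g => evz ![g, Units.map (θ : F →* F) g ^ 2] e) fun a b => by
    simp [evz, mul_pow, mul_zpow, mul_mul_mul_comm]

section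
variable (hC : R.cartanM = cF4)
include hC

theorem root_mem_F4 {r : Φ} (hr : R.Pos r) : R.root r ∈ posF4 :=
  root_mem_of_pos hC (by decide +kernel) (by decide +kernel) (by decide +kernel) hr

theorem noG2_F4 : R.NoG2 := noG2_of_simple fun i s => by
  have e : ∀ s, R.pair (R.simple i) s = ∑ j, cF4 i j * R.root s j := fun s => by rw [R.pair_simple_left, ← hC]; rfl
  have := (by decide +kernel : ∀ i, ∀ v ∈ posF4, -2 ≤ ∑ j, cF4 i j * v j ∧ ∑ j, cF4 i j * v j ≤ 2) i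
  rcases R.pos_or_pos_neg s with h | h
  · exact e s ▸ (this _ (root_mem_F4 hC h)).2
  · have := (e _ ▸ this _ (root_mem_F4 hC h)).1
    rw [R.pair_neg_right] at this; omega

theorem len_pair_F4 (r s : Φ) : R.len r * R.pair r s = R.d 0 * bil sF4 (R.root r) (R.root s) := by
  have ca : ∀ i j, R.cartan i j = cF4 i j := congrFun₂ hC
  have h1 := R.d_symm 0 1
  have h2 := R.d_symm 1 2
  have h3 := R.d_symm 2 3
  rw [RS.pair, pairv, Finset.mul_sum]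
  simp only [bil, ← mul_assoc, R.len_coroot, ca, Fin.sum_univ_four] at *
  simp [cF4, sF4] at *
  rw [← h3, ← h2, ← h1]; ring

theorem pair_nonneg_F4 {r s : Φ} (h : 0 ≤ bil sF4 (R.root r) (R.root s)) : 0 ≤ R.pair r s :=
  (mul_nonneg_iff_of_pos_left (R.len_pos r)).1 (len_pair_F4 hC r s ▸ mul_nonneg (R.d_pos 0).le h)

theorem pair_eq_F4 {r s : Φ} {n : ℤ} (h : n * bil sF4 (R.root r) (R.root r) = 2 * bil sF4 (R.root r) (R.root s)) :
    R.pair r s = n := by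
  have h1 := len_pair_F4 hC r s
  have h2 := len_pair_F4 hC r r
  rw [R.pair_self] at h2
  exact mul_left_cancel₀ (a := 2 * R.len r) (by have := R.len_pos r; omega) (by linear_combination 2 * h1 - n * h2 - R.d 0 * h)

theorem cls_lt_F4 (r s : Φ) (hr : R.Pos r) (hs : R.Pos s) : clsF4 (R.root r) < clsF4 (R.root s) ↔
    0 < Matrix.toLinearMap₂' ℤ altF4 (R.root r) (R.root s) := by
  rw [tab_altF4 _ (root_mem_F4 hC hr) _ (root_mem_F4 hC hs), Matrix.toLinearMap₂'_apply']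
  rfl

omit hC in
theorem alt_self_F4 (v : Fin 4 → ℤ) : Matrix.toLinearMap₂' ℤ altF4 v v = 0 := by
  simp [Matrix.toLinearMap₂'_apply', altF4, Matrix.mulVec, dotProduct, Fin.sum_univ_four]; ring

theorem comb_F4 {i j : Fin 8} {k r s : Φ} (hr : r ∈ clF4 R i) (hs : s ∈ clF4 R j) (hk : R.Comb k r s) :
    R.Pos k ∧ (i < clsF4 (R.root k) ↔ i < j) ∧ (clsF4 (R.root k) < i ↔ j < i) ∧ (j < clsF4 (R.root k) ↔ j < i) ∧
      (clsF4 (R.root k) < j ↔ i < j) := by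
  have a := comb_ord (cls := fun r => clsF4 (R.root r)) alt_self_F4 (cls_lt_F4 hC) hr.1 hs.1 hk
  have b := comb_ord (cls := fun r => clsF4 (R.root r)) alt_self_F4 (cls_lt_F4 hC) hs.1 hr.1 hk.symm
  rw [hr.2, hs.2] at a b
  exact ⟨hk.pos hr.1 hs.1, a.1, a.2, b⟩

theorem closed_clF4 (i : Fin 8) : R.Closed (clF4 R i) := fun k r s hr hs hk => by
  have := comb_F4 hC hr hs hk
  exact ⟨this.1, by grind⟩

theorem IsSym.root_F4 {ρ : Equiv.Perm Φ} (h : R.IsSym ρ piF4) {r : Φ} (hr : R.Pos r) : R.root (ρ r) = rhoF4 (R.root r) := by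
  have key : ∀ r, ∃ n ∈ ([1, 2] : List ℤ), n • R.root (ρ r) = ![2 * R.root r 3, 2 * R.root r 2, R.root r 1, R.root r 0] :=
    fun r => by
    induction r using R.root_induction with
    | h1 i => rw [h.simple, R.root_simple, R.root_simple]; revert i; decide +kernel
    | h2 i r ih =>
      obtain ⟨n, hn, e⟩ := ih
      refine ⟨n, hn, ?_⟩
      have ca : ∀ i j, R.cartan i j = cF4 i j := congrFun₂ hC
      rw [h.sref, R.root_sref', R.root_sref']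
      simp only [List.mem_cons, List.not_mem_nil, or_false] at hn
      rcases hn with rfl | rfl <;> fin_cases i <;>
        simp [funext_iff, Fin.forall_fin_succ, Fin.sum_univ_four, ca, cF4, piF4] at e ⊢ <;> omega
  obtain ⟨n, hn, e⟩ := key r
  exact (by decide +kernel : ∀ v ∈ posF4, ∀ w ∈ posF4, ∀ n ∈ ([1, 2] : List ℤ), n • w = ![2 * v 3, 2 * v 2, v 1, v 0] →
    w = rhoF4 v) _ (root_mem_F4 hC hr) _ (root_mem_F4 hC ((h.pos r).2 hr)) n hn e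

theorem preimage_clF4 [Finite Φ] {k : Fin 2} {i j : Fin 8} (h : ∀ v ∈ posF4, ∀ p ∈ [(i, j), (j, i)], clsF4 v = p.1 →
    (∀ l, 0 ≤ actV cF4 (wF4 k) v l) ∧ clsF4 (actV cF4 (wF4 k) v) = p.2) : R.w0J (jF4 k) ⁻¹' clF4 R j = clF4 R i := by
  have e : ∀ r, R.root (R.w0J (jF4 k) r) = actV cF4 (wF4 k) (R.root r) := fun r => by
    rw [RS.w0J_eq_wprod hC _ (fun i hi => (mem_jF4 k i).2 hi) (by simp only [mem_jF4]; clear h; revert k; decide +kernel),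
      root_wprod hC]
  refine Set.ext fun r => ⟨fun hr => ?_, fun hr => ?_⟩
  · have := h _ (root_mem_F4 hC hr.1) (j, i) (by simp) hr.2
    rwa [← e, R.w0J_w0J] at this
  · have := h _ (root_mem_F4 hC hr.1) (i, j) (by simp) hr.2
    rwa [← e] at this

end

namespace StSys.GAut.IsF4

variable {S : StSys R F G} {A : S.GAut} {θ : F ≃+* F} {c d : Φ} (h : A.IsF4 θ c d)
include h

theorem τ_ev (g : Fˣ) (x : Fin 4 → ℤ) : A.τ (fun i => evF4 θ (lamF4 x i) g) = fun i => evF4 θ (lamF4 x i) g := by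
  rw [h.τ_eq_iff]
  simp [evF4, evz, lamF4, h.sq, mul_comm, zpow_mul, zpow_ofNat]

theorem chi_ev (g : Fˣ) (x : Fin 4 → ℤ) (r : Φ) :
    R.chi Fˣ r (fun i => evF4 θ (lamF4 x i) g) = evF4 θ (expV cF4 (lamF4 x) (R.root r)) g :=
  chi_evz h.cartan ![g, Units.map (θ : F →* F) g ^ 2] (lamF4 x) r

theorem ev_injective {e : Fin 2 → ℤ} (he : e 0 ^ 2 - 2 * e 1 ^ 2 ∣ 2 ^ 3) : Function.Injective (evF4 θ e) := by
  refine (injective_iff_map_eq_one _).2 fun g hg => ?_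
  let σ : Fˣ →* Fˣ := (powMonoidHom 2).comp (Units.map (θ : F →* F))
  have h1 : g ^ e 0 * σ g ^ e 1 = 1 := by simpa [evF4, evz, σ] using hg
  have h2 := congrArg σ h1
  rw [map_mul, map_zpow, map_zpow, map_one, show σ (σ g) = g ^ (2 : ℤ) from Units.ext (by simp [σ, h.sq, zpow_ofNat])] at h2
  obtain ⟨k, hk⟩ := he
  have h3 : g ^ (2 ^ 3 : ℤ) = 1 := by
    replace h1 := congrArg Additive.ofMul h1
    replace h2 := congrArg Additive.ofMul h2
    apply Additive.ofMul.injective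
    simp only [ofMul_mul, ofMul_zpow, ofMul_one, hk] at h1 h2 ⊢
    linear_combination (norm := module) (k * e 0) • h1 - (k * e 1) • h2
  have h4 : ∀ t : F, t ^ 2 = 1 → t = 1 := fun t e => pow_eq_zero_iff two_ne_zero |>.1
    (by linear_combination e + (1 - t) * h.suzP.two : (t - 1) ^ 2 = 0) |> sub_eq_zero.1
  refine Units.ext (h4 _ (h4 _ (h4 _ ?_)))
  simpa [← pow_mul, zpow_ofNat] using congrArg Units.val h3

theorem exists_chi [Finite F] {i : Fin 8} {r : Φ} (hr : R.Pos r) (hi : clsF4 (R.root r) ≠ i) (v : Fˣ) :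
    ∃ c, A.τ c = c ∧ R.chi Fˣ r c = v := by
  have := tab_xF4 _ (root_mem_F4 h.cartan hr) i
  rw [if_neg hi] at this
  obtain ⟨g, hg⟩ := Finite.surjective_of_injective (h.ev_injective this) v
  exact ⟨_, h.τ_ev g _, (h.chi_ev g _ r).trans hg⟩

theorem exists_sep [Finite F] (hF : 2 < Nat.card F) (i : Fin 8) : ∃ c, A.τ c = c ∧ (∀ r ∈ clF4 R i, R.chi Fˣ r c = 1) ∧
    ∀ j ≠ i, ∀ r ∈ clF4 R j, R.chi Fˣ r c ≠ 1 := by
  obtain ⟨g, hg⟩ := exists_pow_ne_one (F := F) (n := 1) one_pos (by omega)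
  refine ⟨_, h.τ_ev g (xF4 i), fun r hr => ?_, fun j hj r hr => ?_⟩ <;>
    have := tab_xF4 _ (root_mem_F4 h.cartan hr.1) i <;> rw [h.chi_ev]
  · rw [if_pos hr.2] at this
    simp [this, evF4, evz]
  · rw [if_neg (hr.2 ▸ hj)] at this
    simpa [map_eq_one_iff _ (h.ev_injective this)] using hg

theorem commute_x [Finite Φ] {r s : Φ} (e : 0 ≤ bil sF4 (R.root r) (R.root s)) (t u : F) : Commute (S.x r t) (S.x s u) :=
  commute_of_nonneg h.faithful.uFaithful (noG2_F4 h.cartan) h.suzP.two (pair_nonneg_F4 h.cartan e) t u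

theorem comm_x [Finite Φ] {r s k : Φ} (e : -1 * bil sF4 (R.root r) (R.root r) = 2 * bil sF4 (R.root r) (R.root s))
    (e' : -1 * bil sF4 (R.root s) (R.root s) = 2 * bil sF4 (R.root s) (R.root r)) (hk : R.root k = R.root r + R.root s)
    (t : F) : ⁅S.x r t, S.x s 1⁆ = S.x k t := by
  rw [h.faithful.uFaithful.comm_A2 (noG2_F4 h.cartan) (pair_eq_F4 h.cartan e) (pair_eq_F4 h.cartan e'),
    R.root_inj (hk.trans (R.root_refl_of_neg_one (pair_eq_F4 h.cartan e)).symm)]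
  congr 1
  rcases S.η_sign r s with e | e <;> rw [e] <;> push_cast <;> [ring; linear_combination -t * h.suzP.two]

variable [Finite Φ] {K : Subgroup G} (C : A.Ctx K)

theorem root_ρ {r : Φ} (hr : R.Pos r) : R.root (C.ρ r) = rhoF4 (R.root r) :=
  IsSym.root_F4 h.cartan (h.π_eq ▸ A.isSym C.faithful) hr

theorem mem_orb_iff {r s : Φ} (hr : R.Pos r) : s ∈ C.orb r ↔ R.root s ∈ [R.root r, rhoF4 (R.root r)] := by
  refine ⟨fun hs => (C.orb_induction (p := fun s => R.Pos s ∧ R.root s ∈ [R.root r, rhoF4 (R.root r)]) ⟨hr, by simp⟩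
    (fun s hs => ⟨((A.isSym C.faithful).pos s).2 hs.1, ?_⟩) hs).2, fun hs => ?_⟩
  · rw [h.root_ρ C hs.1]
    exact (by decide +kernel : ∀ v ∈ posF4, ∀ w ∈ [v, rhoF4 v], rhoF4 w ∈ [v, rhoF4 v]) _ (root_mem_F4 h.cartan hr) _ hs.2
  · simp only [List.mem_cons, List.not_mem_nil, or_false, ← h.root_ρ C hr, R.root_inj.eq_iff] at hs
    rcases hs with rfl | rfl
    exacts [C.self_mem_orb _, ⟨1, rfl⟩]

end StSys.GAut.IsF4

end CL.Chev
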