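/-
Certificates for the 2- and 3-parts of the Schur multiplier of M22 (generated).
-/
import Cfsg.Agent.Known.PcM24

set_option autoImplicit false

namespace CL.Pc
open Cfsg CL.Spor

namespace M22p2
def relT : ℕ := 0x1c0038007000e001c00380000000001800301c6000c00180000000038a00140028185000000000020184000800000000143020600000007182000000000000000
def dT : ℕ := 0x70301606020001c0c050200c0200
def eT : ℕ := 0x502840708001f1850000001c0020103000dc6140e08000
def D : Data :=
  ⟨2, 7, 64, 1, 8, 15, 50, 27, 8, fun i j => tget 15 0x7fff relT (tri i j), 36, 7, 2,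
    fun k l => tget 9 0x1ff dT (Nat.add (Nat.mul 7 k) l), fun k l => tget 15 0x7fff eT (Nat.add (Nat.mul 7 k) l)⟩
def S : Fin2 :=
  ⟨29, 2, [0, 0x201, 0x501, 0x901, 0x70e, 0x80e, 0xc0e, 0xc020040e],
    [0, 0, 0, 0, 0, 0, 0, 0, 0, 0, 0, 0x2000300000303030600050500030000050200000000050000040002, 0, 0x2000700000707070600010100070000000200000000000000040000, 0x6000500000505050200030300050000030600000000040000000002, 0, 0x2000001010203050700050307000000000007010400000200020000, 0x70000000000000500000700000000000304000000000200000000, 0x30000000000000100000300000007000704000007000200000200, 0x7000007000201020300070200070000000604070000000200000000, 0x10000000000000300000100000000000504000001000200000000, 0, 0x2000000000303030600050500000000000200010400000000020000, 0x6000000000601060100070400000500000704030100000200000000, 0x5000007070302000200060001000000000701070000000200040000, 0x6000000000605060500030400000000000304070400000200060000, 0x2000000000707070600010100070000000200000000000000040000,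 0x2000006060107030400010502000000000602060400000000020000, 0, 0x6000000000606060200030300000000000600070400000000060000, 0x2000000000704070307040000000300000500050300000000020000, 0x100000000000000000000000000000000000000, 0x70000000000000000000000000000000000000000, 0x30000000007000000000007000000000200000000, 0x500000700000000000304000000000200000000, 0x6000002020204000700040006000000000702020000000200000000],
    [(0x230101b01018010100100401, 4, 0x600060606000000000600000200020600000007000000)]⟩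
def r0 : List RelC := [⟨0, 4, 0x41, 0xb06⟩, ⟨0, 5, 0x82, 0x1106⟩, ⟨0, 6, 0x82, 0x1706⟩, ⟨0, 7, 0x82, 0x1e06⟩, ⟨0, 7, 0x104, 0x2006⟩, ⟨0, 3, 0x41, 0xe0700b0700706⟩, ⟨0, 3, 0x82, 0x14070110700806⟩, ⟨0, 4, 0x82, 0x1b070170700c06⟩, ⟨0, 5, 0x41, 0x1b070160701006⟩, ⟨0, 5, 0x104, 0x23070200701306⟩, ⟨0, 6, 0xc3, 0x230701f0701806⟩, ⟨0, 3, 0x43, 0xe0100d0100702⟩, ⟨0, 3, 0x83, 0x14010120100802⟩, ⟨0, 4, 0x84, 0x1b010190100c02⟩, ⟨0, 5, 0x45, 0x1b0101a0101002⟩, ⟨0, 5, 0x105, 0x23010210101302⟩, ⟨0, 6, 0xc6, 0x23010220101802⟩, ⟨0, 2, 0x41, 0x23070220701d0701b070160700406⟩, ⟨0, 2, 0x42, 0x23010220101e0101b010170100402⟩, ⟨0, 5, 0xc4, 0x1f07⟩, ⟨0, 6, 0xc4, 0x2001⟩, ⟨0, 5, 0x44, 0x220101d0701901⟩, ⟨0, 4, 0x42, 0x2207020070190701607⟩, ⟨0, 4, 0x83, 0x22070210101a010180101307⟩, ⟨0, 3, 0x42, 0x220201f0701a070190701807013010100700c01⟩, ⟨1, 0x105, 0x144, 0x1a0700d01⟩, ⟨2, 0x105, 0x144, 0x220701101⟩]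
theorem r0_ok : allL (chkRel D) r0 = true := by decide +kernel
def rels : List RelC := (r0 ++ [])
theorem params : Params D S rels 2 :=
  ⟨(by norm_num : Nat.Prime 2), by decide +kernel, by decide +kernel, by decide +kernel, by decide +kernel,
    by decide +kernel, by decide +kernel, by decide +kernel, by decide +kernel, by decide +kernel,
    by decide +kernel, by decide +kernel⟩
theorem g1 : goalsChk D S (rels.map (·.s)) 1 7 = true := by decide +kernel
theorem checks : Checks D S rels :=
  ⟨by decide +kernel, allL_app r0_ok (allL_end), cover_step g1 (cover_end (by decide)), by decide +kernel⟩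
def PT : ℕ := 0xbbc7532d24a58f2642226aa6570500bb84c0c8a7a4ccb7a9096c223a92c0b8dcd14a2b3d686829287b0a1b4c80bb4e384a3373ec112928a90a6a2d80bb5c35aa223d6cc9c92579904a4020bad93a4a2321855b29280b8af834e0bc1d3a29367d4461ca283b0a45b420bd0f61162b73c6c8212aa9a446cc20b9a013ca3512c83729289d8ad63e80000000000000000000000000000000
def tbl (l : ℕ) : ℕ := tget 120 0xffffffffffffffffffffffffffffff PT l
abbrev A : ℕ → ℕ → ℕ := fun l => pf (tbl l)
theorem w1 : rowsChk D (eqB A (D.n + D.NF) 5 [23, 0, 1, 2, 3, 4, 5]) 1 7 = true := by decide +kernel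
theorem rows : ∀ j, 1 ≤ j → j ≤ D.n → ∃ lo len, lo ≤ j ∧ j < lo + len ∧
    rowsChk D (eqB A (D.n + D.NF) 5 [23, 0, 1, 2, 3, 4, 5]) lo len = true := cover_step w1 (cover_end (by decide))
theorem f0 : fusChk D (eqB A (D.n + D.NF) 5 [23, 0, 1, 2, 3, 4, 5]) 0 = true := by decide +kernel
theorem f1 : fusChk D (eqB A (D.n + D.NF) 5 [23, 0, 1, 2, 3, 4, 5]) 1 = true := by decide +kernel
theorem fus : ∀ k < D.NF, fusChk D (eqB A (D.n + D.NF) 5 [23, 0, 1, 2, 3, 4, 5]) k = true :=
  show ∀ k < 2, _ from below_step f1 (below_step f0 (below_end))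
theorem bound (hG : ¬ 2 ^ 8 ∣ Nat.card Spor.M22) : PBound Spor.M22 2 2 := by
  obtain ⟨a, ha⟩ := m24_alph t22 t22_ok tbl (D.n + D.NF) (by decide +kernel)
  exact ha.pbound gPt_inj (m24_isBase M22_le) params checks (by decide) rows fus (e := 1)
    (L := [(9, 24, [3]), (5, 24, [5, 2]), (1, 24, [7, 6, 4, 1])]) (by decide) (by decide +kernel) hG
end M22p2

namespace M22p3
def relT : ℕ := 0x200
def dT : ℕ := 0
def eT : ℕ := 0
def D : Data :=
  ⟨3, 2, 4096, 65, 9, 12, 6, 12, 1, fun i j => tget 2 3 relT (tri i j), 6, 1, 0,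
    fun k l => tget 1 1 dT (Nat.add (Nat.mul 1 k) l), fun k l => tget 1 1 eT (Nat.add (Nat.mul 1 k) l)⟩
def S : Fin2 :=
  ⟨25, 3, [0, 0x201, 0x501],
    [0, 0, 0, 0, 0x800, 0],
    [(0x401, 3, 4)]⟩
def r0 : List RelC := [⟨0, 2, 0x1041, 0x406⟩]
theorem r0_ok : allL (chkRel D) r0 = true := by decide +kernel
def rels : List RelC := (r0 ++ [])
theorem params : Params D S rels 1 :=
  ⟨(by norm_num : Nat.Prime 3), by decide +kernel, by decide +kernel, by decide +kernel, by decide +kernel,
    by decide +kernel, by decide +kernel, by decide +kernel, by decide +kernel, by decide +kernel,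
    by decide +kernel, by decide +kernel⟩
theorem g1 : goalsChk D S (rels.map (·.s)) 1 2 = true := by decide +kernel
theorem checks : Checks D S rels :=
  ⟨by decide +kernel, allL_app r0_ok (allL_end), cover_step g1 (cover_end (by decide)), by decide +kernel⟩
def PT : ℕ := 0xb9c958ce4e7ada580eca4985443020b9e84520736c4cc942cb4bcb570820000000000000000000000000000000
def tbl (l : ℕ) : ℕ := tget 120 0xffffffffffffffffffffffffffffff PT l
abbrev A : ℕ → ℕ → ℕ := fun l => pf (tbl l)
theorem w1 : rowsChk D (eqB A (D.n + D.NF) 4 [23, 0, 1, 2, 3, 4, 5]) 1 2 = true := by decide +kernel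
theorem rows : ∀ j, 1 ≤ j → j ≤ D.n → ∃ lo len, lo ≤ j ∧ j < lo + len ∧
    rowsChk D (eqB A (D.n + D.NF) 4 [23, 0, 1, 2, 3, 4, 5]) lo len = true := cover_step w1 (cover_end (by decide))
theorem fus : ∀ k < D.NF, fusChk D (eqB A (D.n + D.NF) 4 [23, 0, 1, 2, 3, 4, 5]) k = true :=
  show ∀ k < 0, _ from below_end
theorem bound (hG : ¬ 3 ^ 3 ∣ Nat.card Spor.M22) : PBound Spor.M22 3 1 := by
  obtain ⟨a, ha⟩ := m24_alph t22 t22_ok tbl (D.n + D.NF) (by decide +kernel)
  exact ha.pbound gPt_inj (m24_isBase M22_le) params checks (by decide) rows fus (e := 2)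
    (L := [(2, 24, [2]), (3, 24, [1])]) (by decide) (by decide +kernel) hG
end M22p3

end CL.Pc
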