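/-
The outer automorphism group of Co1: checks (generated by tools/pc/gm.py).
-/
import Cfsg.Agent.Known.GCo1OA

set_option autoImplicit false
set_option maxRecDepth 100000
set_option linter.all false

namespace CL.Pc.GCo1
open Cfsg CL.Spor

open scoped CL.Spor.Leech
namespace O
theorem b1_fix : fixChk (selA A sig) 43 16777216 [] b1 = true := by decide +kernel
theorem b2_fix : fixChk (selA A sig) 43 16777216 [1676] b2 = true := by decide +kernel
theorem b2_pt_0 : allR (ptChk (selA A sig) 43 16777216 11 b2) 0 833 = true := by decide +kernel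
theorem b2_pt_1 : allR (ptChk (selA A sig) 43 16777216 11 b2) 833 833 = true := by decide +kernel
theorem b2_pt_2 : allR (ptChk (selA A sig) 43 16777216 11 b2) 1666 833 = true := by decide +kernel
theorem b2_pt_3 : allR (ptChk (selA A sig) 43 16777216 11 b2) 2499 833 = true := by decide +kernel
theorem b2_pt_4 : allR (ptChk (selA A sig) 43 16777216 11 b2) 3332 833 = true := by decide +kernel
theorem b2_pt_5 : allR (ptChk (selA A sig) 43 16777216 11 b2) 4165 435 = true := by decide +kernel
theorem b3_fix : fixChk (selA A sig) 43 16777216 [8764494, 1676] b3 = true := by decide +kernel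
theorem b3_pt_0 : allR (ptChk (selA A sig) 43 16777216 11 b3) 0 891 = true := by decide +kernel
theorem b4_fix : fixChk (selA A sig) 43 16777216 [539885, 8764494, 1676] b4 = true := by decide +kernel
theorem b4_pt_0 : allR (ptChk (selA A sig) 43 16777216 11 b4) 0 336 = true := by decide +kernel
theorem b5_fix : fixChk (selA A sig) 43 16777216 [5844491, 539885, 8764494, 1676] b5 = true := by decide +kernel
theorem b5_pt_0 : allR (ptChk (selA A sig) 43 16777216 11 b5) 0 160 = true := by decide +kernel
theorem b6_fix : fixChk (selA A sig) 43 16777216 [4751589, 5844491, 539885, 8764494, 1676] b6 = true := by decide +kernel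
theorem b6_pt_0 : allR (ptChk (selA A sig) 43 16777216 11 b6) 0 16 = true := by decide +kernel
theorem b7_fix : fixChk (selA A sig) 43 16777216 [10415682, 4751589, 5844491, 539885, 8764494, 1676] b7 = true := by decide +kernel
theorem b7_pt_0 : allR (ptChk (selA A sig) 43 16777216 11 b7) 0 12 = true := by decide +kernel
theorem b8_fix : fixChk (selA A sig) 43 16777216 [196704, 10415682, 4751589, 5844491, 539885, 8764494, 1676] b8 = true := by decide +kernel
theorem b8_pt_0 : allR (ptChk (selA A sig) 43 16777216 11 b8) 0 1 = true := by decide +kernel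
theorem cent1_0 : allR (topChk A 30 10 45 (iter (A 31) 1) iv (fun W => eqB A 30 45 [1676, 12933350, 14001150, 1903959, 2443164, 10257854, 10757590] W 0) a1 als 22) 0 2641 = true := by decide +kernel
theorem cent1_1 : allR (topChk A 30 10 45 (iter (A 31) 1) iv (fun W => eqB A 30 45 [1676, 12933350, 14001150, 1903959, 2443164, 10257854, 10757590] W 0) a1 als 22) 2641 2688 = true := by decide +kernel
theorem cent1_2 : allR (topChk A 30 10 45 (iter (A 31) 1) iv (fun W => eqB A 30 45 [1676, 12933350, 14001150, 1903959, 2443164, 10257854, 10757590] W 0) a1 als 22) 5329 2721 = true := by decide +kernel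
theorem cent1_3 : allR (topChk A 30 10 45 (iter (A 31) 1) iv (fun W => eqB A 30 45 [1676, 12933350, 14001150, 1903959, 2443164, 10257854, 10757590] W 0) a1 als 22) 8050 2633 = true := by decide +kernel
theorem cent1_4 : allR (topChk A 30 10 45 (iter (A 31) 1) iv (fun W => eqB A 30 45 [1676, 12933350, 14001150, 1903959, 2443164, 10257854, 10757590] W 0) a1 als 22) 10683 2663 = true := by decide +kernel
theorem cent1_5 : allR (topChk A 30 10 45 (iter (A 31) 1) iv (fun W => eqB A 30 45 [1676, 12933350, 14001150, 1903959, 2443164, 10257854, 10757590] W 0) a1 als 22) 13346 2697 = true := by decide +kernel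
theorem cent1_6 : allR (topChk A 30 10 45 (iter (A 31) 1) iv (fun W => eqB A 30 45 [1676, 12933350, 14001150, 1903959, 2443164, 10257854, 10757590] W 0) a1 als 22) 16043 2734 = true := by decide +kernel
theorem cent1_7 : allR (topChk A 30 10 45 (iter (A 31) 1) iv (fun W => eqB A 30 45 [1676, 12933350, 14001150, 1903959, 2443164, 10257854, 10757590] W 0) a1 als 22) 18777 2611 = true := by decide +kernel
theorem cent1_8 : allR (topChk A 30 10 45 (iter (A 31) 1) iv (fun W => eqB A 30 45 [1676, 12933350, 14001150, 1903959, 2443164, 10257854, 10757590] W 0) a1 als 22) 21388 2713 = true := by decide +kernel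
theorem cent1_9 : allR (topChk A 30 10 45 (iter (A 31) 1) iv (fun W => eqB A 30 45 [1676, 12933350, 14001150, 1903959, 2443164, 10257854, 10757590] W 0) a1 als 22) 24101 2770 = true := by decide +kernel
theorem cent1_10 : allR (topChk A 30 10 45 (iter (A 31) 1) iv (fun W => eqB A 30 45 [1676, 12933350, 14001150, 1903959, 2443164, 10257854, 10757590] W 0) a1 als 22) 26871 2677 = true := by decide +kernel
theorem cent1_11 : allR (topChk A 30 10 45 (iter (A 31) 1) iv (fun W => eqB A 30 45 [1676, 12933350, 14001150, 1903959, 2443164, 10257854, 10757590] W 0) a1 als 22) 29548 2697 = true := by decide +kernel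
theorem cent1_12 : allR (topChk A 30 10 45 (iter (A 31) 1) iv (fun W => eqB A 30 45 [1676, 12933350, 14001150, 1903959, 2443164, 10257854, 10757590] W 0) a1 als 22) 32245 2571 = true := by decide +kernel
theorem cent1_13 : allR (topChk A 30 10 45 (iter (A 31) 1) iv (fun W => eqB A 30 45 [1676, 12933350, 14001150, 1903959, 2443164, 10257854, 10757590] W 0) a1 als 22) 34816 2625 = true := by decide +kernel
theorem cent1_14 : allR (topChk A 30 10 45 (iter (A 31) 1) iv (fun W => eqB A 30 45 [1676, 12933350, 14001150, 1903959, 2443164, 10257854, 10757590] W 0) a1 als 22) 37441 2707 = true := by decide +kernel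
theorem cent1_15 : allR (topChk A 30 10 45 (iter (A 31) 1) iv (fun W => eqB A 30 45 [1676, 12933350, 14001150, 1903959, 2443164, 10257854, 10757590] W 0) a1 als 22) 40148 2436 = true := by decide +kernel
theorem cent1_16 : allR (topChk A 30 10 45 (iter (A 31) 1) iv (fun W => eqB A 30 45 [1676, 12933350, 14001150, 1903959, 2443164, 10257854, 10757590] W 0) a1 als 22) 42584 2613 = true := by decide +kernel
theorem cent1_17 : allR (topChk A 30 10 45 (iter (A 31) 1) iv (fun W => eqB A 30 45 [1676, 12933350, 14001150, 1903959, 2443164, 10257854, 10757590] W 0) a1 als 22) 45197 2679 = true := by decide +kernel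
theorem cent1_18 : allR (topChk A 30 10 45 (iter (A 31) 1) iv (fun W => eqB A 30 45 [1676, 12933350, 14001150, 1903959, 2443164, 10257854, 10757590] W 0) a1 als 22) 47876 2668 = true := by decide +kernel
theorem cent1_19 : allR (topChk A 30 10 45 (iter (A 31) 1) iv (fun W => eqB A 30 45 [1676, 12933350, 14001150, 1903959, 2443164, 10257854, 10757590] W 0) a1 als 22) 50544 2524 = true := by decide +kernel
theorem cent1_20 : allR (topChk A 30 10 45 (iter (A 31) 1) iv (fun W => eqB A 30 45 [1676, 12933350, 14001150, 1903959, 2443164, 10257854, 10757590] W 0) a1 als 22) 53068 2625 = true := by decide +kernel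
end O

end CL.Pc.GCo1
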