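/-
The outer automorphism group of Co1: checks (generated by tools/pc/gm.py).
-/
import Cfsg.Agent.Known.GCo1OA

set_option autoImplicit false
set_option maxRecDepth 100000
set_option linter.all false

namespace CL.Pc.GCo1
open Cfsg CL.Spor

open scoped CL.Spor.Leech
namespace O
theorem cent1_21 : allR (topChk A 30 10 45 (iter (A 31) 1) iv (fun W => eqB A 30 45 [1676, 12933350, 14001150, 1903959, 2443164, 10257854, 10757590] W 0) a1 als 22) 55693 2586 = true := by decide +kernel
theorem cent1_22 : allR (topChk A 30 10 45 (iter (A 31) 1) iv (fun W => eqB A 30 45 [1676, 12933350, 14001150, 1903959, 2443164, 10257854, 10757590] W 0) a1 als 22) 58279 2556 = true := by decide +kernel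
theorem cent1_23 : allR (topChk A 30 10 45 (iter (A 31) 1) iv (fun W => eqB A 30 45 [1676, 12933350, 14001150, 1903959, 2443164, 10257854, 10757590] W 0) a1 als 22) 60835 2624 = true := by decide +kernel
theorem cent1_24 : allR (topChk A 30 10 45 (iter (A 31) 1) iv (fun W => eqB A 30 45 [1676, 12933350, 14001150, 1903959, 2443164, 10257854, 10757590] W 0) a1 als 22) 63459 2573 = true := by decide +kernel
theorem cent1_25 : allR (topChk A 30 10 45 (iter (A 31) 1) iv (fun W => eqB A 30 45 [1676, 12933350, 14001150, 1903959, 2443164, 10257854, 10757590] W 0) a1 als 22) 66032 2567 = true := by decide +kernel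
theorem cent1_26 : allR (topChk A 30 10 45 (iter (A 31) 1) iv (fun W => eqB A 30 45 [1676, 12933350, 14001150, 1903959, 2443164, 10257854, 10757590] W 0) a1 als 22) 68599 2609 = true := by decide +kernel
theorem cent1_27 : allR (topChk A 30 10 45 (iter (A 31) 1) iv (fun W => eqB A 30 45 [1676, 12933350, 14001150, 1903959, 2443164, 10257854, 10757590] W 0) a1 als 22) 71208 2593 = true := by decide +kernel
theorem cent1_28 : allR (topChk A 30 10 45 (iter (A 31) 1) iv (fun W => eqB A 30 45 [1676, 12933350, 14001150, 1903959, 2443164, 10257854, 10757590] W 0) a1 als 22) 73801 2732 = true := by decide +kernel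
theorem cent1_29 : allR (topChk A 30 10 45 (iter (A 31) 1) iv (fun W => eqB A 30 45 [1676, 12933350, 14001150, 1903959, 2443164, 10257854, 10757590] W 0) a1 als 22) 76533 2605 = true := by decide +kernel
theorem cent1_30 : allR (topChk A 30 10 45 (iter (A 31) 1) iv (fun W => eqB A 30 45 [1676, 12933350, 14001150, 1903959, 2443164, 10257854, 10757590] W 0) a1 als 22) 79138 2650 = true := by decide +kernel
theorem cent1_31 : allR (topChk A 30 10 45 (iter (A 31) 1) iv (fun W => eqB A 30 45 [1676, 12933350, 14001150, 1903959, 2443164, 10257854, 10757590] W 0) a1 als 22) 81788 2606 = true := by decide +kernel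
theorem cent1_32 : allR (topChk A 30 10 45 (iter (A 31) 1) iv (fun W => eqB A 30 45 [1676, 12933350, 14001150, 1903959, 2443164, 10257854, 10757590] W 0) a1 als 22) 84394 2642 = true := by decide +kernel
theorem cent1_33 : allR (topChk A 30 10 45 (iter (A 31) 1) iv (fun W => eqB A 30 45 [1676, 12933350, 14001150, 1903959, 2443164, 10257854, 10757590] W 0) a1 als 22) 87036 2727 = true := by decide +kernel
theorem cent1_34 : allR (topChk A 30 10 45 (iter (A 31) 1) iv (fun W => eqB A 30 45 [1676, 12933350, 14001150, 1903959, 2443164, 10257854, 10757590] W 0) a1 als 22) 89763 2743 = true := by decide +kernel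
theorem cent1_35 : allR (topChk A 30 10 45 (iter (A 31) 1) iv (fun W => eqB A 30 45 [1676, 12933350, 14001150, 1903959, 2443164, 10257854, 10757590] W 0) a1 als 22) 92506 2559 = true := by decide +kernel
theorem cent1_36 : allR (topChk A 30 10 45 (iter (A 31) 1) iv (fun W => eqB A 30 45 [1676, 12933350, 14001150, 1903959, 2443164, 10257854, 10757590] W 0) a1 als 22) 95065 2594 = true := by decide +kernel
theorem cent1_37 : allR (topChk A 30 10 45 (iter (A 31) 1) iv (fun W => eqB A 30 45 [1676, 12933350, 14001150, 1903959, 2443164, 10257854, 10757590] W 0) a1 als 22) 97659 621 = true := by decide +kernel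
theorem srch_0 : allR (topChk (selA A sig) 43 11 73 (selA A sig D.ls') ivB (D.leaf (selA A sig) 73 [1676, 12933350, 14001150, 1903959, 2443164, 10257854, 10757590]) b1 bls 10) 0 2032 = true := by decide +kernel
theorem srch_1 : allR (topChk (selA A sig) 43 11 73 (selA A sig D.ls') ivB (D.leaf (selA A sig) 73 [1676, 12933350, 14001150, 1903959, 2443164, 10257854, 10757590]) b1 bls 10) 2032 2001 = true := by decide +kernel
theorem srch_2 : allR (topChk (selA A sig) 43 11 73 (selA A sig D.ls') ivB (D.leaf (selA A sig) 73 [1676, 12933350, 14001150, 1903959, 2443164, 10257854, 10757590]) b1 bls 10) 4033 2120 = true := by decide +kernel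
theorem srch_3 : allR (topChk (selA A sig) 43 11 73 (selA A sig D.ls') ivB (D.leaf (selA A sig) 73 [1676, 12933350, 14001150, 1903959, 2443164, 10257854, 10757590]) b1 bls 10) 6153 1988 = true := by decide +kernel
theorem srch_4 : allR (topChk (selA A sig) 43 11 73 (selA A sig D.ls') ivB (D.leaf (selA A sig) 73 [1676, 12933350, 14001150, 1903959, 2443164, 10257854, 10757590]) b1 bls 10) 8141 2044 = true := by decide +kernel
theorem srch_5 : allR (topChk (selA A sig) 43 11 73 (selA A sig D.ls') ivB (D.leaf (selA A sig) 73 [1676, 12933350, 14001150, 1903959, 2443164, 10257854, 10757590]) b1 bls 10) 10185 1980 = true := by decide +kernel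
theorem srch_6 : allR (topChk (selA A sig) 43 11 73 (selA A sig D.ls') ivB (D.leaf (selA A sig) 73 [1676, 12933350, 14001150, 1903959, 2443164, 10257854, 10757590]) b1 bls 10) 12165 1999 = true := by decide +kernel
theorem srch_7 : allR (topChk (selA A sig) 43 11 73 (selA A sig D.ls') ivB (D.leaf (selA A sig) 73 [1676, 12933350, 14001150, 1903959, 2443164, 10257854, 10757590]) b1 bls 10) 14164 1676 = true := by decide +kernel
theorem srch_8 : allR (topChk (selA A sig) 43 11 73 (selA A sig D.ls') ivB (D.leaf (selA A sig) 73 [1676, 12933350, 14001150, 1903959, 2443164, 10257854, 10757590]) b1 bls 10) 15840 834 = true := by decide +kernel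
theorem srch_9 : allR (topChk (selA A sig) 43 11 73 (selA A sig D.ls') ivB (D.leaf (selA A sig) 73 [1676, 12933350, 14001150, 1903959, 2443164, 10257854, 10757590]) b1 bls 10) 16674 1219 = true := by decide +kernel
theorem srch_10 : allR (topChk (selA A sig) 43 11 73 (selA A sig D.ls') ivB (D.leaf (selA A sig) 73 [1676, 12933350, 14001150, 1903959, 2443164, 10257854, 10757590]) b1 bls 10) 17893 804 = true := by decide +kernel
theorem srch_11 : allR (topChk (selA A sig) 43 11 73 (selA A sig D.ls') ivB (D.leaf (selA A sig) 73 [1676, 12933350, 14001150, 1903959, 2443164, 10257854, 10757590]) b1 bls 10) 18697 1504 = true := by decide +kernel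
theorem srch_12 : allR (topChk (selA A sig) 43 11 73 (selA A sig D.ls') ivB (D.leaf (selA A sig) 73 [1676, 12933350, 14001150, 1903959, 2443164, 10257854, 10757590]) b1 bls 10) 20201 862 = true := by decide +kernel
end O

end CL.Pc.GCo1
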