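/-
The outer automorphism group of Co1: checks (generated by tools/pc/gm.py).
-/
import Cfsg.Agent.Known.GCo1OA

set_option autoImplicit false
set_option maxRecDepth 100000
set_option linter.all false

namespace CL.Pc.GCo1
open Cfsg CL.Spor

open scoped CL.Spor.Leech
namespace O
theorem srch_13 : allR (topChk (selA A sig) 43 11 73 (selA A sig D.ls') ivB (D.leaf (selA A sig) 73 [1676, 12933350, 14001150, 1903959, 2443164, 10257854, 10757590]) b1 bls 10) 21063 2018 = true := by decide +kernel
theorem srch_14 : allR (topChk (selA A sig) 43 11 73 (selA A sig D.ls') ivB (D.leaf (selA A sig) 73 [1676, 12933350, 14001150, 1903959, 2443164, 10257854, 10757590]) b1 bls 10) 23081 1971 = true := by decide +kernel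
theorem srch_15 : allR (topChk (selA A sig) 43 11 73 (selA A sig D.ls') ivB (D.leaf (selA A sig) 73 [1676, 12933350, 14001150, 1903959, 2443164, 10257854, 10757590]) b1 bls 10) 25052 2058 = true := by decide +kernel
theorem srch_16 : allR (topChk (selA A sig) 43 11 73 (selA A sig D.ls') ivB (D.leaf (selA A sig) 73 [1676, 12933350, 14001150, 1903959, 2443164, 10257854, 10757590]) b1 bls 10) 27110 2018 = true := by decide +kernel
theorem srch_17 : allR (topChk (selA A sig) 43 11 73 (selA A sig D.ls') ivB (D.leaf (selA A sig) 73 [1676, 12933350, 14001150, 1903959, 2443164, 10257854, 10757590]) b1 bls 10) 29128 2094 = true := by decide +kernel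
theorem srch_18 : allR (topChk (selA A sig) 43 11 73 (selA A sig D.ls') ivB (D.leaf (selA A sig) 73 [1676, 12933350, 14001150, 1903959, 2443164, 10257854, 10757590]) b1 bls 10) 31222 1806 = true := by decide +kernel
theorem srch_19 : allR (topChk (selA A sig) 43 11 73 (selA A sig D.ls') ivB (D.leaf (selA A sig) 73 [1676, 12933350, 14001150, 1903959, 2443164, 10257854, 10757590]) b1 bls 10) 33028 841 = true := by decide +kernel
theorem srch_20 : allR (topChk (selA A sig) 43 11 73 (selA A sig D.ls') ivB (D.leaf (selA A sig) 73 [1676, 12933350, 14001150, 1903959, 2443164, 10257854, 10757590]) b1 bls 10) 33869 1864 = true := by decide +kernel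
theorem srch_21 : allR (topChk (selA A sig) 43 11 73 (selA A sig D.ls') ivB (D.leaf (selA A sig) 73 [1676, 12933350, 14001150, 1903959, 2443164, 10257854, 10757590]) b1 bls 10) 35733 2022 = true := by decide +kernel
theorem srch_22 : allR (topChk (selA A sig) 43 11 73 (selA A sig D.ls') ivB (D.leaf (selA A sig) 73 [1676, 12933350, 14001150, 1903959, 2443164, 10257854, 10757590]) b1 bls 10) 37755 1947 = true := by decide +kernel
theorem srch_23 : allR (topChk (selA A sig) 43 11 73 (selA A sig D.ls') ivB (D.leaf (selA A sig) 73 [1676, 12933350, 14001150, 1903959, 2443164, 10257854, 10757590]) b1 bls 10) 39702 1884 = true := by decide +kernel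
theorem srch_24 : allR (topChk (selA A sig) 43 11 73 (selA A sig D.ls') ivB (D.leaf (selA A sig) 73 [1676, 12933350, 14001150, 1903959, 2443164, 10257854, 10757590]) b1 bls 10) 41586 992 = true := by decide +kernel
theorem srch_25 : allR (topChk (selA A sig) 43 11 73 (selA A sig D.ls') ivB (D.leaf (selA A sig) 73 [1676, 12933350, 14001150, 1903959, 2443164, 10257854, 10757590]) b1 bls 10) 42578 790 = true := by decide +kernel
theorem srch_26 : allR (topChk (selA A sig) 43 11 73 (selA A sig D.ls') ivB (D.leaf (selA A sig) 73 [1676, 12933350, 14001150, 1903959, 2443164, 10257854, 10757590]) b1 bls 10) 43368 1933 = true := by decide +kernel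
theorem srch_27 : allR (topChk (selA A sig) 43 11 73 (selA A sig D.ls') ivB (D.leaf (selA A sig) 73 [1676, 12933350, 14001150, 1903959, 2443164, 10257854, 10757590]) b1 bls 10) 45301 2063 = true := by decide +kernel
theorem srch_28 : allR (topChk (selA A sig) 43 11 73 (selA A sig D.ls') ivB (D.leaf (selA A sig) 73 [1676, 12933350, 14001150, 1903959, 2443164, 10257854, 10757590]) b1 bls 10) 47364 2045 = true := by decide +kernel
theorem srch_29 : allR (topChk (selA A sig) 43 11 73 (selA A sig D.ls') ivB (D.leaf (selA A sig) 73 [1676, 12933350, 14001150, 1903959, 2443164, 10257854, 10757590]) b1 bls 10) 49409 1930 = true := by decide +kernel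
theorem srch_30 : allR (topChk (selA A sig) 43 11 73 (selA A sig D.ls') ivB (D.leaf (selA A sig) 73 [1676, 12933350, 14001150, 1903959, 2443164, 10257854, 10757590]) b1 bls 10) 51339 1843 = true := by decide +kernel
theorem srch_31 : allR (topChk (selA A sig) 43 11 73 (selA A sig D.ls') ivB (D.leaf (selA A sig) 73 [1676, 12933350, 14001150, 1903959, 2443164, 10257854, 10757590]) b1 bls 10) 53182 1957 = true := by decide +kernel
theorem srch_32 : allR (topChk (selA A sig) 43 11 73 (selA A sig D.ls') ivB (D.leaf (selA A sig) 73 [1676, 12933350, 14001150, 1903959, 2443164, 10257854, 10757590]) b1 bls 10) 55139 1904 = true := by decide +kernel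
theorem srch_33 : allR (topChk (selA A sig) 43 11 73 (selA A sig D.ls') ivB (D.leaf (selA A sig) 73 [1676, 12933350, 14001150, 1903959, 2443164, 10257854, 10757590]) b1 bls 10) 57043 1943 = true := by decide +kernel
theorem srch_34 : allR (topChk (selA A sig) 43 11 73 (selA A sig D.ls') ivB (D.leaf (selA A sig) 73 [1676, 12933350, 14001150, 1903959, 2443164, 10257854, 10757590]) b1 bls 10) 58986 1926 = true := by decide +kernel
theorem srch_35 : allR (topChk (selA A sig) 43 11 73 (selA A sig D.ls') ivB (D.leaf (selA A sig) 73 [1676, 12933350, 14001150, 1903959, 2443164, 10257854, 10757590]) b1 bls 10) 60912 1950 = true := by decide +kernel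
theorem srch_36 : allR (topChk (selA A sig) 43 11 73 (selA A sig D.ls') ivB (D.leaf (selA A sig) 73 [1676, 12933350, 14001150, 1903959, 2443164, 10257854, 10757590]) b1 bls 10) 62862 2010 = true := by decide +kernel
theorem srch_37 : allR (topChk (selA A sig) 43 11 73 (selA A sig D.ls') ivB (D.leaf (selA A sig) 73 [1676, 12933350, 14001150, 1903959, 2443164, 10257854, 10757590]) b1 bls 10) 64872 1967 = true := by decide +kernel
theorem srch_38 : allR (topChk (selA A sig) 43 11 73 (selA A sig D.ls') ivB (D.leaf (selA A sig) 73 [1676, 12933350, 14001150, 1903959, 2443164, 10257854, 10757590]) b1 bls 10) 66839 1950 = true := by decide +kernel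
theorem srch_39 : allR (topChk (selA A sig) 43 11 73 (selA A sig D.ls') ivB (D.leaf (selA A sig) 73 [1676, 12933350, 14001150, 1903959, 2443164, 10257854, 10757590]) b1 bls 10) 68789 1975 = true := by decide +kernel
theorem srch_40 : allR (topChk (selA A sig) 43 11 73 (selA A sig D.ls') ivB (D.leaf (selA A sig) 73 [1676, 12933350, 14001150, 1903959, 2443164, 10257854, 10757590]) b1 bls 10) 70764 1962 = true := by decide +kernel
theorem srch_41 : allR (topChk (selA A sig) 43 11 73 (selA A sig D.ls') ivB (D.leaf (selA A sig) 73 [1676, 12933350, 14001150, 1903959, 2443164, 10257854, 10757590]) b1 bls 10) 72726 2049 = true := by decide +kernel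
end O

end CL.Pc.GCo1
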