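/-
The outer automorphism group of Co1: checks (generated by tools/pc/gm.py).
-/
import Cfsg.Agent.Known.GCo1OA

set_option autoImplicit false
set_option maxRecDepth 100000
set_option linter.all false

namespace CL.Pc.GCo1
open Cfsg CL.Spor

open scoped CL.Spor.Leech
namespace O
theorem srch_42 : allR (topChk (selA A sig) 43 11 73 (selA A sig D.ls') ivB (D.leaf (selA A sig) 73 [1676, 12933350, 14001150, 1903959, 2443164, 10257854, 10757590]) b1 bls 10) 74775 1938 = true := by decide +kernel
theorem srch_43 : allR (topChk (selA A sig) 43 11 73 (selA A sig D.ls') ivB (D.leaf (selA A sig) 73 [1676, 12933350, 14001150, 1903959, 2443164, 10257854, 10757590]) b1 bls 10) 76713 1985 = true := by decide +kernel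
theorem srch_44 : allR (topChk (selA A sig) 43 11 73 (selA A sig D.ls') ivB (D.leaf (selA A sig) 73 [1676, 12933350, 14001150, 1903959, 2443164, 10257854, 10757590]) b1 bls 10) 78698 1824 = true := by decide +kernel
theorem srch_45 : allR (topChk (selA A sig) 43 11 73 (selA A sig D.ls') ivB (D.leaf (selA A sig) 73 [1676, 12933350, 14001150, 1903959, 2443164, 10257854, 10757590]) b1 bls 10) 80522 2016 = true := by decide +kernel
theorem srch_46 : allR (topChk (selA A sig) 43 11 73 (selA A sig D.ls') ivB (D.leaf (selA A sig) 73 [1676, 12933350, 14001150, 1903959, 2443164, 10257854, 10757590]) b1 bls 10) 82538 1993 = true := by decide +kernel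
theorem srch_47 : allR (topChk (selA A sig) 43 11 73 (selA A sig D.ls') ivB (D.leaf (selA A sig) 73 [1676, 12933350, 14001150, 1903959, 2443164, 10257854, 10757590]) b1 bls 10) 84531 1916 = true := by decide +kernel
theorem srch_48 : allR (topChk (selA A sig) 43 11 73 (selA A sig D.ls') ivB (D.leaf (selA A sig) 73 [1676, 12933350, 14001150, 1903959, 2443164, 10257854, 10757590]) b1 bls 10) 86447 1943 = true := by decide +kernel
theorem srch_49 : allR (topChk (selA A sig) 43 11 73 (selA A sig D.ls') ivB (D.leaf (selA A sig) 73 [1676, 12933350, 14001150, 1903959, 2443164, 10257854, 10757590]) b1 bls 10) 88390 2088 = true := by decide +kernel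
theorem srch_50 : allR (topChk (selA A sig) 43 11 73 (selA A sig D.ls') ivB (D.leaf (selA A sig) 73 [1676, 12933350, 14001150, 1903959, 2443164, 10257854, 10757590]) b1 bls 10) 90478 2025 = true := by decide +kernel
theorem srch_51 : allR (topChk (selA A sig) 43 11 73 (selA A sig D.ls') ivB (D.leaf (selA A sig) 73 [1676, 12933350, 14001150, 1903959, 2443164, 10257854, 10757590]) b1 bls 10) 92503 1356 = true := by decide +kernel
theorem srch_52 : allR (topChk (selA A sig) 43 11 73 (selA A sig D.ls') ivB (D.leaf (selA A sig) 73 [1676, 12933350, 14001150, 1903959, 2443164, 10257854, 10757590]) b1 bls 10) 93859 822 = true := by decide +kernel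
theorem srch_53 : allR (topChk (selA A sig) 43 11 73 (selA A sig D.ls') ivB (D.leaf (selA A sig) 73 [1676, 12933350, 14001150, 1903959, 2443164, 10257854, 10757590]) b1 bls 10) 94681 1973 = true := by decide +kernel
theorem srch_54 : allR (topChk (selA A sig) 43 11 73 (selA A sig D.ls') ivB (D.leaf (selA A sig) 73 [1676, 12933350, 14001150, 1903959, 2443164, 10257854, 10757590]) b1 bls 10) 96654 1626 = true := by decide +kernel
theorem rv0_ok : allL (fun p : ℕ × ℕ => eqB (lazyA A 39 WV) 31 39 [1676, 12933350, 14001150, 1903959, 2443164, 10257854, 10757590] p.1 p.2) rv0 = true := by decide +kernel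
theorem rv1_ok : allL (fun p : ℕ × ℕ => eqB (lazyA A 39 WV) 31 39 [1676, 12933350, 14001150, 1903959, 2443164, 10257854, 10757590] p.1 p.2) rv1 = true := by decide +kernel
theorem rv2_ok : allL (fun p : ℕ × ℕ => eqB (lazyA A 39 WV) 31 39 [1676, 12933350, 14001150, 1903959, 2443164, 10257854, 10757590] p.1 p.2) rv2 = true := by decide +kernel
end O

end CL.Pc.GCo1
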