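/-
The outer automorphism group of Co1 (generated by tools/pc/gm.py).
-/
import Cfsg.Agent.Known.GCo1OK0
import Cfsg.Agent.Known.GCo1OK1
import Cfsg.Agent.Known.GCo1OK2
import Cfsg.Agent.Known.GCo1OK3

set_option autoImplicit false
set_option maxRecDepth 100000
set_option linter.all false

namespace CL.Pc.GCo1
open Cfsg CL.Spor

open scoped CL.Spor.Leech
namespace O
theorem bch_ok : ChainOk (selA A sig) 43 16777216 11 bch [] :=
  ChainOk.cons b1_fix (ptChk_congr (by decide) (selA_top (by decide +kernel)) a1_ok) (ChainOk.cons b2_fix (allR_step b2_pt_0 (allR_step b2_pt_1 (allR_step b2_pt_2 (allR_step b2_pt_3 (allR_step b2_pt_4 (allR_step b2_pt_5 (allR_end (by decide)))))))) (ChainOk.cons b3_fix (allR_step b3_pt_0 (allR_end (by decide))) (ChainOk.cons b4_fix (allR_step b4_pt_0 (allR_end (by decide))) (ChainOk.cons b5_fix (allR_step b5_pt_0 (allR_end (by decide))) (ChainOk.cons b6_fix (allR_step b6_pt_0 (allR_end (by decide))) (ChainOk.cons b7_fix (allR_step b7_pt_0 (allR_end (by decide))) (ChainOk.cons b8_fix (allR_step b8_pt_0 (allR_end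 (by decide))) (trivial))))))))
variable {x : ℕ → Spor.Co1}
theorem cent1 (h : Ful x) : ∀ g, x 31 * g = g * x 31 ^ 1 → g ∈ Subgroup.zpowers (x 31) :=
  Full.cent (v := a1) (ls := als) h (by decide +kernel) (allR_step cent1_0 (allR_step cent1_1 (allR_step cent1_2 (allR_step cent1_3 (allR_step cent1_4 (allR_step cent1_5 (allR_step cent1_6 (allR_step cent1_7 (allR_step cent1_8 (allR_step cent1_9 (allR_step cent1_10 (allR_step cent1_11 (allR_step cent1_12 (allR_step cent1_13 (allR_step cent1_14 (allR_step cent1_15 (allR_step cent1_16 (allR_step cent1_17 (allR_step cent1_18 (allR_step cent1_19 (allR_step cent1_20 (allR_step cent1_21 (allR_step cent1_22 (allR_step cent1_23 (allR_step cent1_24 (allR_step cent1_25 (allR_step cent1_26 (allR_step cent1_27 (allR_step cent1_28 (allR_step cent1_29 (allR_step cent1_30 (allR_step cent1_31 (allR_step cent1_32 (allR_step cent1_33 (allR_step cent1_34 (allR_step cent1_35 (allR_step cent1_36 (allR_step cent1_37 (allR_end (by decide))))))))))))))))))))))))))))))))))))))))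
theorem gen3 (h : Ful x) : Subgroup.closure {x 31, x 32, x 33} = ⊤ :=
  h.gen3 (f := 39) (W := WV) (M' := 31) (rs := rv) (defs := [(4, 1), (5, 2), (6, 3), (7, 0x6045181182103), (8, 7), (9, 0x830811861840c5), (10, 9), (11, 0x1c9249209209), (12, 0xb), (13, 0x287288248249), (14, 0xd), (15, 0x2cd2cd30e2cb), (16, 0xf), (17, 0xc34b38e38b34c), (18, 0x11), (19, 0x45048f490492), (20, 0x13), (21, 0xf451411450410), (22, 0x15), (23, 0x15553594553), (24, 0x17), (25, 0x516514593596), (26, 0x185145554d541141049240b2cb38e30c1ca20a1c71851440c5105), (27, 0x164d34113d23d23cf34b38b34c3082091c92040c11810c2), (28, 0x61651455455249041248d34c34b38e1c92091c71c1081086081182), (29, 0x185165155544123cf3d12ce38e30c38920920a28a1050c4106105), (30, 0x5d955359355045049045034c38b2cb20924828a28a0410c30c10c2), (31, 0x1755455551645041141040c30e30c30d2c828820a2090c2106046141)]) (tops := [26, 27, 28, 29, 30, 31]) (by decide +kernel) (allL_app rv0_ok (allL_app rv1_ok (allL_app rv2_ok (allL_end))))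
theorem sig_a : sig D.la = 31 ∧ sig D.lu = 32 ∧ sig D.ly = 33 := by decide +kernel
theorem out_le (h : Ful x) : Nat.card (Out Spor.Co1) ≤ 1 ∧ orderOf (x 31) = 23 := by
  have := h.out_le (σ := sig) (D := D) (v := b1) (ls := bls) (by norm_num : Nat.Prime 23) (by rw [sig_a.1]; exact cent1 h)
    (by rw [sig_a.1, sig_a.2.1, sig_a.2.2]; exact gen3 h) bch_ok (by decide +kernel) (allR_step srch_0 (allR_step srch_1 (allR_step srch_2 (allR_step srch_3 (allR_step srch_4 (allR_step srch_5 (allR_step srch_6 (allR_step srch_7 (allR_step srch_8 (allR_step srch_9 (allR_step srch_10 (allR_step srch_11 (allR_step srch_12 (allR_step srch_13 (allR_step srch_14 (allR_step srch_15 (allR_step srch_16 (allR_step srch_17 (allR_step srch_18 (allR_step srch_19 (allR_step srch_20 (allR_step srch_21 (allR_step srch_22 (allR_step srch_23 (allR_step srch_24 (allR_step srch_25 (allR_step srch_26 (allR_step srch_27 (allR_step srch_28 (allR_step srch_29 (allR_step srch_30 (allR_step srch_31 (allR_step srch_32 (allR_step srch_33 (allR_step srch_34 (allR_step srch_35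 (allR_step srch_36 (allR_step srch_37 (allR_step srch_38 (allR_step srch_39 (allR_step srch_40 (allR_step srch_41 (allR_step srch_42 (allR_step srch_43 (allR_step srch_44 (allR_step srch_45 (allR_step srch_46 (allR_step srch_47 (allR_step srch_48 (allR_step srch_49 (allR_step srch_50 (allR_step srch_51 (allR_step srch_52 (allR_step srch_53 (allR_step srch_54 (allR_end (by decide)))))))))))))))))))))))))))))))))))))))))))))))))))))))))
  rwa [sig_a.1] at this
theorem out (h : Ful x) : Nat.card (Out Spor.Co1) = 1 := h.out_one (out_le h).1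
end O

end CL.Pc.GCo1
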