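import Cfsg.Agent.Spor.TCSound

/-! coset enumeration certificate generated by tools/tc -/

set_option maxRecDepth 100000
set_option autoImplicit false
set_option linter.all false

namespace CL.TC.GMcLL1

noncomputable def rows0 : Tr ℕ := (.node (nat_lit 8) (.node (nat_lit 4) (.node (nat_lit 2) (.node (nat_lit 1) (.leaf (nat_lit 0xae063eaf067ab016269f1addab96cfaf8a7afb0c269e06ddfe8824ff8203a98623ae063eae8675af0677b10680ae06d2ae26ccae2e75ad06a59c9ac7ff06dd9b0647af061250a76b342c818b2a2185e724342a0415ec01876c8825ffc1b73fc1b6e801a6a80726a9e6323fe080ff81b56c89a1ecc32d6c838eec81a4ec81aeec01ae7fc1b6ac430e6c01b18fab106bda88617b0862caf9c09af067fb11099aaa27eb09e1caf921caf8675ad147eff8203b0a879b00622b20688b2127ab01607ae067daf0c75a40628a51405a7a686ff06d944ab01b52c87a0e84431ec04332c47a52b819fec2907ec81a22c81a1ecc7a22c419eec88202c2589bf81873fe080ec81ad2c482b28ad24accb97bfc1b620e69c1e4a1cea63814caad941cff06d7b310b8ff06d6ae2275ae0688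9c86d0af061eb0061eaf867fff06d5ff06d4b22e7fff8203fe881db42281b3145ab30632ff06d39c0ca99c065e7f8652a70c7c38aca706ffc1b4ac84256c61abbfc1b46b41886b61a56aa8902c68096be18fec62896cc421ad0a9debe488ecc1a26c0688bfe080ec81a3ec6c08ffc1b42f23ab1f01b02ae19809aad9c1aaf0621aa063aac8621aa8843ae06aead063aff06cfaf1803af0623b19c03af283ab20e05b2067faf8626ff8203af0634b02e95af0a149b0649aa8609a6862aab8e5a2cacc18aac8183acc5237fc1b3acc18aad0aa8ecc1a46cc8276cc40e290185acc1962cc3962cc198a721a9acc49daba38fec818c7fc1b37fe080e881b226c203e8c1a0eb841646ab52460b406afb306bab38618b40e18b4062eb52061b38618b42418b40a18b38618b4065db4065cb5225fa306c5ff06cca12865ff8203b50611a5a68cff06cba38692ff06ca20a98985ea4807ea4407aa269e6805197fc1b269a7af29e182aa4802aa2621e7c1af6a41966a23906a219f7fc1b23fc1b1ea43a26a418d6a42ac7fc1b1bfe080ea01a5ea018e83aa49829a4865ca486a7a48e38a49858a49c0ba38681a386b9ff06c5a4aab9a49219a386a3a4a8b1a3862ea49804a48e37a38660a48a7ea38686ff8203ff06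c4ff06c3a59a9014a1c193e6c19526c1957fc1b0a20413e983307fc1b0620181bfc1b03fc1afe181911e841c608a135f41945f222ca1019c1f67a91e8193274d913fc1afaa468f286a1dffe080c0ae006badd8660df06aad898afd01027e69a2fff8202dd86bae606b1e7062fe61cb4e5065ae71c10e6069fe608b5dd8e5cd906a0ae861ada18b4b89039bc1484ff06bdff06bc62bfc1aeffc1aeb6252bfb4184fb6504ffe080b9c18bf88517b84198be41ac38a197bea2013961982bc1a97fc1ae6ea19f380303f5e1a5ffc1ae3fc1adffc1adaa61a1ee019e5a2d206ade7162fec86b0e49607e2065ee19a93e506b4ff06b5ea069eeb969eff8202ed1490eb06a7fe069eff06b4d906afd2909ca83457ba947cff06b3ff06b2afa6209f12724abfc1ac78c397b4852b7ea2ac394418be42ac3fc1ac3961983e8200bfe080bae1a7b621abef87163ea2a9f8e1a4f88298abc18f6d6a063fc1abefa1a8270991efa20169c1a2542fb0891fb0a33f58631e5905dfb0c78fb8881fa880bfa8839fa8a5cd30e2ddb1637e68614ff8202e89078e796a0ff06aed894abfa88a0c28698a68696ff06adc29698ba90823ebcc62b3ea30c7d418cf26620bfc1ab34c48b7ea2a3f5418abea32afe63207fc1aaffe080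b98516bfc1aaba01a877e184ffc1aa75c1a476619826a1867fc1aa2e418f2ea1a4512e406a3e90e2bb28c19f9868ef8868dff06a7da0637e806a1e906a0e908a1fa880be38693fa882bfe060dff8202af1c3db19a75d8069efb083bff06a6ff06a59b863fff06a432baa70affc1a8ffc1a8bfc1a87fc1a83728a2f72622fea2a7ffc1a7f726a2fa219e3e618cffc1a7bfe080bfa203bfc1a7756197ffc1a72b618fffc1a6ffc1a6ab8b0928461d0e2d4a20ac71097ff0699c70659ff0698c28689c18689ff0697ff0696d70677c1aa86fa060cfa8c0caf863fff0695ff0694ff8202fa062aff06939e227eff0692aa2e7eb5988c26bec2a3ffc1a47fc1a43dc18e7fc1a3fe8184290185b9a5977fc1a3be8183bfc1a37ea28d3ea28a7fc1a33ea40cffe080bfc1a2f701a02ca3097fc1a2a901986ec19ea0489b0b2d4060cc81c77ff0689ff0688ff0687ff0686c08685a88617a81e17a13065ff0685ae863dae063aff0684fb0e2cff0683af2222ff0682ff8202ff0681a52237b80633b794391abfc1a02b059faee19e7fc19febc187b0a61f70c19dffc19fb9019f3fc19f7fc19f3fc19ef1c5167fc19ebfc19e77e1977fc19e3fe080bfc19deac606bfc19dbfc19d7ea201c827a067276866bff0674f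f0673ff0672ff0671758628ff0670791c28ff066fff066eff066dff066cff066bff066aff0669ff0668ff0667a0ba28ff0666ff8202ff0665ff06640eb821987fc198ffc198b82497b90184bfc19878050bb94180b8c5983fc1983fc197ffc197bfc1977fc1973fc196ebe187bea20affc196bfc1967fe080bfc1963e81827fc195c52ff0656ff0655ff0654ff0653ff0652859a4fff0651ff065088a015ff064fff064eff064dff064cff064bff064aff0649ff0648ff0647ff0646ff0645ff0644ff82029b864108ac088ebfc190eae1903fc190abc708bfc1907fc1902c018ebfc18feb018fbfc18fac6186bfc18f7fc18f3fc18effc18ebfc18e6ca708b8a18ce92187bfe0806a41876f818443aff0638ff0637ff0636ee8829ff0635fc0e30ff0634ff0633ff0632ff0631ff0630ff062ffa0613a40616ff062eff062dff062cff062bff062aff8201ff0629ff0628ff062714bfc189bec2097fc1897fc1893fc188fee308bfc188aba186bfc1886c4186bfc1883fc187ffc187bfc1877fc1873fc186ffc186bfc1867fc1863fc185ffc185bfc1857fe08040afa0c02fa8602fb0802fa0602fa8a02ff0614ff0613f98611e59207ff0612ff0611ff0610ff060fff060eff060dff060cff060bff060aff0609ff0608ff0607ff8201ff060608bec1007ec1807ee1007ee1807f01007f01807f21007f21807f41007f41807f61007f61807f81007f81807fa1007fa1807fc1007fc1807fe1007fc1817fc1813fc180ffc180800))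 (.leaf (nat_lit 0xaa0642ac1005ad8e42ac063aab063cff8205ad8623a890aeaa061bae96d1af0626ab063f9c86d0a90643adae25a72c43a28692ac863b9f1eddff06f3a18662a586b5a406af68aaa633eb81b36b03906bc1896b818fabc1b3e8e190ffe0816bc189ac01a56c0786ea0d326ae5902bc7a56c03032b41b36b81866b88836b8332ab432f6941a2dfe892e70383972ae9e20ab0641b01acdae903faf0625ae9ed1ad98cdb00695fe8842ff8205ac9005ad8685ae9220a10c65a80a57a89c90ab8ad7a9b062aa9ed4ff06f2a5069b8328b2a19aa650abc38f6b81a5ab84a169a4b229e72f2b6a9fac21a66b01b5aa221d6c21b5aba18b3fe0816bcc02a9e4af2c62b36bea846ba183aba19fec21a39d223968c19f2bac0ae6c8ba912ad9622ae203aac1e21ab9040ad863aae063abc06aeafa442b12695b186cdaf06aea80e57ac8687fe063bff8205a506bcbc9433bc86bbb286d7a88615b586a3b6062cb9920f32a801a6ac41af6b619eea629fac670b2a0295eee1ae2963af29a4a72bc1b56ee99febc935e801997fe0817fa20f2c6187f8c1a8fea183ab4b9028ec3ba921a329cea52b6b2dce2af8605aaa01aad863cae163cac9240ada21aaea23caea226b0a005ab0622ae9c42aea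e0aae861aafa2d2ac067ea0069aff8205b08634b0926272866aa38cb1a88c17a390a026bda40e78e5ab3922977da1a3fde402fa4196ba419e3de1a37e81843e419e3728a2fe6329faa1a3b5418ab801aebfe08174c2ae6be1b52a61b1e0a8946e01852dc182ac2187cb2ff8204d506b9bc86b9bd0658a40616fb0634fb8e30b28619f89081f70634fa8634ed862ee01432ef0636ee8831da8677c69c87db8e8ca11265a08643ff06f1a088dfa1a43486a76a3176e4a2ffe08134818b76a59736a283b6a70a7661a3b6a61776a1842fc19db4c197f40189eca1b3b6a1a7750823a90185b4c1ab6ba189292182bfc1bc27c1a6e6e1b41eaf096a7ff8204db868bf188a7f08630bf1e76e506ac9c9aa6e490a2a28692fb8e35ef8632bf0676ee8631ef8a38d28633d8865eb18623e30ea7b606bcbd12839bb8efa9868080af87963be18c34818b7fe0813b618a68c8317a01a878c196fc61a9fec18dbf818cfa618afb61a3fbe38bf921986c48b46c6421ab81906a6a05ee43a8e6a9b3694e32f503a89d2f71231f61090f50691f78681fa12abff8204fb9038e810a3be1e58fb1038f78a38d2062dfa060ba28692f50632af981aa320c5d21a7ab12c3ab78680a20663a106387a865068bce5a07d6483fea18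43ce40c7ce18cbc61a37961977ce3247fe0813fa20d68a1a4b8e1a8be83837e8182fe82232f018f34c60db8c2817542a51dc19ae6ea31e930aa2e240295af696abf4065af50a5af40e33fe0631e61c9dbd0658ff8204f28691f28890f40691df8638f01036f58c34a28a92bc9279e48662b1b0dcb3aa1cff06ef962868af8626859c485cbda18d3d85043e8183ffa20cbcc18ce721a9a721a9a8a424a8a424a6e1a9bfe08138279868a3a4bb818e3bc48daca3866c44b3ac87b3b4e1a0e681b6e68b91a8c1b22e21a212af71430e4869ff00a35f11036f512a7fb0638fb8604f20c90ee8629ff82049ca6a6d01c27a42ec5e60c62e412a3d698b0b10e94da868baf8626a406907108eb838870ff06ee50b9e1ac37c51879a184b9e52c784218f9e584f981853623abf7a524f481ab79e6853bc4233fe0813821987bc18d77852c780418f581a0f6072129a1ba9e89932aa1909ca39c4fad81aafdf96bbdf869edd86bade98b4df8607b48c18d206add01027d886afe09c61c00876ee0e38ff8204a40a16e48660de8e5dde8659ae3242a20642ff06edcf068bff06ec38b4a6ae74a38d74a527f4a19734a20de8a2a4b4a183efc51db4e722efc89db4a1842ac8a974a38d34a1a46f819634a8aaffe0812c6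1896b8190686236a189937fc1bae821a289ab1a2dbb1161eb29a1fb1063bab067eb5acbdb586bdd59a84a89ec8af283da7acbca686c7a82057fa860afa8884ff82049c86a6d69460d5867b88084aff06eaa72ecab6963c2cba81837ac1a37a2183b92196f941a33a619e3ac516ba418a7b01a43b0216bb0416be8183ba850d798198f721a2fe8181ec61896c65b5ffe0812661ac9e89302d4416ab818f46ab39419b186d39c9ca6b38a19b286ced586a2d5989fc98682d5920fd590acd58c9dd58663d59e81d596bad58a39f9887b9c86ddff8204fa8a0c9c88e1a48cd9a42221a70e1a20a90185a8c1b16b44297b840d7b818136818dfa21a9fbc48c3a648af941a3390796fe8182eb4aa978c197b922a8b621a4ec63b57361ae3881a83fe0813f8199e6ae2cffc1ba452ff06e874946dff06e776107076066f761e08ff06e678860884a6e575a66aff06e576866984868a7706e272146d79067385aed8a006087c06bffe0644a49a1eff06e4ff820402b424ad33e1a7b3e1aef3e18533e1abf3e62c7421ad73e18bb42698f422ac7429aeb4268df3e18c3425206ca1b4e8c1b433a6ae2a65b1f3a19ebfc1b8de019b7fe081334415422ff8203af8620b10caeb214cdb10695fa8620ae98d2af8c3fae06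3aafac40b086d2b0061daf0689b0261aae867f9f22ddb1067bb01a30b2145ba5069ca586ce76866db0103286a70bb77fe080fea180ebe48fabe78feba7896b81896c4186ec882bac4186ec41a56c88a5ac01b6eb41902a4190ec870aec852c6c8182ec828b69a1b5e981a03fc1b8bfc1b8602b01095af06d1a492cffe0623ff8203a72643a586cffe0620b12223b00624b08a24a6869caf0696ad86d7ae96aeaf1686a90621af3037ad0691aa8edcff06e0a786bead860d6eac81b36921b3ebc1b47fe080ffa2092b85102b49906c218927c8b76a8b082be606ab6990ea47352c08a26bc186ec8a216a0495ec4186ec850dbfc1b7e9498860c2192b64339d2ad063caa0622aa9422ae8605aa1242ff8203fb0603b21a7aaf88d2af867aab9c3aaeaad29e06ddaf9288b09e1eae860aaf861baeacd5b20605b208c4a486a1a326a7ff06de68aa6190eae18f2be706aae390eb4906a7c7376b6706ffe080eac4b3e6e7b76a4890eac1a62c41a66725342bab1f2a65092b61a5aba2a86cc925a92188e9a5242acb3328e18a972))) (.node (nat_lit 1) (.leaf (nat_lit 0xb48618e086b4de1214e20660e29060e0065fde0663e28607e61411e50662ff8207e61813e60e8ce6068dc9a082a40a16e50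a2eda0e0fd6062cd386919b86efac321b750e6b4ab82617f8a62d7841ad78a497f88197f601abf82698384198b88197bfe081f94798a8c1b174e98de8c6316d21863583837801ad7168266c6ab5a901a75d29ba2142369d21c2d42e18693e186b1e28611e29812e00607d31cadde9abae2905fe18613e31813e39cb5e2865cff8207e386a2e38829d90e36d606afb2861dd70e9f9c9e1c81066cdf0691d086533eb941a439018e78c1aaf9849e39418439868cf941ae76818df98182f981a3f987a83fe081ed24063941ab39c2a3b7818bb80382780198ec81a568cba568a1b868c31065043d112af86a5bd0e58a52416da0637d3162db286d3e4068efa0610e7068de7068ee8168eb49018e31c5efe065bff8207d59c8fdd0614db1081b4acccb80678b69e5aa086f3a39c4332b947a8272a29aca334f9042339440af901a47901a8f94196b8e20d78e18a792628b901ab39c6a37fe081ffa21735e1a5f521a06c6189aa0615e7419ce9ab2d2e07966b41908e2f98e78f48632f48c32f78690f88e91ea862be99639f78ca7e5925beb862beb862be5860fe59e14e796b0e086bbb2861cbc867db18686ff8207b6065cb706abab061ab4862b1ab1a1a1f1a4a675e1a5f1a1a631e6832bc82a6a07b5b021a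1a801a6a961b2ab81b6f1a1826a6c05efe1aa6be190b5a1ae2721b43fe081f7c48b9dc19b7fc1c46b61866de196c82bd8635bd94a7bc865ca40616bd9638bd9832bd86a0bd8634b286ceb3a419bda0b9bd8611b28619bea02dbd8691bb2675bc8679bd94b9bda8b5ff8207fe06f779064cbc86ac14a9e495ea249e6a219fa9e187e721b42a273529e18eea27a5a9e1a5e9e1a5aa24b729e18b29e18f29e18fa8019969e188e9e1b6e9e196e9e184a8a8a268e6b5ffe081ea2418422ff820678870b7e86c181064d7f8ee4798a497b06527d06517a064b7e8e667c124b7c1d0a7d86e37b064c7b07087e86f77b06fd7a07087c31067da4c17c867e7ea6637ca27086a1431b26e9857fe081bea3152026111fe19b1e21951e63125e64125ea6c0a141b09e81a6df092ddfecb6a2869921291925ccb867ef2de063307fc1c42a2b3b332189e821ac9ea77870bff82069ba415808c44fa0655791255758703850cc277886c77870b822c6c7b0ec27eaa647638ff760d008898538086528886689206669316f477066b9abc7c73866d809fe1b920e9146063943f8194bfe0819fa6949e66927f81939e21c0a0a593a0a193dd6d37dfa5301dc6c2ddedb11d61c1220195268192dfa1b6a025b9dd01c03444179d2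1b9dba822e4d85126ccd88ecff8206fe88537b98567e0653828c4f74870b821450fe065071068a799d087bb90d7988e78128547ea30774066b7e86e072870caf86ccd212ad80281c74a1869460c193e0c194e1093b20a1b07fe081a681911fa4135f62159f61b921a1b05f21bd5f219b9f67ac9f63055f01936042b19ee1941f61bb2082b7a0818e60c32a5ce1c35a27d32448106537e144f78a10b80a26c7d064e7c264b7c0ac0ff8206fe8852818652798ce77a870d7d1a507c865078a4f57895027886c07c14517b06f07a06727b38347b1b0156a1e3055f619420e31461e18561e230a181912141819e21c1208194a0cc14ffe0819e41bbde451b5bc1ba1d01b0de8b30218bb8e1ce32e201baa2023b61c1ade1ca205bc3c292a7e94667b18668121047707027990497e86e47d96508210bffe8853ff8206820653762ec47a864b799e4e79064e822ced7a23087a1c447a06fd7a08a7ff070f8122e981067550a061949f88912021911fe539206395a0662fe1e93b206692df8194606330606b392061857fe081bf81c1a1e1b920a23c1f281460a7293fc1c3a1618b6167b6e162226121b88fa75066b73870c7186e678068a7686ee74130176a2727386b77b06b77306e6ff070dff82067806717a93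087b8a5678869b7b2e727c1afa7aa81579862f7b067879887d799a58449e64925f43afe421c0de6440dea1999ee1941f21b91ea815a041935ee1959f41bb1ec913bfc1c33f8192bfe081a007311da2bca4a52da6af14dfcaa91e21c2bfc1c2dfc18fccaff070a7887057e946f7b96b2ff07096f86c37aa306ff07087b8706ff0707ff07067c90486f22e8ff8206fe884b8686687306e8ff07058886b68888fb87862c86864887a2ae389e4192ffc1c11e81999e41939de1c09e4194de41959e41955e41955e8a911e84afdec8993fc1c0de01c07fc1c09b83bfffe081bfc1c05de1be26a1aaa6e386a0019b26a1a509a6d06e676067479066bff07007506697c206e7610706e06eb7706f27294eb7786747ca6ee7c064a7d38ec7c3473ff8206ff06ff7f86da7c06fc7c08f180a485850632871c4a2ca2e511ddcb3c61453c1e073c7fc1bfbfc1bf62a5a922a32da2a1afa261bd22e33e61463c3fc1bf222191e24711dd21b962a1bea6ae193fe081a6e18466e237a6a1bba6e68806a971846988645989845978e4697064693064592864592204592864593b2459312459422ea8e8ed9ff06fbff06fa8698669306e4ff82068a06e499863178886a99888eff06f920a60c11660191a64211a64191666291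64c511a4ea91a4c311a46191a4a191a4c1919e28bc65e1bb646d1a3fc1be2621ada101bc3fc1bde1459c3fc1bdbfe081a6aa20266a3cc3a7c865081184d7d864d8006558006549a8c5186904f7d9e6c8586c28690157986497bac707932df758667ff06f582aedfff06f49c861579864eff8206fe88289ca8bb9a86c714aa840869e390bfe0816a8186aac188690a8fe9a189298190e9a990ea218869e1b3ea619feb4188ea69096a6c102a6aa629a19029e2a4294733a8c5a228420e28c19729042e9eaaa9c40ad0640a70643a98622ff8205ac86cdae06d1fe063eaf063cae063aadb07aaf1c7dad86bdb00c59af06a9ad9691aca6d1ad862e9c86a6a820d4a28e2eadae5bab0e2f6eaae1b4aae18feae48faa829eaa44b4ab2188ffe0816b26b469e6346b21abaae1b36a0185eaa99eeb05262ba1a72ac1a96b61a5eba48b6baa0d68461d6861a1e70a01a8a19758a)) (.leaf (nat_lit 0xff8209a786dbae0adbaf14bdb0867bc08679ab06ccb18694c08689c38685a11665d48695b1861db19020d59e779f0665a8a2c8ae8685dc940ba6a425b80a34aa3e369a064586aba81eeca1b2a80726abe607bfe0827121a5eba6077f819f2c249faec18eec05072c61872a8510ebc909aca906ac21a1e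b65a42c66abebca0f60421b2166bf2961a866ea2d9baaa14caa92257ab8609ab9a2ca9063baa061ead063db0067fff8209ac861ead9684af0697b12a88aca83aafa8d2ab86a3b1069d9db8a6a406167d2a569d860c9f069aa9860c56b163227164263102a639021f3101aa7061a0f081826a23323108a12a41a73fe0826c49b2aba190aa01b22a4905ef4916ab21a970c1a36ba687a781ba6dc32f2be1a15e419312ac11685a686bcc58687c410a9e3867da6a6c7af06d7e49809fe887fff8209af069cb486ccb19cb8ae06219c86d0b99eacbb0c13ba0612b006d1a3923d9b0691a6861c9a065450ab819feb850ee841996c42202b21af6781a6b181a5abe4266bc1b32c68076c41a52a81907fe08269a62a2c6ab52c6689be418ab5858b2d61af6761a66981a3b522a4eb41ad0fab00c7ab11eaeafa020b006d2a98641aa86d2af0620ac06cdb18622ad0642b028229c86d0a806c9fe0679ff8209d30663b1861ecf1c27d186349986cd99a6c577870abb960b32a803196f07026a0195e843196a0185eac1a73043202b61af69ea2a3587a0e9a1aa2c0187aa21b23fe0827fa21eaf48962f018caf019e2f04a8ac01b2aec1ae2e2704e8c1b20e2f9065af68e81e50a8ffa8610e5865de99039ea0e2be6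86a0e806a1e90a0df98a39e51c9de816ace686a0e80610ff8209df868ec38688bcaa797b964cb8925ca306cdb6869d2cb2c41de9063231e182b5a1a5b301a5f0e78270a5a0f826ae3327ae2a6bb1f5e9032ce186ec66373541a02be6083586a0b6c38e3fe08279a2ab9de93d6fa438e8c9b1684185482bf9c9fad1ca59b96c5be868bbe869fbfa88cbe8636bf948fbe862dbfa037be862dbf9636bf862eb286199b86a6be96a9bd86b4b198d6b186d2ff8209f9868171266ea406e014ac01b5a9e1a72c27356b61872a48b5a7a1b22b8621ea018f6ca9b56b47212c0907abc8082c6ab56801a6aa21b1ec4183aea1962ba187ab61881fe1c1a82190606893bfe08240a76288aff8208769048771e6b790671780672750d01788a6476a100781e4877066981a8e37426f778870477b2e58386c28186ee99b6c27a9a6c830664841b0ea0860d8406b9809e071cde43c1e76222bf819cbfe0821fca419e0730ff819b9ea1b8dee6419e41c1dec5b2dfc1afdee1921fcabb1e81b8de698a1d41c2ddedc45e25c2276816e7a4351e21875ba7aa2089c86ee8386e3ff8208fe887376064c789c74790d077486df7a8708fe06706f1ee877a8ee7a06ef79870a7a864c992eb399068a7634717aa2509a24aa9e8612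990684749da73b9da1adde21adde669d1d819adc21b9bfe0821b81c41de1c45e41c05de1991e25131e618560851bdde1c25ce1b89e242ddd619c9e41bf9c85b31de1b41c818bdce72d58a7686da6f8f0a7386647a126f7586287586487a186a7506e5ff8208fe88727707097b10c07b064479871282066c738709849c1584864577070283061d840ce97c0656830630569d48311f81929f27ac9da68a1e619c1e61adddc1991e24c25e61c25ea8acbfe0821e6bb69e61c49dedc260619c5e2d391e41b7de88bb1d8c425b42b2dba33fdb21beffc1c4d2a7a06f57c1ee57a910d7887087406df75866a7b8648769c6afe8873ff82087806b27d0c517b066b7c3a6e7b866e7c06fe7a868a7b92f47ba8fa7a86867626666e06c6708676509c479b5c01b2dd018a1c21991e64449c26415ce638de819adc23bddc66415e08b2de2193ffe0821c618a1d27b89dc1c05da19a5dc6acde21af9e2209dde2165d09951dc7098fa848655859ec284865280065078a90b7707038012557706547d06448186547b06c0ff82087b2aef82a2707a9f128b12be8586f67a0674869ade81885e80867f80860b80a249449d68131e6a121dc5821da41c5da19d1c819a5ce1b89da31a5ea49b5e61c49b61c41ee41b9c41b9bf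819abfe0821e2d3cddc1c01de1ac9d24149dea951de30cdd21981de1a9cca78870174a6eb74869b76a2e572866779867076146e7686e376066e7786df75062872b51075b109ff8208fe886b790706762cf97306c477a90a780646730c3a768667791cf7389d232dde01a29e01c1dd63121d89c01e073c9ca39adcc53ddd819addea9d1ce1badce8c21dcd0a1c4a32de06199dc91b7fe0821e08c49daa1a2065b5a0a3a4e061aea02a3589a8986fc9688f49686f48e06fd948ae98c06fa83130e8e92be97aab69686a48c06e09110fa8986de9112f8910645ff8208872e4a76066989185495863295a6b09588d0a49c862c9c83445cc830dcc43c9cc59a9ca1b95bc1b2dd2632e1c1b7dd41c1dd69b8dd6bb8ddc9c09ca1c41c833d5d86911dc1bea0e1a6e0e1b83fe0823fa20a6129bd9baa3fddc71a86a7e064e7aa6497a864e7b0a4b7987037f06ec801abf801903819cc18006ec7e0656798711788704778669809acb7686e086064692b85476b10f75866eff8208742309fe07110ea7e19e68691ee821af67e185e8219e682535e7e1b1e8242a28242f6821a0282182a8238ee82a33e82215e8218fa8218627e82028218e282d235ce9426661b0a861a33fe08200a7a8f12741470741af7ff0712712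06d77a06f709ce8881acb780674780871771cf27e06547a86498986557e86da9930f984065582b4fe9a0647bc86b583a474ff820882862308b82198b921a4ffe081f8218bf865ac77a79836262bf40189f4842b7926987621abf8242ef5890ab724a2f9a68af7e18bf4e51eb9a1a778241768a20d1de1c13561a8df81959eae11063ff8207e49293e48611e488b0e11262e08662e18a13e1885fe4865fe5a060b3a019d886afe306a3e58630e50e32e18611b0063aa9063ea22440a10688a536b89a98c280b84801f7e1ac37a18bf4852b77e1a4ed21863fe081f902ac77a1aeb8018bb90198f886ad78018c79450d78428bec21b52801a6b7e3a9ea03b2292402e901b62a0195dde1c318a)))) (.node (nat_lit 2) (.node (nat_lit 1) (.leaf (nat_lit 0xe4865be712a2e706a3ff820dfe88a1be2258e5069de9900ee71478e5865df9869fe010bae71891e70610e71878d99614e3868fe28c29fa0610b786bbbf1411a3063a78070774afc19db4818b79438c2fc61db72522f5418aba65aaffe0837e81837e82283a61a3fac327b92828b9e52d79a3052f63aeeca43375a197b0e9a22d852ae409bee028c1b501a3972e79eaae00e2ed01427eb129eea869eeb06b5eb06b1ea8c12ec06b0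ec0811eb0612ff820dea869ffd86b4fe8a12dd86bab186d6a892c9d89a0ea89a8fa08686bc0e9d7e86c144b964a36c61b3b8c1a32ca1b4f903a8f9662839618cb8c1a06ca18675418aa8c1b17966a379219e36c30dec84b3ac639fbfe0836c61b6f9c318ef01a5e92b97edc91e2ee1a789aa886c7ae2086a80c75a98684af86d5a886ccaba279a6063ba98ea9af8e7ca98a7da8b0dba72824af1c41a78a98d20612a7a2bcb020d3ff820dac1e8ea5a62675a30d8486fc1aa041bbdd479a9d61c3dd88bbdcc1b0ddca401de9401cc8429c01bfdd61c3dce1c31c61bc9ea5155e0cbc9e2a40e10b99de4b932921c31e01c029670fbfe0835ec1afe7e88dc3aa0a43b9f867f9c8ad09f86dba0a0caa0aa989ea07ba0a4599c86d09f861fa0ac1f9f8688a0a4839f9ec7a09e75a08861a0a23aa0a6a2a08692ff820d9f86829e9c999f8e7e14b143aa7fe0833181967044217186226c4a0f6c2187b187a0ebc19eed61af7041a1ec6388718a213141a16b61b73044233141aeb0e325b14197dd2ac2a7869eea2d36e781a6a02d38688c3867dc5067dff820cc70859b08696a0069ab086dbaf0edcab24d4fe0697a790bcab9421a7069cab8641a688a8a90643c32210b11287781700a5a4dfa6a6b4c2061074b2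e925b6071671a18333221df2e1a5ac6187f1449fea0415ffe0833fa2263321ae3608a0ebe61fac01b46c66b6eb8690760516f601aaf60484ee24aeaf25a76c2aa5aa2785d5acb0697c79488ae9e3dcc1097d71077c6a67bb11098ff820ca806579c86d0a81657af9c24b18625ad86cfaf22ccae1621c31e91b28621c30699760707a71a10a68cdcb006975cabe1892c6186e781b76c6689ac24336b8a86e7c7376c218f2c298fac67896c290ff029227543a03fe0832ba18fec61a8ac21a8aca6976be186a862a1e8a1975e48b9e743a48e2af06dcd49c84d20684b0861db086cc9c86d0bb9c88b186d7b22080b1a67bb0ae88a686a8b386cc9f32ddcd9ab8b08630ff820cd486339d86c5ad1ad276a4f59b0849a6863b26b88617b90198b94418f8051874842b77c52ef84184b7818bf9062d38472eb7c1ac78c1a3f90683b904847901a9e861a4b6428a7fe0832caa07e0819a64e1c0f7c32435019ec82a206a2a3068ca306cea30ca29b86a6a31c8fa2062da20631a20631a31233a31236a20631a328ada20632a31834a30e40a21693a1389aa2061dff820ca406a69c8695a4221814bea1843d648d3fe082fe0196be81a42ce586792496fcc38cbcc18cfd248cbe41a9f9a1a8272929af849634c60b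70a1a5ab4190ab678935e583e6ea9f3502982ec603f7e2979eae5945dff820bf58634fa8e91f8085ae806a1a422c5ec942bf18630f294a7f20632f20e8eec8612d210aded948fad067fa8063ea686bca70643a60621a4a630a50616de869380bea182f9219e3221a0bfe082fdc20e7e8183e8a1a4b72722efc19dba8627f9a7177b848d78e8a4fb41a43482ab7904283541973027aa6ca286e862346a01a7a761b26907391d2b286d3ea10a1e50ca1f7868dfa100ee49e5cb2a2ceff820bda1437e7865ce7985ceb1639f18690e6865de41cace01278d38637b1323db186cda6a47bab869cd48e9f9906465cb941a76ca1867ae38afe4283be0223b925ae7c848cf9e4173e038e7fe082fa01a879a196f941a7726220b9a2982c63b3b7e2aee8019970e59f6dc1abae64aee77034a341bf542e586a1e3909da3a492e5942be3865be706acbf0676e306a29c86a6e486a2e59a29e58660ee862ff98633ff820bb30a89c08699b1b6a5db0638a51c3ba50618b5060ca21c6532b6e6a2f7038db6c18df701a7efc51db7018377018374c18b7701a3f7018e77018377482af701ac37470af70198ffe082f361a12c41a276c58c29698fe921b52921bcb3e38b8b27586749d067378a4697106ee789c4c76870d7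21f1071070d7506e27328e77386e2852228719a52721e8a71868a7b126e87070e8d06e499b672a60a83ff820ba1382d8c86f80eb1419f7fe082a943b23161a67041a170850330c3833043202ca735e988aa3142a0ebe589b001a56ce586ebe188ea2185eca1a32caab46c6aa2e888bb288195e9e584614193602d41698c00685c70696fe0687ff820abb0694aea41cfe0685b2a01db00694b2861db0867ea02a9ab2881eaf0622a796c9c30685c3069fc42478a18a62a28643b91a319a06be6eb1c41671879f30e2aa7fe082bfa2222b619d6c0832aca3077001a17064a66a0185eb470f2a6ab1ec6187ec623571818e2c459fec21a62c01aae889106841a56a81ae6a8a04dd2b0a4ccb006d5ad869cac14d4ac86dca69ea8ff820aa31ed0c10859c1060ca886c7adaed6b2861bc10e839d86c9b10635ae8624a41816b2305aa1089e7b266ea40668a7061e62b0219f2b618f7022a23062a27021a6704682a9a4aa302321ffa2223fe082b10a202be5356b8b8fac67b731632670e9222c6188f101ac6bc7a02001922641be69a1ac6c041f5429d96c9d29c94d40694ab86d5aa209caa1ad6ad24a9c3867dd5062cad067eac8675c58699a686bcfa062cff820ace248bd794b0d7862fd686b0bb8614b812ae998872b692a332ab81b5ece1b32c618769a1aa2b0635f0819df0869f6ce5333161a67121a275619e6801a6b5e1a5ea2bb27021a1a761b17fe082b5060c75a78bef218da961a29dc1c028e28649ac8a682c91a8fc91681c906acc9060fb086a5b086a5c906abca202ab292ceaf1ca5ca22aac91aa3c90660c9068db298d7d58677ca06b5ff820aa0169a8186feba0610b190d31abcc18cf221a0bd819e3e01aafe020d290285bec1843e018e38e2277a01a8fe4183f5418abb64ae6ca1b4f40189f54516ece18727c1b776a1973e829dbfe082a98e33e1a193c3a))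 (.leaf (nat_lit 0x7707047c93037c86bf7a8d04fe06bf79870277070bff82157b86507b886c77870b7e06537a86707b9ac07b06c07b06f179864f7a86be792e5079862b7a8cc3790cec7c901b5ca024afdf47b01f2192ffa2301e21c11fe199a041935de1c0a061939e61927fe0855fe99cdf21aca025305c44badfe1be1e67c11f228a1fe1bedfe23e5ee1bcdeea3f5ee8a6d2a990cd899aab69986de9986d99528f48986e98a06c68b10478e06688e08e98d1cd88e3cd98d1eb68d06a48d06ed9b87118a866c79186d7b16c0a606e2ff82159aa888a822240eac6387a844996c640eeb479eeba1a02d8a8b2d418b2801996b881e67ea05ed8b266b8690ac21b36be1b5ab4832a984b22b8934ad899eed81ab6ae1adab218fedc8aaffe08500aa414c8a71aa9a7167ca7063da612c8a60617a706dba706a9a5063ba7062ca706d6a73284a70698a82ccda7063da7069ca58a3ca606b0a72890b6867db69c36ff8214a606aa08bfe084f40389f7c18bbb21aefb43aef941ad37a1a4f945aab8022ab801aab801aab861ae780198f84616b801ac37c1a36f41a7eca687ef470f2e41a36e06282789b767019121ae09a14b39018ff8213e088b4de082ede065ede06aadf1061de1a14d00627e08693b18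6cedf86a0e08839d5062ac58899de0a9ead86cfda06aa8586fcb80697a386438228697ab4818b6f460e35640e2902316b89a97968177901a36ca1b4e90205af4196290185bb41a078842effe084ec21a974a18e75a5a9f561abaf41962881ac6c2307e12a1d2aa7a1ce2b09ed5b2861cb190dc9d90c9a886c7bc2a3bab06d4cc0677e00677cd1e97ae86d4b1067ca69ea8cd06949f1addce0627d70e59ff8213ce1a29bb8c7987070586a8eaa48662209d019a5e491c5dc79c5e46431be1b99c053a1e859bdee6931d04131dc1bb9fa1b69ee1955ea1c1de28adde01adde019c6361ba684e3867c19561e213ffe084eb418ee9a1b3c3a9886a49a22d99906be9a10e09a06a4861cf09a06fc9706688a06478b14fe8b06fe8c86be9806ea83190e8b86e179070a992e45890e4a92064bff8213ac1ebd9b067f6d8eeb14bac6ad786517f88197fb222d7b01ad744909fae5a7bb442c3fe084b8c197be61ac34862b78619879618539c1a7f82397eca187ef419632a8a0a886a86f43191cc19c698a9015ad00627df1aaae10e60de062ee006bae58a12e58cbbe38693d892afe58614d206adeb10b4ea86b4ff8212fe089ebe1c76b2901dd98614a69ea8a6065ba61ef2ad8c7ba60698389ca3acdcc82cdca1a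cdc01acdc29acdccaacdca1acdca6acdc81acdc6bacdc41acdcc1a91ce1ba5d41bd1cee3f26219c9d61b95dc8425da19b66c2aa3fe0849e48c226818a43a7306e27c066f799d057b11097b064a7206eb7b9cda7b15067c1508788e6e7a066f7d10bf7b06c17c06157d06517206e89a07019006fb78286bff82129a262ba1085582863e14bfe08474862b788297b84198f9c18bfae427b3c189f9a30538e19877e224f40189e90185b944aab901aaf621abec618977618bea2185f1272168c18ea8a7ae6901b5e9c42161ae81c2fed0e12e00c61e40662fa0611ff8211f88611ec969eec86b5fa0eb5f98c13dc908be806a1e092bbe7065ad70684d60630d70a84a6b2bc95066879870dd58ca27f870668b5e18bb60184ed2306340509f60185360198f62797f601ad36018bf64698f6480bb64418b646847644ac7641aaf5a597b66484bfe0846c419fe90833a3433f692e901d43c0082b286d1b08626b0867ab106d1b20e1bbcaa3cae9c1ab18625a80640af8e3cad2a41ad92cfb2a4d7ae0624b086d7d39ea1ff8210e60677d60ab9b78684b79a8d87064ab786ad26b4a484b461847461ac7461a4f4619874a62ab4a197b46198f4a68bb4a72d34a98be8a1a4b461ad7461a3f461a434632ab4a1aaada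92f74e80dffe08429e833ee082bb46194852f2860ff286abe30639ff820fc99482e59836e7988cab1ea5b086a5a422c5d5062ae78678e4945be3868ee58a5db0861db9067cb196d2c886a1bc061ba986dcbd14589b28f674bd818cb8e3977cc2ab3e618d3e24207a41a7f926a8be8183f263a0bfe083fa0528eca1b4f721a2f667abf9232c76018434818b6c2ca1f625a5ede416ad61a7e8c1b46da1af542e7069edf8e14de86b4e606aae68eaade8abad206addf86bbe486bbe09abbe0a2bbe486b1c98682e812a1ff820fd316add106adda92bab186d59986729b1a49a68cbc9d88e332b121a670c1a1e9a1af31251f70e19f2b21a12ba1966a41a729e7af2a21b22a21b22c0b346c6934abea90b007967fe083ef819da721b43001a3dce1ba26e18729af2960a1944b2a610a8a586d6a71ad4a606d7a71083a60685a60686a70679a00665a72679a58689a606b8a72094a606d4a6067ba606d5a60698a606b4a724dbff820f9a86b374a6e5a4063314bc018da94985af41963d218c3c418dba448a7fe083bc840d7dc196be62a47c81a43ae404be418e7926a4fe81847581ae6c21b538a18db7c19867a2295e61939e089ae8a18898a9c8ea69c062a9c065b9c22929d20a29d2a319d20319d248c9c06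369c06309c2a319c06919d24ce9c30769d1e199d082c9d2ca19d26429d067ea48a92ff820ea1063e9f1ad80eac09172b218a6b219dab61ae68c5316c4aa0ac4820ac492b2aa1ab2ba1a0ab21b4eb218a6aa18b6c48ae6be784eb421f6ae8906b69882c41a33fe083a781a9ec21bde981aa452990cb68f06fa9b88c69aa6b6a40ae08a06478b92d99906e18c86d88c88e1970a688f8ef673a4b39108ed8db0be7d06157a07097d0ef582064d8208fd7e864bff820e6f8ee808b92603b9e3a83fe08378e1a76ca1b4f92696ece1866ca2b3b9e18d39e1aafa24a07221a0a90505b8e18c38e218b8e30eeb089faa48b2ac61b72d858f2e218d6d81a1358318deaa29292ff820de686a09c86a6a28692e406abd61c2ae40636e3908ce4065be50e8ce4069fe41c33e40629e40c5eb11295b20e95bb8679a0069aa606cf770713d38635d506b080b987a33921a3ba61a3bf81a83fe0837a250d7a25a43a231e3a2403ba25a37a2183ba23ac2ceab4fa2203f9e1aaa721a9b4c1abb247ab2b8188694208a861ad6801b1e9881fdba))) (.node (nat_lit 1) (.leaf (nat_lit 0x9896e09922ea9a86d8a386a49986b67319137786f18b0cfe8c06fd8ca2689a32e182070e8b86f88b90e08b06e08214f4771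2667f1e52843667ff8224762702a48876739b02149c41badc83c35ce1b95d249b9d69421c86bfdda1c25d469ca1e819dd21b95e0a1a9e21911d4194dc81b99d61b8de661be08191280f319da744a941a63fe088e4f140e8018e03a9386e99a2abe9886d983070e898efc8a86de8b22de8e94ed8c86ea8c18c68a06ea8a1a689a8ad88c06f68b86d89e2eea74071386066c94c1039b0647818651ff82229f28f208a6e18967a6a567a9b4a7a933e7a18827a1a567a18867a188e7a60827a6b3e6c18867a408a7a1b467a1ae27a1a527468aa7a189a7a19027ee207fe08826e1b56361be2761aec52afa494b106b8b116d7ad1886b0a0d4aeaad5aea4d5ae8698ff821fa806579c8ed0b10677ad0ed6ae2499b10685b106d3a816c9b22ca3b10632aa0aacaa0624738711a6069656ac418b2b61a02a07202bc832a809a6a9e8af2761b27fe087ec47262ba61667a1b26c29096a01a72c41a5ec02346a0295ec41b4e9a1aa2c892761419366a30c6b81b3aa01a6572771870770709769f096f86e87406c47b06b27287126d86e66f070c7f2eb77606ff74870f79066f7f12647f06557686ee7190c37f1453803648ff821fa1062d78291384865f14a601b86644b7a661ada5433d2682afa2c1a9260a3f6301b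6260a3863c1bea30a3f638191a361af9ba1c4e3c33aac41c0dc81b9a861b62661b0a9018aa3623e3fe087a644348229886be9b22e0898cfc9014fa9c0ae1901efb8a86f68d16a48c88d98c86be8e86f89a06de9786c68c0ede8e86f685062877af0f7806f2a23ed9a4a261ff821d9e86a68610c90eabaaa0ec21b73fe0872ae1a0e9a22a2be71f2801996c81a26c87252c89b32ba1b32c81ababa18eec48abab82892ac18fac81a0acc28f2c418ae8c195e9ca096068bfa9242c5eab08e759e98c9a616a8a88675ff821ca78659a98684fe06d5ac923da79abcb1283dac86dcad0686ac06cab012bdb2169ea98ec7b1065fb106767707138106698006697086e66eac01ae2c019d6c26a1ac07a72b07a12b81b72b81b72c819d7fa235bfe0872be78eec419d6bc1a16c41a1ffa307ec418a69a42a2c852aab8188a702375d81c26021be6081c3942aca61da686a89e8ec9b006dcab8686ab96b8a80657a99ac79c86c9af1eb8aa8698a88623ff821cb1067ba68ca8b10aa7b11661aa063eb03039a5088ba78642a107109e06733eacc823ac8196ec828aacc628ecc5276c8a33acc61728c1b16cc4ae6b4ba96c8733acc1a86cc7aaecc909ecc2a06c68b6ec63b73fe0872be1a7272b445d49c2ec41a0a3c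43e882ac14419e06ddff821ba88641b0987aae0626ab147aaf0622b106cdb10826ae86d1b106a9ae0622af067eaf063aad86bdaea220b20a76b106ac75990bac86949886d99d068d7aacca2babe708ebe3093fe086ec622babaa10ab818fa9c1906b01906bc534ab819027ca376be1aa6be1b6ec28a5eb0190ac218d6c2a9f2c81a268823de841a3dd2344a8e42add29d061f9c069a9c06ca9d14579c061f9d161c9d0e949d1c9aa286869c06dc9d1a969d12409d147a9d187c9c06219d2859a3aa279e06c89d14a9782471ff821b9c0c379506680eaa818fe90189294888eac1882781b76988092be50feaa1887fe086aa0510e781b76801996b41abab81b32b8225ab2332aa01b2a7a3316b8baea9c1ab69a3a8a9c22de961a055ab296cea3a692b20c9db3102aff8219b2068eb186d3b30c58b206a3b186d3b206829c86a6b22cbab1869db32237b08631b1068da48643b18631a62626a386afad0623ae92db6eaca908ebe18faba28fec01a56c6189ab418fab4390ac66b4ab271eab0a906c8b0f2c49af6b41b2ac418f69e1af2c81a7eb648fec8723bfe08666818d66899ea668c068e99e06ab00686a99cc7b41083b10894af861daba680a91e9caf8c7bb30683af2cd7b186d7b42294b52a7cae86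96ae98cfad8620ff8218b4065ca81ac9b028527186717a22c2aa8621269ca1c1692239dc279b5d81c15fa1bddd0199dbe819ddc1c021e1991de19b5bc1c45f46305ea19ce001999c219a5d68b0dea1c4a681baa1a193ffe0861b219be1c8c3a9218d452a9867e9ca4d0b3187fa0069aae86dbaf8687a516c89e86c9a886c7a38cc9a62459ad96cdb0867dac86bdac9cd6a892cfac06cfad863fa886a36d86ffb0aa79ff8218a6862c08a741a12781b52781b5a782b1e741ae278636ffe085e742b527c6b2a7c2b6e8c1b2aa269ea9e18fe786a1aa01a0e9e1b729c1a229e1b32a01a79ea5c35d61b96161b6278423d8aa386bca48689a38677a586bca6063da486ca9f2275a8062ca8067da91ea9a91ca9a92479a7061fff8217a8887da80680a586bda786619e8ad070a2e6a28e19a3a679a3903138aa49272821876a41b32a462e2761b2680a9969819f2a4932aa41b52a45a1aa419dea41a1e9c78b2a489d67c1a6aa41b5bfe085ea8e8e6a4189e6c18ce7018826c2112823a849a978cc69b06a483190e9786ea9788f68a94be9706ea8a86f6741d138994fb8b86de983ad8888efa8c06c68ca0c680865175870d7486e89f86df86070eff8217b0a81f6e906e0ea7418de6c19da8e30a68a1a968e1ae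68e1a428a18d7fe085a8e7b4e8e5a768e1ab28e18c28e817e8e30628a197e8a18d2788a0e789a52781b3e6419ea381be9da1bd68a19dd7274866f7b1ce27487127494da76a4e87386e772a4e57486e76e0f0f74870d738ce678070075864e77065376870b80aef67f864b7c06c173a86aff8216b186227a070f81a2fe149d0d30dbe63fdca199dce5a6dc41bbdde19cdc07929ba1c3dce1b9dbe1c29ce7429ca1c35ce1c2dd2893dc81ba1c41b69d41b2dc01c0de6dbc9e81b01c0339a2a8bebfe08580a8690c29b22ec85066c87064fff821576070b778702860c4484865485b05579b5047a97037a86547986f776870f7a9b058428749a36d99906749a16659306f49a06627986cc6ea0833b1fc415a08a3920c2946049bb3fe085696185604199a0c1bb21c9146041935ee42c9f21b2dc8bbae001afdf01b86043bbe041955f2c311ec2c3df41959fc9a79f0740da2)) (.leaf (nat_lit 0x728d0c7590e37786ee758669ff824877069b76869b76067477a0cb7720f77186f774870c78a4c47586547b1eff779c6b72a51078a69b7c22f77496537786987486af7790836e9d6ac35cc1bc9bc1b0dda6c35b61c3dd21bd5c61b7dc2626dd293a1da5b69dedbb9bac449b81c3dea1c01d61953fe0921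b61925c63bfdc41bfdb819bdb89329bc9c11b8199cb276a0f1849aed760713ff82477806f182070e8a86fa8990f48a86e08bb0b68a86b68a8cfd77b4f18514f08906f982230e7c966e798e718206648208827a27088106c48106d774a0c443a361bda361b86361ba63a49a25e1b67fe091e324b822e23d22e1b66141bc25e23b6281bf9de9bc6324ba5ee4159e41b9dea793a32dbbe321abe061a92369a35ec1afd8a8a14688906d88928ea8906de83090e9aa4b68a90f48806fc888efc82070e8986edff82478906f47306b38916f47206e6891eea7c8e488906e785067f860eba85089c77a30444a2e1be2241bee263bedd0944e265bb6244be23e1b61d0544e3e1bda4263aa241b1a481be22a53e7f81bebfe0919d0d44dee1c0e003afe430aca3e1a7e201929b41ba1b4a1bcca9088f483150e8f8aa48f86e18f86d88b14fe8ca2688f8ef88f86f88506f08f8ad98806c6908668ff8246fe88fb8b0a4777a6677b066e7b864c8ea4c58ea4e48e86d38a06c338a221bb5d01c4e222bb6144bc23a4be2621b86261b863033a5de1bc62c191dde1bc6281bee0c543a2653fa142bc1d619aa621991e63c29c01bae669215fc1afffe091a044354228c1efb850ef07718f18e06f98510f08e06f68886fb90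26fa8f06fa8f08d88c06e98c18e0928efbff82459086688e06ec800abf783449789d048d06d98d27018d088a8e1cdd389fe8bddce1991c06c29fc732dce5415ce543dc81c31c019b5ca19a5c82c01da1c01ce19d1da1c29ce1c3de87b09fe1b9dfc7959ee1c03fe0917fa2162861b45e219aac46a946a9710ea9986e98e18fd9706c69828ea8b12d88e8ef8900cfb8b1ac68b86f68c1cf67307138f06a48f36d88c9cde86226c8006c47893048528e3840667ff82459a86ac7a070f0e9ea71b9ca1c45bc1c41ce1badca1bc9d81c25d443fdd61c05ca1c05c49441e67449c41b99f43947fe0911c6199dbc1c41e01941e05b89f21a91d81a51dc19dddca3d1dc8b14e29006fa970a689606689486be9486d98a06fc8506f08b06fd8906fe7486f18a1a47899cfc9b8ae18886fc759eb3ff82448186e093b6ef7b066e9396c292865493865d7686f52c9d24bcdd263cdd01bcdd01bcdd243cddeabcddc1bcdd81bcdda83cdd69bcdd41bcdde1bcde093ce041bce066bcdbc1bade019ae0a1c3a0a4ba5f05afffe09026419168489703a7787087286677394ff730af56e16eb7606e2778669778e48778712768664740701720707721e9b772f0377869b76064b9b890c7906c378b6d8a586b4ff823e9e86de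a5228b0e9d81bf9da1be1da191de25bf9de191de0a381de1bb5e053e5e21bc1e083e5d493d1dc1bf9e01915e2bba5dc1bf5d61c3deebb01ea5c3668db8bfe08e1ee19221ce415ce74485272a3138486478486f88486f88486f98598f48586b67918f1859ae9859cfd85a6fa8486e18486478486f98486fe848e4582064d77391086b6edff82377ba65078070772a90914a063a6dcc9c41d81c45c66b0dd61a6de21c31ca1c3de21c31b81b99d41c31d2643dea19b1e6c93de21c29ea29ca021b06021c1a301bf64c1bd2702983fe08c9c61b9a6c18d83a7606717821009d187277184c71948a7186e57606e77292e2760f0d7706ff779cb77706727c064878070776070c822e74770eda9a06e37310e6870b05a3063bff82309b224708a2443e6201be6101bfa241bedd41c4de08bc5d0744e081c3a381b7a2863f1cc1c4e60d9165c1bf63692fa421a922e1ba606193a181bc1e21c23fe08ba1e193e1ca38e1c8c14528186c1cd06529a86c28086c183865187064d7f8e66838cc17891037d8e4b808a6673b0e58f28e47e86737c86487719078eaaf87e0c5179866fa80655a18689ff822e7886c0089c64b7dc41c3dd019a9b61bc9d09bd5d07449ca42c9ca1c49ba7121d0a9a5c81921b2d391c4bc05c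21afdc61b05c2a409be4bcdc22be5c61b85c218c1be1c49b41adbfe08b40a9686f68886fc9886e09786f69818c697a4c68b0ee98d0ade83090e8a9ede9006fb98b8b69386468e86d9711b138886fc9d86de88b44f9abacbff822ca71c2f9a863d8606b814a50337ab6ab866823da5019a23823f62a1baa283afa141bc22e1be63253e2361af9d042cdd01c4e301bf5e01bc638a2de305bb6081bcdea1c360e19c27a81f7fe08a602193822ff8228729f126e96e27606c47012da7006646f86b77406ff760f0a7094e2748ae76e864a6e867272a6c36f8c4f73904a72a6b26d870f7514c674065f741ea96f06a46d90fb869e4dc27fe08a2901b2ddc1b89dc8429da83b9d08b11d0730dd45b11d01ba1ca1a29d61c2de41941e41949e8cc35e663f600bbde268bf1e61c15cc1c4a00194dd4894de21a56026d9e48721c4c7207067010b7711d0cff82287110716e96ef6e20da7306c4738c4c71ac6b71aaf56d8ce372b2df7298d972a4fc7286ee7086e56f86c37006c8710cd67210ef689cc1c41d0637dee19b9cc699dd819a9c81b11c88bba1018a1d651c3fe08a1d4737dd45405cc1bb1dc19d1dc2411d832cdd4991dc4c399d81c05d82325d018f5d41c09d01aa1428018538186c178970b7f06567f0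64d7d124b7f0e4e829ae48206e481064d7e16518e86ec6c06eb88124d88070693b24678066f8ab2468db68a8e06fa9da4e2a3868fff8228029e0638e1021c9d41c01ec441df81c19cc19b5b81c45ec31cddc81a9d4199dd4199df8715a0419d1d8cb7db41b9a16193dead1ce121bda6aebbaf819dffe089e741aaa1a1bb43a73a4b26e06e87a86c473070a77a0e774206b769cf2759a8a7206ee742e8a7006e877870478290574066d779a2875170b7426719986f17786f59d06e4a69abe85284dff822502a6243663853f6b41ba66e1b62403bea2853e664b3e65e1b66662292661b82301a926c1bd21483c23022da081c3a5a1955f2a305c84bae821ade8c91767018abfe08965a744022))))) (.leaf (nat_lit 0x1c81bc1da93f9d243e5d63bb5ce1bedce1bb5ca1b81ce1b19ce1bedce9bb5ce1c39d2a3a5cea3d9c21ba9bccb65d29379ce1bedd21c1dd22c31deaa89de6b5bfe09bdde1b68227a06647520c47206e879066dff82647326da7386eb7818f27326eb7906f57a1c6b7a186f6e06ff7a066c7a08707b16cb7807057606df778669702aeb738ce77306f17406d16e9c6199dda73bdcc43d5ba2c41d67405ba6b8db41c15e051c5b88415bea32dd2a415dc8c15e8a999ba1c45bccc45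dc743270baf9dc19cdbc8c43fe0966701b4ffa2199d08b705273b4e56f9ef57286ef7287016e071171868a6d9508769b056ea6716e0e6b7086f5732a6772066a71b7107107107207006fa0f56e87117686f0778704ff82559606e1a1a2d40e9c8cc3dd8826dc63badb85bfdda7435cc6bbdcc1bddb61b11bc9b0dd01bbdd8a26dba9bfdd4ab69dccb09d033dddc1b61d853c5d81999b86ba3fe0939ea1b05eaa3d9ea8b10528286fd8286c68286fa8286fc839cde828668828efe8286ea828eed742f13828afc8286f982a0e0828ce18286b687988a8186feff824d8336f3838674869ac682a6d58686cb209d41bfde819b9c61b7dd81c3dd81bfde28421dc8229d61bb9c67a2bfe0931d48311ec4141ccd30de61b9dec1949d88b19e25429ec4ba5e81bc5e822c1e81b25d03145d41a7142720700730706740a4c7086e67886b772a0f77924ef6f8eda7912ef74209b759cefff824b751f0076bceefd07079b06f2768711740713a5429b70ab02730e52782261780708449e06151e01b91e48159e019b1e01941de9b01da7309d45949dc1c11e04b01e03951d0c30dd8c39ddc7b11da194dd23421d21b89ce8419d639cdd21b4dd41b49d4a17ffe092c0aff824a6f86f76f06707686e77394e276a10779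0f077586e872869b7306c37022c3771ef77b86567a10727938ef78070d7990b677066a7906f979084b7406996e864f781c7a869e21b9dd81b69de736bfe0929ea1ac9dc837dda53d5e831bde019bdde81c3f81c21d419a9e28409e021c5dc19bdea5a91d0d1c1d619bdda1acdda2355cc1995c81bc1ce1999d2782af2740701760d017506df79146e6d071078070d7b86b2ff824afe89097b10727906527306697b9a567a064c79864e74070b7926ed7aa4567986fe78067378a30c7886b3569de8419e299a5e219cdee2419ea1b8de21c29d81c29d6599de219c9e6b1cffe0929ec3addcaa3cbf62431e233b9f81949da1bb1de1c09d44c4dd61c0dda3a59e29a81e243c12a7707077298e673a30c7e9ee37b07077a064a7e86737c224a7a86b2ff824a7b0673819f06810706889ee4fe8c4d810cef79946a7b865673070b802b01801a758022b080069f509ccd32de41ac9e44929cc1bddda732db66c45c019b5b61c45d81c41d01c45c419b5de1b89da1c45d21c15d48415e27449e81b09e85b9ffe092a1e22e21a1bba1a1bb61a1bc46a7794c080864eff8249790abf7a06c078870479130477910b79084f7906c27887027926667824e27686e57924747906bf760a537806f87806f6780863780d107706fc6e86ff7a9dc7c0a44712df01b01e83999e4192dd85951de49b1e01bb1fe1999e6240de41c0ffe0925e81b09e01a6dda1bc9f063eec6c366501b79c2a30e50524dd86c1dee1b064c1b7d12768703780f0277870278124977a64e780ac27a16c07920537824bf791d047a0655780709768667ff82497687017806507006eb77a070781b077586e070070c7306e0759ae5389e4d1a9d61c21d28c21d41c45cc8c41d219d1ce1931cc6bd5d843d5d27bc9e6b1c5c21badd21b95dc8c09e2b9266ac2c9de79b5da4397fe0926321be1fe1c19ea1942641b346a)))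
noncomputable def recs0 : Tr ℕ := (.leaf (nat_lit 0xc34018680301005ea00ba4016e802d10058a00ae40156802a10052a00a24013e80271004ca009640126802410046a))
noncomputable def rows : Tr ℕ := rows0
noncomputable def recs : Tr ℕ := recs0
noncomputable def ci0 : CI := ⟨[], (nat_lit 0), false, (.node (nat_lit 1) (.leaf Rule.defn) (.leaf Rule.copy)), (.leaf (XRule.rot (nat_lit 0) [] 130 0))⟩
noncomputable def ci10 : CI := ⟨[0], (nat_lit 34), false, (.node (nat_lit 16) (.node (nat_lit 8) (.node (nat_lit 4) (.node (nat_lit 2) (.node (nat_lit 1) (.leaf Rule.defn) (.leaf Rule.copy)) (.node (nat_lit 1) (.leaf (Rule.fwd [nat_lit 34] 130 0)) (.leaf (Rule.fwd [nat_lit 82, nat_lit 34, nat_lit 130, nat_lit 178, nat_lit 106, nat_lit 250, nat_lit 226, nat_lit 370, nat_lit 418, nat_lit 514, nat_lit 10, nat_lit 106] 84 2)))) (.node (nat_lit 2) (.node (nat_lit 1) (.leaf (Rule.fwd [nat_lit 442, nat_lit 34, nat_lit 154, nat_lit 202, nat_lit 250, nat_lit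 250, nat_lit 394, nat_lit 514, nat_lit 466, nat_lit 538] 76 0)) (.leaf (Rule.fwd [nat_lit 274, nat_lit 538, nat_lit 490, nat_lit 178, nat_lit 34, nat_lit 274, nat_lit 202, nat_lit 274, nat_lit 418, nat_lit 346, nat_lit 322, nat_lit 442, nat_lit 490] 118 0))) (.node (nat_lit 1) (.leaf (Rule.fwd [nat_lit 514, nat_lit 466, nat_lit 514, nat_lit 34, nat_lit 490, nat_lit 490] 73 1)) (.leaf (Rule.fwd [nat_lit 490, nat_lit 442, nat_lit 490, nat_lit 34, nat_lit 514, nat_lit 514] 72 3))))) (.node (nat_lit 4) (.node (nat_lit 2) (.node (nat_lit 1) (.leaf (Rule.fwd [nat_lit 466, nat_lit 34, nat_lit 538, nat_lit 442, nat_lit 490, nat_lit 418, nat_lit 274, nat_lit 274, nat_lit 226, nat_lit 178] 77 3)) (.leaf (Rule.fwd [nat_lit 226, nat_lit 250, nat_lit 106, nat_lit 82, nat_lit 130, nat_lit 370, nat_lit 418, nat_lit 514, nat_lit 442, nat_lit 490, nat_lit 538] 96 0))) (.node (nat_lit 1) (.leaf (Rule.fwd [nat_lit 154, nat_lit 418, nat_lit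 250, nat_lit 34, nat_lit 538, nat_lit 298, nat_lit 202, nat_lit 274, nat_lit 154, nat_lit 154, nat_lit 154] 111 5)) (.leaf (Rule.fwd [nat_lit 514, nat_lit 34, nat_lit 514, nat_lit 466, nat_lit 514, nat_lit 322, nat_lit 418, nat_lit 226, nat_lit 154, nat_lit 130, nat_lit 130, nat_lit 154, nat_lit 106] 87 3)))) (.node (nat_lit 2) (.node (nat_lit 1) (.leaf (Rule.fwd [nat_lit 82, nat_lit 154, nat_lit 10, nat_lit 10, nat_lit 58, nat_lit 58] 71 2)) (.leaf (Rule.fwd [nat_lit 10, nat_lit 58, nat_lit 58, nat_lit 10, nat_lit 82, nat_lit 154] 71 6))) (.node (nat_lit 1) (.leaf (Rule.fwd [nat_lit 274, nat_lit 130, nat_lit 466, nat_lit 226, nat_lit 34, nat_lit 178, nat_lit 106, nat_lit 226, nat_lit 250, nat_lit 466, nat_lit 538] 108 0)) (.leaf (Rule.fwd [nat_lit 250, nat_lit 394, nat_lit 466, nat_lit 178, nat_lit 34, nat_lit 154, nat_lit 154, nat_lit 106, nat_lit 250, nat_lit 226, nat_lit 250, nat_lit 418, nat_lit 466, nat_lit 514]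 104 0)))))) (.node (nat_lit 4) (.node (nat_lit 2) (.node (nat_lit 1) (.leaf (Rule.fwd [nat_lit 82, nat_lit 130, nat_lit 82, nat_lit 82, nat_lit 82] 68 3)) (.leaf (Rule.fwd [nat_lit 250, nat_lit 298, nat_lit 370, nat_lit 274, nat_lit 34, nat_lit 538, nat_lit 322, nat_lit 322, nat_lit 250, nat_lit 154, nat_lit 154, nat_lit 130, nat_lit 130, nat_lit 178] 103 6))) (.node (nat_lit 1) (.leaf (Rule.fwd [nat_lit 154, nat_lit 274, nat_lit 418, nat_lit 82, nat_lit 106, nat_lit 178, nat_lit 346, nat_lit 394, nat_lit 514, nat_lit 466, nat_lit 538] 80 0)) (.leaf (Rule.fwd [nat_lit 58, nat_lit 58, nat_lit 10, nat_lit 82, nat_lit 154, nat_lit 10] 71 5)))) (.node (nat_lit 1) (.leaf (Rule.fwd [nat_lit 226, nat_lit 250, nat_lit 202, nat_lit 250, nat_lit 394, nat_lit 322, nat_lit 442, nat_lit 34, nat_lit 418, nat_lit 418] 78 3)) (.leaf (Rule.fwd [nat_lit 58, nat_lit 154, nat_lit 106, nat_lit 82, nat_lit 106, nat_lit 106, nat_lit 106, nat_lit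 106, nat_lit 178, nat_lit 202, nat_lit 274, nat_lit 418, nat_lit 346, nat_lit 394, nat_lit 514, nat_lit 466] 124 0))))), (.node (nat_lit 1) (.leaf XRule.defn) (.leaf XRule.defn))⟩
noncomputable def ci34 : CI := ⟨[1], (nat_lit 10), false, (.node (nat_lit 32) (.node (nat_lit 16) (.node (nat_lit 8) (.node (nat_lit 4) (.node (nat_lit 2) (.node (nat_lit 1) (.leaf Rule.defn) (.leaf Rule.copy)) (.node (nat_lit 1) (.leaf (Rule.fwd [nat_lit 10] 130 0)) (.leaf (Rule.fwd [nat_lit 58, nat_lit 58, nat_lit 58, nat_lit 106, nat_lit 58] 69 4)))) (.node (nat_lit 2) (.node (nat_lit 1) (.leaf (Rule.fwd [nat_lit 538, nat_lit 322, nat_lit 322, nat_lit 226, nat_lit 250, nat_lit 226, nat_lit 178, nat_lit 178, nat_lit 106, nat_lit 58, nat_lit 58, nat_lit 274, nat_lit 178] 93 1)) (.leaf (Rule.fwd [nat_lit 514, nat_lit 514, nat_lit 10, nat_lit 490, nat_lit 442, nat_lit 490] 72 0))) (.node (nat_lit 1) (.leaf (Rule.fwd [nat_lit 418, nat_lit 418,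 nat_lit 10, nat_lit 226, nat_lit 250, nat_lit 202, nat_lit 250, nat_lit 394, nat_lit 322, nat_lit 442] 78 0)) (.leaf (Rule.fwd [nat_lit 538, nat_lit 442, nat_lit 490, nat_lit 418, nat_lit 274, nat_lit 274, nat_lit 226, nat_lit 178, nat_lit 10, nat_lit 466] 77 1))))) (.node (nat_lit 4) (.node (nat_lit 2) (.node (nat_lit 1) (.leaf (Rule.fwd [nat_lit 154, nat_lit 202, nat_lit 250, nat_lit 250, nat_lit 394, nat_lit 514, nat_lit 466, nat_lit 538, nat_lit 10, nat_lit 442] 76 2)) (.leaf (Rule.fwd [nat_lit 538, nat_lit 298, nat_lit 202, nat_lit 274, nat_lit 154, nat_lit 154, nat_lit 154, nat_lit 10, nat_lit 154, nat_lit 418, nat_lit 250] 111 1))) (.node (nat_lit 1) (.leaf (Rule.fwd [nat_lit 130, nat_lit 178, nat_lit 178, nat_lit 274, nat_lit 274, nat_lit 346, nat_lit 322, nat_lit 514, nat_lit 442, nat_lit 490, nat_lit 10, nat_lit 298, nat_lit 226, nat_lit 394, nat_lit 202] 126 5)) (.leaf (Rule.fwd [nat_lit 466, nat_lit 514, nat_lit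 514, nat_lit 322, nat_lit 394, nat_lit 154, nat_lit 154, nat_lit 130, nat_lit 82, nat_lit 202, nat_lit 130, nat_lit 202] 99 1)))) (.node (nat_lit 2) (.node (nat_lit 1) (.leaf (Rule.fwd [nat_lit 466, nat_lit 514, nat_lit 514, nat_lit 322, nat_lit 370, nat_lit 274, nat_lit 274, nat_lit 202, nat_lit 130, nat_lit 178, nat_lit 178, nat_lit 10, nat_lit 154, nat_lit 442, nat_lit 538, nat_lit 178] 129 1)) (.leaf (Rule.fwd [nat_lit 538, nat_lit 514, nat_lit 514, nat_lit 418, nat_lit 322, nat_lit 250, nat_lit 250, nat_lit 154, nat_lit 154, nat_lit 106, nat_lit 178, nat_lit 10, nat_lit 154, nat_lit 322, nat_lit 202] 101 1))) (.node (nat_lit 1) (.leaf (Rule.fwd [nat_lit 178, nat_lit 130, nat_lit 154, nat_lit 106, nat_lit 226, nat_lit 274, nat_lit 202, nat_lit 370, nat_lit 514, nat_lit 10, nat_lit 178, nat_lit 250, nat_lit 154] 94 4)) (.leaf (Rule.fwd [nat_lit 130, nat_lit 178, nat_lit 250, nat_lit 418, nat_lit 370, nat_lit 538, nat_lit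 58, nat_lit 250, nat_lit 418] 74 3)))))) (.node (nat_lit 8) (.node (nat_lit 4) (.node (nat_lit 2) (.node (nat_lit 1) (.leaf (Rule.fwd [nat_lit 178, nat_lit 58, nat_lit 34, nat_lit 82, nat_lit 82, nat_lit 34] 70 5)) (.leaf (Rule.fwd [nat_lit 538, nat_lit 442, nat_lit 490, nat_lit 418, nat_lit 370, nat_lit 154, nat_lit 130, nat_lit 58, nat_lit 394, nat_lit 250, nat_lit 178] 81 1))) (.node (nat_lit 1) (.leaf (Rule.fwd [nat_lit 490, nat_lit 490, nat_lit 10, nat_lit 514, nat_lit 466, nat_lit 514] 73 4)) (.leaf (Rule.fwd [nat_lit 34, nat_lit 178, nat_lit 58, nat_lit 34, nat_lit 82, nat_lit 82] 70 4)))) (.node (nat_lit 2) (.node (nat_lit 1) (.leaf (Rule.fwd [nat_lit 370, nat_lit 418, nat_lit 298, nat_lit 490, nat_lit 442, nat_lit 490, nat_lit 10, nat_lit 274, nat_lit 442, nat_lit 178, nat_lit 130] 112 5)) (.leaf (Rule.fwd [nat_lit 130, nat_lit 178, nat_lit 106, nat_lit 106, nat_lit 178, nat_lit 202, nat_lit 394, nat_lit 298,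 nat_lit 490, nat_lit 442, nat_lit 490, nat_lit 10, nat_lit 490] 86 2))) (.node (nat_lit 1) (.leaf (Rule.fwd [nat_lit 490, nat_lit 442, nat_lit 394, nat_lit 274, nat_lit 202, nat_lit 274, nat_lit 130, nat_lit 178, nat_lit 178, nat_lit 10, nat_lit 154, nat_lit 442, nat_lit 418, nat_lit 274] 105 1)) (.leaf (Rule.fwd [nat_lit 538, nat_lit 442, nat_lit 274, nat_lit 202, nat_lit 130, nat_lit 154, nat_lit 10, nat_lit 202, nat_lit 442, nat_lit 106, nat_lit 250] 109 1))))) (.node (nat_lit 4) (.node (nat_lit 2) (.node (nat_lit 1) (.leaf (Rule.fwd [nat_lit 178, nat_lit 106, nat_lit 226, nat_lit 250, nat_lit 466, nat_lit 538, nat_lit 10, nat_lit 274, nat_lit 130, nat_lit 466, nat_lit 226] 108 5)) (.leaf (Rule.fwd [nat_lit 274, nat_lit 202, nat_lit 274, nat_lit 418, nat_lit 346, nat_lit 322, nat_lit 442, nat_lit 490, nat_lit 10, nat_lit 274, nat_lit 538, nat_lit 490, nat_lit 178] 118 5))) (.node (nat_lit 1) (.leaf (Rule.fwd [nat_lit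 514, nat_lit 466, nat_lit 490, nat_lit 298, nat_lit 370, nat_lit 250, nat_lit 250, nat_lit 154, nat_lit 154, nat_lit 106, nat_lit 10, nat_lit 226, nat_lit 418, nat_lit 202, nat_lit 322] 127 1)) (.leaf (Rule.fwd [nat_lit 82, nat_lit 82, nat_lit 34, nat_lit 34, nat_lit 178, nat_lit 58] 70 1)))) (.node (nat_lit 2) (.node (nat_lit 1) (.leaf (Rule.fwd [nat_lit 490, nat_lit 346, nat_lit 418, nat_lit 418, nat_lit 250, nat_lit 106, nat_lit 106, nat_lit 154, nat_lit 10, nat_lit 58, nat_lit 226, nat_lit 370, nat_lit 250] 115 1)) (.leaf (Rule.fwd [nat_lit 514, nat_lit 466, nat_lit 514, nat_lit 322, nat_lit 418, nat_lit 226, nat_lit 154, nat_lit 130, nat_lit 130, nat_lit 154, nat_lit 106, nat_lit 10, nat_lit 514] 87 1))) (.node (nat_lit 1) (.leaf (Rule.fwd [nat_lit 538, nat_lit 322, nat_lit 322, nat_lit 250, nat_lit 154, nat_lit 154, nat_lit 130, nat_lit 130, nat_lit 178, nat_lit 10, nat_lit 250, nat_lit 298, nat_lit 370, nat_lit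 274] 103 1)) (.leaf (Rule.fwd [nat_lit 154, nat_lit 154, nat_lit 106, nat_lit 226, nat_lit 250, nat_lit 250, nat_lit 346, nat_lit 298, nat_lit 490, nat_lit 490, nat_lit 442, nat_lit 10, nat_lit 154, nat_lit 538, nat_lit 466, nat_lit 178] 128 5))))))) (.node (nat_lit 1) (.leaf (Rule.fwd [nat_lit 106, nat_lit 106, nat_lit 178, nat_lit 178, nat_lit 202, nat_lit 274, nat_lit 370, nat_lit 394, nat_lit 442, nat_lit 10, nat_lit 274, nat_lit 418, nat_lit 58, nat_lit 106] 122 5)) (.leaf (Rule.fwd [nat_lit 130, nat_lit 34, nat_lit 490, nat_lit 394, nat_lit 346, nat_lit 202, nat_lit 274, nat_lit 130, nat_lit 154, nat_lit 106, nat_lit 10, nat_lit 58] 85 3)))), (.node (nat_lit 1) (.leaf XRule.defn) (.leaf XRule.defn))⟩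
noncomputable def ci58 : CI := ⟨[2], (nat_lit 82), false, (.node (nat_lit 16) (.node (nat_lit 8) (.node (nat_lit 4) (.node (nat_lit 2) (.node (nat_lit 1) (.leaf Rule.defn) (.leaf Rule.copy)) (.node (nat_lit 1) (.leaf (Rule.fwd [nat_lit 82] 130 0)) (.leaf (Rule.fwd [nat_lit 10, nat_lit 82, nat_lit 154, nat_lit 10, nat_lit 10, nat_lit 58] 71 3)))) (.node (nat_lit 2) (.node (nat_lit 1) (.leaf (Rule.fwd [nat_lit 394, nat_lit 250, nat_lit 178, nat_lit 34, nat_lit 538, nat_lit 442, nat_lit 490, nat_lit 418, nat_lit 370, nat_lit 154, nat_lit 130] 81 5)) (.leaf (Rule.fwd [nat_lit 34, nat_lit 58, nat_lit 58, nat_lit 58, nat_lit 106] 69 5))) (.node (nat_lit 1) (.leaf (Rule.fwd [nat_lit 34, nat_lit 82, nat_lit 82, nat_lit 34, nat_lit 34, nat_lit 178] 70 0)) (.leaf (Rule.fwd [nat_lit 58, nat_lit 274, nat_lit 178, nat_lit 34, nat_lit 538, nat_lit 322, nat_lit 322, nat_lit 226, nat_lit 250, nat_lit 226, nat_lit 178, nat_lit 178, nat_lit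 106] 93 5))))) (.node (nat_lit 4) (.node (nat_lit 2) (.node (nat_lit 1) (.leaf (Rule.fwd [nat_lit 154, nat_lit 226, nat_lit 106, nat_lit 34, nat_lit 514, nat_lit 394, nat_lit 346, nat_lit 250, nat_lit 226, nat_lit 250, nat_lit 130, nat_lit 154, nat_lit 130] 89 5)) (.leaf (Rule.fwd [nat_lit 106, nat_lit 178, nat_lit 106, nat_lit 202, nat_lit 274, nat_lit 394, nat_lit 346, nat_lit 298, nat_lit 514, nat_lit 538, nat_lit 10, nat_lit 274, nat_lit 370, nat_lit 178] 120 4))) (.node (nat_lit 1) (.leaf (Rule.fwd [nat_lit 370, nat_lit 490, nat_lit 250, nat_lit 34, nat_lit 514, nat_lit 394, nat_lit 202, nat_lit 106, nat_lit 106, nat_lit 106, nat_lit 154, nat_lit 154, nat_lit 106] 117 5)) (.leaf (Rule.fwd [nat_lit 106, nat_lit 178, nat_lit 178, nat_lit 418, nat_lit 298, nat_lit 490, nat_lit 490, nat_lit 442, nat_lit 10, nat_lit 226, nat_lit 106, nat_lit 226] 98 4)))) (.node (nat_lit 2) (.node (nat_lit 1) (.leaf (Rule.fwd [nat_lit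 58, nat_lit 58, nat_lit 106, nat_lit 58, nat_lit 34] 69 3)) (.leaf (Rule.fwd [nat_lit 274, nat_lit 178, nat_lit 34, nat_lit 538, nat_lit 322, nat_lit 322, nat_lit 226, nat_lit 250, nat_lit 226, nat_lit 178, nat_lit 178, nat_lit 106, nat_lit 58] 93 4))) (.node (nat_lit 1) (.leaf (Rule.fwd [nat_lit 58, nat_lit 106, nat_lit 58, nat_lit 34, nat_lit 58] 69 2)) (.leaf (Rule.fwd [nat_lit 154, nat_lit 106, nat_lit 82, nat_lit 106, nat_lit 106, nat_lit 106, nat_lit 106, nat_lit 178, nat_lit 202, nat_lit 274, nat_lit 418, nat_lit 346, nat_lit 394, nat_lit 514, nat_lit 466, nat_lit 10] 124 1)))))) (.node (nat_lit 4) (.node (nat_lit 2) (.node (nat_lit 1) (.leaf (Rule.fwd [nat_lit 298, nat_lit 394, nat_lit 82, nat_lit 322, nat_lit 418, nat_lit 250, nat_lit 202, nat_lit 154, nat_lit 154, nat_lit 130, nat_lit 130, nat_lit 178] 83 4)) (.leaf (Rule.fwd [nat_lit 58, nat_lit 10, nat_lit 82, nat_lit 154, nat_lit 10, nat_lit 10] 71 4))) (.node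 (nat_lit 1) (.leaf (Rule.fwd [nat_lit 106, nat_lit 58, nat_lit 34, nat_lit 58, nat_lit 58] 69 1)) (.leaf (Rule.fwd [nat_lit 322, nat_lit 490, nat_lit 274, nat_lit 34, nat_lit 466, nat_lit 490, nat_lit 322, nat_lit 394, nat_lit 346, nat_lit 106, nat_lit 106, nat_lit 106, nat_lit 154, nat_lit 154, nat_lit 154] 107 5)))) (.node (nat_lit 2) (.node (nat_lit 1) (.leaf (Rule.fwd [nat_lit 226, nat_lit 370, nat_lit 250, nat_lit 34, nat_lit 490, nat_lit 346, nat_lit 418, nat_lit 418, nat_lit 250, nat_lit 106, nat_lit 106, nat_lit 154, nat_lit 10] 115 5)) (.leaf (Rule.fwd [nat_lit 34, nat_lit 130, nat_lit 34, nat_lit 490, nat_lit 394, nat_lit 346, nat_lit 202, nat_lit 274, nat_lit 130, nat_lit 154, nat_lit 106, nat_lit 10] 85 4))) (.leaf (Rule.fwd [nat_lit 130, nat_lit 178, nat_lit 82, nat_lit 34, nat_lit 442, nat_lit 490, nat_lit 418, nat_lit 370, nat_lit 394, nat_lit 250, nat_lit 226, nat_lit 154, nat_lit 130, nat_lit 130, nat_lit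 130, nat_lit 130] 125 5))))), (.node (nat_lit 1) (.leaf XRule.defn) (.leaf XRule.defn))⟩
noncomputable def ci82 : CI := ⟨[3], (nat_lit 58), false, (.node (nat_lit 16) (.node (nat_lit 8) (.node (nat_lit 4) (.node (nat_lit 2) (.node (nat_lit 1) (.leaf Rule.defn) (.leaf Rule.copy)) (.node (nat_lit 1) (.leaf (Rule.fwd [nat_lit 58] 130 0)) (.leaf (Rule.fwd [nat_lit 82, nat_lit 82, nat_lit 10, nat_lit 82, nat_lit 130] 68 0)))) (.node (nat_lit 2) (.node (nat_lit 1) (.leaf (Rule.fwd [nat_lit 82, nat_lit 10, nat_lit 82, nat_lit 130, nat_lit 82] 68 1)) (.leaf (Rule.fwd [nat_lit 130, nat_lit 370, nat_lit 418, nat_lit 514, nat_lit 442, nat_lit 490, nat_lit 538, nat_lit 10, nat_lit 226, nat_lit 250, nat_lit 106] 96 4))) (.node (nat_lit 1) (.leaf (Rule.fwd [nat_lit 538, nat_lit 346, nat_lit 394, nat_lit 274, nat_lit 154, nat_lit 106, nat_lit 10, nat_lit 394, nat_lit 274] 75 1)) (.leaf (Rule.fwd [nat_lit 322, nat_lit 418, nat_lit 250,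 nat_lit 202, nat_lit 154, nat_lit 154, nat_lit 130, nat_lit 130, nat_lit 178, nat_lit 58, nat_lit 298, nat_lit 394] 83 1))))) (.node (nat_lit 4) (.node (nat_lit 2) (.node (nat_lit 1) (.leaf (Rule.fwd [nat_lit 202, nat_lit 130, nat_lit 202, nat_lit 34, nat_lit 466, nat_lit 514, nat_lit 514, nat_lit 322, nat_lit 394, nat_lit 154, nat_lit 154, nat_lit 130] 99 5)) (.leaf (Rule.fwd [nat_lit 106, nat_lit 106, nat_lit 106, nat_lit 106, nat_lit 178, nat_lit 202, nat_lit 274, nat_lit 418, nat_lit 346, nat_lit 394, nat_lit 514, nat_lit 466, nat_lit 10, nat_lit 58, nat_lit 154, nat_lit 106] 124 4))) (.node (nat_lit 1) (.leaf (Rule.fwd [nat_lit 130, nat_lit 82, nat_lit 82, nat_lit 82, nat_lit 10] 68 4)) (.leaf (Rule.fwd [nat_lit 10, nat_lit 82, nat_lit 130, nat_lit 82, nat_lit 82] 68 2)))) (.node (nat_lit 2) (.node (nat_lit 1) (.leaf (Rule.fwd [nat_lit 106, nat_lit 178, nat_lit 106, nat_lit 274, nat_lit 202, nat_lit 274, nat_lit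 370, nat_lit 418, nat_lit 490, nat_lit 10, nat_lit 130, nat_lit 202, nat_lit 178] 88 4)) (.leaf (Rule.fwd [nat_lit 130, nat_lit 154, nat_lit 154, nat_lit 202, nat_lit 274, nat_lit 202, nat_lit 298, nat_lit 298, nat_lit 538, nat_lit 10, nat_lit 154, nat_lit 250, nat_lit 82] 92 4))) (.node (nat_lit 1) (.leaf (Rule.fwd [nat_lit 178, nat_lit 178, nat_lit 178, nat_lit 130, nat_lit 130, nat_lit 130, nat_lit 370, nat_lit 418, nat_lit 298, nat_lit 514, nat_lit 442, nat_lit 10, nat_lit 250, nat_lit 514, nat_lit 298] 106 4)) (.leaf (Rule.fwd [nat_lit 130, nat_lit 178, nat_lit 178, nat_lit 130, nat_lit 130, nat_lit 130, nat_lit 226, nat_lit 418, nat_lit 490, nat_lit 10, nat_lit 274, nat_lit 514, nat_lit 346] 116 4)))))) (.node (nat_lit 4) (.node (nat_lit 2) (.node (nat_lit 1) (.leaf (Rule.fwd [nat_lit 34, nat_lit 34, nat_lit 178, nat_lit 58, nat_lit 34, nat_lit 82] 70 3)) (.leaf (Rule.fwd [nat_lit 154, nat_lit 10, nat_lit 10, nat_lit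 58, nat_lit 58, nat_lit 10] 71 1))) (.node (nat_lit 1) (.leaf (Rule.fwd [nat_lit 154, nat_lit 346, nat_lit 250, nat_lit 34, nat_lit 538, nat_lit 490, nat_lit 322, nat_lit 370, nat_lit 418, nat_lit 250, nat_lit 226, nat_lit 130, nat_lit 154, nat_lit 130] 121 5)) (.leaf (Rule.fwd [nat_lit 34, nat_lit 442, nat_lit 490, nat_lit 418, nat_lit 370, nat_lit 394, nat_lit 250, nat_lit 226, nat_lit 154, nat_lit 130, nat_lit 130, nat_lit 130, nat_lit 130, nat_lit 58, nat_lit 130, nat_lit 178] 125 2)))) (.node (nat_lit 2) (.node (nat_lit 1) (.leaf (Rule.fwd [nat_lit 82, nat_lit 34, nat_lit 34, nat_lit 178, nat_lit 58, nat_lit 34] 70 2)) (.leaf (Rule.fwd [nat_lit 82, nat_lit 130, nat_lit 154, nat_lit 154, nat_lit 202, nat_lit 274, nat_lit 202, nat_lit 298, nat_lit 298, nat_lit 538, nat_lit 10, nat_lit 154, nat_lit 250] 92 3))) (.node (nat_lit 1) (.leaf (Rule.fwd [nat_lit 178, nat_lit 130, nat_lit 154, nat_lit 106, nat_lit 250, nat_lit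 418, nat_lit 346, nat_lit 322, nat_lit 514, nat_lit 10, nat_lit 154, nat_lit 202, nat_lit 346] 90 4)) (.leaf (Rule.fwd [nat_lit 34, nat_lit 130, nat_lit 178, nat_lit 106, nat_lit 250, nat_lit 226, nat_lit 370, nat_lit 418, nat_lit 514, nat_lit 10, nat_lit 106, nat_lit 10] 84 3)))))), (.node (nat_lit 1) (.leaf XRule.defn) (.leaf XRule.defn))⟩
noncomputable def ci106 : CI := ⟨[4], (nat_lit 130), true, (.node (nat_lit 32) (.node (nat_lit 16) (.node (nat_lit 8) (.node (nat_lit 4) (.node (nat_lit 2) (.node (nat_lit 1) (.leaf Rule.defn) (.leaf Rule.copy)) (.node (nat_lit 1) (.leaf (Rule.fwd [nat_lit 130] 130 0)) (.leaf (Rule.fwd [nat_lit 226, nat_lit 58, nat_lit 106, nat_lit 178, nat_lit 178, nat_lit 418, nat_lit 298, nat_lit 490, nat_lit 490, nat_lit 442, nat_lit 10, nat_lit 226] 98 2)))) (.node (nat_lit 2) (.node (nat_lit 1) (.leaf (Rule.fwd [nat_lit 154, nat_lit 130, nat_lit 202, nat_lit 178, nat_lit 106] 35 3)) (.leaf (Rule.fwd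 [nat_lit 490, nat_lit 130, nat_lit 538, nat_lit 466, nat_lit 202, nat_lit 466, nat_lit 178] 52 0))) (.node (nat_lit 1) (.leaf (Rule.fwd [nat_lit 202, nat_lit 322, nat_lit 106, nat_lit 154, nat_lit 298, nat_lit 514, nat_lit 418] 50 5)) (.leaf (Rule.fwd [nat_lit 298, nat_lit 202, nat_lit 178, nat_lit 130, nat_lit 370, nat_lit 442, nat_lit 538] 45 5))))) (.node (nat_lit 4) (.node (nat_lit 2) (.node (nat_lit 1) (.leaf (Rule.fwd [nat_lit 514, nat_lit 250, nat_lit 178, nat_lit 226, nat_lit 394, nat_lit 106] 40 1)) (.leaf (Rule.fwd [nat_lit 154, nat_lit 274, nat_lit 202, nat_lit 466, nat_lit 106, nat_lit 154, nat_lit 538] 46 0))) (.node (nat_lit 1) (.leaf (Rule.fwd [nat_lit 346, nat_lit 106, nat_lit 154, nat_lit 274, nat_lit 274, nat_lit 202, nat_lit 538] 48 6)) (.leaf (Rule.fwd [nat_lit 514, nat_lit 130, nat_lit 154, nat_lit 442, nat_lit 226, nat_lit 442, nat_lit 538] 53 3)))) (.node (nat_lit 2) (.node (nat_lit 1) (.leaf (Rule.fwd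 [nat_lit 274, nat_lit 154, nat_lit 106, nat_lit 274, nat_lit 154] 66 0)) (.leaf (Rule.fwd [nat_lit 202, nat_lit 106, nat_lit 394, nat_lit 466, nat_lit 490, nat_lit 322, nat_lit 178] 62 0))) (.node (nat_lit 1) (.leaf (Rule.fwd [nat_lit 106, nat_lit 154, nat_lit 130, nat_lit 202, nat_lit 178] 35 4)) (.leaf (Rule.fwd [nat_lit 178, nat_lit 178, nat_lit 418, nat_lit 298, nat_lit 490, nat_lit 490, nat_lit 442, nat_lit 10, nat_lit 226, nat_lit 106, nat_lit 226, nat_lit 58] 98 5)))))) (.node (nat_lit 8) (.node (nat_lit 4) (.node (nat_lit 2) (.node (nat_lit 1) (.leaf (Rule.fwd [nat_lit 154, nat_lit 538, nat_lit 106, nat_lit 154, nat_lit 274, nat_lit 202, nat_lit 466] 46 5)) (.leaf (Rule.fwd [nat_lit 154, nat_lit 274, nat_lit 274, nat_lit 202, nat_lit 538, nat_lit 106, nat_lit 346] 48 0))) (.node (nat_lit 1) (.leaf (Rule.fwd [nat_lit 106, nat_lit 514, nat_lit 250, nat_lit 178, nat_lit 226, nat_lit 394] 40 0)) (.leaf (Rule.fwd [nat_lit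 178, nat_lit 130, nat_lit 130, nat_lit 154, nat_lit 226] 34 0)))) (.node (nat_lit 2) (.node (nat_lit 1) (.leaf (Rule.fwd [nat_lit 178, nat_lit 106, nat_lit 274, nat_lit 106, nat_lit 178, nat_lit 178] 36 3)) (.leaf (Rule.fwd [nat_lit 154, nat_lit 226, nat_lit 322, nat_lit 130, nat_lit 538, nat_lit 466, nat_lit 346] 44 0))) (.node (nat_lit 1) (.leaf (Rule.fwd [nat_lit 394, nat_lit 466, nat_lit 490, nat_lit 322, nat_lit 178, nat_lit 106, nat_lit 202] 62 2)) (.leaf (Rule.fwd [nat_lit 178, nat_lit 178, nat_lit 106, nat_lit 178, nat_lit 106, nat_lit 274] 36 0))))) (.node (nat_lit 4) (.node (nat_lit 2) (.node (nat_lit 1) (.leaf (Rule.fwd [nat_lit 274, nat_lit 106, nat_lit 178, nat_lit 178, nat_lit 106, nat_lit 178] 36 5)) (.leaf (Rule.fwd [nat_lit 154, nat_lit 298, nat_lit 514, nat_lit 418, nat_lit 106, nat_lit 202, nat_lit 322] 50 0))) (.node (nat_lit 1) (.leaf (Rule.fwd [nat_lit 58, nat_lit 34, nat_lit 58, nat_lit 58, nat_lit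 58] 69 0)) (.leaf (Rule.fwd [nat_lit 178, nat_lit 106, nat_lit 202, nat_lit 274, nat_lit 394, nat_lit 346, nat_lit 298, nat_lit 514, nat_lit 538, nat_lit 10, nat_lit 274, nat_lit 370, nat_lit 178, nat_lit 58] 120 5)))) (.node (nat_lit 2) (.node (nat_lit 1) (.leaf (Rule.fwd [nat_lit 10, nat_lit 82, nat_lit 34, nat_lit 130, nat_lit 178, nat_lit 106, nat_lit 250, nat_lit 226, nat_lit 370, nat_lit 418, nat_lit 514, nat_lit 10] 84 1)) (.leaf (Rule.fwd [nat_lit 34, nat_lit 514, nat_lit 394, nat_lit 346, nat_lit 250, nat_lit 226, nat_lit 250, nat_lit 130, nat_lit 154, nat_lit 130, nat_lit 58, nat_lit 154, nat_lit 226] 89 2))) (.node (nat_lit 1) (.leaf (Rule.fwd [nat_lit 34, nat_lit 106, nat_lit 106, nat_lit 178, nat_lit 178, nat_lit 202, nat_lit 274, nat_lit 370, nat_lit 394, nat_lit 442, nat_lit 10, nat_lit 274, nat_lit 418, nat_lit 58] 122 4)) (.leaf (Rule.fwd [nat_lit 154, nat_lit 466, nat_lit 250, nat_lit 34, nat_lit 514,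 nat_lit 466, nat_lit 514, nat_lit 322, nat_lit 394, nat_lit 346, nat_lit 10] 113 5))))))) (.leaf (Rule.fwd [nat_lit 82, nat_lit 130, nat_lit 370, nat_lit 418, nat_lit 514, nat_lit 442, nat_lit 490, nat_lit 538, nat_lit 10, nat_lit 226, nat_lit 250] 96 3))), (.node (nat_lit 1) (.leaf XRule.defn) (.leaf XRule.ax))⟩
noncomputable def ci130 : CI := ⟨[5], (nat_lit 106), true, (.node (nat_lit 16) (.node (nat_lit 8) (.node (nat_lit 4) (.node (nat_lit 2) (.node (nat_lit 1) (.leaf Rule.defn) (.leaf Rule.copy)) (.node (nat_lit 1) (.leaf (Rule.fwd [nat_lit 106] 130 0)) (.leaf (Rule.fwd [nat_lit 466, nat_lit 226, nat_lit 34, nat_lit 178, nat_lit 106, nat_lit 226, nat_lit 250, nat_lit 466, nat_lit 538, nat_lit 10, nat_lit 274] 108 2)))) (.node (nat_lit 2) (.node (nat_lit 1) (.leaf (Rule.fwd [nat_lit 154, nat_lit 442, nat_lit 226, nat_lit 442, nat_lit 538, nat_lit 106, nat_lit 514] 53 1)) (.leaf (Rule.fwd [nat_lit 370, nat_lit 442,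 nat_lit 538, nat_lit 106, nat_lit 298, nat_lit 202, nat_lit 178] 45 1))) (.node (nat_lit 1) (.leaf (Rule.fwd [nat_lit 226, nat_lit 130, nat_lit 154, nat_lit 298, nat_lit 514, nat_lit 442, nat_lit 418] 63 3)) (.leaf (Rule.fwd [nat_lit 370, nat_lit 130, nat_lit 538, nat_lit 226, nat_lit 250, nat_lit 250, nat_lit 178] 49 1))))) (.node (nat_lit 4) (.node (nat_lit 2) (.node (nat_lit 1) (.leaf (Rule.fwd [nat_lit 394, nat_lit 490, nat_lit 322, nat_lit 178, nat_lit 130, nat_lit 298, nat_lit 226] 51 6)) (.leaf (Rule.fwd [nat_lit 154, nat_lit 298, nat_lit 514, nat_lit 442, nat_lit 418, nat_lit 130, nat_lit 226] 63 1))) (.node (nat_lit 1) (.leaf (Rule.fwd [nat_lit 130, nat_lit 154, nat_lit 226, nat_lit 106, nat_lit 178] 34 2)) (.leaf (Rule.fwd [nat_lit 442, nat_lit 226, nat_lit 250, nat_lit 178, nat_lit 130, nat_lit 538, nat_lit 178] 47 6)))) (.node (nat_lit 2) (.node (nat_lit 1) (.leaf (Rule.fwd [nat_lit 178, nat_lit 250, nat_lit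 130, nat_lit 178, nat_lit 250] 67 1)) (.leaf (Rule.fwd [nat_lit 418, nat_lit 202, nat_lit 154, nat_lit 274, nat_lit 490, nat_lit 130] 41 1))) (.node (nat_lit 1) (.leaf (Rule.fwd [nat_lit 538, nat_lit 466, nat_lit 346, nat_lit 106, nat_lit 154, nat_lit 226, nat_lit 322] 44 4)) (.leaf (Rule.fwd [nat_lit 250, nat_lit 130, nat_lit 154, nat_lit 130, nat_lit 154, nat_lit 154] 37 1)))))) (.node (nat_lit 8) (.node (nat_lit 4) (.node (nat_lit 2) (.node (nat_lit 1) (.leaf (Rule.fwd [nat_lit 538, nat_lit 466, nat_lit 202, nat_lit 466, nat_lit 178, nat_lit 106, nat_lit 490] 52 2)) (.leaf (Rule.fwd [nat_lit 34, nat_lit 370, nat_lit 418, nat_lit 298, nat_lit 490, nat_lit 442, nat_lit 490, nat_lit 10, nat_lit 274, nat_lit 442, nat_lit 178] 112 4))) (.node (nat_lit 1) (.leaf (Rule.fwd [nat_lit 154, nat_lit 226, nat_lit 106, nat_lit 178, nat_lit 130] 34 3)) (.leaf (Rule.fwd [nat_lit 130, nat_lit 178, nat_lit 58, nat_lit 298, nat_lit 394,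 nat_lit 82, nat_lit 322, nat_lit 418, nat_lit 250, nat_lit 202, nat_lit 154, nat_lit 154] 83 7)))) (.node (nat_lit 2) (.node (nat_lit 1) (.leaf (Rule.fwd [nat_lit 538, nat_lit 178, nat_lit 130, nat_lit 442, nat_lit 226, nat_lit 250, nat_lit 178] 47 1)) (.leaf (Rule.fwd [nat_lit 538, nat_lit 226, nat_lit 250, nat_lit 250, nat_lit 178, nat_lit 130, nat_lit 370] 49 7))) (.node (nat_lit 1) (.leaf (Rule.fwd [nat_lit 154, nat_lit 154, nat_lit 130, nat_lit 250, nat_lit 130, nat_lit 154] 37 4)) (.leaf (Rule.fwd [nat_lit 130, nat_lit 418, nat_lit 202, nat_lit 154, nat_lit 274, nat_lit 490] 41 2))))) (.node (nat_lit 4) (.node (nat_lit 2) (.node (nat_lit 1) (.leaf (Rule.fwd [nat_lit 202, nat_lit 178, nat_lit 106, nat_lit 106, nat_lit 154] 35 1)) (.leaf (Rule.fwd [nat_lit 298, nat_lit 226, nat_lit 130, nat_lit 394, nat_lit 490, nat_lit 322, nat_lit 178] 51 1))) (.node (nat_lit 1) (.leaf (Rule.fwd [nat_lit 82, nat_lit 394, nat_lit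 250, nat_lit 34, nat_lit 466, nat_lit 418, nat_lit 346, nat_lit 250, nat_lit 226, nat_lit 154, nat_lit 154, nat_lit 130, nat_lit 130, nat_lit 10] 123 5)) (.leaf (Rule.fwd [nat_lit 82, nat_lit 82, nat_lit 82, nat_lit 10, nat_lit 82] 68 5)))) (.node (nat_lit 1) (.leaf (Rule.fwd [nat_lit 154, nat_lit 106, nat_lit 250, nat_lit 418, nat_lit 346, nat_lit 322, nat_lit 514, nat_lit 10, nat_lit 154, nat_lit 202, nat_lit 346, nat_lit 82, nat_lit 178] 90 6)) (.leaf (Rule.fwd [nat_lit 34, nat_lit 490, nat_lit 394, nat_lit 346, nat_lit 202, nat_lit 274, nat_lit 130, nat_lit 154, nat_lit 106, nat_lit 10, nat_lit 58, nat_lit 34] 85 2)))))), (.node (nat_lit 1) (.leaf XRule.defn) (.leaf XRule.ax))⟩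
noncomputable def ci154 : CI := ⟨[6], (nat_lit 178), true, (.node (nat_lit 16) (.node (nat_lit 8) (.node (nat_lit 4) (.node (nat_lit 2) (.node (nat_lit 1) (.leaf Rule.defn) (.leaf Rule.copy)) (.node (nat_lit 1) (.leaf (Rule.fwd [nat_lit 178] 130 0)) (.leaf (Rule.fwd [nat_lit 106, nat_lit 82, nat_lit 106, nat_lit 106, nat_lit 106, nat_lit 106, nat_lit 178, nat_lit 202, nat_lit 274, nat_lit 418, nat_lit 346, nat_lit 394, nat_lit 514, nat_lit 466, nat_lit 10, nat_lit 58] 124 2)))) (.node (nat_lit 2) (.node (nat_lit 1) (.leaf (Rule.fwd [nat_lit 226, nat_lit 394, nat_lit 250, nat_lit 178, nat_lit 346, nat_lit 322] 42 0)) (.leaf (Rule.fwd [nat_lit 274, nat_lit 418, nat_lit 202, nat_lit 178, nat_lit 298, nat_lit 370] 43 5))) (.node (nat_lit 1) (.leaf (Rule.fwd [nat_lit 130, nat_lit 202, nat_lit 178, nat_lit 106, nat_lit 106] 35 2)) (.leaf (Rule.fwd [nat_lit 106, nat_lit 274, nat_lit 154, nat_lit 106, nat_lit 274] 66 2))))) (.node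 (nat_lit 4) (.node (nat_lit 2) (.node (nat_lit 1) (.leaf (Rule.fwd [nat_lit 298, nat_lit 514, nat_lit 418, nat_lit 106, nat_lit 202, nat_lit 322, nat_lit 106] 50 1)) (.leaf (Rule.fwd [nat_lit 226, nat_lit 322, nat_lit 130, nat_lit 538, nat_lit 466, nat_lit 346, nat_lit 106] 44 1))) (.node (nat_lit 1) (.leaf (Rule.fwd [nat_lit 274, nat_lit 490, nat_lit 130, nat_lit 130, nat_lit 418, nat_lit 202] 41 5)) (.leaf (Rule.fwd [nat_lit 154, nat_lit 106, nat_lit 10, nat_lit 226, nat_lit 418, nat_lit 202, nat_lit 322, nat_lit 34, nat_lit 514, nat_lit 466, nat_lit 490, nat_lit 298, nat_lit 370, nat_lit 250, nat_lit 250] 127 9)))) (.node (nat_lit 2) (.node (nat_lit 1) (.leaf (Rule.fwd [nat_lit 154, nat_lit 130, nat_lit 250, nat_lit 130, nat_lit 154, nat_lit 130] 37 3)) (.leaf (Rule.fwd [nat_lit 538, nat_lit 106, nat_lit 154, nat_lit 274, nat_lit 202, nat_lit 466, nat_lit 106] 46 6))) (.node (nat_lit 1) (.leaf (Rule.fwd [nat_lit 442,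 nat_lit 226, nat_lit 442, nat_lit 538, nat_lit 106, nat_lit 514, nat_lit 130] 53 0)) (.leaf (Rule.fwd [nat_lit 298, nat_lit 514, nat_lit 442, nat_lit 418, nat_lit 130, nat_lit 226, nat_lit 130] 63 0)))))) (.node (nat_lit 8) (.node (nat_lit 4) (.node (nat_lit 2) (.node (nat_lit 1) (.leaf (Rule.fwd [nat_lit 226, nat_lit 106, nat_lit 178, nat_lit 130, nat_lit 130] 34 4)) (.leaf (Rule.fwd [nat_lit 274, nat_lit 202, nat_lit 466, nat_lit 106, nat_lit 154, nat_lit 538, nat_lit 106] 46 1))) (.node (nat_lit 1) (.leaf (Rule.fwd [nat_lit 130, nat_lit 250, nat_lit 130, nat_lit 154, nat_lit 130, nat_lit 154] 37 2)) (.leaf (Rule.fwd [nat_lit 514, nat_lit 370, nat_lit 154, nat_lit 514, nat_lit 370] 38 0)))) (.node (nat_lit 2) (.node (nat_lit 1) (.leaf (Rule.fwd [nat_lit 346, nat_lit 250, nat_lit 34, nat_lit 538, nat_lit 490, nat_lit 322, nat_lit 370, nat_lit 418, nat_lit 250, nat_lit 226, nat_lit 130, nat_lit 154, nat_lit 130, nat_lit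 82] 121 4)) (.leaf (Rule.fwd [nat_lit 130, nat_lit 154, nat_lit 154, nat_lit 130, nat_lit 250, nat_lit 130] 37 5))) (.node (nat_lit 1) (.leaf (Rule.fwd [nat_lit 10, nat_lit 10, nat_lit 58, nat_lit 58, nat_lit 10, nat_lit 82] 71 0)) (.leaf (Rule.fwd [nat_lit 34, nat_lit 178, nat_lit 130, nat_lit 154, nat_lit 106, nat_lit 226, nat_lit 274, nat_lit 202, nat_lit 370, nat_lit 514, nat_lit 10, nat_lit 178, nat_lit 250] 94 3))))) (.node (nat_lit 1) (.leaf (Rule.fwd [nat_lit 466, nat_lit 250, nat_lit 34, nat_lit 514, nat_lit 466, nat_lit 514, nat_lit 322, nat_lit 394, nat_lit 346, nat_lit 10, nat_lit 106] 113 4)) (.leaf (Rule.fwd [nat_lit 274, nat_lit 274, nat_lit 202, nat_lit 538, nat_lit 106, nat_lit 346, nat_lit 106] 48 1))))), (.node (nat_lit 1) (.leaf XRule.defn) (.leaf XRule.ax))⟩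
noncomputable def ci178 : CI := ⟨[7], (nat_lit 154), true, (.node (nat_lit 16) (.node (nat_lit 8) (.node (nat_lit 4) (.node (nat_lit 2) (.node (nat_lit 1) (.leaf Rule.defn) (.leaf Rule.copy)) (.node (nat_lit 1) (.leaf (Rule.fwd [nat_lit 154] 130 0)) (.leaf (Rule.fwd [nat_lit 250, nat_lit 130, nat_lit 178, nat_lit 250, nat_lit 130] 67 0)))) (.node (nat_lit 2) (.node (nat_lit 1) (.leaf (Rule.fwd [nat_lit 298, nat_lit 370, nat_lit 154, nat_lit 274, nat_lit 418, nat_lit 202] 43 1)) (.leaf (Rule.fwd [nat_lit 130, nat_lit 370, nat_lit 442, nat_lit 538, nat_lit 106, nat_lit 298, nat_lit 202] 45 2))) (.node (nat_lit 1) (.leaf (Rule.fwd [nat_lit 346, nat_lit 490, nat_lit 178, nat_lit 346, nat_lit 490] 39 1)) (.leaf (Rule.fwd [nat_lit 106, nat_lit 202, nat_lit 106, nat_lit 394, nat_lit 466, nat_lit 490, nat_lit 322] 62 7))))) (.node (nat_lit 4) (.node (nat_lit 2) (.node (nat_lit 1) (.leaf (Rule.fwd [nat_lit 226, nat_lit 394, nat_lit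 106, nat_lit 106, nat_lit 514, nat_lit 250] 40 4)) (.leaf (Rule.fwd [nat_lit 346, nat_lit 322, nat_lit 154, nat_lit 226, nat_lit 394, nat_lit 250] 42 4))) (.node (nat_lit 1) (.leaf (Rule.fwd [nat_lit 106, nat_lit 490, nat_lit 130, nat_lit 538, nat_lit 466, nat_lit 202, nat_lit 466] 52 7)) (.leaf (Rule.fwd [nat_lit 130, nat_lit 130, nat_lit 154, nat_lit 226, nat_lit 106] 34 1)))) (.node (nat_lit 2) (.node (nat_lit 1) (.leaf (Rule.fwd [nat_lit 106, nat_lit 178, nat_lit 106, nat_lit 274, nat_lit 106, nat_lit 178] 36 2)) (.leaf (Rule.fwd [nat_lit 178, nat_lit 106, nat_lit 178, nat_lit 106, nat_lit 274, nat_lit 106] 36 1))) (.node (nat_lit 1) (.leaf (Rule.fwd [nat_lit 274, nat_lit 298, nat_lit 298, nat_lit 538, nat_lit 10, nat_lit 250, nat_lit 346, nat_lit 322, nat_lit 274, nat_lit 34, nat_lit 154, nat_lit 106, nat_lit 106, nat_lit 178] 102 10)) (.leaf (Rule.fwd [nat_lit 34, nat_lit 274, nat_lit 202, nat_lit 274, nat_lit 418,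 nat_lit 346, nat_lit 322, nat_lit 442, nat_lit 490, nat_lit 10, nat_lit 274, nat_lit 538, nat_lit 490] 118 4)))))) (.node (nat_lit 8) (.node (nat_lit 4) (.node (nat_lit 2) (.node (nat_lit 1) (.leaf (Rule.fwd [nat_lit 106, nat_lit 106, nat_lit 154, nat_lit 130, nat_lit 202] 35 5)) (.leaf (Rule.fwd [nat_lit 106, nat_lit 274, nat_lit 106, nat_lit 178, nat_lit 178, nat_lit 106] 36 4))) (.node (nat_lit 1) (.leaf (Rule.fwd [nat_lit 10, nat_lit 154, nat_lit 442, nat_lit 418, nat_lit 274, nat_lit 34, nat_lit 490, nat_lit 442, nat_lit 394, nat_lit 274, nat_lit 202, nat_lit 274, nat_lit 130, nat_lit 178] 105 7)) (.leaf (Rule.fwd [nat_lit 130, nat_lit 442, nat_lit 226, nat_lit 250, nat_lit 178, nat_lit 130, nat_lit 538] 47 7)))) (.node (nat_lit 2) (.node (nat_lit 1) (.leaf (Rule.fwd [nat_lit 130, nat_lit 370, nat_lit 130, nat_lit 538, nat_lit 226, nat_lit 250, nat_lit 250] 49 2)) (.leaf (Rule.fwd [nat_lit 130, nat_lit 298, nat_lit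 226, nat_lit 130, nat_lit 394, nat_lit 490, nat_lit 322] 51 2))) (.node (nat_lit 1) (.leaf (Rule.fwd [nat_lit 58, nat_lit 34, nat_lit 82, nat_lit 82, nat_lit 34, nat_lit 34] 70 6)) (.leaf (Rule.fwd [nat_lit 82, nat_lit 34, nat_lit 442, nat_lit 490, nat_lit 418, nat_lit 370, nat_lit 394, nat_lit 250, nat_lit 226, nat_lit 154, nat_lit 130, nat_lit 130, nat_lit 130, nat_lit 130, nat_lit 58, nat_lit 130] 125 3))))) (.node (nat_lit 1) (.leaf (Rule.fwd [nat_lit 274, nat_lit 154, nat_lit 34, nat_lit 490, nat_lit 346, nat_lit 226, nat_lit 250, nat_lit 202, nat_lit 130, nat_lit 178, nat_lit 106, nat_lit 154, nat_lit 10] 95 4)) (.leaf (Rule.fwd [nat_lit 130, nat_lit 538, nat_lit 178, nat_lit 130, nat_lit 442, nat_lit 226, nat_lit 250] 47 2))))), (.node (nat_lit 1) (.leaf XRule.defn) (.leaf XRule.ax))⟩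
noncomputable def ci202 : CI := ⟨[8], (nat_lit 226), true, (.node (nat_lit 16) (.node (nat_lit 8) (.node (nat_lit 4) (.node (nat_lit 2) (.node (nat_lit 1) (.leaf Rule.defn) (.leaf Rule.copy)) (.node (nat_lit 1) (.leaf (Rule.fwd [nat_lit 226] 130 0)) (.leaf (Rule.fwd [nat_lit 202, nat_lit 202] 28 0)))) (.node (nat_lit 2) (.node (nat_lit 1) (.leaf (Rule.fwd [nat_lit 298, nat_lit 202, nat_lit 250] 23 1)) (.leaf (Rule.fwd [nat_lit 250, nat_lit 202, nat_lit 298] 23 3))) (.node (nat_lit 1) (.leaf (Rule.fwd [nat_lit 178, nat_lit 82, nat_lit 106, nat_lit 178, nat_lit 106, nat_lit 274, nat_lit 202, nat_lit 274, nat_lit 370, nat_lit 418, nat_lit 490, nat_lit 10, nat_lit 130] 88 2)) (.leaf (Rule.fwd [nat_lit 346, nat_lit 82, nat_lit 178, nat_lit 130, nat_lit 154, nat_lit 106, nat_lit 250, nat_lit 418, nat_lit 346, nat_lit 322, nat_lit 514, nat_lit 10, nat_lit 154] 90 2))))) (.node (nat_lit 4) (.node (nat_lit 2) (.node (nat_lit 1)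 (.leaf (Rule.fwd [nat_lit 538, nat_lit 370, nat_lit 226, nat_lit 250, nat_lit 370, nat_lit 466] 57 4)) (.leaf (Rule.fwd [nat_lit 274, nat_lit 322, nat_lit 202, nat_lit 394, nat_lit 370] 32 0))) (.node (nat_lit 1) (.leaf (Rule.fwd [nat_lit 370, nat_lit 370, nat_lit 226, nat_lit 490, nat_lit 490] 65 4)) (.leaf (Rule.fwd [nat_lit 346, nat_lit 346, nat_lit 226, nat_lit 514, nat_lit 514] 64 0)))) (.node (nat_lit 2) (.node (nat_lit 1) (.leaf (Rule.fwd [nat_lit 106, nat_lit 394, nat_lit 466, nat_lit 490, nat_lit 322, nat_lit 178, nat_lit 106] 62 1)) (.leaf (Rule.fwd [nat_lit 250, nat_lit 538, nat_lit 250, nat_lit 442, nat_lit 274] 30 0))) (.node (nat_lit 1) (.leaf (Rule.fwd [nat_lit 178, nat_lit 106, nat_lit 106, nat_lit 154, nat_lit 130] 35 0)) (.leaf (Rule.fwd [nat_lit 274, nat_lit 370, nat_lit 274, nat_lit 226, nat_lit 250] 24 3)))))) (.node (nat_lit 8) (.node (nat_lit 4) (.node (nat_lit 2) (.node (nat_lit 1) (.leaf (Rule.fwd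 [nat_lit 466, nat_lit 178, nat_lit 106, nat_lit 490, nat_lit 130, nat_lit 538, nat_lit 466] 52 5)) (.leaf (Rule.fwd [nat_lit 178, nat_lit 130, nat_lit 370, nat_lit 442, nat_lit 538, nat_lit 106, nat_lit 298] 45 3))) (.node (nat_lit 1) (.leaf (Rule.fwd [nat_lit 466, nat_lit 106, nat_lit 154, nat_lit 538, nat_lit 106, nat_lit 154, nat_lit 274] 46 3)) (.leaf (Rule.fwd [nat_lit 346, nat_lit 538, nat_lit 226, nat_lit 442, nat_lit 346, nat_lit 274] 56 0)))) (.node (nat_lit 2) (.node (nat_lit 1) (.leaf (Rule.fwd [nat_lit 250, nat_lit 202, nat_lit 274, nat_lit 202, nat_lit 418, nat_lit 274] 26 1)) (.leaf (Rule.fwd [nat_lit 538, nat_lit 106, nat_lit 346, nat_lit 106, nat_lit 154, nat_lit 274, nat_lit 274] 48 4))) (.node (nat_lit 1) (.leaf (Rule.fwd [nat_lit 394, nat_lit 370, nat_lit 202, nat_lit 274, nat_lit 322] 32 3)) (.leaf (Rule.fwd [nat_lit 274, nat_lit 202, nat_lit 418, nat_lit 274, nat_lit 202, nat_lit 250] 26 3))))) (.node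 (nat_lit 2) (.node (nat_lit 1) (.leaf (Rule.fwd [nat_lit 322, nat_lit 106, nat_lit 154, nat_lit 298, nat_lit 514, nat_lit 418, nat_lit 106] 50 6)) (.leaf (Rule.fwd [nat_lit 418, nat_lit 274, nat_lit 202, nat_lit 250, nat_lit 202, nat_lit 274] 26 5))) (.node (nat_lit 1) (.leaf (Rule.fwd [nat_lit 154, nat_lit 274, nat_lit 490, nat_lit 130, nat_lit 130, nat_lit 418] 41 6)) (.leaf (Rule.fwd [nat_lit 250, nat_lit 346, nat_lit 250, nat_lit 226, nat_lit 274] 25 2)))))), (.node (nat_lit 1) (.leaf XRule.defn) (.leaf XRule.ax))⟩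
noncomputable def ci226 : CI := ⟨[9], (nat_lit 202), true, (.node (nat_lit 16) (.node (nat_lit 8) (.node (nat_lit 4) (.node (nat_lit 2) (.node (nat_lit 1) (.leaf Rule.defn) (.leaf Rule.copy)) (.node (nat_lit 1) (.leaf (Rule.fwd [nat_lit 202] 130 0)) (.leaf (Rule.fwd [nat_lit 274, nat_lit 226, nat_lit 322] 22 0)))) (.node (nat_lit 2) (.node (nat_lit 1) (.leaf (Rule.fwd [nat_lit 394, nat_lit 202, nat_lit 34, nat_lit 130, nat_lit 178, nat_lit 178, nat_lit 274, nat_lit 274, nat_lit 346, nat_lit 322, nat_lit 514, nat_lit 442, nat_lit 490, nat_lit 10, nat_lit 298] 126 2)) (.leaf (Rule.fwd [nat_lit 514, nat_lit 514, nat_lit 202, nat_lit 346, nat_lit 346] 64 3))) (.node (nat_lit 1) (.leaf (Rule.fwd [nat_lit 250, nat_lit 346, nat_lit 250, nat_lit 298] 61 1)) (.leaf (Rule.fwd [nat_lit 322, nat_lit 226, nat_lit 274] 22 2))))) (.node (nat_lit 4) (.node (nat_lit 2) (.node (nat_lit 1) (.leaf (Rule.fwd [nat_lit 226, nat_lit 226] 29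 0)) (.leaf (Rule.fwd [nat_lit 298, nat_lit 250, nat_lit 226, nat_lit 346, nat_lit 418] 33 4))) (.node (nat_lit 1) (.leaf (Rule.fwd [nat_lit 250, nat_lit 226, nat_lit 274, nat_lit 226, nat_lit 250, nat_lit 394] 27 6)) (.leaf (Rule.fwd [nat_lit 442, nat_lit 346, nat_lit 274, nat_lit 202, nat_lit 346, nat_lit 538] 56 3)))) (.node (nat_lit 2) (.node (nat_lit 1) (.leaf (Rule.fwd [nat_lit 490, nat_lit 490, nat_lit 202, nat_lit 370, nat_lit 370] 65 1)) (.leaf (Rule.fwd [nat_lit 394, nat_lit 250, nat_lit 178, nat_lit 346, nat_lit 322, nat_lit 154] 42 1))) (.node (nat_lit 1) (.leaf (Rule.fwd [nat_lit 130, nat_lit 394, nat_lit 490, nat_lit 322, nat_lit 178, nat_lit 130, nat_lit 298] 51 7)) (.leaf (Rule.fwd [nat_lit 370, nat_lit 250, nat_lit 34, nat_lit 490, nat_lit 346, nat_lit 418, nat_lit 418, nat_lit 250, nat_lit 106, nat_lit 106, nat_lit 154, nat_lit 10, nat_lit 58] 115 4)))))) (.node (nat_lit 8) (.node (nat_lit 4) (.node (nat_lit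 2) (.node (nat_lit 1) (.leaf (Rule.fwd [nat_lit 130, nat_lit 154, nat_lit 298, nat_lit 514, nat_lit 442, nat_lit 418, nat_lit 130] 63 2)) (.leaf (Rule.fwd [nat_lit 274, nat_lit 202, nat_lit 250, nat_lit 346, nat_lit 250] 25 4))) (.node (nat_lit 1) (.leaf (Rule.fwd [nat_lit 250, nat_lit 178, nat_lit 130, nat_lit 538, nat_lit 178, nat_lit 130, nat_lit 442] 47 4)) (.leaf (Rule.fwd [nat_lit 250, nat_lit 394, nat_lit 226, nat_lit 250, nat_lit 226, nat_lit 274] 27 2)))) (.node (nat_lit 2) (.node (nat_lit 1) (.leaf (Rule.fwd [nat_lit 442, nat_lit 538, nat_lit 106, nat_lit 514, nat_lit 130, nat_lit 154, nat_lit 442] 53 6)) (.leaf (Rule.fwd [nat_lit 250, nat_lit 106, nat_lit 82, nat_lit 130, nat_lit 370, nat_lit 418, nat_lit 514, nat_lit 442, nat_lit 490, nat_lit 538, nat_lit 10] 96 1))) (.node (nat_lit 1) (.leaf (Rule.fwd [nat_lit 394, nat_lit 106, nat_lit 106, nat_lit 514, nat_lit 250, nat_lit 178] 40 5)) (.leaf (Rule.fwd [nat_lit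 250, nat_lit 250, nat_lit 178, nat_lit 130, nat_lit 370, nat_lit 130, nat_lit 538] 49 5))))) (.node (nat_lit 4) (.node (nat_lit 2) (.node (nat_lit 1) (.leaf (Rule.fwd [nat_lit 106, nat_lit 178, nat_lit 130, nat_lit 130, nat_lit 154] 34 5)) (.leaf (Rule.fwd [nat_lit 178, nat_lit 34, nat_lit 490, nat_lit 298, nat_lit 370, nat_lit 394, nat_lit 274, nat_lit 130, nat_lit 178, nat_lit 106, nat_lit 154, nat_lit 58, nat_lit 370] 91 3))) (.node (nat_lit 1) (.leaf (Rule.fwd [nat_lit 250, nat_lit 466, nat_lit 274, nat_lit 538, nat_lit 274] 31 1)) (.leaf (Rule.fwd [nat_lit 322, nat_lit 130, nat_lit 538, nat_lit 466, nat_lit 346, nat_lit 106, nat_lit 154] 44 2)))) (.node (nat_lit 1) (.leaf (Rule.fwd [nat_lit 346, nat_lit 418, nat_lit 226, nat_lit 298, nat_lit 250] 33 1)) (.leaf (Rule.fwd [nat_lit 274, nat_lit 226, nat_lit 250, nat_lit 394, nat_lit 226, nat_lit 250] 27 4)))))), (.node (nat_lit 1) (.leaf XRule.defn) (.leaf XRule.ax))⟩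
noncomputable def ci250 : CI := ⟨[10], (nat_lit 274), true, (.node (nat_lit 16) (.node (nat_lit 8) (.node (nat_lit 4) (.node (nat_lit 2) (.node (nat_lit 1) (.leaf Rule.defn) (.leaf Rule.copy)) (.node (nat_lit 1) (.leaf (Rule.fwd [nat_lit 274] 130 0)) (.leaf (Rule.fwd [nat_lit 106, nat_lit 82, nat_lit 130, nat_lit 370, nat_lit 418, nat_lit 514, nat_lit 442, nat_lit 490, nat_lit 538, nat_lit 10, nat_lit 226] 96 2)))) (.node (nat_lit 2) (.node (nat_lit 1) (.leaf (Rule.fwd [nat_lit 82, nat_lit 82, nat_lit 130, nat_lit 154, nat_lit 154, nat_lit 202, nat_lit 274, nat_lit 202, nat_lit 298, nat_lit 298, nat_lit 538, nat_lit 10, nat_lit 154] 92 2)) (.leaf (Rule.fwd [nat_lit 154, nat_lit 34, nat_lit 178, nat_lit 130, nat_lit 154, nat_lit 106, nat_lit 226, nat_lit 274, nat_lit 202, nat_lit 370, nat_lit 514, nat_lit 10, nat_lit 178] 94 2))) (.node (nat_lit 1) (.leaf (Rule.fwd [nat_lit 202, nat_lit 298, nat_lit 202] 23 2)) (.leaf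 (Rule.fwd [nat_lit 538, nat_lit 250, nat_lit 442, nat_lit 274, nat_lit 202] 30 1))))) (.node (nat_lit 4) (.node (nat_lit 2) (.node (nat_lit 1) (.leaf (Rule.fwd [nat_lit 226, nat_lit 274, nat_lit 202, nat_lit 250, nat_lit 346] 25 5)) (.leaf (Rule.fwd [nat_lit 442, nat_lit 274, nat_lit 202, nat_lit 250, nat_lit 538] 30 3))) (.node (nat_lit 1) (.leaf (Rule.fwd [nat_lit 466, nat_lit 274, nat_lit 538, nat_lit 274, nat_lit 226] 31 0)) (.leaf (Rule.fwd [nat_lit 346, nat_lit 250, nat_lit 226, nat_lit 274, nat_lit 202] 25 1)))) (.node (nat_lit 2) (.node (nat_lit 1) (.leaf (Rule.fwd [nat_lit 346, nat_lit 250, nat_lit 298, nat_lit 226] 61 0)) (.leaf (Rule.fwd [nat_lit 226, nat_lit 346, nat_lit 418, nat_lit 226, nat_lit 298] 33 2))) (.node (nat_lit 1) (.leaf (Rule.fwd [nat_lit 250, nat_lit 250, nat_lit 250, nat_lit 250] 58 0)) (.leaf (Rule.fwd [nat_lit 298, nat_lit 226, nat_lit 250, nat_lit 346] 61 3)))))) (.node (nat_lit 8) (.node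 (nat_lit 4) (.node (nat_lit 2) (.node (nat_lit 1) (.leaf (Rule.fwd [nat_lit 202, nat_lit 274, nat_lit 202, nat_lit 418, nat_lit 274, nat_lit 202] 26 2)) (.leaf (Rule.fwd [nat_lit 130, nat_lit 154, nat_lit 130, nat_lit 154, nat_lit 154, nat_lit 130] 37 0))) (.node (nat_lit 1) (.leaf (Rule.fwd [nat_lit 178, nat_lit 346, nat_lit 322, nat_lit 154, nat_lit 226, nat_lit 394] 42 3)) (.leaf (Rule.fwd [nat_lit 178, nat_lit 226, nat_lit 394, nat_lit 106, nat_lit 106, nat_lit 514] 40 3)))) (.node (nat_lit 2) (.node (nat_lit 1) (.leaf (Rule.fwd [nat_lit 130, nat_lit 178, nat_lit 250, nat_lit 130, nat_lit 178] 67 2)) (.leaf (Rule.fwd [nat_lit 394, nat_lit 226, nat_lit 250, nat_lit 226, nat_lit 274, nat_lit 226] 27 1))) (.node (nat_lit 1) (.leaf (Rule.fwd [nat_lit 370, nat_lit 466, nat_lit 202, nat_lit 538, nat_lit 370, nat_lit 226] 57 0)) (.leaf (Rule.fwd [nat_lit 178, nat_lit 130, nat_lit 538, nat_lit 178, nat_lit 130, nat_lit 442,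 nat_lit 226] 47 3))))) (.node (nat_lit 1) (.leaf (Rule.fwd [nat_lit 178, nat_lit 130, nat_lit 370, nat_lit 130, nat_lit 538, nat_lit 226, nat_lit 250] 49 3)) (.leaf (Rule.fwd [nat_lit 250, nat_lit 178, nat_lit 130, nat_lit 370, nat_lit 130, nat_lit 538, nat_lit 226] 49 4))))), (.node (nat_lit 1) (.leaf XRule.defn) (.leaf XRule.ax))⟩
noncomputable def ci274 : CI := ⟨[11], (nat_lit 250), true, (.node (nat_lit 16) (.node (nat_lit 8) (.node (nat_lit 4) (.node (nat_lit 2) (.node (nat_lit 1) (.leaf Rule.defn) (.leaf Rule.copy)) (.node (nat_lit 1) (.leaf (Rule.fwd [nat_lit 250] 130 0)) (.leaf (Rule.fwd [nat_lit 82, nat_lit 538, nat_lit 346, nat_lit 394, nat_lit 274, nat_lit 154, nat_lit 106, nat_lit 10, nat_lit 394] 75 2)))) (.node (nat_lit 2) (.node (nat_lit 1) (.leaf (Rule.fwd [nat_lit 418, nat_lit 82, nat_lit 106, nat_lit 178, nat_lit 346, nat_lit 394, nat_lit 514, nat_lit 466, nat_lit 538, nat_lit 10, nat_lit 154] 80 2))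 (.leaf (Rule.fwd [nat_lit 202, nat_lit 322, nat_lit 274, nat_lit 370] 60 4))) (.node (nat_lit 1) (.leaf (Rule.fwd [nat_lit 370, nat_lit 274, nat_lit 202, nat_lit 322] 60 2)) (.leaf (Rule.fwd [nat_lit 226, nat_lit 322, nat_lit 226] 22 1))))) (.node (nat_lit 4) (.node (nat_lit 2) (.node (nat_lit 1) (.leaf (Rule.fwd [nat_lit 226, nat_lit 250, nat_lit 466, nat_lit 274, nat_lit 538] 31 2)) (.leaf (Rule.fwd [nat_lit 202, nat_lit 418, nat_lit 274, nat_lit 202, nat_lit 250, nat_lit 202] 26 4))) (.node (nat_lit 1) (.leaf (Rule.fwd [nat_lit 274, nat_lit 274, nat_lit 274, nat_lit 274] 59 0)) (.leaf (Rule.fwd [nat_lit 322, nat_lit 202, nat_lit 394, nat_lit 370, nat_lit 202] 32 1)))) (.node (nat_lit 2) (.node (nat_lit 1) (.leaf (Rule.fwd [nat_lit 202, nat_lit 250, nat_lit 202, nat_lit 274, nat_lit 202, nat_lit 418] 26 0)) (.leaf (Rule.fwd [nat_lit 538, nat_lit 274, nat_lit 226, nat_lit 250, nat_lit 466] 31 4))) (.node (nat_lit 1)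 (.leaf (Rule.fwd [nat_lit 202, nat_lit 250, nat_lit 346, nat_lit 250, nat_lit 226] 25 3)) (.leaf (Rule.fwd [nat_lit 418, nat_lit 202, nat_lit 178, nat_lit 298, nat_lit 370, nat_lit 154] 43 4)))))) (.node (nat_lit 8) (.node (nat_lit 4) (.node (nat_lit 2) (.node (nat_lit 1) (.leaf (Rule.fwd [nat_lit 154, nat_lit 106, nat_lit 274, nat_lit 154, nat_lit 106] 66 1)) (.leaf (Rule.fwd [nat_lit 370, nat_lit 274, nat_lit 226, nat_lit 250, nat_lit 202] 24 4))) (.node (nat_lit 1) (.leaf (Rule.fwd [nat_lit 490, nat_lit 130, nat_lit 130, nat_lit 418, nat_lit 202, nat_lit 154] 41 4)) (.leaf (Rule.fwd [nat_lit 106, nat_lit 178, nat_lit 178, nat_lit 106, nat_lit 178, nat_lit 106] 36 6)))) (.node (nat_lit 2) (.node (nat_lit 1) (.leaf (Rule.fwd [nat_lit 202, nat_lit 346, nat_lit 538, nat_lit 226, nat_lit 442, nat_lit 346] 56 6)) (.leaf (Rule.fwd [nat_lit 202, nat_lit 466, nat_lit 106, nat_lit 154, nat_lit 538, nat_lit 106, nat_lit 154]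 46 2))) (.node (nat_lit 1) (.leaf (Rule.fwd [nat_lit 202, nat_lit 538, nat_lit 106, nat_lit 346, nat_lit 106, nat_lit 154, nat_lit 274] 48 3)) (.leaf (Rule.fwd [nat_lit 226, nat_lit 250, nat_lit 202, nat_lit 274, nat_lit 370] 24 0))))) (.node (nat_lit 4) (.node (nat_lit 2) (.node (nat_lit 1) (.leaf (Rule.fwd [nat_lit 202, nat_lit 298, nat_lit 298, nat_lit 538, nat_lit 10, nat_lit 154, nat_lit 250, nat_lit 82, nat_lit 82, nat_lit 130, nat_lit 154, nat_lit 154, nat_lit 202] 92 9)) (.leaf (Rule.fwd [nat_lit 274, nat_lit 202, nat_lit 538, nat_lit 106, nat_lit 346, nat_lit 106, nat_lit 154] 48 2))) (.node (nat_lit 1) (.leaf (Rule.fwd [nat_lit 178, nat_lit 34, nat_lit 538, nat_lit 322, nat_lit 322, nat_lit 226, nat_lit 250, nat_lit 226, nat_lit 178, nat_lit 178, nat_lit 106, nat_lit 58, nat_lit 58] 93 3)) (.leaf (Rule.fwd [nat_lit 154, nat_lit 34, nat_lit 490, nat_lit 346, nat_lit 226, nat_lit 250, nat_lit 202, nat_lit 130,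 nat_lit 178, nat_lit 106, nat_lit 154, nat_lit 10, nat_lit 178] 95 3)))) (.node (nat_lit 1) (.leaf (Rule.fwd [nat_lit 538, nat_lit 490, nat_lit 178, nat_lit 34, nat_lit 274, nat_lit 202, nat_lit 274, nat_lit 418, nat_lit 346, nat_lit 322, nat_lit 442, nat_lit 490, nat_lit 10] 118 1)) (.leaf (Rule.fwd [nat_lit 202, nat_lit 250, nat_lit 538, nat_lit 250, nat_lit 442] 30 5)))))), (.node (nat_lit 1) (.leaf XRule.defn) (.leaf XRule.ax))⟩
noncomputable def ci298 : CI := ⟨[12], (nat_lit 322), true, (.node (nat_lit 16) (.node (nat_lit 8) (.node (nat_lit 4) (.node (nat_lit 2) (.node (nat_lit 1) (.leaf Rule.defn) (.leaf Rule.copy)) (.node (nat_lit 1) (.leaf (Rule.fwd [nat_lit 322] 130 0)) (.leaf (Rule.fwd [nat_lit 178, nat_lit 34, nat_lit 154, nat_lit 130, nat_lit 178, nat_lit 178, nat_lit 274, nat_lit 274, nat_lit 298, nat_lit 394, nat_lit 490, nat_lit 490, nat_lit 538, nat_lit 10, nat_lit 226] 100 2)))) (.node (nat_lit 2) (.node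 (nat_lit 1) (.leaf (Rule.fwd [nat_lit 346, nat_lit 442] 9 2)) (.leaf (Rule.fwd [nat_lit 418, nat_lit 538, nat_lit 298, nat_lit 394] 16 2))) (.node (nat_lit 1) (.leaf (Rule.fwd [nat_lit 466, nat_lit 418, nat_lit 322, nat_lit 490] 19 4)) (.leaf (Rule.fwd [nat_lit 442, nat_lit 322, nat_lit 322, nat_lit 370] 55 4))))) (.node (nat_lit 4) (.node (nat_lit 2) (.node (nat_lit 1) (.leaf (Rule.fwd [nat_lit 394, nat_lit 442, nat_lit 322, nat_lit 514] 18 0)) (.leaf (Rule.fwd [nat_lit 298, nat_lit 490, nat_lit 322, nat_lit 370, nat_lit 394] 11 2))) (.node (nat_lit 1) (.leaf (Rule.fwd [nat_lit 514, nat_lit 322, nat_lit 322, nat_lit 418, nat_lit 346] 10 4)) (.leaf (Rule.fwd [nat_lit 298, nat_lit 466, nat_lit 322, nat_lit 346] 54 0)))) (.node (nat_lit 2) (.node (nat_lit 1) (.leaf (Rule.fwd [nat_lit 394, nat_lit 298, nat_lit 418, nat_lit 538] 16 0)) (.leaf (Rule.fwd [nat_lit 202, nat_lit 250, nat_lit 202] 23 0))) (.node (nat_lit 1) (.leaf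 (Rule.fwd [nat_lit 298, nat_lit 298, nat_lit 298] 12 0)) (.leaf (Rule.fwd [nat_lit 250, nat_lit 226, nat_lit 346, nat_lit 418, nat_lit 226] 33 3)))))) (.node (nat_lit 8) (.node (nat_lit 4) (.node (nat_lit 2) (.node (nat_lit 1) (.leaf (Rule.fwd [nat_lit 226, nat_lit 250, nat_lit 346, nat_lit 250] 61 2)) (.leaf (Rule.fwd [nat_lit 370, nat_lit 154, nat_lit 274, nat_lit 418, nat_lit 202, nat_lit 178] 43 0))) (.node (nat_lit 1) (.leaf (Rule.fwd [nat_lit 418, nat_lit 298, nat_lit 418] 14 0)) (.leaf (Rule.fwd [nat_lit 202, nat_lit 178, nat_lit 130, nat_lit 370, nat_lit 442, nat_lit 538, nat_lit 106] 45 4)))) (.node (nat_lit 2) (.node (nat_lit 1) (.leaf (Rule.fwd [nat_lit 394, nat_lit 538, nat_lit 418, nat_lit 418] 20 0)) (.leaf (Rule.fwd [nat_lit 226, nat_lit 130, nat_lit 394, nat_lit 490, nat_lit 322, nat_lit 178, nat_lit 130] 51 0))) (.node (nat_lit 1) (.leaf (Rule.fwd [nat_lit 514, nat_lit 418, nat_lit 106, nat_lit 202, nat_lit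 322, nat_lit 106, nat_lit 154] 50 2)) (.leaf (Rule.fwd [nat_lit 466, nat_lit 322, nat_lit 346, nat_lit 298] 54 1))))) (.node (nat_lit 2) (.node (nat_lit 1) (.leaf (Rule.fwd [nat_lit 82, nat_lit 178, nat_lit 178, nat_lit 178, nat_lit 130, nat_lit 130, nat_lit 130, nat_lit 370, nat_lit 418, nat_lit 298, nat_lit 514, nat_lit 442, nat_lit 10, nat_lit 250, nat_lit 514] 106 3)) (.leaf (Rule.fwd [nat_lit 490, nat_lit 322, nat_lit 370, nat_lit 394, nat_lit 298] 11 1))) (.leaf (Rule.fwd [nat_lit 514, nat_lit 442, nat_lit 418, nat_lit 130, nat_lit 226, nat_lit 130, nat_lit 154] 63 7))))), (.node (nat_lit 1) (.leaf XRule.defn) (.leaf XRule.ax))⟩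
noncomputable def ci322 : CI := ⟨[13], (nat_lit 298), true, (.node (nat_lit 16) (.node (nat_lit 8) (.node (nat_lit 4) (.node (nat_lit 2) (.node (nat_lit 1) (.leaf Rule.defn) (.leaf Rule.copy)) (.node (nat_lit 1) (.leaf (Rule.fwd [nat_lit 298] 130 0)) (.leaf (Rule.fwd [nat_lit 466, nat_lit 370] 8 1)))) (.node (nat_lit 2) (.node (nat_lit 1) (.leaf (Rule.fwd [nat_lit 538, nat_lit 394, nat_lit 322, nat_lit 418] 17 1)) (.leaf (Rule.fwd [nat_lit 394, nat_lit 394, nat_lit 538, nat_lit 418] 21 1))) (.node (nat_lit 1) (.leaf (Rule.fwd [nat_lit 346, nat_lit 298, nat_lit 298, nat_lit 466] 54 3)) (.leaf (Rule.fwd [nat_lit 394, nat_lit 322, nat_lit 394] 15 1))))) (.node (nat_lit 4) (.node (nat_lit 2) (.node (nat_lit 1) (.leaf (Rule.fwd [nat_lit 370, nat_lit 394, nat_lit 298, nat_lit 298, nat_lit 490] 11 5)) (.leaf (Rule.fwd [nat_lit 322, nat_lit 370, nat_lit 298, nat_lit 442] 55 2))) (.node (nat_lit 1) (.leaf (Rule.fwd [nat_lit 322,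 nat_lit 322, nat_lit 322] 13 0)) (.leaf (Rule.fwd [nat_lit 274, nat_lit 370, nat_lit 274, nat_lit 202] 60 1)))) (.node (nat_lit 2) (.node (nat_lit 1) (.leaf (Rule.fwd [nat_lit 226, nat_lit 274, nat_lit 226] 22 3)) (.leaf (Rule.fwd [nat_lit 490, nat_lit 298, nat_lit 466, nat_lit 418] 19 1))) (.node (nat_lit 1) (.leaf (Rule.fwd [nat_lit 106, nat_lit 154, nat_lit 298, nat_lit 514, nat_lit 418, nat_lit 106, nat_lit 202] 50 7)) (.leaf (Rule.fwd [nat_lit 202, nat_lit 394, nat_lit 370, nat_lit 202, nat_lit 274] 32 2)))))) (.node (nat_lit 8) (.node (nat_lit 4) (.node (nat_lit 2) (.node (nat_lit 1) (.leaf (Rule.fwd [nat_lit 370, nat_lit 298, nat_lit 442, nat_lit 322] 55 1)) (.leaf (Rule.fwd [nat_lit 418, nat_lit 322, nat_lit 538, nat_lit 394] 17 3))) (.node (nat_lit 1) (.leaf (Rule.fwd [nat_lit 154, nat_lit 226, nat_lit 394, nat_lit 250, nat_lit 178, nat_lit 346] 42 6)) (.leaf (Rule.fwd [nat_lit 178, nat_lit 130, nat_lit 298,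 nat_lit 226, nat_lit 130, nat_lit 394, nat_lit 490] 51 3)))) (.node (nat_lit 2) (.node (nat_lit 1) (.leaf (Rule.fwd [nat_lit 322, nat_lit 418, nat_lit 346, nat_lit 298, nat_lit 514] 10 0)) (.leaf (Rule.fwd [nat_lit 418, nat_lit 346, nat_lit 298, nat_lit 514, nat_lit 322] 10 1))) (.node (nat_lit 1) (.leaf (Rule.fwd [nat_lit 130, nat_lit 538, nat_lit 466, nat_lit 346, nat_lit 106, nat_lit 154, nat_lit 226] 44 3)) (.leaf (Rule.fwd [nat_lit 514, nat_lit 298, nat_lit 394, nat_lit 442] 18 3))))) (.leaf (Rule.fwd [nat_lit 490, nat_lit 274, nat_lit 34, nat_lit 466, nat_lit 490, nat_lit 322, nat_lit 394, nat_lit 346, nat_lit 106, nat_lit 106, nat_lit 106, nat_lit 154, nat_lit 154, nat_lit 154, nat_lit 58] 107 4)))), (.node (nat_lit 1) (.leaf XRule.defn) (.leaf XRule.ax))⟩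
noncomputable def ci346 : CI := ⟨[14], (nat_lit 370), true, (.node (nat_lit 16) (.node (nat_lit 8) (.node (nat_lit 4) (.node (nat_lit 2) (.node (nat_lit 1) (.leaf Rule.defn) (.leaf Rule.copy)) (.node (nat_lit 1) (.leaf (Rule.fwd [nat_lit 370] 130 0)) (.leaf (Rule.fwd [nat_lit 442, nat_lit 298] 9 1)))) (.node (nat_lit 2) (.node (nat_lit 1) (.leaf (Rule.fwd [nat_lit 202, nat_lit 82, nat_lit 34, nat_lit 178, nat_lit 130, nat_lit 130, nat_lit 274, nat_lit 394, nat_lit 394, nat_lit 370, nat_lit 514, nat_lit 10, nat_lit 274] 114 2)) (.leaf (Rule.fwd [nat_lit 322, nat_lit 274, nat_lit 34, nat_lit 154, nat_lit 106, nat_lit 106, nat_lit 178, nat_lit 178, nat_lit 274, nat_lit 298, nat_lit 298, nat_lit 538, nat_lit 10, nat_lit 250] 102 2))) (.node (nat_lit 1) (.leaf (Rule.fwd [nat_lit 274, nat_lit 202, nat_lit 346, nat_lit 538, nat_lit 226, nat_lit 442] 56 5)) (.leaf (Rule.fwd [nat_lit 298, nat_lit 298, nat_lit 466, nat_lit 322]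 54 4))))) (.node (nat_lit 4) (.node (nat_lit 2) (.node (nat_lit 1) (.leaf (Rule.fwd [nat_lit 250, nat_lit 298, nat_lit 226, nat_lit 250] 61 4)) (.leaf (Rule.fwd [nat_lit 346, nat_lit 226, nat_lit 514, nat_lit 514, nat_lit 202] 64 1))) (.node (nat_lit 1) (.leaf (Rule.fwd [nat_lit 250, nat_lit 226, nat_lit 274, nat_lit 202, nat_lit 250] 25 0)) (.leaf (Rule.fwd [nat_lit 418, nat_lit 226, nat_lit 298, nat_lit 250, nat_lit 226] 33 0)))) (.node (nat_lit 2) (.node (nat_lit 1) (.leaf (Rule.fwd [nat_lit 298, nat_lit 514, nat_lit 322, nat_lit 322, nat_lit 418] 10 3)) (.leaf (Rule.fwd [nat_lit 490, nat_lit 178, nat_lit 346, nat_lit 490, nat_lit 178] 39 0))) (.node (nat_lit 1) (.leaf (Rule.fwd [nat_lit 226, nat_lit 514, nat_lit 514, nat_lit 202, nat_lit 346] 64 2)) (.leaf (Rule.fwd [nat_lit 106, nat_lit 154, nat_lit 274, nat_lit 274, nat_lit 202, nat_lit 538, nat_lit 106] 48 7)))))) (.node (nat_lit 4) (.node (nat_lit 2) (.node (nat_lit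 1) (.leaf (Rule.fwd [nat_lit 106, nat_lit 154, nat_lit 226, nat_lit 322, nat_lit 130, nat_lit 538, nat_lit 466] 44 7)) (.leaf (Rule.fwd [nat_lit 538, nat_lit 226, nat_lit 442, nat_lit 346, nat_lit 274, nat_lit 202] 56 1))) (.node (nat_lit 1) (.leaf (Rule.fwd [nat_lit 322, nat_lit 154, nat_lit 226, nat_lit 394, nat_lit 250, nat_lit 178] 42 5)) (.leaf (Rule.fwd [nat_lit 82, nat_lit 130, nat_lit 178, nat_lit 178, nat_lit 130, nat_lit 130, nat_lit 130, nat_lit 226, nat_lit 418, nat_lit 490, nat_lit 10, nat_lit 274, nat_lit 514] 116 3)))) (.leaf (Rule.fwd [nat_lit 250, nat_lit 34, nat_lit 538, nat_lit 490, nat_lit 322, nat_lit 370, nat_lit 418, nat_lit 250, nat_lit 226, nat_lit 130, nat_lit 154, nat_lit 130, nat_lit 82, nat_lit 154] 121 3)))), (.node (nat_lit 1) (.leaf XRule.defn) (.leaf XRule.ax))⟩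
noncomputable def ci370 : CI := ⟨[15], (nat_lit 346), true, (.node (nat_lit 16) (.node (nat_lit 8) (.node (nat_lit 4) (.node (nat_lit 2) (.node (nat_lit 1) (.leaf Rule.defn) (.leaf Rule.copy)) (.node (nat_lit 1) (.leaf (Rule.fwd [nat_lit 346] 130 0)) (.leaf (Rule.fwd [nat_lit 178, nat_lit 58, nat_lit 106, nat_lit 178, nat_lit 106, nat_lit 202, nat_lit 274, nat_lit 394, nat_lit 346, nat_lit 298, nat_lit 514, nat_lit 538, nat_lit 10, nat_lit 274] 120 2)))) (.node (nat_lit 2) (.node (nat_lit 1) (.leaf (Rule.fwd [nat_lit 370, nat_lit 226, nat_lit 490, nat_lit 490, nat_lit 202] 65 3)) (.leaf (Rule.fwd [nat_lit 322, nat_lit 466] 8 0))) (.node (nat_lit 1) (.leaf (Rule.fwd [nat_lit 226, nat_lit 490, nat_lit 490, nat_lit 202, nat_lit 370] 65 2)) (.leaf (Rule.fwd [nat_lit 298, nat_lit 442, nat_lit 322, nat_lit 322] 55 0))))) (.node (nat_lit 4) (.node (nat_lit 2) (.node (nat_lit 1) (.leaf (Rule.fwd [nat_lit 466, nat_lit 202, nat_lit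 538, nat_lit 370, nat_lit 226, nat_lit 250] 57 6)) (.leaf (Rule.fwd [nat_lit 274, nat_lit 202, nat_lit 322, nat_lit 274] 60 3))) (.node (nat_lit 1) (.leaf (Rule.fwd [nat_lit 202, nat_lit 274, nat_lit 322, nat_lit 202, nat_lit 394] 32 5)) (.leaf (Rule.fwd [nat_lit 154, nat_lit 274, nat_lit 418, nat_lit 202, nat_lit 178, nat_lit 298] 43 6)))) (.node (nat_lit 2) (.node (nat_lit 1) (.leaf (Rule.fwd [nat_lit 130, nat_lit 538, nat_lit 226, nat_lit 250, nat_lit 250, nat_lit 178, nat_lit 130] 49 0)) (.leaf (Rule.fwd [nat_lit 226, nat_lit 250, nat_lit 370, nat_lit 466, nat_lit 202, nat_lit 538] 57 2))) (.node (nat_lit 1) (.leaf (Rule.fwd [nat_lit 154, nat_lit 514, nat_lit 370, nat_lit 154, nat_lit 514] 38 2)) (.leaf (Rule.fwd [nat_lit 394, nat_lit 298, nat_lit 298, nat_lit 490, nat_lit 322] 11 4)))))) (.node (nat_lit 2) (.node (nat_lit 1) (.leaf (Rule.fwd [nat_lit 274, nat_lit 226, nat_lit 250, nat_lit 202, nat_lit 274] 24 5))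 (.leaf (Rule.fwd [nat_lit 442, nat_lit 538, nat_lit 106, nat_lit 298, nat_lit 202, nat_lit 178, nat_lit 130] 45 0))) (.leaf (Rule.fwd [nat_lit 250, nat_lit 34, nat_lit 490, nat_lit 346, nat_lit 418, nat_lit 418, nat_lit 250, nat_lit 106, nat_lit 106, nat_lit 154, nat_lit 10, nat_lit 58, nat_lit 226] 115 3)))), (.node (nat_lit 1) (.leaf XRule.defn) (.leaf XRule.ax))⟩
noncomputable def ci394 : CI := ⟨[16], (nat_lit 418), true, (.node (nat_lit 16) (.node (nat_lit 8) (.node (nat_lit 4) (.node (nat_lit 2) (.node (nat_lit 1) (.leaf Rule.defn) (.leaf Rule.copy)) (.node (nat_lit 1) (.leaf (Rule.fwd [nat_lit 418] 130 0)) (.leaf (Rule.fwd [nat_lit 178, nat_lit 34, nat_lit 178, nat_lit 178, nat_lit 178, nat_lit 250, nat_lit 226, nat_lit 322, nat_lit 538, nat_lit 10, nat_lit 274] 110 2)))) (.node (nat_lit 2) (.node (nat_lit 1) (.leaf (Rule.fwd [nat_lit 466, nat_lit 178, nat_lit 34, nat_lit 154, nat_lit 154, nat_lit 106, nat_lit 250,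 nat_lit 226, nat_lit 250, nat_lit 418, nat_lit 466, nat_lit 514, nat_lit 10, nat_lit 250] 104 2)) (.leaf (Rule.fwd [nat_lit 538, nat_lit 418, nat_lit 418, nat_lit 298] 20 1))) (.node (nat_lit 1) (.leaf (Rule.fwd [nat_lit 322, nat_lit 418, nat_lit 322, nat_lit 538] 17 4)) (.leaf (Rule.fwd [nat_lit 538, nat_lit 418, nat_lit 322, nat_lit 394] 21 4))))) (.node (nat_lit 4) (.node (nat_lit 2) (.node (nat_lit 1) (.leaf (Rule.fwd [nat_lit 442, nat_lit 322, nat_lit 514, nat_lit 298] 18 1)) (.leaf (Rule.fwd [nat_lit 298, nat_lit 298, nat_lit 490, nat_lit 322, nat_lit 370] 11 3))) (.node (nat_lit 1) (.leaf (Rule.fwd [nat_lit 322, nat_lit 394, nat_lit 322] 15 0)) (.leaf (Rule.fwd [nat_lit 226, nat_lit 250, nat_lit 226, nat_lit 274, nat_lit 226, nat_lit 250] 27 0)))) (.node (nat_lit 2) (.node (nat_lit 1) (.leaf (Rule.fwd [nat_lit 298, nat_lit 418, nat_lit 538, nat_lit 298] 16 1)) (.leaf (Rule.fwd [nat_lit 106, nat_lit 106, nat_lit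 514, nat_lit 250, nat_lit 178, nat_lit 226] 40 6))) (.node (nat_lit 1) (.leaf (Rule.fwd [nat_lit 466, nat_lit 490, nat_lit 322, nat_lit 178, nat_lit 106, nat_lit 202, nat_lit 106] 62 3)) (.leaf (Rule.fwd [nat_lit 490, nat_lit 322, nat_lit 178, nat_lit 130, nat_lit 298, nat_lit 226, nat_lit 130] 51 5)))))) (.node (nat_lit 4) (.node (nat_lit 2) (.node (nat_lit 1) (.leaf (Rule.fwd [nat_lit 370, nat_lit 202, nat_lit 274, nat_lit 322, nat_lit 202] 32 4)) (.leaf (Rule.fwd [nat_lit 250, nat_lit 178, nat_lit 346, nat_lit 322, nat_lit 154, nat_lit 226] 42 2))) (.node (nat_lit 1) (.leaf (Rule.fwd [nat_lit 394, nat_lit 538, nat_lit 418, nat_lit 322] 21 0)) (.leaf (Rule.fwd [nat_lit 394, nat_lit 10, nat_lit 466, nat_lit 298, nat_lit 418, nat_lit 274, nat_lit 226, nat_lit 274, nat_lit 202, nat_lit 34] 79 3)))) (.node (nat_lit 1) (.leaf (Rule.fwd [nat_lit 274, nat_lit 82, nat_lit 538, nat_lit 346, nat_lit 394, nat_lit 274, nat_lit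 154, nat_lit 106, nat_lit 10] 75 3)) (.leaf (Rule.fwd [nat_lit 82, nat_lit 322, nat_lit 418, nat_lit 250, nat_lit 202, nat_lit 154, nat_lit 154, nat_lit 130, nat_lit 130, nat_lit 178, nat_lit 58, nat_lit 298] 83 2))))), (.node (nat_lit 1) (.leaf XRule.defn) (.leaf XRule.ax))⟩
noncomputable def ci418 : CI := ⟨[17], (nat_lit 394), true, (.node (nat_lit 16) (.node (nat_lit 8) (.node (nat_lit 4) (.node (nat_lit 2) (.node (nat_lit 1) (.leaf Rule.defn) (.leaf Rule.copy)) (.node (nat_lit 1) (.leaf (Rule.fwd [nat_lit 394] 130 0)) (.leaf (Rule.fwd [nat_lit 58, nat_lit 106, nat_lit 34, nat_lit 106, nat_lit 106, nat_lit 178, nat_lit 178, nat_lit 202, nat_lit 274, nat_lit 370, nat_lit 394, nat_lit 442, nat_lit 10, nat_lit 274] 122 2)))) (.node (nat_lit 2) (.node (nat_lit 1) (.leaf (Rule.fwd [nat_lit 298, nat_lit 418, nat_lit 298] 14 1)) (.leaf (Rule.fwd [nat_lit 418, nat_lit 10, nat_lit 226, nat_lit 250, nat_lit 202, nat_lit 250,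 nat_lit 394, nat_lit 322, nat_lit 442, nat_lit 34] 78 1))) (.node (nat_lit 1) (.leaf (Rule.fwd [nat_lit 322, nat_lit 82, nat_lit 154, nat_lit 106, nat_lit 106, nat_lit 178, nat_lit 178, nat_lit 226, nat_lit 274, nat_lit 394, nat_lit 298, nat_lit 58] 82 1)) (.leaf (Rule.fwd [nat_lit 322, nat_lit 394, nat_lit 394, nat_lit 538] 21 2))))) (.node (nat_lit 4) (.node (nat_lit 2) (.node (nat_lit 1) (.leaf (Rule.fwd [nat_lit 346, nat_lit 298, nat_lit 514, nat_lit 322, nat_lit 322] 10 2)) (.leaf (Rule.fwd [nat_lit 322, nat_lit 538, nat_lit 394, nat_lit 322] 17 2))) (.node (nat_lit 1) (.leaf (Rule.fwd [nat_lit 418, nat_lit 298, nat_lit 394, nat_lit 538] 20 3)) (.leaf (Rule.fwd [nat_lit 298, nat_lit 394, nat_lit 538, nat_lit 418] 20 4)))) (.node (nat_lit 2) (.node (nat_lit 1) (.leaf (Rule.fwd [nat_lit 538, nat_lit 298, nat_lit 394, nat_lit 298] 16 3)) (.leaf (Rule.fwd [nat_lit 106, nat_lit 202, nat_lit 322, nat_lit 106, nat_lit 154,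 nat_lit 298, nat_lit 514] 50 4))) (.node (nat_lit 1) (.leaf (Rule.fwd [nat_lit 322, nat_lit 490, nat_lit 298, nat_lit 466] 19 2)) (.leaf (Rule.fwd [nat_lit 274, nat_lit 202, nat_lit 250, nat_lit 202, nat_lit 274, nat_lit 202] 26 6)))))) (.node (nat_lit 4) (.node (nat_lit 2) (.node (nat_lit 1) (.leaf (Rule.fwd [nat_lit 226, nat_lit 298, nat_lit 250, nat_lit 226, nat_lit 346] 33 5)) (.leaf (Rule.fwd [nat_lit 34, nat_lit 130, nat_lit 178, nat_lit 250, nat_lit 418, nat_lit 370, nat_lit 538, nat_lit 58, nat_lit 250] 74 2))) (.node (nat_lit 1) (.leaf (Rule.fwd [nat_lit 130, nat_lit 226, nat_lit 130, nat_lit 154, nat_lit 298, nat_lit 514, nat_lit 442] 63 4)) (.leaf (Rule.fwd [nat_lit 202, nat_lit 178, nat_lit 298, nat_lit 370, nat_lit 154, nat_lit 274] 43 3)))) (.node (nat_lit 1) (.leaf (Rule.fwd [nat_lit 202, nat_lit 154, nat_lit 274, nat_lit 490, nat_lit 130, nat_lit 130] 41 0)) (.leaf (Rule.fwd [nat_lit 10, nat_lit 226, nat_lit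 250, nat_lit 202, nat_lit 250, nat_lit 394, nat_lit 322, nat_lit 442, nat_lit 34, nat_lit 418] 78 2))))), (.node (nat_lit 1) (.leaf XRule.defn) (.leaf XRule.ax))⟩
noncomputable def ci442 : CI := ⟨[18], (nat_lit 466), true, (.node (nat_lit 16) (.node (nat_lit 8) (.node (nat_lit 4) (.node (nat_lit 2) (.node (nat_lit 1) (.leaf Rule.defn) (.leaf Rule.copy)) (.node (nat_lit 1) (.leaf (Rule.fwd [nat_lit 466] 130 0)) (.leaf (Rule.fwd [nat_lit 442, nat_lit 442] 2 0)))) (.node (nat_lit 2) (.node (nat_lit 1) (.leaf (Rule.fwd [nat_lit 34, nat_lit 154, nat_lit 202, nat_lit 250, nat_lit 250, nat_lit 394, nat_lit 514, nat_lit 466, nat_lit 538, nat_lit 10] 76 1)) (.leaf (Rule.fwd [nat_lit 178, nat_lit 130, nat_lit 34, nat_lit 370, nat_lit 418, nat_lit 298, nat_lit 490, nat_lit 442, nat_lit 490, nat_lit 10, nat_lit 274] 112 2))) (.node (nat_lit 1) (.leaf (Rule.fwd [nat_lit 538, nat_lit 442, nat_lit 538] 6 0)) (.leaf (Rule.fwd [nat_lit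 298, nat_lit 346] 9 0))))) (.node (nat_lit 4) (.node (nat_lit 2) (.node (nat_lit 1) (.leaf (Rule.fwd [nat_lit 322, nat_lit 514, nat_lit 298, nat_lit 394] 18 2)) (.leaf (Rule.fwd [nat_lit 274, nat_lit 202, nat_lit 250, nat_lit 538, nat_lit 250] 30 4))) (.node (nat_lit 1) (.leaf (Rule.fwd [nat_lit 346, nat_lit 274, nat_lit 202, nat_lit 346, nat_lit 538, nat_lit 226] 56 4)) (.leaf (Rule.fwd [nat_lit 514, nat_lit 442, nat_lit 538, nat_lit 514] 0 1)))) (.node (nat_lit 2) (.node (nat_lit 1) (.leaf (Rule.fwd [nat_lit 538, nat_lit 514, nat_lit 442, nat_lit 514] 0 3)) (.leaf (Rule.fwd [nat_lit 226, nat_lit 442, nat_lit 538, nat_lit 106, nat_lit 514, nat_lit 130, nat_lit 154] 53 7))) (.node (nat_lit 1) (.leaf (Rule.fwd [nat_lit 322, nat_lit 322, nat_lit 370, nat_lit 298] 55 3)) (.leaf (Rule.fwd [nat_lit 226, nat_lit 250, nat_lit 178, nat_lit 130, nat_lit 538, nat_lit 178, nat_lit 130] 47 5)))))) (.node (nat_lit 2) (.node (nat_lit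 1) (.leaf (Rule.fwd [nat_lit 538, nat_lit 106, nat_lit 298, nat_lit 202, nat_lit 178, nat_lit 130, nat_lit 370] 45 7)) (.leaf (Rule.fwd [nat_lit 538, nat_lit 106, nat_lit 514, nat_lit 130, nat_lit 154, nat_lit 442, nat_lit 226] 53 5))) (.node (nat_lit 1) (.leaf (Rule.fwd [nat_lit 418, nat_lit 130, nat_lit 226, nat_lit 130, nat_lit 154, nat_lit 298, nat_lit 514] 63 5)) (.leaf (Rule.fwd [nat_lit 490, nat_lit 34, nat_lit 514, nat_lit 514, nat_lit 10, nat_lit 490] 72 5))))), (.node (nat_lit 1) (.leaf XRule.defn) (.leaf XRule.ax))⟩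
noncomputable def ci466 : CI := ⟨[19], (nat_lit 442), true, (.node (nat_lit 16) (.node (nat_lit 8) (.node (nat_lit 4) (.node (nat_lit 2) (.node (nat_lit 1) (.leaf Rule.defn) (.leaf Rule.copy)) (.node (nat_lit 1) (.leaf (Rule.fwd [nat_lit 442] 130 0)) (.leaf (Rule.fwd [nat_lit 370, nat_lit 322] 8 2)))) (.node (nat_lit 2) (.node (nat_lit 1) (.leaf (Rule.fwd [nat_lit 418, nat_lit 322, nat_lit 490, nat_lit 298] 19 3)) (.leaf (Rule.fwd [nat_lit 514, nat_lit 34, nat_lit 490, nat_lit 490, nat_lit 10, nat_lit 514] 73 6))) (.node (nat_lit 1) (.leaf (Rule.fwd [nat_lit 490, nat_lit 538, nat_lit 466, nat_lit 490] 1 2)) (.leaf (Rule.fwd [nat_lit 466, nat_lit 466] 3 0))))) (.node (nat_lit 4) (.node (nat_lit 2) (.node (nat_lit 1) (.leaf (Rule.fwd [nat_lit 322, nat_lit 346, nat_lit 298, nat_lit 298] 54 2)) (.leaf (Rule.fwd [nat_lit 538, nat_lit 466, nat_lit 538] 7 1))) (.node (nat_lit 1) (.leaf (Rule.fwd [nat_lit 202, nat_lit 538, nat_lit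 370, nat_lit 226, nat_lit 250, nat_lit 370] 57 5)) (.leaf (Rule.fwd [nat_lit 274, nat_lit 538, nat_lit 274, nat_lit 226, nat_lit 250] 31 5)))) (.node (nat_lit 2) (.node (nat_lit 1) (.leaf (Rule.fwd [nat_lit 106, nat_lit 154, nat_lit 538, nat_lit 106, nat_lit 154, nat_lit 274, nat_lit 202] 46 4)) (.leaf (Rule.fwd [nat_lit 346, nat_lit 106, nat_lit 154, nat_lit 226, nat_lit 322, nat_lit 130, nat_lit 538] 44 6))) (.node (nat_lit 1) (.leaf (Rule.fwd [nat_lit 178, nat_lit 106, nat_lit 490, nat_lit 130, nat_lit 538, nat_lit 466, nat_lit 202] 52 6)) (.leaf (Rule.fwd [nat_lit 490, nat_lit 466, nat_lit 490, nat_lit 538] 1 4)))))) (.node (nat_lit 2) (.node (nat_lit 1) (.leaf (Rule.fwd [nat_lit 202, nat_lit 466, nat_lit 178, nat_lit 106, nat_lit 490, nat_lit 130, nat_lit 538] 52 4)) (.leaf (Rule.fwd [nat_lit 490, nat_lit 322, nat_lit 178, nat_lit 106, nat_lit 202, nat_lit 106, nat_lit 394] 62 4))) (.leaf (Rule.fwd [nat_lit 34, nat_lit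 538, nat_lit 442, nat_lit 490, nat_lit 418, nat_lit 274, nat_lit 274, nat_lit 226, nat_lit 178, nat_lit 10] 77 2)))), (.node (nat_lit 1) (.leaf XRule.defn) (.leaf XRule.ax))⟩
noncomputable def ci490 : CI := ⟨[20], (nat_lit 514), true, (.node (nat_lit 16) (.node (nat_lit 8) (.node (nat_lit 4) (.node (nat_lit 2) (.node (nat_lit 1) (.leaf Rule.defn) (.leaf Rule.copy)) (.node (nat_lit 1) (.leaf (Rule.fwd [nat_lit 514] 130 0)) (.leaf (Rule.fwd [nat_lit 34, nat_lit 130, nat_lit 178, nat_lit 106, nat_lit 106, nat_lit 178, nat_lit 202, nat_lit 394, nat_lit 298, nat_lit 490, nat_lit 442, nat_lit 490, nat_lit 10] 86 1)))) (.node (nat_lit 2) (.node (nat_lit 1) (.leaf (Rule.fwd [nat_lit 466, nat_lit 490, nat_lit 538, nat_lit 466] 1 3)) (.leaf (Rule.fwd [nat_lit 538, nat_lit 466, nat_lit 490, nat_lit 466] 1 1))) (.node (nat_lit 1) (.leaf (Rule.fwd [nat_lit 322, nat_lit 370, nat_lit 394, nat_lit 298, nat_lit 298] 11 0)) (.leaf (Rule.fwd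 [nat_lit 130, nat_lit 538, nat_lit 466, nat_lit 202, nat_lit 466, nat_lit 178, nat_lit 106] 52 1))))) (.node (nat_lit 4) (.node (nat_lit 2) (.node (nat_lit 1) (.leaf (Rule.fwd [nat_lit 490, nat_lit 490, nat_lit 490] 4 0)) (.leaf (Rule.fwd [nat_lit 298, nat_lit 466, nat_lit 418, nat_lit 322] 19 0))) (.node (nat_lit 1) (.leaf (Rule.fwd [nat_lit 490, nat_lit 202, nat_lit 370, nat_lit 370, nat_lit 226] 65 0)) (.leaf (Rule.fwd [nat_lit 442, nat_lit 490, nat_lit 34, nat_lit 514, nat_lit 514, nat_lit 10] 72 4)))) (.node (nat_lit 2) (.node (nat_lit 1) (.leaf (Rule.fwd [nat_lit 178, nat_lit 346, nat_lit 490, nat_lit 178, nat_lit 346] 39 2)) (.leaf (Rule.fwd [nat_lit 130, nat_lit 130, nat_lit 418, nat_lit 202, nat_lit 154, nat_lit 274] 41 3))) (.node (nat_lit 1) (.leaf (Rule.fwd [nat_lit 202, nat_lit 370, nat_lit 370, nat_lit 226, nat_lit 490] 65 5)) (.leaf (Rule.fwd [nat_lit 490, nat_lit 10, nat_lit 514, nat_lit 466, nat_lit 514,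 nat_lit 34] 73 3)))))) (.node (nat_lit 2) (.node (nat_lit 1) (.leaf (Rule.fwd [nat_lit 322, nat_lit 178, nat_lit 130, nat_lit 298, nat_lit 226, nat_lit 130, nat_lit 394] 51 4)) (.leaf (Rule.fwd [nat_lit 10, nat_lit 514, nat_lit 466, nat_lit 514, nat_lit 34, nat_lit 490] 73 2))) (.node (nat_lit 1) (.leaf (Rule.fwd [nat_lit 322, nat_lit 178, nat_lit 106, nat_lit 202, nat_lit 106, nat_lit 394, nat_lit 466] 62 5)) (.leaf (Rule.fwd [nat_lit 34, nat_lit 514, nat_lit 514, nat_lit 10, nat_lit 490, nat_lit 442] 72 6))))), (.node (nat_lit 1) (.leaf XRule.defn) (.leaf XRule.ax))⟩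
noncomputable def ci514 : CI := ⟨[21], (nat_lit 490), true, (.node (nat_lit 16) (.node (nat_lit 8) (.node (nat_lit 4) (.node (nat_lit 2) (.node (nat_lit 1) (.leaf Rule.defn) (.leaf Rule.copy)) (.node (nat_lit 1) (.leaf (Rule.fwd [nat_lit 490] 130 0)) (.leaf (Rule.fwd [nat_lit 514, nat_lit 10, nat_lit 490, nat_lit 442, nat_lit 490, nat_lit 34] 72 1)))) (.node (nat_lit 2) (.node (nat_lit 1) (.leaf (Rule.fwd [nat_lit 346, nat_lit 82, nat_lit 130, nat_lit 178, nat_lit 178, nat_lit 130, nat_lit 130, nat_lit 130, nat_lit 226, nat_lit 418, nat_lit 490, nat_lit 10, nat_lit 274] 116 2)) (.leaf (Rule.fwd [nat_lit 298, nat_lit 82, nat_lit 178, nat_lit 178, nat_lit 178, nat_lit 130, nat_lit 130, nat_lit 130, nat_lit 370, nat_lit 418, nat_lit 298, nat_lit 514, nat_lit 442, nat_lit 10, nat_lit 250] 106 2))) (.node (nat_lit 1) (.leaf (Rule.fwd [nat_lit 298, nat_lit 394, nat_lit 442, nat_lit 322] 18 4)) (.leaf (Rule.fwd [nat_lit 442,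 nat_lit 538, nat_lit 514, nat_lit 442] 0 2))))) (.node (nat_lit 4) (.node (nat_lit 2) (.node (nat_lit 1) (.leaf (Rule.fwd [nat_lit 514, nat_lit 514, nat_lit 514] 5 0)) (.leaf (Rule.fwd [nat_lit 442, nat_lit 514, nat_lit 442, nat_lit 538] 0 0))) (.node (nat_lit 1) (.leaf (Rule.fwd [nat_lit 202, nat_lit 346, nat_lit 346, nat_lit 226, nat_lit 514] 64 5)) (.leaf (Rule.fwd [nat_lit 322, nat_lit 322, nat_lit 418, nat_lit 346, nat_lit 298] 10 5)))) (.node (nat_lit 2) (.node (nat_lit 1) (.leaf (Rule.fwd [nat_lit 514, nat_lit 202, nat_lit 346, nat_lit 346, nat_lit 226] 64 4)) (.leaf (Rule.fwd [nat_lit 130, nat_lit 154, nat_lit 442, nat_lit 226, nat_lit 442, nat_lit 538, nat_lit 106] 53 2))) (.node (nat_lit 1) (.leaf (Rule.fwd [nat_lit 370, nat_lit 154, nat_lit 514, nat_lit 370, nat_lit 154] 38 1)) (.leaf (Rule.fwd [nat_lit 250, nat_lit 178, nat_lit 226, nat_lit 394, nat_lit 106, nat_lit 106] 40 2)))))) (.node (nat_lit 4) (.node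 (nat_lit 2) (.node (nat_lit 1) (.leaf (Rule.fwd [nat_lit 34, nat_lit 490, nat_lit 490, nat_lit 10, nat_lit 514, nat_lit 466] 73 5)) (.leaf (Rule.fwd [nat_lit 466, nat_lit 514, nat_lit 34, nat_lit 490, nat_lit 490, nat_lit 10] 73 0))) (.node (nat_lit 1) (.leaf (Rule.fwd [nat_lit 10, nat_lit 490, nat_lit 442, nat_lit 490, nat_lit 34, nat_lit 514] 72 2)) (.leaf (Rule.fwd [nat_lit 418, nat_lit 106, nat_lit 202, nat_lit 322, nat_lit 106, nat_lit 154, nat_lit 298] 50 3)))) (.node (nat_lit 1) (.leaf (Rule.fwd [nat_lit 34, nat_lit 514, nat_lit 466, nat_lit 514, nat_lit 322, nat_lit 418, nat_lit 226, nat_lit 154, nat_lit 130, nat_lit 130, nat_lit 154, nat_lit 106, nat_lit 10] 87 2)) (.leaf (Rule.fwd [nat_lit 442, nat_lit 418, nat_lit 130, nat_lit 226, nat_lit 130, nat_lit 154, nat_lit 298] 63 6))))), (.node (nat_lit 1) (.leaf XRule.defn) (.leaf XRule.ax))⟩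
noncomputable def ci538 : CI := ⟨[22], (nat_lit 538), true, (.node (nat_lit 16) (.node (nat_lit 8) (.node (nat_lit 4) (.node (nat_lit 2) (.node (nat_lit 1) (.leaf Rule.defn) (.leaf Rule.copy)) (.node (nat_lit 1) (.leaf (Rule.fwd [nat_lit 538] 130 0)) (.leaf (Rule.fwd [nat_lit 490, nat_lit 178, nat_lit 34, nat_lit 274, nat_lit 202, nat_lit 274, nat_lit 418, nat_lit 346, nat_lit 322, nat_lit 442, nat_lit 490, nat_lit 10, nat_lit 274] 118 2)))) (.node (nat_lit 2) (.node (nat_lit 1) (.leaf (Rule.fwd [nat_lit 466, nat_lit 178, nat_lit 34, nat_lit 154, nat_lit 154, nat_lit 106, nat_lit 226, nat_lit 250, nat_lit 250, nat_lit 346, nat_lit 298, nat_lit 490, nat_lit 490, nat_lit 442, nat_lit 10, nat_lit 154] 128 2)) (.leaf (Rule.fwd [nat_lit 514, nat_lit 442, nat_lit 514, nat_lit 442] 0 4))) (.node (nat_lit 1) (.leaf (Rule.fwd [nat_lit 178, nat_lit 130, nat_lit 442, nat_lit 226, nat_lit 250, nat_lit 178, nat_lit 130] 47 0)) (.leaf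 (Rule.fwd [nat_lit 442, nat_lit 538, nat_lit 442] 6 1))))) (.node (nat_lit 4) (.node (nat_lit 2) (.node (nat_lit 1) (.leaf (Rule.fwd [nat_lit 298, nat_lit 394, nat_lit 298, nat_lit 418] 16 4)) (.leaf (Rule.fwd [nat_lit 418, nat_lit 418, nat_lit 298, nat_lit 394] 20 2))) (.node (nat_lit 1) (.leaf (Rule.fwd [nat_lit 466, nat_lit 538, nat_lit 466] 7 0)) (.leaf (Rule.fwd [nat_lit 466, nat_lit 490, nat_lit 466, nat_lit 490] 1 0)))) (.node (nat_lit 2) (.node (nat_lit 1) (.leaf (Rule.fwd [nat_lit 394, nat_lit 322, nat_lit 418, nat_lit 322] 17 0)) (.leaf (Rule.fwd [nat_lit 274, nat_lit 226, nat_lit 250, nat_lit 466, nat_lit 274] 31 3))) (.node (nat_lit 1) (.leaf (Rule.fwd [nat_lit 226, nat_lit 442, nat_lit 346, nat_lit 274, nat_lit 202, nat_lit 346] 56 2)) (.leaf (Rule.fwd [nat_lit 250, nat_lit 442, nat_lit 274, nat_lit 202, nat_lit 250] 30 2)))))) (.node (nat_lit 8) (.node (nat_lit 4) (.node (nat_lit 2) (.node (nat_lit 1) (.leaf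 (Rule.fwd [nat_lit 106, nat_lit 154, nat_lit 274, nat_lit 202, nat_lit 466, nat_lit 106, nat_lit 154] 46 7)) (.leaf (Rule.fwd [nat_lit 466, nat_lit 346, nat_lit 106, nat_lit 154, nat_lit 226, nat_lit 322, nat_lit 130] 44 5))) (.node (nat_lit 1) (.leaf (Rule.fwd [nat_lit 370, nat_lit 226, nat_lit 250, nat_lit 370, nat_lit 466, nat_lit 202] 57 3)) (.leaf (Rule.fwd [nat_lit 106, nat_lit 514, nat_lit 130, nat_lit 154, nat_lit 442, nat_lit 226, nat_lit 442] 53 4)))) (.node (nat_lit 2) (.node (nat_lit 1) (.leaf (Rule.fwd [nat_lit 106, nat_lit 346, nat_lit 106, nat_lit 154, nat_lit 274, nat_lit 274, nat_lit 202] 48 5)) (.leaf (Rule.fwd [nat_lit 58, nat_lit 250, nat_lit 418, nat_lit 34, nat_lit 130, nat_lit 178, nat_lit 250, nat_lit 418, nat_lit 370] 74 9))) (.node (nat_lit 1) (.leaf (Rule.fwd [nat_lit 106, nat_lit 298, nat_lit 202, nat_lit 178, nat_lit 130, nat_lit 370, nat_lit 442] 45 6)) (.leaf (Rule.fwd [nat_lit 178, nat_lit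 34, nat_lit 466, nat_lit 514, nat_lit 514, nat_lit 322, nat_lit 370, nat_lit 274, nat_lit 274, nat_lit 202, nat_lit 130, nat_lit 178, nat_lit 178, nat_lit 10, nat_lit 154, nat_lit 442] 129 3))))) (.node (nat_lit 2) (.node (nat_lit 1) (.leaf (Rule.fwd [nat_lit 418, nat_lit 322, nat_lit 394, nat_lit 394] 21 3)) (.leaf (Rule.fwd [nat_lit 226, nat_lit 250, nat_lit 250, nat_lit 178, nat_lit 130, nat_lit 370, nat_lit 130] 49 6))) (.leaf (Rule.fwd [nat_lit 466, nat_lit 202, nat_lit 466, nat_lit 178, nat_lit 106, nat_lit 490, nat_lit 130] 52 3))))), (.node (nat_lit 1) (.leaf XRule.defn) (.leaf XRule.ax))⟩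
noncomputable def outer : Tr CI := (.node (nat_lit 8) (.node (nat_lit 16) (.node (nat_lit 32) (.node (nat_lit 2) (.leaf ci0) (.node (nat_lit 64) (.node (nat_lit 128) (.leaf ci514) (.leaf ci130)) (.leaf ci322))) (.node (nat_lit 64) (.node (nat_lit 128) (.leaf ci34) (.leaf ci418)) (.leaf ci226))) (.node (nat_lit 32) (.node (nat_lit 64) (.leaf ci274) (.node (nat_lit 128) (.leaf ci82) (.leaf ci466))) (.node (nat_lit 64) (.leaf ci178) (.leaf ci370)))) (.node (nat_lit 16) (.node (nat_lit 32) (.node (nat_lit 64) (.node (nat_lit 128) (.leaf ci10) (.leaf ci394)) (.leaf ci202)) (.node (nat_lit 64) (.leaf ci298) (.node (nat_lit 128) (.leaf ci106) (.leaf ci490)))) (.node (nat_lit 32) (.node (nat_lit 64) (.node (nat_lit 128) (.leaf ci538) (.leaf ci154)) (.leaf ci346)) (.node (nat_lit 64) (.node (nat_lit 128) (.leaf ci58) (.leaf ci442)) (.leaf ci250)))))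
def cols : List ℕ := [nat_lit 10, nat_lit 34, nat_lit 58, nat_lit 82, nat_lit 106, nat_lit 130, nat_lit 154, nat_lit 178, nat_lit 202, nat_lit 226, nat_lit 250, nat_lit 274, nat_lit 298, nat_lit 322, nat_lit 346, nat_lit 370, nat_lit 394, nat_lit 418, nat_lit 442, nat_lit 466, nat_lit 490, nat_lit 514, nat_lit 538]
def invL : List ℕ := [1, 0, 3, 2, 5, 4, 7, 6, 9, 8, 11, 10, 13, 12, 15, 14, 17, 16, 19, 18, 21, 20, 22]
def rels : List (List ℕ) := [[21, 18, 21, 18, 22], [18, 18, 18], [20, 20, 20, 20], [18, 22, 18, 22], [15, 13, 19], [13, 13, 17, 14, 12, 21], [12, 12, 12, 12], [12, 17, 12, 17], [12, 16, 12, 17, 22], [12, 16, 18, 13, 21], [12, 16, 22, 17, 17], [9, 11, 9, 13], [11, 9, 10, 8, 11, 15], [11, 8, 10, 8, 11, 8, 17], [8, 8, 8], [8, 10, 22, 10, 18, 11], [8, 11, 13, 8, 16, 15], [4, 7, 5, 5, 6, 9], [4, 7, 7, 4, 7, 4, 11], [6, 21, 15, 6, 21, 15], [4, 4, 21, 10, 7, 9, 16], [6, 9, 16, 10, 7, 14, 13], [4, 6, 9, 13, 5, 22,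 19, 14], [4, 6, 11, 8, 19, 4, 6, 22], [4, 6, 11, 11, 8, 22, 4, 14], [4, 6, 12, 21, 17, 4, 8, 13], [4, 20, 5, 22, 19, 8, 19, 7], [12, 12, 19, 13, 14], [8, 14, 22, 9, 18, 14, 11], [10, 10, 10, 10, 10], [8, 13, 11, 15, 11], [4, 8, 4, 16, 19, 20, 13, 7], [8, 14, 14, 9, 21, 21], [4, 11, 6, 4, 11, 6], [3, 3, 3, 0, 3, 5], [2, 1, 3, 3, 1, 1, 7], [1, 21, 21, 0, 20, 18, 20], [2, 10, 17, 1, 5, 7, 10, 17, 15, 22], [0, 18, 1, 6, 8, 10, 10, 16, 21, 19, 22], [1, 17, 17, 0, 9, 10, 8, 10, 16, 13, 18], [0, 6, 11, 17, 3, 4, 7, 14, 16, 21, 19, 22], [2, 17, 13, 3, 6, 4, 4, 7, 7, 9, 11, 16, 12], [0, 4, 0, 3, 1, 5, 7, 4, 10, 9, 15, 17, 21], [0, 20, 1, 5, 7, 4, 4, 7, 8, 16, 12, 20, 18, 20], [0, 5, 8, 7, 3, 4, 7, 4, 11, 8, 11, 15, 17, 20], [0, 6, 8, 14, 3, 7, 5, 6, 4, 10, 17, 14, 13, 21], [0, 6, 10, 3, 3, 5, 6, 6, 8, 11, 8, 12, 12, 22], [0, 7, 10, 6, 1, 7, 5, 6, 4, 9, 11, 8, 15, 21], [0, 9, 10, 4, 3, 5, 15, 17, 21, 18, 20, 22], [0, 9, 4, 9, 2,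 4, 7, 7, 17, 12, 20, 20, 18], [0, 9, 12, 7, 1, 6, 5, 7, 7, 11, 11, 12, 16, 20, 20, 22], [0, 10, 14, 13, 11, 1, 6, 4, 4, 7, 7, 11, 12, 12, 22], [0, 10, 16, 19, 7, 1, 6, 6, 4, 10, 9, 10, 17, 19, 21], [0, 10, 21, 12, 3, 7, 7, 7, 5, 5, 5, 15, 17, 12, 21, 18], [0, 11, 5, 19, 9, 1, 7, 4, 9, 10, 19, 22], [0, 11, 16, 7, 1, 7, 7, 7, 10, 9, 13, 22], [0, 11, 18, 7, 5, 1, 15, 17, 12, 20, 18, 20], [0, 11, 14, 8, 3, 1, 7, 5, 5, 11, 16, 16, 15, 21], [0, 11, 21, 14, 3, 5, 7, 7, 5, 5, 5, 9, 17, 20], [0, 11, 22, 20, 7, 1, 11, 8, 11, 17, 14, 13, 18, 20], [0, 11, 15, 7, 2, 4, 7, 4, 8, 11, 16, 14, 12, 21, 22], [0, 11, 17, 2, 4, 1, 4, 4, 7, 7, 8, 11, 15, 16, 18], [0, 2, 6, 4, 3, 4, 4, 4, 4, 7, 8, 11, 17, 14, 16, 21, 19], [0, 12, 9, 16, 8, 1, 5, 7, 7, 11, 11, 14, 13, 21, 18, 20], [0, 6, 22, 19, 7, 1, 6, 6, 4, 9, 10, 10, 14, 12, 20, 20, 18]]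
def subs : List (List ℕ) := [[4], [5], [6], [7], [8], [9], [10], [11], [12], [13], [14], [15], [16], [17], [18], [19], [20], [21], [22]]
noncomputable def row (n : ℕ) : ℕ := rowOf (fun h => rows.get h) (nat_lit 5) (nat_lit 31) (nat_lit 562) (nat_lit 0x3ffffffffffffffffffffffffffffffffffffffffffffffffffffffffffffffffffffffffffffffffffffffffffffffffffffffffffffffffffffffffffffffffffffffffffff) n
noncomputable def xleaf (h : ℕ) : ℕ := recs.get h
noncomputable def mF : ℕ → ℕ := mainRow row (rowChk row xleaf outer (nat_lit 9) (nat_lit 511) (nat_lit 63) (nat_lit 15) (nat_lit 32767) (nat_lit 16777215) (nat_lit 512) (nat_lit 275) (nat_lit 256) (nat_lit 10) (nat_lit 1023) (nat_lit 19) (nat_lit 524287) (nat_lit 8) (nat_lit 255) cols)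
noncomputable def xF : ℕ → ℕ → ℕ := xLeaf row xleaf outer (nat_lit 511) (nat_lit 15) (nat_lit 16777215) (nat_lit 512) (nat_lit 275) (nat_lit 10) (nat_lit 1023) (nat_lit 19) (nat_lit 524287) (nat_lit 523264) (nat_lit 8) (nat_lit 255) (nat_lit 10) (nat_lit 1023) (nat_lit 2) (nat_lit 3) (nat_lit 538) (nat_lit 281600) (nat_lit 128)
noncomputable def cert : Cert := ⟨row, xleaf, outer, cols, nat_lit 9, nat_lit 511, nat_lit 63, nat_lit 15, nat_lit 32767, nat_lit 16777215, nat_lit 512, nat_lit 275, nat_lit 256, nat_lit 10, nat_lit 1023, nat_lit 19, nat_lit 524287, nat_lit 523264, nat_lit 8, nat_lit 255, nat_lit 10, nat_lit 1023, nat_lit 2, nat_lit 3, nat_lit 538, nat_lit 281600, nat_lit 128, nat_lit 24, nat_lit 128, nat_lit 1⟩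
theorem tabok : tabOK (fun i => invL.getD i i) rels subs outer cols (nat_lit 10) (nat_lit 538) = true := by decide +kernel
theorem m0 : rng mF (nat_lit 1) (nat_lit 275) = 0 := by decide +kernel
noncomputable def s0 : List ℕ := [nat_lit 0x401004010040100401004010000000000000000000000000000000000000000000000000000000000000000000000000000000000000000000000000000000000000000000000000000000000000000000000000000000000000000000000000000000000000000000000000000000000000000000000000000000000000000000000000000000000000000000000000000000000000000000000000000000]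
theorem x0 : xs xF s0 (nat_lit 1) = 0 := by decide +kernel
theorem mz0 : AllZ mF 1 (nat_lit 276) := (AllZ.step (AllZ.nil mF 1) (nat_lit 275) (nat_lit 276) rfl m0)
theorem xz0 : XZ xF (nat_lit 1) := (XZ.step (XZ.nil xF) s0 (nat_lit 1) (nat_lit 1) (by decide +kernel) x0)
/-- the certificate (275 points) is valid -/
theorem valid : cert.Valid (fun i => invL.getD i i) rels subs 23 :=
  ⟨by decide +kernel, tabok, by decide +kernel, mz0, xz0⟩
theorem cert_N : cert.N = 275 := rfl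

end CL.TC.GMcLL1
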