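import Cfsg.Agent.Spor.TCSound

/-! coset enumeration certificate generated by tools/tc -/

set_option maxRecDepth 100000
set_option autoImplicit false
set_option linter.all false

namespace CL.TC.GMcLL2

noncomputable def rows0 : Tr ℕ := (.node (nat_lit 2) (.node (nat_lit 1) (.leaf (nat_lit 0x30b482ab5e4643c2c3283632c46e6e5c86e4472a58b593336d2696d5c3484b53b50c5c3773efe10449225fc36efc36d22b0194b63237e1b62a1a7b562ec2182b8422b61b09219ec8792361a33819840197b81b1fc1b0258a3bb198bf1a17f0820259385970d4968d5da9989829ad78d37f0dad58d6bf0da9990e9440ebe0c6070cf5a8c19a90e180d71b8d13f8411bb0683b2d23b91281fc20724623c46275861b2c62349427286174d6856122b306a939c393503b3063ad54c11940c8e48f0866d49ba34afe103c8340e2914be354be917b8312bad0ebe30ec2a10c694e9a31db2312c235bbeb429c44b8c368909245632daed91896232a4f388e138ae1181e118ce31a56248de118dff081e6303e32a5ea1a56c406682a524191e1208df3164951c2f6fa06ad0c46e0d52fb102f8c66d8c2f0a8271b05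f28c2b2984b02853f840ed0c3b00c6b0a46a48d2bf0da5b0c7bf0da12b596819069d8101b81435812818922188e376ce25986979862fb0a2f8061b94623fc207d08290526f28682cc6bb506c86d4c32afc367263282cb3c3902d483064832544306567295e3384c929fc366fa41e603186331868a24fe1036a3324435118e6404df383df185f13a5f1184e4301de18e712a56218d6b18ce738cef1856f384ed1886f387ff081c84922a195c21ac11588c79a1d97f0d9598cc979537c10c18315ff0d91c8d81c98bdbb4cbf0d8ff0d8bf0d85b8cca0a043f0d8260d03f840c13fc2056061b64e9dc9007806374da2b4862b39c0f506235c63b8862388e2569aa948627686a934a2325016c86a5f86bf71c834ed230afe102b8354e031cc230fd430fb874ec6340be31ac6340d034ace610e6319ea3037c7437ac2fee505ea608a4cd188ff081692857248ed1408cf1aa4d5874f5215118ecc189cd289d1285d11a04f62a5350ab24a92c89dc84aafe1af576d206f10d2af8d2b91c2bf840aea872c0c0fe0c36d0c670b50320c6ad287308c56e243ad0d0619087f0d7578ca3f0d724339a27386376cc35406272963b30a3bfc2055582b8ce078d82b8468599033f86b7b069db08178063730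62bf86b5f86b2f9cc90bc674bbc70ecc70ecc30fce64ac2319d0709fe102e460ac031ccc314cc34bd680fdc517ae3418031643725d830768f5203dc185df183e72087c1876b28a6248a7f08168184e8325f5184d71a16d401ee18bea188431917e1ac4119bf7282b9798d0ae8c42f1c27e903f28c4260c4ee0d0b01472e0c73e0d53f840ad946adb10ba8d06d8c4bf0d5db9cc3f0d5bf0d555379aa97c6336522b8469dd48958c6055d43b98697f4825fc205f86a99129d85633d0681d860ff86a7f86a4b864f20692bdc2b0cba60cb830cb0b0cae30cbc30cbe80cc030cc280cd470cd230cc2340fe102f834ad631bfc351fc350fc34f48d2740e51886028bdd387dc183e31a162183dc58d4b58ed31a15e583e6401ff08150189eb188fc1a74818aca1a13b6223022425798c0f40c4f510539940b88c4b1b13b28d2f32c6b20d2bf0d3b88c43b141f8185fe0c27f840bf0d35924e1444fff0d30b39462f7461d90697c8c2ff8697806358860fa4c1f9c621d881ff8695b862fd4a83fc205f481460e6bf86932460c906526d486284432b3e32bfc34842f23fc347fc34644a2d5ab2d2e33cfc34574343fc34472308747083c42bfe102e8314fc34318f4187e0307de18bfe1a15d205e33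84e3305eb181cd18ae518ddd185fe1a0f518577206fe1a07f0817e19fed2082169e9160b4fbd1092128da2a4d7f0cfbf0cf529c63f0cf11b061690b7f0ceff0cebf0ce7f0ce1b307a28c77f0cdff840a524243bf866df866aa5a45f8669f8666c184d0d63ec184dd865898c51d0659f8665f8663f8661f865ff865dfc203d861fd862831fc32dfc32c4e321fc32bfc32a4f028fc329fc328fc327fc326fc325fc324fc323fc322fc321fe101fc320fc31ffc31e22f43057e18efe18e6250df118ad94896318be2188ec283e5185fe18dec187fe18d7630a7e18cfe18c7e18bfe18b7f080827f0c57f0c53f0c4ff0c4b90c2bf0c4721437f0c43f0c3ff0c3bf0c37f0c33f0c2ff0c2bf0c27f0c23f0c1ff8407f0c183be0403e0603e4403e4603e8403e8603ec403ec603f0403f0603f4403f4603f8403f8603fc403f860bf8609f8607f860400)) (.leaf (nat_lit 0xaa319ca71cc631dbe319bc31acc64bc034ec8a14bc954c8914c0312a4813c4a0cfe107ea40d5c3635834f5d3339a81636a79b4ac1b49e72aa1517211ab231992989d25418231b5a58b1251b5a619d9c1b21f19fa0b1fff0839029eae5b2a718511600c1a00cd0a8ce7f841a18cd4b8cccc98d8b0db948d1cc8d1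7e0cf0d3498d5cd4d0c80b8d7140cb138d58a8cf8b50fa6a552685ce625c6623c66c646483de4bfc20c4da3e350ba4469e986a23ec3c830504469a8065a3c67e786d48060e4c69af92c32b4432030e5136b2d2a31828350467382c829fe106fa63e30608305513032c423443454844b2a4a3454e35e30b2368a14a321194a7193361a2961a3a339c281a82231c4319aff08329911a41902721fa91b5ad1b52b189ad4322b717a81912f57b995615ad59d69911a96a94940cfdb3991a3d2560d8938c7990c794c4e3f8418e0ce8e98e938ccdf0cb950d2602d8102a98725987cd94d0a06dcb5c98b48ce99ebaa066a90c70a606e99e6ffc20cb0ad4bc6b4b888ebd28ad9ab2d86bed0668954234f6646690a5944329443374433c4433b463394233b48347605185ed6a5033a6831efe1066230a4896d9031b7636c2cb38ae972b69a1b7a361c3e194a71a22a1a2291a3a83372519ca819c91536ae8a6a51a8c21a67f0834018cfd21142307917f841608c198194232090838f4c0cf948d3d84145b0da180d4218c8970d9540dae19c8d5a5799991968d961a8754b89ae301e6a6deddfc20b10e7d1060c9ca985c6db10a76a54726c698646dc6467c5c68a6ace04c6da5cca85c612652d28c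68f492833d58e688273ef8333fe1054842944428e852c584266235870b316c3446c76e6705f5e36e62364589486ad396235490c6192235a9ac692ff082fd29a2c1a79849f38198b2498a2192a68133e191c08b0347b2b38b424412a881d30414ad1a04d580dad918bd495a978d35a30599959122cfda0cc9a98c9b0c59b0d819b15ff8415c3c59b0d8580d6d825199456db3c6102e864461e7a5867a7d0a690e4a88c549065ac4666e5066dc6687de57fc20ad8aa0e545cf18acf163eb464ff06a0dc6ac95690305a9495a36458349603555a369ee3166502e4833f74356705635e3677251ff832ffe1056c30e6e3555f26678d422cb15abb11a6b1199463302f5abb41b1b8431ad1b4b36abb91b03818b4150fba1acff082fd2183c18a3c6a63c1a1aa19d9b56217d70cb9798b99b55900cfd00dc15b125545ad88cc1c3d55b0d0d71d3e40da1d1559c0cc5fa8ebf8414d0dbdf8d1063fc208a8890952466c6306867895a62a06a2b06108461084e46b060ca86c5146568687a8e69a846dc9e4a2b1438ba0c771423234862afe104385204c3288232438c6fee405e6334ea5054c72a3283c8305d60e5752d675c96252f3e66345bc31ba49791e20604236047c1957f08220191a1410fc1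929f1a99e1989f1ac46496a31b1ac823214a7aa1949d184165a8ab98bc853a86128c8518cb3f8413e94ad0994508cc4c0d6108c8128cb3e0ca118d7898db51c15508d40e0dc108cf3f0dc118d4a6ac5e3e95e8e89076fcc6e8c871fc2088c668a86305467894630bc68eb46aa8aad90da4e94acc946d4ad85696a12bc6670d4630828c184e3444eb2c2ef20423344c3042a36dfe104fa62a4a3053e33d5a3664b15952369444276a3216e8266111268ae913a11aca41b3211ac7c19320336251af7f082154b69f1b6239aca392d44790b073342194ae498a1194231862f286b95f8d6142ced20d1fe909d68d615951578c1558cd178c1528ccff841141118c8cf968d48e0dbe09d653a1b140cd9b0ca152898a0ac666a50988c6627c6a694e303867a812d9f4857fc2088d066966d0946448e04a8864a8c6408c6667d4a680620bd8ee3354750f230634e3d8a336f432284d2c8aa22563678c7218e31f8c560fe1048e6248c3248e317663189254a8e31c40a241624196a61b0a01841e1a42133321295a06a62e622a819da0196ff0823f399a21af4219b278a72550d9719e1eaa8255d90c540c1540db951d4188da1399bfd909203d7a20c92218d940d993289570d3fe0c87f841148d862203d49cefe0cdcb27c6a2a0e0898c54ac6ceb46a2806569c6cdf86dec06ccda28d146490c64ebc6a5fc209f4844d9c5108624d8cd0bdecc6d)))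 (.node (nat_lit 1) (.leaf (nat_lit 0x744606a55a5cc6b646578a32f6c36268d6574f165634d6e73274d2f7e3338a324fa51f70363fe1166831d7e33a7435722ab197495b2461a4a92b4a91b22652e281a94622ba41b4c41afc562fb45ab1c1b8372b73219a371a14c2a77f08ab721c875815792b944a0c8189d1190d853149d08d4d48d9df8c8918da150da18a53523ca950cd91948d78d696c19ff844d448f03ac866ed12d8d068cd063e84e9e94672a06c23067ac06c2d0888d90c300658aec8ed86c4d88c9fc224b068e9ccd8d1a32455cf6a6636264563603656034360f434a35f48f7064b524ed6a46352313705c3583043e4e3205cd6b62f1efe1125e3690edf5adce320cc1a0dc1addd42dd41a0ce1a0d61a0e32a0e11a0dc320ff088e03a7595a16238e2b234b1699361b131199255c198d50ce9a0d81a918c88dc19a195a0d8a50d5561079749adb0d896bd3110c9d70d1d848e560d258397970d67f844412946d91c6708884e686d881adab46d0c46d0ac641006b08864e866a6ed65ebcece9ccd290650d46730064dfc222bccb41d8042638f6f4036d5c626447275c6464634782f5932e2a4132b64d345ee5c72f56826437c345fe10f82b4386b178234b22b0197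ae50f1a1b82e197b11b02f18b2d5b4b2197c51afa91b22f8b4b45a8321992d1b3af196366a27f0873b730341a30c588d9160d558ada5114fd90cb9825ad8993588d0dc210da4595d94c1c0d6198d7dd8cc5c8cb9430f9a8d89c40c7f843812a14927467eb5aacc4860b0a92c46aac94aa986d52d6b4786e0dc65c962d2b9052d86a088654e1060c1ed7fc21d1c6261dba30dba81ac231bc0c1cbaa14c6942a0c13ba340ca64efe10dfa40eb23159a71db67159c3135e3662c33565334b674e5ea06341e1a622199a07929e198a272f201b620515b21b6201aca01b61f1b62b1b4a6aa9a51a9a91a47f086aba339e1928c588d0ce0dc17907960ce9629a94b97d3bd0d88d71739952157150d258408578d3138dbd7189bf843588c4d258a9990548a824425c678906bcb9642686cea4c5a8065498688bc66c9e07a846dea0c8e5c678ac69898e6e9865bfc2188e2305465631423255e3365232456a685232252f3b2a53c44a6638a6f4c366628366a331663574502a6ef55fe10c7834b3a323fa43122a281c2d2229a1a2a01aeab70faa71b2d419af7a3261a31e1b79261eaf5912d19720195ab1a32d5a020937b97a37f08602729c52c0c57298672112b118370ad0310c2b20d52d8c5310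c73f842af8d6f18c37e9c2f6a04658d7d30c8ed0d5120dc152c8ec4a46d4c8c5eb862cc0c64c06acc123cb1cc0d86c8b9ad2d98c8b466ec06bc8865a4987a5dcdbfc21452e7b846c2315e66e503253ec53583395c36e4ee484c335589483e3235894838c35604525835a86637591517632f66c61fe10a9894a0ee4525e5284e21887f084f018be6385651a06740ce7306e842567187e73886218de41a5e54a5bd5a84d18e4262c357314d6f30730184b19c4ba0c3718d3b2206f30c432a02b80c5ff842738d2f5986f4a45338c6fe94317bd9651c6a58d3240c917a9c6ab1d6beb0660ac6aab4e60a865c894d4686c6cc674acca4994d4c1cd6a46dea8692ad493fc212b5eb52481aae674452e320503615232d3e423fe1082646d4c34cf83455634c5e76e5634c629645f5203233c5e34456334549535e30b4436e909f43325693241949751dad422a432c7f0842a61f2a41bb0614a521c2a1aea71a8ad19caf92d2d4aea418fa431aa218ebe500cedab175a8c7d6ad98d2dbff842168d613a53d70d3dbc07da8c857b91538c9964d3d58cad78cc990cd9a955dc0d3e1a71ede6c89eb069eb068edd276dc63ea864cb4647f4891fc2106947c6186ab868cfd4b0fc68698c78b8672b46d6d1058bd6896150c285236764a616035e569375093774f684ed515aa676635dfe1086ef34607484483c7061e6a35780d2e7430b4ab28a940231b31b1314ae31232a61a92f1ae371ab3242b373970f4387d2373b90440222c01ac401ac3d18a7f0843d617877a143afa10af0d0b2202ff841eeb03b10d52a302e70c4f1384690c76d0c3ac243ef0c72c0d6e5902dc2d7dd8cc20207e4371683354b7346b79068394e833ccb754ab7886b75d4b76c6b7896b7d0613fc20f6d425d8c1d2ca3360c20564daba4de81))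 (.leaf (nat_lit 0x2f17036c573af522465a3e9633e36a42e2e3e3654635c1c3433ef553a95f2e35c3696d3233542d6c3a72a4af4efe12a049b1a29b41b9b1ac191a31d7b31b196261911b1a87f090a27a89fa27aaaa49a1b29d393284a91f1a799731ad1a09b39734570d314b888d0cd57a9314a8e568c8110c8138cdcb98f8d44d570d21a8cd3e0d0d838d1b0d7d60da112cb51b523f8480124e8da85cb05866e7c6b2486d861e6a486905064e59650486406064052a544066e5246a686e08c6705869bfc240506821d4c459fe11f6635d26d6d3685942b533e327664533e325434534142742329404533836c3b86c4c32640370789384c35daeb16192d1b02b19d2f18f2d1b17f08f2f1ab2449fa91972679fad1ad2931b2f1a4ad1b52aa9daf1aaad1ae2d1b22ea22c3568d7140cc95313558d4988ce908d25025c3f84793b15528d2530d7158ce570ce173ced751acfc0f533ca530d8558d9dca9867ec06acb547ea92c8a06beb06aeb8e6095cbeb885eb86aeb469ab16a6906aaaa450986b3fc234a86b6c2ab86066a453e3536a3395633464d2254350646595d0596ec36723445695e4895e92b2e4832564333644658e61c5ac6efe11a6a3210ea8633aa6a27f08c1b2a8ac49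0ae730ac19cac4122a22f2a1b0ac1a22e1acb0998281962e82bac1af241b32c5b52a1a9d24f0d1d2bc9d90ce0e0dbd60d194388500c8d8908508d414cc8939141710a3f846120ca578c9d2999d8295170c8570cc102b8675fc22ccc62cc0686c5ab8cc6c0c86b4b46a481ee0d56c6cc6ac6e0debe86cc46d0cc666ba06cb8694c06c6b467f5d650565cb309035f5485f523696a33a643326e44dfe1166a34d54e573b43f603486a35d70e625833b64534aa8195cb6b68b71ad311ae3f1a19e1b8341ad37197b5597b65311b4a4b7198341b2a4395ff08b397303968f981b7af7202d196b16b2a0588d35a2d0da297171dada0c79ab169ba1816b0e9a8d8db916920cfff8459590b5b8d91ba575b315968cb1a0d2dbb56d2acc6889d846a4c90ccabcc4688a50bab46cec4ebadd83ed46baad4ced4ac2d06c2dd465fc22cc8698a8a4588e9a9d2d459))))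
noncomputable def recs0 : Tr ℕ := (.leaf (nat_lit 0x1b880dc406ba0349019a80c84061a02f9017280b44057a02a9014a80a0404da0259))
noncomputable def rows : Tr ℕ := rows0
noncomputable def recs : Tr ℕ := recs0
noncomputable def ci0 : CI := ⟨[], (nat_lit 0), false, (.node (nat_lit 1) (.leaf Rule.defn) (.leaf Rule.copy)), (.leaf (XRule.rot (nat_lit 0) [] 68 0))⟩
noncomputable def ci9 : CI := ⟨[0], (nat_lit 29), false, (.node (nat_lit 16) (.node (nat_lit 8) (.node (nat_lit 4) (.node (nat_lit 2) (.node (nat_lit 1) (.leaf Rule.defn) (.leaf Rule.copy)) (.node (nat_lit 1) (.leaf (Rule.fwd [nat_lit 29] 68 0)) (.leaf (Rule.fwd [nat_lit 149, nat_lit 49, nat_lit 9, nat_lit 149, nat_lit 49] 66 0)))) (.node (nat_lit 2) (.node (nat_lit 1) (.leaf (Rule.fwd [nat_lit 49, nat_lit 149, nat_lit 149, nat_lit 89, nat_lit 369, nat_lit 9, nat_lit 209] 48 0)) (.leaf (Rule.fwd [nat_lit 49, nat_lit 29, nat_lit 89, nat_lit 69, nat_lit 9] 35 3)))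 (.node (nat_lit 1) (.leaf (Rule.fwd [nat_lit 169, nat_lit 89, nat_lit 69, nat_lit 29, nat_lit 229, nat_lit 289, nat_lit 369] 45 5)) (.leaf (Rule.fwd [nat_lit 9, nat_lit 349, nat_lit 129, nat_lit 69, nat_lit 109, nat_lit 249] 40 0))))) (.node (nat_lit 4) (.node (nat_lit 2) (.node (nat_lit 1) (.leaf (Rule.fwd [nat_lit 349, nat_lit 129, nat_lit 69, nat_lit 109, nat_lit 249, nat_lit 9] 40 1)) (.leaf (Rule.fwd [nat_lit 89, nat_lit 9, nat_lit 249, nat_lit 309, nat_lit 329, nat_lit 189, nat_lit 69] 62 0))) (.node (nat_lit 1) (.leaf (Rule.fwd [nat_lit 69, nat_lit 69, nat_lit 9, nat_lit 69, nat_lit 9, nat_lit 149] 36 0)) (.leaf (Rule.fwd [nat_lit 149, nat_lit 9, nat_lit 69, nat_lit 69, nat_lit 9, nat_lit 69] 36 5)))) (.node (nat_lit 2) (.node (nat_lit 1) (.leaf (Rule.fwd [nat_lit 249, nat_lit 309, nat_lit 329, nat_lit 189, nat_lit 69, nat_lit 9, nat_lit 89] 62 2)) (.leaf (Rule.fwd [nat_lit 69, nat_lit 29, nat_lit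 29, nat_lit 49, nat_lit 109] 34 0))) (.node (nat_lit 1) (.leaf (Rule.fwd [nat_lit 49, nat_lit 169, nat_lit 349, nat_lit 269, nat_lit 9, nat_lit 89, nat_lit 189] 50 0)) (.leaf (Rule.fwd [nat_lit 49, nat_lit 149, nat_lit 89, nat_lit 309, nat_lit 9, nat_lit 49, nat_lit 369] 46 0)))))) (.node (nat_lit 4) (.node (nat_lit 2) (.node (nat_lit 1) (.leaf (Rule.fwd [nat_lit 9, nat_lit 49, nat_lit 29, nat_lit 89, nat_lit 69] 35 4)) (.leaf (Rule.fwd [nat_lit 209, nat_lit 9, nat_lit 49, nat_lit 149, nat_lit 149, nat_lit 89, nat_lit 369] 48 6))) (.node (nat_lit 1) (.leaf (Rule.fwd [nat_lit 49, nat_lit 369, nat_lit 9, nat_lit 49, nat_lit 149, nat_lit 89, nat_lit 309] 46 5)) (.leaf (Rule.fwd [nat_lit 89, nat_lit 189, nat_lit 9, nat_lit 49, nat_lit 169, nat_lit 349, nat_lit 269] 50 5)))) (.leaf (Rule.fwd [nat_lit 49, nat_lit 109, nat_lit 189, nat_lit 29, nat_lit 369, nat_lit 309, nat_lit 209] 44 0)))), (.node (nat_lit 1) (.leaf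 XRule.defn) (.leaf XRule.defn))⟩
noncomputable def ci29 : CI := ⟨[1], (nat_lit 9), false, (.node (nat_lit 16) (.node (nat_lit 8) (.node (nat_lit 4) (.node (nat_lit 2) (.node (nat_lit 1) (.leaf Rule.defn) (.leaf Rule.copy)) (.node (nat_lit 1) (.leaf (Rule.fwd [nat_lit 9] 68 0)) (.leaf (Rule.fwd [nat_lit 89, nat_lit 69, nat_lit 9, nat_lit 9, nat_lit 49] 35 1)))) (.node (nat_lit 2) (.node (nat_lit 1) (.leaf (Rule.fwd [nat_lit 49, nat_lit 289, nat_lit 109, nat_lit 289, nat_lit 369, nat_lit 9, nat_lit 349] 53 1)) (.leaf (Rule.fwd [nat_lit 229, nat_lit 29, nat_lit 369, nat_lit 109, nat_lit 129, nat_lit 129, nat_lit 69] 49 1))) (.node (nat_lit 1) (.leaf (Rule.fwd [nat_lit 49, nat_lit 169, nat_lit 349, nat_lit 289, nat_lit 269, nat_lit 29, nat_lit 109] 63 1)) (.leaf (Rule.fwd [nat_lit 369, nat_lit 109, nat_lit 129, nat_lit 129, nat_lit 69, nat_lit 29, nat_lit 229] 49 7))))) (.node (nat_lit 4) (.node (nat_lit 2) (.node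 (nat_lit 1) (.leaf (Rule.fwd [nat_lit 29, nat_lit 269, nat_lit 89, nat_lit 49, nat_lit 149, nat_lit 329] 41 2)) (.leaf (Rule.fwd [nat_lit 369, nat_lit 309, nat_lit 209, nat_lit 9, nat_lit 49, nat_lit 109, nat_lit 189] 44 4))) (.node (nat_lit 1) (.leaf (Rule.fwd [nat_lit 129, nat_lit 29, nat_lit 49, nat_lit 29, nat_lit 49, nat_lit 49] 37 1)) (.leaf (Rule.fwd [nat_lit 29, nat_lit 49, nat_lit 109, nat_lit 9, nat_lit 69] 34 2)))) (.node (nat_lit 2) (.node (nat_lit 1) (.leaf (Rule.fwd [nat_lit 49, nat_lit 29, nat_lit 49, nat_lit 49, nat_lit 29, nat_lit 129] 37 6)) (.leaf (Rule.fwd [nat_lit 289, nat_lit 109, nat_lit 129, nat_lit 69, nat_lit 29, nat_lit 369, nat_lit 69] 47 6))) (.node (nat_lit 1) (.leaf (Rule.fwd [nat_lit 269, nat_lit 89, nat_lit 49, nat_lit 149, nat_lit 329, nat_lit 29] 41 1)) (.leaf (Rule.fwd [nat_lit 69, nat_lit 129, nat_lit 29, nat_lit 69, nat_lit 129] 67 1)))))) (.node (nat_lit 4) (.node (nat_lit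 2) (.node (nat_lit 1) (.leaf (Rule.fwd [nat_lit 249, nat_lit 329, nat_lit 189, nat_lit 69, nat_lit 29, nat_lit 169, nat_lit 109] 51 6)) (.leaf (Rule.fwd [nat_lit 49, nat_lit 109, nat_lit 9, nat_lit 69, nat_lit 29] 34 3))) (.node (nat_lit 1) (.leaf (Rule.fwd [nat_lit 109, nat_lit 29, nat_lit 49, nat_lit 169, nat_lit 349, nat_lit 289, nat_lit 269] 63 3)) (.leaf (Rule.fwd [nat_lit 229, nat_lit 289, nat_lit 369, nat_lit 9, nat_lit 169, nat_lit 89, nat_lit 69] 45 1)))) (.node (nat_lit 2) (.node (nat_lit 1) (.leaf (Rule.fwd [nat_lit 49, nat_lit 49, nat_lit 29, nat_lit 129, nat_lit 29, nat_lit 49] 37 4)) (.leaf (Rule.fwd [nat_lit 169, nat_lit 109, nat_lit 29, nat_lit 249, nat_lit 329, nat_lit 189, nat_lit 69] 51 1))) (.leaf (Rule.fwd [nat_lit 369, nat_lit 309, nat_lit 89, nat_lit 309, nat_lit 69, nat_lit 9, nat_lit 329] 52 2))))), (.node (nat_lit 1) (.leaf XRule.defn) (.leaf XRule.defn))⟩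
noncomputable def ci49 : CI := ⟨[2], (nat_lit 69), false, (.node (nat_lit 16) (.node (nat_lit 8) (.node (nat_lit 4) (.node (nat_lit 2) (.node (nat_lit 1) (.leaf Rule.defn) (.leaf Rule.copy)) (.node (nat_lit 1) (.leaf (Rule.fwd [nat_lit 69] 68 0)) (.leaf (Rule.fwd [nat_lit 149, nat_lit 269, nat_lit 89, nat_lit 69, nat_lit 169, nat_lit 229] 43 5)))) (.node (nat_lit 2) (.node (nat_lit 1) (.leaf (Rule.fwd [nat_lit 109, nat_lit 189, nat_lit 29, nat_lit 369, nat_lit 309, nat_lit 209, nat_lit 9] 44 1)) (.leaf (Rule.fwd [nat_lit 149, nat_lit 329, nat_lit 29, nat_lit 29, nat_lit 269, nat_lit 89] 41 5))) (.node (nat_lit 1) (.leaf (Rule.fwd [nat_lit 109, nat_lit 249, nat_lit 129, nat_lit 69, nat_lit 209, nat_lit 189] 42 0)) (.leaf (Rule.fwd [nat_lit 349, nat_lit 229, nat_lit 49, nat_lit 349, nat_lit 229] 38 0))))) (.node (nat_lit 4) (.node (nat_lit 2) (.node (nat_lit 1) (.leaf (Rule.fwd [nat_lit 29, nat_lit 129, nat_lit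 29, nat_lit 49, nat_lit 29, nat_lit 49] 37 2)) (.leaf (Rule.fwd [nat_lit 9, nat_lit 149, nat_lit 49, nat_lit 9, nat_lit 149] 66 2))) (.node (nat_lit 1) (.leaf (Rule.fwd [nat_lit 29, nat_lit 49, nat_lit 49, nat_lit 29, nat_lit 129, nat_lit 29] 37 5)) (.leaf (Rule.fwd [nat_lit 109, nat_lit 9, nat_lit 69, nat_lit 29, nat_lit 29] 34 4)))) (.node (nat_lit 2) (.node (nat_lit 1) (.leaf (Rule.fwd [nat_lit 29, nat_lit 89, nat_lit 69, nat_lit 9, nat_lit 9] 35 2)) (.leaf (Rule.fwd [nat_lit 289, nat_lit 109, nat_lit 289, nat_lit 369, nat_lit 9, nat_lit 349, nat_lit 29] 53 0))) (.node (nat_lit 1) (.leaf (Rule.fwd [nat_lit 369, nat_lit 9, nat_lit 49, nat_lit 149, nat_lit 89, nat_lit 309, nat_lit 9] 46 6)) (.leaf (Rule.fwd [nat_lit 149, nat_lit 149, nat_lit 89, nat_lit 369, nat_lit 9, nat_lit 209, nat_lit 9] 48 1)))))) (.node (nat_lit 1) (.leaf (Rule.fwd [nat_lit 49, nat_lit 29, nat_lit 129, nat_lit 29, nat_lit 49, nat_lit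 29] 37 3)) (.leaf (Rule.fwd [nat_lit 149, nat_lit 89, nat_lit 309, nat_lit 9, nat_lit 49, nat_lit 369, nat_lit 9] 46 1)))), (.node (nat_lit 1) (.leaf XRule.defn) (.leaf XRule.defn))⟩
noncomputable def ci69 : CI := ⟨[3], (nat_lit 49), false, (.node (nat_lit 16) (.node (nat_lit 8) (.node (nat_lit 4) (.node (nat_lit 2) (.node (nat_lit 1) (.leaf Rule.defn) (.leaf Rule.copy)) (.node (nat_lit 1) (.leaf (Rule.fwd [nat_lit 49] 68 0)) (.leaf (Rule.fwd [nat_lit 169, nat_lit 229, nat_lit 49, nat_lit 149, nat_lit 269, nat_lit 89] 43 1)))) (.node (nat_lit 2) (.node (nat_lit 1) (.leaf (Rule.fwd [nat_lit 209, nat_lit 329, nat_lit 69, nat_lit 209, nat_lit 329] 39 1)) (.leaf (Rule.fwd [nat_lit 29, nat_lit 29, nat_lit 49, nat_lit 109, nat_lit 9] 34 1))) (.node (nat_lit 1) (.leaf (Rule.fwd [nat_lit 29, nat_lit 169, nat_lit 109, nat_lit 29, nat_lit 249, nat_lit 329, nat_lit 189] 51 2)) (.leaf (Rule.fwd [nat_lit 129, nat_lit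 29, nat_lit 69, nat_lit 129, nat_lit 29] 67 0))))) (.node (nat_lit 4) (.node (nat_lit 2) (.node (nat_lit 1) (.leaf (Rule.fwd [nat_lit 9, nat_lit 9, nat_lit 49, nat_lit 29, nat_lit 89] 35 5)) (.leaf (Rule.fwd [nat_lit 9, nat_lit 69, nat_lit 9, nat_lit 149, nat_lit 9, nat_lit 69] 36 2))) (.node (nat_lit 1) (.leaf (Rule.fwd [nat_lit 9, nat_lit 149, nat_lit 9, nat_lit 69, nat_lit 69, nat_lit 9] 36 4)) (.leaf (Rule.fwd [nat_lit 209, nat_lit 189, nat_lit 49, nat_lit 109, nat_lit 249, nat_lit 129] 42 4)))) (.node (nat_lit 2) (.node (nat_lit 1) (.leaf (Rule.fwd [nat_lit 69, nat_lit 9, nat_lit 69, nat_lit 9, nat_lit 149, nat_lit 9] 36 1)) (.leaf (Rule.fwd [nat_lit 29, nat_lit 369, nat_lit 69, nat_lit 29, nat_lit 289, nat_lit 109, nat_lit 129] 47 2))) (.node (nat_lit 1) (.leaf (Rule.fwd [nat_lit 29, nat_lit 229, nat_lit 289, nat_lit 369, nat_lit 9, nat_lit 169, nat_lit 89] 45 2)) (.leaf (Rule.fwd [nat_lit 29, nat_lit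 289, nat_lit 109, nat_lit 129, nat_lit 69, nat_lit 29, nat_lit 369] 47 7)))))) (.leaf (Rule.fwd [nat_lit 109, nat_lit 249, nat_lit 9, nat_lit 9, nat_lit 349, nat_lit 129] 40 4))), (.node (nat_lit 1) (.leaf XRule.defn) (.leaf XRule.defn))⟩
noncomputable def ci89 : CI := ⟨[4], (nat_lit 109), true, (.node (nat_lit 16) (.node (nat_lit 8) (.node (nat_lit 4) (.node (nat_lit 2) (.node (nat_lit 1) (.leaf Rule.defn) (.leaf Rule.copy)) (.node (nat_lit 1) (.leaf (Rule.fwd [nat_lit 109] 68 0)) (.leaf (Rule.fwd [nat_lit 89, nat_lit 89] 28 0)))) (.node (nat_lit 2) (.node (nat_lit 1) (.leaf (Rule.fwd [nat_lit 129, nat_lit 89, nat_lit 169] 23 3)) (.leaf (Rule.fwd [nat_lit 309, nat_lit 9, nat_lit 49, nat_lit 369, nat_lit 9, nat_lit 49, nat_lit 149] 46 3))) (.node (nat_lit 1) (.leaf (Rule.fwd [nat_lit 169, nat_lit 89, nat_lit 129] 23 1)) (.leaf (Rule.fwd [nat_lit 249, nat_lit 229, nat_lit 89, nat_lit 149, nat_lit 189] 32 3)))))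 (.node (nat_lit 4) (.node (nat_lit 2) (.node (nat_lit 1) (.leaf (Rule.fwd [nat_lit 149, nat_lit 229, nat_lit 149, nat_lit 109, nat_lit 129] 24 3)) (.leaf (Rule.fwd [nat_lit 209, nat_lit 209, nat_lit 109, nat_lit 349, nat_lit 349] 64 0))) (.node (nat_lit 1) (.leaf (Rule.fwd [nat_lit 369, nat_lit 229, nat_lit 109, nat_lit 129, nat_lit 229, nat_lit 309] 57 4)) (.leaf (Rule.fwd [nat_lit 9, nat_lit 249, nat_lit 309, nat_lit 329, nat_lit 189, nat_lit 69, nat_lit 9] 62 1)))) (.node (nat_lit 2) (.node (nat_lit 1) (.leaf (Rule.fwd [nat_lit 189, nat_lit 149, nat_lit 229, nat_lit 149] 60 0)) (.leaf (Rule.fwd [nat_lit 149, nat_lit 189, nat_lit 89, nat_lit 249, nat_lit 229] 32 0))) (.node (nat_lit 1) (.leaf (Rule.fwd [nat_lit 69, nat_lit 9, nat_lit 9, nat_lit 49, nat_lit 29] 35 0)) (.leaf (Rule.fwd [nat_lit 129, nat_lit 89, nat_lit 149, nat_lit 89, nat_lit 269, nat_lit 149] 26 1)))))) (.node (nat_lit 4) (.node (nat_lit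 2) (.node (nat_lit 1) (.leaf (Rule.fwd [nat_lit 209, nat_lit 369, nat_lit 109, nat_lit 289, nat_lit 209, nat_lit 149] 56 0)) (.leaf (Rule.fwd [nat_lit 49, nat_lit 149, nat_lit 329, nat_lit 29, nat_lit 29, nat_lit 269] 41 6))) (.node (nat_lit 1) (.leaf (Rule.fwd [nat_lit 129, nat_lit 369, nat_lit 129, nat_lit 289, nat_lit 149] 30 0)) (.leaf (Rule.fwd [nat_lit 269, nat_lit 149, nat_lit 89, nat_lit 129, nat_lit 89, nat_lit 149] 26 5)))) (.node (nat_lit 2) (.node (nat_lit 1) (.leaf (Rule.fwd [nat_lit 69, nat_lit 169, nat_lit 229, nat_lit 49, nat_lit 149, nat_lit 269] 43 2)) (.leaf (Rule.fwd [nat_lit 149, nat_lit 89, nat_lit 269, nat_lit 149, nat_lit 89, nat_lit 129] 26 3))) (.node (nat_lit 1) (.leaf (Rule.fwd [nat_lit 309, nat_lit 69, nat_lit 9, nat_lit 329, nat_lit 29, nat_lit 369, nat_lit 309] 52 5)) (.leaf (Rule.fwd [nat_lit 189, nat_lit 9, nat_lit 49, nat_lit 169, nat_lit 349, nat_lit 269, nat_lit 9] 50 6)))))),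 (.node (nat_lit 1) (.leaf XRule.defn) (.leaf XRule.ax))⟩
noncomputable def ci109 : CI := ⟨[5], (nat_lit 89), true, (.node (nat_lit 16) (.node (nat_lit 8) (.node (nat_lit 4) (.node (nat_lit 2) (.node (nat_lit 1) (.leaf Rule.defn) (.leaf Rule.copy)) (.node (nat_lit 1) (.leaf (Rule.fwd [nat_lit 89] 68 0)) (.leaf (Rule.fwd [nat_lit 189, nat_lit 29, nat_lit 369, nat_lit 309, nat_lit 209, nat_lit 9, nat_lit 49] 44 2)))) (.node (nat_lit 2) (.node (nat_lit 1) (.leaf (Rule.fwd [nat_lit 9, nat_lit 69, nat_lit 29, nat_lit 29, nat_lit 49] 34 5)) (.leaf (Rule.fwd [nat_lit 29, nat_lit 49, nat_lit 169, nat_lit 349, nat_lit 289, nat_lit 269, nat_lit 29] 63 2))) (.node (nat_lit 1) (.leaf (Rule.fwd [nat_lit 149, nat_lit 109, nat_lit 189] 22 0)) (.leaf (Rule.fwd [nat_lit 129, nat_lit 209, nat_lit 129, nat_lit 169] 61 1))))) (.node (nat_lit 4) (.node (nat_lit 2) (.node (nat_lit 1) (.leaf (Rule.fwd [nat_lit 349, nat_lit 349,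 nat_lit 89, nat_lit 209, nat_lit 209] 64 3)) (.leaf (Rule.fwd [nat_lit 109, nat_lit 109] 29 0))) (.node (nat_lit 1) (.leaf (Rule.fwd [nat_lit 149, nat_lit 109, nat_lit 129, nat_lit 249, nat_lit 109, nat_lit 129] 27 4)) (.leaf (Rule.fwd [nat_lit 209, nat_lit 269, nat_lit 109, nat_lit 169, nat_lit 129] 33 1)))) (.node (nat_lit 2) (.node (nat_lit 1) (.leaf (Rule.fwd [nat_lit 129, nat_lit 109, nat_lit 149, nat_lit 109, nat_lit 129, nat_lit 249] 27 6)) (.leaf (Rule.fwd [nat_lit 129, nat_lit 89, nat_lit 149, nat_lit 229, nat_lit 149] 24 1))) (.node (nat_lit 1) (.leaf (Rule.fwd [nat_lit 189, nat_lit 109, nat_lit 149] 22 2)) (.leaf (Rule.fwd [nat_lit 149, nat_lit 89, nat_lit 129, nat_lit 209, nat_lit 129] 25 4)))))) (.node (nat_lit 4) (.node (nat_lit 2) (.node (nat_lit 1) (.leaf (Rule.fwd [nat_lit 129, nat_lit 69, nat_lit 29, nat_lit 369, nat_lit 69, nat_lit 29, nat_lit 289] 47 4)) (.leaf (Rule.fwd [nat_lit 129,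 nat_lit 229, nat_lit 309, nat_lit 89, nat_lit 369, nat_lit 229] 57 1))) (.node (nat_lit 1) (.leaf (Rule.fwd [nat_lit 249, nat_lit 9, nat_lit 9, nat_lit 349, nat_lit 129, nat_lit 69] 40 5)) (.leaf (Rule.fwd [nat_lit 249, nat_lit 129, nat_lit 69, nat_lit 209, nat_lit 189, nat_lit 49] 42 1)))) (.node (nat_lit 1) (.leaf (Rule.fwd [nat_lit 129, nat_lit 249, nat_lit 109, nat_lit 129, nat_lit 109, nat_lit 149] 27 2)) (.leaf (Rule.fwd [nat_lit 289, nat_lit 209, nat_lit 149, nat_lit 89, nat_lit 209, nat_lit 369] 56 3))))), (.node (nat_lit 1) (.leaf XRule.defn) (.leaf XRule.ax))⟩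
noncomputable def ci129 : CI := ⟨[6], (nat_lit 149), true, (.node (nat_lit 16) (.node (nat_lit 8) (.node (nat_lit 4) (.node (nat_lit 2) (.node (nat_lit 1) (.leaf Rule.defn) (.leaf Rule.copy)) (.node (nat_lit 1) (.leaf (Rule.fwd [nat_lit 149] 68 0)) (.leaf (Rule.fwd [nat_lit 29, nat_lit 69, nat_lit 129, nat_lit 29, nat_lit 69] 67 2)))) (.node (nat_lit 2) (.node (nat_lit 1) (.leaf (Rule.fwd [nat_lit 89, nat_lit 169, nat_lit 89] 23 2)) (.leaf (Rule.fwd [nat_lit 229, nat_lit 309, nat_lit 89, nat_lit 369, nat_lit 229, nat_lit 109] 57 0))) (.node (nat_lit 1) (.leaf (Rule.fwd [nat_lit 129, nat_lit 129, nat_lit 129, nat_lit 129] 58 0)) (.leaf (Rule.fwd [nat_lit 369, nat_lit 129, nat_lit 289, nat_lit 149, nat_lit 89] 30 1))))) (.node (nat_lit 4) (.node (nat_lit 2) (.node (nat_lit 1) (.leaf (Rule.fwd [nat_lit 249, nat_lit 109, nat_lit 129, nat_lit 109, nat_lit 149, nat_lit 109] 27 1)) (.leaf (Rule.fwd [nat_lit 89,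 nat_lit 149, nat_lit 89, nat_lit 269, nat_lit 149, nat_lit 89] 26 2))) (.node (nat_lit 1) (.leaf (Rule.fwd [nat_lit 209, nat_lit 129, nat_lit 169, nat_lit 109] 61 0)) (.leaf (Rule.fwd [nat_lit 309, nat_lit 149, nat_lit 369, nat_lit 149, nat_lit 109] 31 0)))) (.node (nat_lit 2) (.node (nat_lit 1) (.leaf (Rule.fwd [nat_lit 109, nat_lit 149, nat_lit 109, nat_lit 129, nat_lit 249, nat_lit 109] 27 5)) (.leaf (Rule.fwd [nat_lit 109, nat_lit 209, nat_lit 269, nat_lit 109, nat_lit 169] 33 2))) (.node (nat_lit 1) (.leaf (Rule.fwd [nat_lit 169, nat_lit 109, nat_lit 129, nat_lit 209] 61 3)) (.leaf (Rule.fwd [nat_lit 69, nat_lit 209, nat_lit 189, nat_lit 49, nat_lit 109, nat_lit 249] 42 3)))))) (.node (nat_lit 4) (.node (nat_lit 2) (.node (nat_lit 1) (.leaf (Rule.fwd [nat_lit 289, nat_lit 149, nat_lit 89, nat_lit 129, nat_lit 369] 30 3)) (.leaf (Rule.fwd [nat_lit 29, nat_lit 49, nat_lit 29, nat_lit 49, nat_lit 49, nat_lit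 29] 37 0))) (.node (nat_lit 1) (.leaf (Rule.fwd [nat_lit 69, nat_lit 109, nat_lit 249, nat_lit 9, nat_lit 9, nat_lit 349] 40 3)) (.leaf (Rule.fwd [nat_lit 69, nat_lit 29, nat_lit 369, nat_lit 69, nat_lit 29, nat_lit 289, nat_lit 109] 47 3)))) (.node (nat_lit 2) (.node (nat_lit 1) (.leaf (Rule.fwd [nat_lit 69, nat_lit 29, nat_lit 229, nat_lit 29, nat_lit 369, nat_lit 109, nat_lit 129] 49 3)) (.leaf (Rule.fwd [nat_lit 89, nat_lit 149, nat_lit 229, nat_lit 149, nat_lit 109] 24 2))) (.node (nat_lit 1) (.leaf (Rule.fwd [nat_lit 209, nat_lit 129, nat_lit 109, nat_lit 149, nat_lit 89] 25 1)) (.leaf (Rule.fwd [nat_lit 129, nat_lit 69, nat_lit 29, nat_lit 229, nat_lit 29, nat_lit 369, nat_lit 109] 49 4)))))), (.node (nat_lit 1) (.leaf XRule.defn) (.leaf XRule.ax))⟩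
noncomputable def ci149 : CI := ⟨[7], (nat_lit 129), true, (.node (nat_lit 16) (.node (nat_lit 8) (.node (nat_lit 4) (.node (nat_lit 2) (.node (nat_lit 1) (.leaf Rule.defn) (.leaf Rule.copy)) (.node (nat_lit 1) (.leaf (Rule.fwd [nat_lit 129] 68 0)) (.leaf (Rule.fwd [nat_lit 9, nat_lit 69, nat_lit 69, nat_lit 9, nat_lit 69, nat_lit 9] 36 6)))) (.node (nat_lit 2) (.node (nat_lit 1) (.leaf (Rule.fwd [nat_lit 109, nat_lit 189, nat_lit 109] 22 1)) (.leaf (Rule.fwd [nat_lit 109, nat_lit 129, nat_lit 89, nat_lit 149, nat_lit 229] 24 0))) (.node (nat_lit 1) (.leaf (Rule.fwd [nat_lit 229, nat_lit 149, nat_lit 89, nat_lit 189] 60 2)) (.leaf (Rule.fwd [nat_lit 89, nat_lit 129, nat_lit 209, nat_lit 129, nat_lit 109] 25 3))))) (.node (nat_lit 4) (.node (nat_lit 2) (.node (nat_lit 1) (.leaf (Rule.fwd [nat_lit 369, nat_lit 149, nat_lit 109, nat_lit 129, nat_lit 309] 31 4)) (.leaf (Rule.fwd [nat_lit 189, nat_lit 89, nat_lit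 249, nat_lit 229, nat_lit 89] 32 1))) (.node (nat_lit 1) (.leaf (Rule.fwd [nat_lit 49, nat_lit 9, nat_lit 149, nat_lit 49, nat_lit 9] 66 1)) (.leaf (Rule.fwd [nat_lit 149, nat_lit 149, nat_lit 149, nat_lit 149] 59 0)))) (.node (nat_lit 2) (.node (nat_lit 1) (.leaf (Rule.fwd [nat_lit 229, nat_lit 149, nat_lit 109, nat_lit 129, nat_lit 89] 24 4)) (.leaf (Rule.fwd [nat_lit 269, nat_lit 89, nat_lit 69, nat_lit 169, nat_lit 229, nat_lit 49] 43 4))) (.node (nat_lit 1) (.leaf (Rule.fwd [nat_lit 109, nat_lit 129, nat_lit 249, nat_lit 109, nat_lit 129, nat_lit 109] 27 3)) (.leaf (Rule.fwd [nat_lit 89, nat_lit 209, nat_lit 369, nat_lit 109, nat_lit 289, nat_lit 209] 56 6)))))) (.node (nat_lit 4) (.node (nat_lit 2) (.node (nat_lit 1) (.leaf (Rule.fwd [nat_lit 89, nat_lit 129, nat_lit 369, nat_lit 129, nat_lit 289] 30 5)) (.leaf (Rule.fwd [nat_lit 89, nat_lit 269, nat_lit 149, nat_lit 89, nat_lit 129, nat_lit 89] 26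 4))) (.node (nat_lit 1) (.leaf (Rule.fwd [nat_lit 89, nat_lit 369, nat_lit 9, nat_lit 209, nat_lit 9, nat_lit 49, nat_lit 149] 48 3)) (.leaf (Rule.fwd [nat_lit 329, nat_lit 29, nat_lit 29, nat_lit 269, nat_lit 89, nat_lit 49] 41 4)))) (.node (nat_lit 1) (.leaf (Rule.fwd [nat_lit 89, nat_lit 189, nat_lit 149, nat_lit 229] 60 4)) (.leaf (Rule.fwd [nat_lit 149, nat_lit 89, nat_lit 369, nat_lit 9, nat_lit 209, nat_lit 9, nat_lit 49] 48 2))))), (.node (nat_lit 1) (.leaf XRule.defn) (.leaf XRule.ax))⟩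
noncomputable def ci169 : CI := ⟨[8], (nat_lit 189), true, (.node (nat_lit 16) (.node (nat_lit 8) (.node (nat_lit 4) (.node (nat_lit 2) (.node (nat_lit 1) (.leaf Rule.defn) (.leaf Rule.copy)) (.node (nat_lit 1) (.leaf (Rule.fwd [nat_lit 189] 68 0)) (.leaf (Rule.fwd [nat_lit 169, nat_lit 169, nat_lit 169] 12 0)))) (.node (nat_lit 2) (.node (nat_lit 1) (.leaf (Rule.fwd [nat_lit 89, nat_lit 129, nat_lit 89] 23 0)) (.leaf (Rule.fwd [nat_lit 129, nat_lit 109, nat_lit 209, nat_lit 269, nat_lit 109] 33 3))) (.node (nat_lit 1) (.leaf (Rule.fwd [nat_lit 169, nat_lit 309, nat_lit 189, nat_lit 209] 54 0)) (.leaf (Rule.fwd [nat_lit 109, nat_lit 129, nat_lit 209, nat_lit 129] 61 2))))) (.node (nat_lit 4) (.node (nat_lit 2) (.node (nat_lit 1) (.leaf (Rule.fwd [nat_lit 309, nat_lit 269, nat_lit 189, nat_lit 329] 19 4)) (.leaf (Rule.fwd [nat_lit 289, nat_lit 189, nat_lit 189, nat_lit 229] 55 4))) (.node (nat_lit 1) (.leaf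 (Rule.fwd [nat_lit 209, nat_lit 289] 9 2)) (.leaf (Rule.fwd [nat_lit 229, nat_lit 49, nat_lit 149, nat_lit 269, nat_lit 89, nat_lit 69] 43 0)))) (.node (nat_lit 2) (.node (nat_lit 1) (.leaf (Rule.fwd [nat_lit 109, nat_lit 29, nat_lit 249, nat_lit 329, nat_lit 189, nat_lit 69, nat_lit 29] 51 0)) (.leaf (Rule.fwd [nat_lit 309, nat_lit 189, nat_lit 209, nat_lit 169] 54 1))) (.node (nat_lit 1) (.leaf (Rule.fwd [nat_lit 269, nat_lit 369, nat_lit 169, nat_lit 249] 16 2)) (.leaf (Rule.fwd [nat_lit 169, nat_lit 329, nat_lit 189, nat_lit 229, nat_lit 249] 11 2)))))) (.node (nat_lit 2) (.node (nat_lit 1) (.leaf (Rule.fwd [nat_lit 349, nat_lit 189, nat_lit 189, nat_lit 269, nat_lit 209] 10 4)) (.leaf (Rule.fwd [nat_lit 89, nat_lit 69, nat_lit 29, nat_lit 229, nat_lit 289, nat_lit 369, nat_lit 9] 45 4))) (.node (nat_lit 1) (.leaf (Rule.fwd [nat_lit 269, nat_lit 169, nat_lit 269] 14 0)) (.leaf (Rule.fwd [nat_lit 349,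 nat_lit 269, nat_lit 9, nat_lit 89, nat_lit 189, nat_lit 9, nat_lit 49] 50 2))))), (.node (nat_lit 1) (.leaf XRule.defn) (.leaf XRule.ax))⟩
noncomputable def ci189 : CI := ⟨[9], (nat_lit 169), true, (.node (nat_lit 16) (.node (nat_lit 8) (.node (nat_lit 4) (.node (nat_lit 2) (.node (nat_lit 1) (.leaf Rule.defn) (.leaf Rule.copy)) (.node (nat_lit 1) (.leaf (Rule.fwd [nat_lit 169] 68 0)) (.leaf (Rule.fwd [nat_lit 9, nat_lit 49, nat_lit 169, nat_lit 349, nat_lit 269, nat_lit 9, nat_lit 89] 50 7)))) (.node (nat_lit 2) (.node (nat_lit 1) (.leaf (Rule.fwd [nat_lit 49, nat_lit 109, nat_lit 249, nat_lit 129, nat_lit 69, nat_lit 209] 42 6)) (.leaf (Rule.fwd [nat_lit 309, nat_lit 229] 8 1))) (.node (nat_lit 1) (.leaf (Rule.fwd [nat_lit 109, nat_lit 149, nat_lit 109] 22 3)) (.leaf (Rule.fwd [nat_lit 189, nat_lit 229, nat_lit 169, nat_lit 289] 55 2))))) (.node (nat_lit 4) (.node (nat_lit 2) (.node (nat_lit 1) (.leaf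 (Rule.fwd [nat_lit 149, nat_lit 229, nat_lit 149, nat_lit 89] 60 1)) (.leaf (Rule.fwd [nat_lit 269, nat_lit 209, nat_lit 169, nat_lit 349, nat_lit 189] 10 1))) (.node (nat_lit 1) (.leaf (Rule.fwd [nat_lit 229, nat_lit 249, nat_lit 169, nat_lit 169, nat_lit 329] 11 5)) (.leaf (Rule.fwd [nat_lit 369, nat_lit 249, nat_lit 189, nat_lit 269] 17 1)))) (.node (nat_lit 2) (.node (nat_lit 1) (.leaf (Rule.fwd [nat_lit 349, nat_lit 169, nat_lit 249, nat_lit 289] 18 3)) (.leaf (Rule.fwd [nat_lit 209, nat_lit 169, nat_lit 169, nat_lit 309] 54 3))) (.node (nat_lit 1) (.leaf (Rule.fwd [nat_lit 29, nat_lit 369, nat_lit 309, nat_lit 209, nat_lit 9, nat_lit 49, nat_lit 109] 44 3)) (.leaf (Rule.fwd [nat_lit 249, nat_lit 189, nat_lit 249] 15 1)))))) (.node (nat_lit 2) (.node (nat_lit 1) (.leaf (Rule.fwd [nat_lit 189, nat_lit 189, nat_lit 189] 13 0)) (.leaf (Rule.fwd [nat_lit 269, nat_lit 189, nat_lit 369, nat_lit 249] 17 3)))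 (.node (nat_lit 1) (.leaf (Rule.fwd [nat_lit 89, nat_lit 249, nat_lit 229, nat_lit 89, nat_lit 149] 32 2)) (.leaf (Rule.fwd [nat_lit 69, nat_lit 9, nat_lit 89, nat_lit 9, nat_lit 249, nat_lit 309, nat_lit 329] 62 6))))), (.node (nat_lit 1) (.leaf XRule.defn) (.leaf XRule.ax))⟩
noncomputable def ci209 : CI := ⟨[10], (nat_lit 229), true, (.node (nat_lit 8) (.node (nat_lit 4) (.node (nat_lit 2) (.node (nat_lit 1) (.leaf Rule.defn) (.leaf Rule.copy)) (.node (nat_lit 1) (.leaf (Rule.fwd [nat_lit 229] 68 0)) (.leaf (Rule.fwd [nat_lit 289, nat_lit 169] 9 1)))) (.node (nat_lit 2) (.node (nat_lit 1) (.leaf (Rule.fwd [nat_lit 129, nat_lit 109, nat_lit 149, nat_lit 89, nat_lit 129] 25 0)) (.leaf (Rule.fwd [nat_lit 169, nat_lit 169, nat_lit 309, nat_lit 189] 54 4))) (.node (nat_lit 1) (.leaf (Rule.fwd [nat_lit 369, nat_lit 109, nat_lit 289, nat_lit 209, nat_lit 149, nat_lit 89] 56 1)) (.leaf (Rule.fwd [nat_lit 129, nat_lit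 169, nat_lit 109, nat_lit 129] 61 4))))) (.node (nat_lit 4) (.node (nat_lit 2) (.node (nat_lit 1) (.leaf (Rule.fwd [nat_lit 209, nat_lit 109, nat_lit 349, nat_lit 349, nat_lit 89] 64 1)) (.leaf (Rule.fwd [nat_lit 109, nat_lit 349, nat_lit 349, nat_lit 89, nat_lit 209] 64 2))) (.node (nat_lit 1) (.leaf (Rule.fwd [nat_lit 9, nat_lit 49, nat_lit 149, nat_lit 149, nat_lit 89, nat_lit 369, nat_lit 9] 48 7)) (.leaf (Rule.fwd [nat_lit 269, nat_lit 109, nat_lit 169, nat_lit 129, nat_lit 109] 33 0)))) (.node (nat_lit 2) (.node (nat_lit 1) (.leaf (Rule.fwd [nat_lit 149, nat_lit 89, nat_lit 209, nat_lit 369, nat_lit 109, nat_lit 289] 56 5)) (.leaf (Rule.fwd [nat_lit 189, nat_lit 49, nat_lit 109, nat_lit 249, nat_lit 129, nat_lit 69] 42 5))) (.leaf (Rule.fwd [nat_lit 9, nat_lit 49, nat_lit 109, nat_lit 189, nat_lit 29, nat_lit 369, nat_lit 309] 44 7))))), (.node (nat_lit 1) (.leaf XRule.defn) (.leaf XRule.ax))⟩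
noncomputable def ci229 : CI := ⟨[11], (nat_lit 209), true, (.node (nat_lit 16) (.node (nat_lit 8) (.node (nat_lit 4) (.node (nat_lit 2) (.node (nat_lit 1) (.leaf Rule.defn) (.leaf Rule.copy)) (.node (nat_lit 1) (.leaf (Rule.fwd [nat_lit 209] 68 0)) (.leaf (Rule.fwd [nat_lit 49, nat_lit 349, nat_lit 229, nat_lit 49, nat_lit 349] 38 2)))) (.node (nat_lit 2) (.node (nat_lit 1) (.leaf (Rule.fwd [nat_lit 189, nat_lit 309] 8 0)) (.leaf (Rule.fwd [nat_lit 229, nat_lit 109, nat_lit 329, nat_lit 329, nat_lit 89] 65 3))) (.node (nat_lit 1) (.leaf (Rule.fwd [nat_lit 109, nat_lit 329, nat_lit 329, nat_lit 89, nat_lit 229] 65 2)) (.leaf (Rule.fwd [nat_lit 169, nat_lit 289, nat_lit 189, nat_lit 189] 55 0))))) (.node (nat_lit 4) (.node (nat_lit 2) (.node (nat_lit 1) (.leaf (Rule.fwd [nat_lit 149, nat_lit 89, nat_lit 189, nat_lit 149] 60 3)) (.leaf (Rule.fwd [nat_lit 89, nat_lit 149, nat_lit 189, nat_lit 89, nat_lit 249]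 32 5))) (.node (nat_lit 1) (.leaf (Rule.fwd [nat_lit 149, nat_lit 109, nat_lit 129, nat_lit 89, nat_lit 149] 24 5)) (.leaf (Rule.fwd [nat_lit 309, nat_lit 89, nat_lit 369, nat_lit 229, nat_lit 109, nat_lit 129] 57 6)))) (.node (nat_lit 2) (.node (nat_lit 1) (.leaf (Rule.fwd [nat_lit 109, nat_lit 129, nat_lit 229, nat_lit 309, nat_lit 89, nat_lit 369] 57 2)) (.leaf (Rule.fwd [nat_lit 249, nat_lit 169, nat_lit 169, nat_lit 329, nat_lit 189] 11 4))) (.node (nat_lit 1) (.leaf (Rule.fwd [nat_lit 29, nat_lit 369, nat_lit 109, nat_lit 129, nat_lit 129, nat_lit 69, nat_lit 29] 49 0)) (.leaf (Rule.fwd [nat_lit 49, nat_lit 149, nat_lit 269, nat_lit 89, nat_lit 69, nat_lit 169] 43 6)))))) (.leaf (Rule.fwd [nat_lit 289, nat_lit 369, nat_lit 9, nat_lit 169, nat_lit 89, nat_lit 69, nat_lit 29] 45 0))), (.node (nat_lit 1) (.leaf XRule.defn) (.leaf XRule.ax))⟩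
noncomputable def ci249 : CI := ⟨[12], (nat_lit 269), true, (.node (nat_lit 16) (.node (nat_lit 8) (.node (nat_lit 4) (.node (nat_lit 2) (.node (nat_lit 1) (.leaf Rule.defn) (.leaf Rule.copy)) (.node (nat_lit 1) (.leaf (Rule.fwd [nat_lit 269] 68 0)) (.leaf (Rule.fwd [nat_lit 129, nat_lit 69, nat_lit 209, nat_lit 189, nat_lit 49, nat_lit 109] 42 2)))) (.node (nat_lit 2) (.node (nat_lit 1) (.leaf (Rule.fwd [nat_lit 229, nat_lit 89, nat_lit 149, nat_lit 189, nat_lit 89] 32 4)) (.leaf (Rule.fwd [nat_lit 369, nat_lit 269, nat_lit 269, nat_lit 169] 20 1))) (.node (nat_lit 1) (.leaf (Rule.fwd [nat_lit 169, nat_lit 269, nat_lit 369, nat_lit 169] 16 1)) (.leaf (Rule.fwd [nat_lit 109, nat_lit 129, nat_lit 109, nat_lit 149, nat_lit 109, nat_lit 129] 27 0))))) (.node (nat_lit 4) (.node (nat_lit 2) (.node (nat_lit 1) (.leaf (Rule.fwd [nat_lit 249, nat_lit 369, nat_lit 269, nat_lit 189] 21 0)) (.leaf (Rule.fwd [nat_lit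 169, nat_lit 169, nat_lit 329, nat_lit 189, nat_lit 229] 11 3))) (.node (nat_lit 1) (.leaf (Rule.fwd [nat_lit 189, nat_lit 269, nat_lit 189, nat_lit 369] 17 4)) (.leaf (Rule.fwd [nat_lit 289, nat_lit 189, nat_lit 349, nat_lit 169] 18 1)))) (.node (nat_lit 2) (.node (nat_lit 1) (.leaf (Rule.fwd [nat_lit 189, nat_lit 249, nat_lit 189] 15 0)) (.leaf (Rule.fwd [nat_lit 329, nat_lit 189, nat_lit 69, nat_lit 29, nat_lit 169, nat_lit 109, nat_lit 29] 51 5))) (.node (nat_lit 1) (.leaf (Rule.fwd [nat_lit 369, nat_lit 269, nat_lit 189, nat_lit 249] 21 4)) (.leaf (Rule.fwd [nat_lit 9, nat_lit 9, nat_lit 349, nat_lit 129, nat_lit 69, nat_lit 109] 40 6)))))) (.leaf (Rule.fwd [nat_lit 309, nat_lit 329, nat_lit 189, nat_lit 69, nat_lit 9, nat_lit 89, nat_lit 9] 62 3))), (.node (nat_lit 1) (.leaf XRule.defn) (.leaf XRule.ax))⟩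
noncomputable def ci269 : CI := ⟨[13], (nat_lit 249), true, (.node (nat_lit 8) (.node (nat_lit 4) (.node (nat_lit 2) (.node (nat_lit 1) (.leaf Rule.defn) (.leaf Rule.copy)) (.node (nat_lit 1) (.leaf (Rule.fwd [nat_lit 249] 68 0)) (.leaf (Rule.fwd [nat_lit 89, nat_lit 49, nat_lit 149, nat_lit 329, nat_lit 29, nat_lit 29] 41 0)))) (.node (nat_lit 2) (.node (nat_lit 1) (.leaf (Rule.fwd [nat_lit 109, nat_lit 169, nat_lit 129, nat_lit 109, nat_lit 209] 33 5)) (.leaf (Rule.fwd [nat_lit 149, nat_lit 89, nat_lit 129, nat_lit 89, nat_lit 149, nat_lit 89] 26 6))) (.node (nat_lit 1) (.leaf (Rule.fwd [nat_lit 169, nat_lit 269, nat_lit 169] 14 1)) (.leaf (Rule.fwd [nat_lit 189, nat_lit 369, nat_lit 249, nat_lit 189] 17 2))))) (.node (nat_lit 4) (.node (nat_lit 2) (.node (nat_lit 1) (.leaf (Rule.fwd [nat_lit 369, nat_lit 169, nat_lit 249, nat_lit 169] 16 3)) (.leaf (Rule.fwd [nat_lit 189, nat_lit 329, nat_lit 169, nat_lit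 309] 19 2))) (.node (nat_lit 1) (.leaf (Rule.fwd [nat_lit 269, nat_lit 169, nat_lit 249, nat_lit 369] 20 3)) (.leaf (Rule.fwd [nat_lit 169, nat_lit 249, nat_lit 369, nat_lit 269] 20 4)))) (.node (nat_lit 2) (.node (nat_lit 1) (.leaf (Rule.fwd [nat_lit 209, nat_lit 169, nat_lit 349, nat_lit 189, nat_lit 189] 10 2)) (.leaf (Rule.fwd [nat_lit 89, nat_lit 69, nat_lit 169, nat_lit 229, nat_lit 49, nat_lit 149] 43 3))) (.node (nat_lit 1) (.leaf (Rule.fwd [nat_lit 29, nat_lit 109, nat_lit 29, nat_lit 49, nat_lit 169, nat_lit 349, nat_lit 289] 63 4)) (.leaf (Rule.fwd [nat_lit 9, nat_lit 89, nat_lit 189, nat_lit 9, nat_lit 49, nat_lit 169, nat_lit 349] 50 4)))))), (.node (nat_lit 1) (.leaf XRule.defn) (.leaf XRule.ax))⟩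
noncomputable def ci289 : CI := ⟨[14], (nat_lit 309), true, (.node (nat_lit 8) (.node (nat_lit 4) (.node (nat_lit 2) (.node (nat_lit 1) (.leaf Rule.defn) (.leaf Rule.copy)) (.node (nat_lit 1) (.leaf (Rule.fwd [nat_lit 309] 68 0)) (.leaf (Rule.fwd [nat_lit 189, nat_lit 189, nat_lit 229, nat_lit 169] 55 3)))) (.node (nat_lit 2) (.node (nat_lit 1) (.leaf (Rule.fwd [nat_lit 289, nat_lit 289] 2 0)) (.leaf (Rule.fwd [nat_lit 269, nat_lit 29, nat_lit 109, nat_lit 29, nat_lit 49, nat_lit 169, nat_lit 349] 63 5))) (.node (nat_lit 1) (.leaf (Rule.fwd [nat_lit 149, nat_lit 89, nat_lit 129, nat_lit 369, nat_lit 129] 30 4)) (.leaf (Rule.fwd [nat_lit 209, nat_lit 149, nat_lit 89, nat_lit 209, nat_lit 369, nat_lit 109] 56 4))))) (.node (nat_lit 4) (.node (nat_lit 2) (.node (nat_lit 1) (.leaf (Rule.fwd [nat_lit 189, nat_lit 349, nat_lit 169, nat_lit 249] 18 2)) (.leaf (Rule.fwd [nat_lit 369, nat_lit 289, nat_lit 369] 6 0)))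 (.node (nat_lit 1) (.leaf (Rule.fwd [nat_lit 369, nat_lit 349, nat_lit 289, nat_lit 349] 0 3)) (.leaf (Rule.fwd [nat_lit 169, nat_lit 209] 9 0)))) (.node (nat_lit 2) (.node (nat_lit 1) (.leaf (Rule.fwd [nat_lit 349, nat_lit 289, nat_lit 369, nat_lit 349] 0 1)) (.leaf (Rule.fwd [nat_lit 109, nat_lit 289, nat_lit 369, nat_lit 9, nat_lit 349, nat_lit 29, nat_lit 49] 53 7))) (.node (nat_lit 1) (.leaf (Rule.fwd [nat_lit 369, nat_lit 9, nat_lit 349, nat_lit 29, nat_lit 49, nat_lit 289, nat_lit 109] 53 5)) (.leaf (Rule.fwd [nat_lit 369, nat_lit 9, nat_lit 169, nat_lit 89, nat_lit 69, nat_lit 29, nat_lit 229] 45 7)))))), (.node (nat_lit 1) (.leaf XRule.defn) (.leaf XRule.ax))⟩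
noncomputable def ci309 : CI := ⟨[15], (nat_lit 289), true, (.node (nat_lit 8) (.node (nat_lit 4) (.node (nat_lit 2) (.node (nat_lit 1) (.leaf Rule.defn) (.leaf Rule.copy)) (.node (nat_lit 1) (.leaf (Rule.fwd [nat_lit 289] 68 0)) (.leaf (Rule.fwd [nat_lit 229, nat_lit 189] 8 2)))) (.node (nat_lit 2) (.node (nat_lit 1) (.leaf (Rule.fwd [nat_lit 209, nat_lit 9, nat_lit 49, nat_lit 109, nat_lit 189, nat_lit 29, nat_lit 369] 44 6)) (.leaf (Rule.fwd [nat_lit 69, nat_lit 9, nat_lit 329, nat_lit 29, nat_lit 369, nat_lit 309, nat_lit 89] 52 6))) (.node (nat_lit 1) (.leaf (Rule.fwd [nat_lit 309, nat_lit 309] 3 0)) (.leaf (Rule.fwd [nat_lit 369, nat_lit 309, nat_lit 369] 7 1))))) (.node (nat_lit 4) (.node (nat_lit 2) (.node (nat_lit 1) (.leaf (Rule.fwd [nat_lit 329, nat_lit 369, nat_lit 309, nat_lit 329] 1 2)) (.leaf (Rule.fwd [nat_lit 149, nat_lit 369, nat_lit 149, nat_lit 109, nat_lit 129] 31 5))) (.node (nat_lit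 1) (.leaf (Rule.fwd [nat_lit 89, nat_lit 369, nat_lit 229, nat_lit 109, nat_lit 129, nat_lit 229] 57 5)) (.leaf (Rule.fwd [nat_lit 189, nat_lit 209, nat_lit 169, nat_lit 169] 54 2)))) (.node (nat_lit 2) (.node (nat_lit 1) (.leaf (Rule.fwd [nat_lit 9, nat_lit 49, nat_lit 369, nat_lit 9, nat_lit 49, nat_lit 149, nat_lit 89] 46 4)) (.leaf (Rule.fwd [nat_lit 89, nat_lit 309, nat_lit 69, nat_lit 9, nat_lit 329, nat_lit 29, nat_lit 369] 52 4))) (.leaf (Rule.fwd [nat_lit 329, nat_lit 189, nat_lit 69, nat_lit 9, nat_lit 89, nat_lit 9, nat_lit 249] 62 4))))), (.node (nat_lit 1) (.leaf XRule.defn) (.leaf XRule.ax))⟩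
noncomputable def ci329 : CI := ⟨[16], (nat_lit 349), true, (.node (nat_lit 8) (.node (nat_lit 4) (.node (nat_lit 2) (.node (nat_lit 1) (.leaf Rule.defn) (.leaf Rule.copy)) (.node (nat_lit 1) (.leaf (Rule.fwd [nat_lit 349] 68 0)) (.leaf (Rule.fwd [nat_lit 29, nat_lit 29, nat_lit 269, nat_lit 89, nat_lit 49, nat_lit 149] 41 3)))) (.node (nat_lit 2) (.node (nat_lit 1) (.leaf (Rule.fwd [nat_lit 329, nat_lit 329, nat_lit 329] 4 0)) (.leaf (Rule.fwd [nat_lit 169, nat_lit 309, nat_lit 269, nat_lit 189] 19 0))) (.node (nat_lit 1) (.leaf (Rule.fwd [nat_lit 309, nat_lit 329, nat_lit 369, nat_lit 309] 1 3)) (.leaf (Rule.fwd [nat_lit 189, nat_lit 229, nat_lit 249, nat_lit 169, nat_lit 169] 11 0))))) (.node (nat_lit 4) (.node (nat_lit 2) (.node (nat_lit 1) (.leaf (Rule.fwd [nat_lit 89, nat_lit 229, nat_lit 229, nat_lit 109, nat_lit 329] 65 5)) (.leaf (Rule.fwd [nat_lit 29, nat_lit 369, nat_lit 309, nat_lit 89, nat_lit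 309, nat_lit 69, nat_lit 9] 52 1))) (.node (nat_lit 1) (.leaf (Rule.fwd [nat_lit 69, nat_lit 209, nat_lit 329, nat_lit 69, nat_lit 209] 39 2)) (.leaf (Rule.fwd [nat_lit 369, nat_lit 309, nat_lit 329, nat_lit 309] 1 1)))) (.node (nat_lit 2) (.node (nat_lit 1) (.leaf (Rule.fwd [nat_lit 189, nat_lit 69, nat_lit 29, nat_lit 169, nat_lit 109, nat_lit 29, nat_lit 249] 51 4)) (.leaf (Rule.fwd [nat_lit 329, nat_lit 89, nat_lit 229, nat_lit 229, nat_lit 109] 65 0))) (.leaf (Rule.fwd [nat_lit 189, nat_lit 69, nat_lit 9, nat_lit 89, nat_lit 9, nat_lit 249, nat_lit 309] 62 5))))), (.node (nat_lit 1) (.leaf XRule.defn) (.leaf XRule.ax))⟩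
noncomputable def ci349 : CI := ⟨[17], (nat_lit 329), true, (.node (nat_lit 8) (.node (nat_lit 4) (.node (nat_lit 2) (.node (nat_lit 1) (.leaf Rule.defn) (.leaf Rule.copy)) (.node (nat_lit 1) (.leaf (Rule.fwd [nat_lit 329] 68 0)) (.leaf (Rule.fwd [nat_lit 129, nat_lit 69, nat_lit 109, nat_lit 249, nat_lit 9, nat_lit 9] 40 2)))) (.node (nat_lit 2) (.node (nat_lit 1) (.leaf (Rule.fwd [nat_lit 169, nat_lit 249, nat_lit 289, nat_lit 189] 18 4)) (.leaf (Rule.fwd [nat_lit 189, nat_lit 189, nat_lit 269, nat_lit 209, nat_lit 169] 10 5))) (.node (nat_lit 1) (.leaf (Rule.fwd [nat_lit 349, nat_lit 89, nat_lit 209, nat_lit 209, nat_lit 109] 64 4)) (.leaf (Rule.fwd [nat_lit 289, nat_lit 349, nat_lit 289, nat_lit 369] 0 0))))) (.node (nat_lit 4) (.node (nat_lit 2) (.node (nat_lit 1) (.leaf (Rule.fwd [nat_lit 349, nat_lit 349, nat_lit 349] 5 0)) (.leaf (Rule.fwd [nat_lit 289, nat_lit 369, nat_lit 349, nat_lit 289] 0 2)))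 (.node (nat_lit 1) (.leaf (Rule.fwd [nat_lit 29, nat_lit 49, nat_lit 289, nat_lit 109, nat_lit 289, nat_lit 369, nat_lit 9] 53 2)) (.leaf (Rule.fwd [nat_lit 89, nat_lit 209, nat_lit 209, nat_lit 109, nat_lit 349] 64 5)))) (.node (nat_lit 2) (.node (nat_lit 1) (.leaf (Rule.fwd [nat_lit 269, nat_lit 9, nat_lit 89, nat_lit 189, nat_lit 9, nat_lit 49, nat_lit 169] 50 3)) (.leaf (Rule.fwd [nat_lit 229, nat_lit 49, nat_lit 349, nat_lit 229, nat_lit 49] 38 1))) (.leaf (Rule.fwd [nat_lit 289, nat_lit 269, nat_lit 29, nat_lit 109, nat_lit 29, nat_lit 49, nat_lit 169] 63 6))))), (.node (nat_lit 1) (.leaf XRule.defn) (.leaf XRule.ax))⟩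
noncomputable def ci369 : CI := ⟨[18], (nat_lit 369), true, (.node (nat_lit 16) (.node (nat_lit 8) (.node (nat_lit 4) (.node (nat_lit 2) (.node (nat_lit 1) (.leaf Rule.defn) (.leaf Rule.copy)) (.node (nat_lit 1) (.leaf (Rule.fwd [nat_lit 369] 68 0)) (.leaf (Rule.fwd [nat_lit 69, nat_lit 29, nat_lit 289, nat_lit 109, nat_lit 129, nat_lit 69, nat_lit 29] 47 0)))) (.node (nat_lit 2) (.node (nat_lit 1) (.leaf (Rule.fwd [nat_lit 309, nat_lit 369, nat_lit 309] 7 0)) (.leaf (Rule.fwd [nat_lit 109, nat_lit 129, nat_lit 129, nat_lit 69, nat_lit 29, nat_lit 229, nat_lit 29] 49 6))) (.node (nat_lit 1) (.leaf (Rule.fwd [nat_lit 249, nat_lit 189, nat_lit 269, nat_lit 189] 17 0)) (.leaf (Rule.fwd [nat_lit 229, nat_lit 109, nat_lit 129, nat_lit 229, nat_lit 309, nat_lit 89] 57 3))))) (.node (nat_lit 4) (.node (nat_lit 2) (.node (nat_lit 1) (.leaf (Rule.fwd [nat_lit 149, nat_lit 109, nat_lit 129, nat_lit 309, nat_lit 149]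 31 3)) (.leaf (Rule.fwd [nat_lit 349, nat_lit 289, nat_lit 349, nat_lit 289] 0 4))) (.node (nat_lit 1) (.leaf (Rule.fwd [nat_lit 129, nat_lit 289, nat_lit 149, nat_lit 89, nat_lit 129] 30 2)) (.leaf (Rule.fwd [nat_lit 269, nat_lit 269, nat_lit 169, nat_lit 249] 20 2)))) (.node (nat_lit 2) (.node (nat_lit 1) (.leaf (Rule.fwd [nat_lit 309, nat_lit 329, nat_lit 309, nat_lit 329] 1 0)) (.leaf (Rule.fwd [nat_lit 309, nat_lit 209, nat_lit 9, nat_lit 49, nat_lit 109, nat_lit 189, nat_lit 29] 44 5))) (.node (nat_lit 1) (.leaf (Rule.fwd [nat_lit 289, nat_lit 369, nat_lit 289] 6 1)) (.leaf (Rule.fwd [nat_lit 169, nat_lit 249, nat_lit 169, nat_lit 269] 16 4)))))) (.node (nat_lit 2) (.node (nat_lit 1) (.leaf (Rule.fwd [nat_lit 9, nat_lit 49, nat_lit 149, nat_lit 89, nat_lit 309, nat_lit 9, nat_lit 49] 46 7)) (.leaf (Rule.fwd [nat_lit 9, nat_lit 209, nat_lit 9, nat_lit 49, nat_lit 149, nat_lit 149, nat_lit 89] 48 5)))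 (.node (nat_lit 1) (.leaf (Rule.fwd [nat_lit 309, nat_lit 89, nat_lit 309, nat_lit 69, nat_lit 9, nat_lit 329, nat_lit 29] 52 3)) (.leaf (Rule.fwd [nat_lit 9, nat_lit 349, nat_lit 29, nat_lit 49, nat_lit 289, nat_lit 109, nat_lit 289] 53 4))))), (.node (nat_lit 1) (.leaf XRule.defn) (.leaf XRule.ax))⟩
noncomputable def outer : Tr CI := (.node (nat_lit 8) (.node (nat_lit 16) (.node (nat_lit 4) (.node (nat_lit 1) (.leaf ci0) (.node (nat_lit 32) (.leaf ci129) (.leaf ci289))) (.node (nat_lit 32) (.leaf ci69) (.leaf ci229))) (.node (nat_lit 4) (.node (nat_lit 32) (.leaf ci209) (.node (nat_lit 64) (.leaf ci49) (.leaf ci369))) (.node (nat_lit 32) (.leaf ci149) (.leaf ci309)))) (.node (nat_lit 4) (.node (nat_lit 16) (.node (nat_lit 32) (.node (nat_lit 64) (.leaf ci9) (.leaf ci329)) (.leaf ci169)) (.node (nat_lit 32) (.leaf ci89) (.leaf ci249))) (.node (nat_lit 16) (.node (nat_lit 32) (.leaf ci269) (.leaf ci109))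 (.node (nat_lit 32) (.node (nat_lit 64) (.leaf ci29) (.leaf ci349)) (.leaf ci189)))))
def cols : List ℕ := [nat_lit 9, nat_lit 29, nat_lit 49, nat_lit 69, nat_lit 89, nat_lit 109, nat_lit 129, nat_lit 149, nat_lit 169, nat_lit 189, nat_lit 209, nat_lit 229, nat_lit 249, nat_lit 269, nat_lit 289, nat_lit 309, nat_lit 329, nat_lit 349, nat_lit 369]
def invL : List ℕ := [1, 0, 3, 2, 5, 4, 7, 6, 9, 8, 11, 10, 13, 12, 15, 14, 17, 16, 18]
def rels : List (List ℕ) := [[17, 14, 17, 14, 18], [14, 14, 14], [16, 16, 16, 16], [14, 18, 14, 18], [11, 9, 15], [9, 9, 13, 10, 8, 17], [8, 8, 8, 8], [8, 13, 8, 13], [8, 12, 8, 13, 18], [8, 12, 14, 9, 17], [8, 12, 18, 13, 13], [5, 7, 5, 9], [7, 5, 6, 4, 7, 11], [7, 4, 6, 4, 7, 4, 13], [4, 4, 4], [4, 6, 18, 6, 14, 7], [4, 7, 9, 4, 12, 11], [0, 3, 1, 1, 2, 5], [0, 3, 3, 0, 3, 0, 7], [2, 17, 11, 2, 17, 11], [0, 0, 17, 6, 3, 5, 12], [2, 5, 12, 6, 3, 10, 9], [0, 2, 5, 9, 1, 18, 15,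 10], [0, 2, 7, 4, 15, 0, 2, 18], [0, 2, 7, 7, 4, 18, 0, 10], [0, 2, 8, 17, 13, 0, 4, 9], [0, 16, 1, 18, 15, 4, 15, 3], [8, 8, 15, 9, 10], [4, 10, 18, 5, 14, 10, 7], [6, 6, 6, 6, 6], [4, 9, 7, 11, 7], [0, 4, 0, 12, 15, 16, 9, 3], [4, 10, 10, 5, 17, 17], [0, 7, 2, 0, 7, 2]]
def subs : List (List ℕ) := [[4], [5], [6], [7], [8], [9], [10], [11], [12], [13], [14], [15], [16], [17], [18]]
noncomputable def row (n : ℕ) : ℕ := rowOf (fun h => rows.get h) (nat_lit 5) (nat_lit 31) (nat_lit 389) (nat_lit 0x1fffffffffffffffffffffffffffffffffffffffffffffffffffffffffffffffffffffffffffffffffffffffffffffffff) n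
noncomputable def xleaf (h : ℕ) : ℕ := recs.get h
noncomputable def mF : ℕ → ℕ := mainRow row (rowChk row xleaf outer (nat_lit 8) (nat_lit 255) (nat_lit 31) (nat_lit 13) (nat_lit 8191) (nat_lit 1048575) (nat_lit 128) (nat_lit 112) (nat_lit 256) (nat_lit 9) (nat_lit 511) (nat_lit 17) (nat_lit 131071) (nat_lit 8) (nat_lit 255) cols)
noncomputable def xF : ℕ → ℕ → ℕ := xLeaf row xleaf outer (nat_lit 255) (nat_lit 13) (nat_lit 1048575) (nat_lit 128) (nat_lit 112) (nat_lit 9) (nat_lit 511) (nat_lit 17) (nat_lit 131071) (nat_lit 130560) (nat_lit 8) (nat_lit 255) (nat_lit 10) (nat_lit 1023) (nat_lit 2) (nat_lit 3) (nat_lit 369) (nat_lit 57344) (nat_lit 128)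
noncomputable def cert : Cert := ⟨row, xleaf, outer, cols, nat_lit 8, nat_lit 255, nat_lit 31, nat_lit 13, nat_lit 8191, nat_lit 1048575, nat_lit 128, nat_lit 112, nat_lit 256, nat_lit 9, nat_lit 511, nat_lit 17, nat_lit 131071, nat_lit 130560, nat_lit 8, nat_lit 255, nat_lit 10, nat_lit 1023, nat_lit 2, nat_lit 3, nat_lit 369, nat_lit 57344, nat_lit 128, nat_lit 20, nat_lit 128, nat_lit 1⟩
theorem tabok : tabOK (fun i => invL.getD i i) rels subs outer cols (nat_lit 9) (nat_lit 369) = true := by decide +kernel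
theorem m0 : rng mF (nat_lit 1) (nat_lit 112) = 0 := by decide +kernel
noncomputable def s0 : List ℕ := [nat_lit 0x401004010040100401000000000000000000000000000000000000000000000000000000000000000000000000000000000000000000000000000000000000000000000000000000000000000000000000000000000000000000000000000000000000000000000000000000000000000000000000000000000000000000000000000000000000000000000000000000000000000000000000000000000000]
theorem x0 : xs xF s0 (nat_lit 1) = 0 := by decide +kernel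
theorem mz0 : AllZ mF 1 (nat_lit 113) := (AllZ.step (AllZ.nil mF 1) (nat_lit 112) (nat_lit 113) rfl m0)
theorem xz0 : XZ xF (nat_lit 1) := (XZ.step (XZ.nil xF) s0 (nat_lit 1) (nat_lit 1) (by decide +kernel) x0)
/-- the certificate (112 points) is valid -/
theorem valid : cert.Valid (fun i => invL.getD i i) rels subs 19 :=
  ⟨by decide +kernel, tabok, by decide +kernel, mz0, xz0⟩
theorem cert_N : cert.N = 112 := rfl

end CL.TC.GMcLL2
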