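import Cfsg.Agent.Spor.TCSound

/-! coset enumeration certificate generated by tools/tc -/

set_option maxRecDepth 100000
set_option autoImplicit false
set_option linter.all false

namespace CL.TC.GMcLL3

noncomputable def rows0 : Tr ℕ := (.leaf (nat_lit 0xaf03d54c72998e5a81eb263d5cc72c18e5741cb863968c72b98e7f10bae62766876e18a90b298be561dc863b8585bf883de717b341994c5ae28cdf30bc92376a05f2b0c60715b063cc7bb6395207ab20f5b31cb8a396507ac58f5d41eac63d61c7ada0f5d30ffe20f94c36d98b8bedb0dff105c061174c2f040cdb614bf2175cc66f98b6331dbe61560c32b18ad631baf03700ccc356902ec1867f105cac139585b3187e3310c86239a837d20763308c4a2f80c6b0c0d36afd05ff104b6a237cc6eea05db30cb362f6cc76c30dd9419b06336d85ad182da50cb4e1500cc60f94c5b4983eb412f862fb903b39877f104c0e1fae01b5987e431df0611b8c43c38923b348ee5312ce61ff5063498958319ba63b91456d98addd0cfe20984c6ac98edc91cc121a55c46258d043320c66707c063b99c1f218d6051bcca3b98c1f1b847f104b46337e02fb48990bf881e550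8c680ba183ad1866c310c661b71c5f198be5812ca6275d86f6a86dd41ebe63b13bf2198d02719857c313fe207a0c12d18dfb506cc61ba1012e98667313d061398c174503b1f41876170ac2613fc40fea0a66305ca62360c33218766915f862361c7b428a75316ba616dac682d9141b328bea517d4631fc40f6204f360fe0a09c9847218ae370ed260ddcc6381882d389845a319c661dccc137986e6713e660d9546bf881fd513e2625d541f61887560fef0087bc661f84c1f118b63406f861fb54236a8aff103c8a35b4c271984ed611f461fc544b7a0c23b220868517d260df504311836751aee60f7cc6391896c718fe207ed042f30e7d404e862255d2c279184729825f30cce62ba1863698c65513f680be4c6b6302ff103c4625dd827d18410bf88165503c8607c1847720264815c30119d4530284e1305ca635b0c57ca855f317cd63913bc62965c6bf8815b415c0e1d60c76e50cde305b28277b052e18bde30ab303768c2ac98cbb6f18cff102b263570c66f48dde31bc08096dc2b02846030ac103b70c27f18f5e613bc62d00e0609920530189f8508fe2057542ae1857c307b461782c6f0c85f830dbea1964c66dc8631f4382e2413c462990c6b0b82eb312fe2057cc379b0364610dca21a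5052eb85f8308ec61ca1e482385c6f218af9402ee61580c3761885f30bd860f88c5bf88179418c8a35ed03bcb049573b8c6a418c4c21f8c77298b7850fca62db5023ea857f102cea2df8c73a188e7314faa0a68d300da903f19896370fc4621d10475302f2309f4629f100f518c6a712fe205ed41bd1830bf3984e2315fc63780c27f18d69306cee27e8c3afa866b30ec501b6d867f880fc307cea282fe2a159943bf18ced30de8a237cc2f4b0a6f312fc631f8c5f398a7f101fc62dd8c47e18790bf18ae560dc861bf8c53f189f9402fc625f8c47f1887e30ff660df0c0bf1877c302fe20209fc61bf8c33f185fe30af0611f8c27c181fa402f2605f8c23f183fe306fa807fc407ea01873d100fa301f6403ecc07e100fc301fa403f4c07f100fe301fe403f8c17f1827e303fc60400))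
noncomputable def recs0 : Tr ℕ := (.leaf (nat_lit 0x18980c4c060002ed016d00b1c056802a10147009ec04d00255))
noncomputable def rows : Tr ℕ := rows0
noncomputable def recs : Tr ℕ := recs0
noncomputable def ci0 : CI := ⟨[], (nat_lit 0), false, (.node (nat_lit 1) (.leaf Rule.defn) (.leaf Rule.copy)), (.leaf (XRule.rot (nat_lit 0) [] 34 0))⟩
noncomputable def ci9 : CI := ⟨[0], (nat_lit 28), false, (.node (nat_lit 8) (.node (nat_lit 4) (.node (nat_lit 2) (.node (nat_lit 1) (.leaf Rule.defn) (.leaf Rule.copy)) (.node (nat_lit 1) (.leaf (Rule.fwd [nat_lit 28] 34 0)) (.leaf (Rule.fwd [nat_lit 9, nat_lit 9] 28 0)))) (.node (nat_lit 2) (.node (nat_lit 1) (.leaf (Rule.fwd [nat_lit 47, nat_lit 9, nat_lit 85] 23 3)) (.leaf (Rule.fwd [nat_lit 161, nat_lit 142, nat_lit 9, nat_lit 66, nat_lit 104] 32 3))) (.node (nat_lit 1) (.leaf (Rule.fwd [nat_lit 180, nat_lit 66, nat_lit 9, nat_lit 47, nat_lit 9, nat_lit 66] 26 5)) (.leaf (Rule.fwd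 [nat_lit 66, nat_lit 104, nat_lit 9, nat_lit 161, nat_lit 142] 32 0))))) (.node (nat_lit 2) (.node (nat_lit 1) (.leaf (Rule.fwd [nat_lit 85, nat_lit 9, nat_lit 47] 23 1)) (.leaf (Rule.fwd [nat_lit 47, nat_lit 123, nat_lit 47, nat_lit 28, nat_lit 66] 25 2))) (.leaf (Rule.fwd [nat_lit 47, nat_lit 275, nat_lit 47, nat_lit 199, nat_lit 66] 30 0)))), (.node (nat_lit 1) (.leaf XRule.defn) (.leaf XRule.defn))⟩
noncomputable def ci28 : CI := ⟨[1], (nat_lit 9), false, (.node (nat_lit 8) (.node (nat_lit 4) (.node (nat_lit 2) (.node (nat_lit 1) (.leaf Rule.defn) (.leaf Rule.copy)) (.node (nat_lit 1) (.leaf (Rule.fwd [nat_lit 9] 34 0)) (.leaf (Rule.fwd [nat_lit 66, nat_lit 28, nat_lit 104] 22 0)))) (.node (nat_lit 2) (.node (nat_lit 1) (.leaf (Rule.fwd [nat_lit 104, nat_lit 28, nat_lit 66] 22 2)) (.leaf (Rule.fwd [nat_lit 28, nat_lit 28] 29 0))) (.node (nat_lit 1) (.leaf (Rule.fwd [nat_lit 47, nat_lit 161, nat_lit 28, nat_lit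 47, nat_lit 28, nat_lit 66] 27 2)) (.leaf (Rule.fwd [nat_lit 85, nat_lit 47, nat_lit 28, nat_lit 123, nat_lit 180] 33 4))))) (.node (nat_lit 1) (.leaf (Rule.fwd [nat_lit 66, nat_lit 9, nat_lit 47, nat_lit 123, nat_lit 47] 25 4)) (.leaf (Rule.fwd [nat_lit 66, nat_lit 28, nat_lit 47, nat_lit 161, nat_lit 28, nat_lit 47] 27 4)))), (.node (nat_lit 1) (.leaf XRule.defn) (.leaf XRule.defn))⟩
noncomputable def ci47 : CI := ⟨[2], (nat_lit 66), false, (.node (nat_lit 4) (.node (nat_lit 2) (.node (nat_lit 1) (.leaf Rule.defn) (.leaf Rule.copy)) (.node (nat_lit 1) (.leaf (Rule.fwd [nat_lit 66] 34 0)) (.leaf (Rule.fwd [nat_lit 9, nat_lit 85, nat_lit 9] 23 2)))) (.node (nat_lit 2) (.node (nat_lit 1) (.leaf (Rule.fwd [nat_lit 199, nat_lit 66, nat_lit 9, nat_lit 47, nat_lit 275] 30 3)) (.leaf (Rule.fwd [nat_lit 28, nat_lit 66, nat_lit 9, nat_lit 47, nat_lit 123] 25 5))) (.node (nat_lit 1) (.leaf (Rule.fwd [nat_lit 9, nat_lit 66,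 nat_lit 142, nat_lit 66, nat_lit 28] 24 2)) (.leaf (Rule.fwd [nat_lit 218, nat_lit 66, nat_lit 275, nat_lit 66, nat_lit 28] 31 0))))), (.node (nat_lit 1) (.leaf XRule.defn) (.leaf XRule.defn))⟩
noncomputable def ci66 : CI := ⟨[3], (nat_lit 47), false, (.node (nat_lit 4) (.node (nat_lit 2) (.node (nat_lit 1) (.leaf Rule.defn) (.leaf Rule.copy)) (.node (nat_lit 1) (.leaf (Rule.fwd [nat_lit 47] 34 0)) (.leaf (Rule.fwd [nat_lit 142, nat_lit 66, nat_lit 28, nat_lit 47, nat_lit 9] 24 4)))) (.node (nat_lit 2) (.node (nat_lit 1) (.leaf (Rule.fwd [nat_lit 9, nat_lit 47, nat_lit 123, nat_lit 47, nat_lit 28] 25 3)) (.leaf (Rule.fwd [nat_lit 275, nat_lit 66, nat_lit 28, nat_lit 47, nat_lit 218] 31 4))) (.node (nat_lit 1) (.leaf (Rule.fwd [nat_lit 28, nat_lit 104, nat_lit 28] 22 1)) (.leaf (Rule.fwd [nat_lit 28, nat_lit 47, nat_lit 9, nat_lit 66, nat_lit 142] 24 0))))), (.node (nat_lit 1) (.leaf XRule.defn) (.leaf XRule.defn))⟩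
noncomputable def ci85 : CI := ⟨[4], (nat_lit 104), true, (.node (nat_lit 8) (.node (nat_lit 4) (.node (nat_lit 2) (.node (nat_lit 1) (.leaf Rule.defn) (.leaf Rule.copy)) (.node (nat_lit 1) (.leaf (Rule.fwd [nat_lit 104] 34 0)) (.leaf (Rule.fwd [nat_lit 123, nat_lit 199] 9 2)))) (.node (nat_lit 2) (.node (nat_lit 1) (.leaf (Rule.fwd [nat_lit 9, nat_lit 47, nat_lit 9] 23 0)) (.leaf (Rule.fwd [nat_lit 47, nat_lit 28, nat_lit 123, nat_lit 180, nat_lit 28] 33 3))) (.node (nat_lit 1) (.leaf (Rule.fwd [nat_lit 237, nat_lit 104, nat_lit 142, nat_lit 161, nat_lit 85] 11 1)) (.leaf (Rule.fwd [nat_lit 218, nat_lit 180, nat_lit 104, nat_lit 237] 19 4))))) (.leaf (Rule.fwd [nat_lit 256, nat_lit 104, nat_lit 104, nat_lit 180, nat_lit 123] 10 4))), (.node (nat_lit 1) (.leaf XRule.defn) (.leaf XRule.ax))⟩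
noncomputable def ci104 : CI := ⟨[5], (nat_lit 85), true, (.node (nat_lit 8) (.node (nat_lit 4) (.node (nat_lit 2) (.node (nat_lit 1) (.leaf Rule.defn) (.leaf Rule.copy)) (.node (nat_lit 1) (.leaf (Rule.fwd [nat_lit 85] 34 0)) (.leaf (Rule.fwd [nat_lit 9, nat_lit 161, nat_lit 142, nat_lit 9, nat_lit 66] 32 2)))) (.node (nat_lit 2) (.node (nat_lit 1) (.leaf (Rule.fwd [nat_lit 218, nat_lit 142] 8 1)) (.leaf (Rule.fwd [nat_lit 161, nat_lit 104, nat_lit 161] 15 1))) (.node (nat_lit 1) (.leaf (Rule.fwd [nat_lit 28, nat_lit 66, nat_lit 28] 22 3)) (.leaf (Rule.fwd [nat_lit 104, nat_lit 104, nat_lit 104] 13 0))))) (.node (nat_lit 4) (.node (nat_lit 2) (.node (nat_lit 1) (.leaf (Rule.fwd [nat_lit 180, nat_lit 104, nat_lit 275, nat_lit 161] 17 3)) (.leaf (Rule.fwd [nat_lit 275, nat_lit 161, nat_lit 104, nat_lit 180] 17 1))) (.node (nat_lit 1) (.leaf (Rule.fwd [nat_lit 256, nat_lit 85, nat_lit 161, nat_lit 199] 18 3)) (.leaf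 (Rule.fwd [nat_lit 104, nat_lit 180, nat_lit 123, nat_lit 85, nat_lit 256] 10 0)))) (.leaf (Rule.fwd [nat_lit 237, nat_lit 85, nat_lit 218, nat_lit 180] 19 1)))), (.node (nat_lit 1) (.leaf XRule.defn) (.leaf XRule.ax))⟩
noncomputable def ci123 : CI := ⟨[6], (nat_lit 142), true, (.node (nat_lit 4) (.node (nat_lit 2) (.node (nat_lit 1) (.leaf Rule.defn) (.leaf Rule.copy)) (.node (nat_lit 1) (.leaf (Rule.fwd [nat_lit 142] 34 0)) (.leaf (Rule.fwd [nat_lit 47, nat_lit 28, nat_lit 66, nat_lit 9, nat_lit 47] 25 0)))) (.node (nat_lit 2) (.node (nat_lit 1) (.leaf (Rule.fwd [nat_lit 199, nat_lit 85] 9 1)) (.leaf (Rule.fwd [nat_lit 180, nat_lit 28, nat_lit 85, nat_lit 47, nat_lit 28] 33 0))) (.leaf (Rule.fwd [nat_lit 85, nat_lit 256, nat_lit 104, nat_lit 104, nat_lit 180] 10 3)))), (.node (nat_lit 1) (.leaf XRule.defn) (.leaf XRule.ax))⟩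
noncomputable def ci142 : CI := ⟨[7], (nat_lit 123), true, (.node (nat_lit 4) (.node (nat_lit 2) (.node (nat_lit 1) (.leaf Rule.defn) (.leaf Rule.copy)) (.node (nat_lit 1) (.leaf (Rule.fwd [nat_lit 123] 34 0)) (.leaf (Rule.fwd [nat_lit 66, nat_lit 28, nat_lit 47, nat_lit 9, nat_lit 66] 24 5)))) (.node (nat_lit 2) (.node (nat_lit 1) (.leaf (Rule.fwd [nat_lit 104, nat_lit 218] 8 0)) (.leaf (Rule.fwd [nat_lit 9, nat_lit 66, nat_lit 104, nat_lit 9, nat_lit 161] 32 5))) (.leaf (Rule.fwd [nat_lit 161, nat_lit 85, nat_lit 85, nat_lit 237, nat_lit 104] 11 4)))), (.node (nat_lit 1) (.leaf XRule.defn) (.leaf XRule.ax))⟩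
noncomputable def ci161 : CI := ⟨[8], (nat_lit 180), true, (.node (nat_lit 8) (.node (nat_lit 4) (.node (nat_lit 2) (.node (nat_lit 1) (.leaf Rule.defn) (.leaf Rule.copy)) (.node (nat_lit 1) (.leaf (Rule.fwd [nat_lit 180] 34 0)) (.leaf (Rule.fwd [nat_lit 85, nat_lit 180, nat_lit 275, nat_lit 85] 16 1)))) (.node (nat_lit 2) (.node (nat_lit 1) (.leaf (Rule.fwd [nat_lit 275, nat_lit 180, nat_lit 180, nat_lit 85] 20 1)) (.leaf (Rule.fwd [nat_lit 142, nat_lit 9, nat_lit 66, nat_lit 104, nat_lit 9] 32 4))) (.node (nat_lit 1) (.leaf (Rule.fwd [nat_lit 275, nat_lit 180, nat_lit 104, nat_lit 161] 21 4)) (.leaf (Rule.fwd [nat_lit 104, nat_lit 161, nat_lit 104] 15 0))))) (.node (nat_lit 2) (.node (nat_lit 1) (.leaf (Rule.fwd [nat_lit 85, nat_lit 85, nat_lit 237, nat_lit 104, nat_lit 142] 11 3)) (.leaf (Rule.fwd [nat_lit 199, nat_lit 104, nat_lit 256, nat_lit 85] 18 1))) (.leaf (Rule.fwd [nat_lit 28, nat_lit 47, nat_lit 28, nat_lit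 66, nat_lit 28, nat_lit 47] 27 0)))), (.node (nat_lit 1) (.leaf XRule.defn) (.leaf XRule.ax))⟩
noncomputable def ci180 : CI := ⟨[9], (nat_lit 161), true, (.node (nat_lit 4) (.node (nat_lit 2) (.node (nat_lit 1) (.leaf Rule.defn) (.leaf Rule.copy)) (.node (nat_lit 1) (.leaf (Rule.fwd [nat_lit 161] 34 0)) (.leaf (Rule.fwd [nat_lit 66, nat_lit 9, nat_lit 47, nat_lit 9, nat_lit 66, nat_lit 9] 26 6)))) (.node (nat_lit 2) (.node (nat_lit 1) (.leaf (Rule.fwd [nat_lit 85, nat_lit 180, nat_lit 85] 14 1)) (.leaf (Rule.fwd [nat_lit 104, nat_lit 275, nat_lit 161, nat_lit 104] 17 2))) (.node (nat_lit 1) (.leaf (Rule.fwd [nat_lit 275, nat_lit 85, nat_lit 161, nat_lit 85] 16 3)) (.leaf (Rule.fwd [nat_lit 104, nat_lit 237, nat_lit 85, nat_lit 218] 19 2))))), (.node (nat_lit 1) (.leaf XRule.defn) (.leaf XRule.ax))⟩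
noncomputable def ci199 : CI := ⟨[10], (nat_lit 218), true, (.node (nat_lit 8) (.node (nat_lit 4) (.node (nat_lit 2) (.node (nat_lit 1) (.leaf Rule.defn) (.leaf Rule.copy)) (.node (nat_lit 1) (.leaf (Rule.fwd [nat_lit 218] 34 0)) (.leaf (Rule.fwd [nat_lit 199, nat_lit 199] 2 0)))) (.node (nat_lit 2) (.node (nat_lit 1) (.leaf (Rule.fwd [nat_lit 66, nat_lit 9, nat_lit 47, nat_lit 275, nat_lit 47] 30 4)) (.leaf (Rule.fwd [nat_lit 275, nat_lit 199, nat_lit 275] 6 0))) (.node (nat_lit 1) (.leaf (Rule.fwd [nat_lit 275, nat_lit 256, nat_lit 199, nat_lit 256] 0 3)) (.leaf (Rule.fwd [nat_lit 256, nat_lit 199, nat_lit 275, nat_lit 256] 0 1))))) (.leaf (Rule.fwd [nat_lit 104, nat_lit 256, nat_lit 85, nat_lit 161] 18 2))), (.node (nat_lit 1) (.leaf XRule.defn) (.leaf XRule.ax))⟩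
noncomputable def ci218 : CI := ⟨[11], (nat_lit 199), true, (.node (nat_lit 4) (.node (nat_lit 2) (.node (nat_lit 1) (.leaf Rule.defn) (.leaf Rule.copy)) (.node (nat_lit 1) (.leaf (Rule.fwd [nat_lit 199] 34 0)) (.leaf (Rule.fwd [nat_lit 142, nat_lit 104] 8 2)))) (.node (nat_lit 2) (.node (nat_lit 1) (.leaf (Rule.fwd [nat_lit 218, nat_lit 218] 3 0)) (.leaf (Rule.fwd [nat_lit 275, nat_lit 218, nat_lit 275] 7 1))) (.node (nat_lit 1) (.leaf (Rule.fwd [nat_lit 180, nat_lit 104, nat_lit 237, nat_lit 85] 19 3)) (.leaf (Rule.fwd [nat_lit 66, nat_lit 275, nat_lit 66, nat_lit 28, nat_lit 47] 31 5))))), (.node (nat_lit 1) (.leaf XRule.defn) (.leaf XRule.ax))⟩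
noncomputable def ci237 : CI := ⟨[12], (nat_lit 256), true, (.node (nat_lit 4) (.node (nat_lit 2) (.node (nat_lit 1) (.leaf Rule.defn) (.leaf Rule.copy)) (.node (nat_lit 1) (.leaf (Rule.fwd [nat_lit 256] 34 0)) (.leaf (Rule.fwd [nat_lit 104, nat_lit 142, nat_lit 161, nat_lit 85, nat_lit 85] 11 0)))) (.node (nat_lit 1) (.leaf (Rule.fwd [nat_lit 218, nat_lit 237, nat_lit 275, nat_lit 218] 1 3)) (.leaf (Rule.fwd [nat_lit 85, nat_lit 218, nat_lit 180, nat_lit 104] 19 0)))), (.node (nat_lit 1) (.leaf XRule.defn) (.leaf XRule.ax))⟩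
noncomputable def ci256 : CI := ⟨[13], (nat_lit 237), true, (.node (nat_lit 4) (.node (nat_lit 2) (.node (nat_lit 1) (.leaf Rule.defn) (.leaf Rule.copy)) (.node (nat_lit 1) (.leaf (Rule.fwd [nat_lit 237] 34 0)) (.leaf (Rule.fwd [nat_lit 104, nat_lit 104, nat_lit 180, nat_lit 123, nat_lit 85] 10 5)))) (.node (nat_lit 2) (.node (nat_lit 1) (.leaf (Rule.fwd [nat_lit 85, nat_lit 161, nat_lit 199, nat_lit 104] 18 4)) (.leaf (Rule.fwd [nat_lit 199, nat_lit 256, nat_lit 199, nat_lit 275] 0 0))) (.node (nat_lit 1) (.leaf (Rule.fwd [nat_lit 256, nat_lit 256, nat_lit 256] 5 0)) (.leaf (Rule.fwd [nat_lit 199, nat_lit 275, nat_lit 256, nat_lit 199] 0 2))))), (.node (nat_lit 1) (.leaf XRule.defn) (.leaf XRule.ax))⟩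
noncomputable def ci275 : CI := ⟨[14], (nat_lit 275), true, (.node (nat_lit 8) (.node (nat_lit 4) (.node (nat_lit 2) (.node (nat_lit 1) (.leaf Rule.defn) (.leaf Rule.copy)) (.node (nat_lit 1) (.leaf (Rule.fwd [nat_lit 275] 34 0)) (.leaf (Rule.fwd [nat_lit 161, nat_lit 104, nat_lit 180, nat_lit 104] 17 0)))) (.node (nat_lit 2) (.node (nat_lit 1) (.leaf (Rule.fwd [nat_lit 218, nat_lit 275, nat_lit 218] 7 0)) (.leaf (Rule.fwd [nat_lit 85, nat_lit 161, nat_lit 85, nat_lit 180] 16 4))) (.node (nat_lit 1) (.leaf (Rule.fwd [nat_lit 180, nat_lit 180, nat_lit 85, nat_lit 161] 20 2)) (.leaf (Rule.fwd [nat_lit 66, nat_lit 28, nat_lit 47, nat_lit 218, nat_lit 66] 31 3))))) (.node (nat_lit 2) (.node (nat_lit 1) (.leaf (Rule.fwd [nat_lit 199, nat_lit 275, nat_lit 199] 6 1)) (.leaf (Rule.fwd [nat_lit 256, nat_lit 199, nat_lit 256, nat_lit 199] 0 4))) (.leaf (Rule.fwd [nat_lit 47, nat_lit 199, nat_lit 66, nat_lit 9, nat_lit 47] 30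 2)))), (.node (nat_lit 1) (.leaf XRule.defn) (.leaf XRule.ax))⟩
noncomputable def outer : Tr CI := (.node (nat_lit 1) (.node (nat_lit 8) (.node (nat_lit 2) (.node (nat_lit 4) (.node (nat_lit 256) (.leaf ci0) (.leaf ci256)) (.leaf ci180)) (.leaf ci66)) (.node (nat_lit 2) (.node (nat_lit 4) (.leaf ci104) (.leaf ci28)) (.node (nat_lit 4) (.leaf ci218) (.leaf ci142)))) (.node (nat_lit 2) (.node (nat_lit 4) (.node (nat_lit 8) (.leaf ci161) (.leaf ci9)) (.node (nat_lit 8) (.leaf ci85) (.leaf ci237))) (.node (nat_lit 4) (.node (nat_lit 8) (.leaf ci275) (.leaf ci123)) (.node (nat_lit 8) (.leaf ci199) (.leaf ci47)))))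
def cols : List ℕ := [nat_lit 9, nat_lit 28, nat_lit 47, nat_lit 66, nat_lit 85, nat_lit 104, nat_lit 123, nat_lit 142, nat_lit 161, nat_lit 180, nat_lit 199, nat_lit 218, nat_lit 237, nat_lit 256, nat_lit 275]
def invL : List ℕ := [1, 0, 3, 2, 5, 4, 7, 6, 9, 8, 11, 10, 13, 12, 14]
def rels : List (List ℕ) := [[13, 10, 13, 10, 14], [10, 10, 10], [12, 12, 12, 12], [10, 14, 10, 14], [7, 5, 11], [5, 5, 9, 6, 4, 13], [4, 4, 4, 4], [4, 9, 4, 9], [4, 8, 4, 9, 14], [4, 8, 10, 5, 13], [4, 8, 14, 9, 9], [1, 3, 1, 5], [3, 1, 2, 0, 3, 7], [3, 0, 2, 0, 3, 0, 9], [0, 0, 0], [0, 2, 14, 2, 10, 3], [0, 3, 5, 0, 8, 7]]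
def subs : List (List ℕ) := [[4], [5], [6], [7], [8], [9], [10], [11], [12], [13], [14]]
noncomputable def row (n : ℕ) : ℕ := rowOf (fun h => rows.get h) (nat_lit 5) (nat_lit 31) (nat_lit 294) (nat_lit 0x3fffffffffffffffffffffffffffffffffffffffffffffffffffffffffffffffffffffffff) n
noncomputable def xleaf (h : ℕ) : ℕ := recs.get h
noncomputable def mF : ℕ → ℕ := mainRow row (rowChk row xleaf outer (nat_lit 8) (nat_lit 255) (nat_lit 15) (nat_lit 12) (nat_lit 4095) (nat_lit 524287) (nat_lit 128) (nat_lit 30) (nat_lit 256) (nat_lit 9) (nat_lit 511) (nat_lit 17) (nat_lit 131071) (nat_lit 8) (nat_lit 255) cols)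
noncomputable def xF : ℕ → ℕ → ℕ := xLeaf row xleaf outer (nat_lit 255) (nat_lit 12) (nat_lit 524287) (nat_lit 128) (nat_lit 30) (nat_lit 9) (nat_lit 511) (nat_lit 17) (nat_lit 131071) (nat_lit 130560) (nat_lit 8) (nat_lit 255) (nat_lit 10) (nat_lit 1023) (nat_lit 2) (nat_lit 3) (nat_lit 275) (nat_lit 15360) (nat_lit 128)
noncomputable def cert : Cert := ⟨row, xleaf, outer, cols, nat_lit 8, nat_lit 255, nat_lit 15, nat_lit 12, nat_lit 4095, nat_lit 524287, nat_lit 128, nat_lit 30, nat_lit 256, nat_lit 9, nat_lit 511, nat_lit 17, nat_lit 131071, nat_lit 130560, nat_lit 8, nat_lit 255, nat_lit 10, nat_lit 1023, nat_lit 2, nat_lit 3, nat_lit 275, nat_lit 15360, nat_lit 128, nat_lit 19, nat_lit 128, nat_lit 1⟩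
theorem tabok : tabOK (fun i => invL.getD i i) rels subs outer cols (nat_lit 9) (nat_lit 275) = true := by decide +kernel
theorem m0 : rng mF (nat_lit 1) (nat_lit 30) = 0 := by decide +kernel
noncomputable def s0 : List ℕ := [nat_lit 0x401004010040100000000000000000000000000000000000000000000000000000000000000000000000000000000000000000000000000000000000000000000000000000000000000000000000000000000000000000000000000000000000000000000000000000000000000000000000000000000000000000000000000000000000000000000000000000000000000000000000000000000000000000]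
theorem x0 : xs xF s0 (nat_lit 1) = 0 := by decide +kernel
theorem mz0 : AllZ mF 1 (nat_lit 31) := (AllZ.step (AllZ.nil mF 1) (nat_lit 30) (nat_lit 31) rfl m0)
theorem xz0 : XZ xF (nat_lit 1) := (XZ.step (XZ.nil xF) s0 (nat_lit 1) (nat_lit 1) (by decide +kernel) x0)
/-- the certificate (30 points) is valid -/
theorem valid : cert.Valid (fun i => invL.getD i i) rels subs 15 :=
  ⟨by decide +kernel, tabok, by decide +kernel, mz0, xz0⟩
theorem cert_N : cert.N = 30 := rfl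

end CL.TC.GMcLL3
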