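import Cfsg.Agent.Spor.TCSound

/-! coset enumeration certificate generated by tools/tc -/

set_option maxRecDepth 100000
set_option autoImplicit false
set_option linter.all false

namespace CL.TC.GMcLL4

noncomputable def rows0 : Tr ℕ := (.leaf (nat_lit 0x7f108cee2d8d85f128de131bcca2798c53098de251bc94378cc6f1b8383ff106d861fb4c6b730d6e317dc617a4c63420c6a718dc63167c983f8183ea318fe20db105b8186f030ece827bcc579386f03178dfe20badc674989ee318dec31f0c3fa2086731ad4a35be46b498d6374306c4637fc4179187e9813e7019bd86b698a6f306e3033d9842835c09ff105cc637acc675a836d915cc625a4c3f6a08ed315ce62767c0c2b82887f104e0623ca03769846c316e083394c2f6a8a6e816a0d4609b20274b08e750bce6219e46ff8826c50ddca2f9cc4f618aaa6a316d4e31a0c1f418bea60ffe20994c6f3185e6319d0e2da24519f2d097640ec8a1d9944b298967916ca8119542b92067f104e861437e5027418a7f103ee61bc5457bb02fb306d862dd1043bb85fd606a0ea619bd82b798ae8614eac17ccc63f881f3311e861fd4c5fb386aa71319dae35d4c234989f3717f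e207f5063aa886a416faa0dd4c2d9fca8763312ea625b8c3b7a0771919f460fbcc27f881f730cf4e125dfc40b9a05f130ce262be1847b983f1619ec60dacc53a98871319c6ec821c9837f88176303e6809d5c2f918bf1312e2a0be9017c2075076403fe205c8c37a18866314df235d0c33328ae7513ed01fd8c46cf8b0af4304dc621fc40bda84e530acd015e4c17218975712f86111be0c478b81eb314f4615f100bf8817a502f460fc143bc9877c50567fc637d903f418367308d121190c4b738ae7504fe205f582b9982176f31ad2e27c5467b283f5307f681de1837aa01fb409fe205f500c6faa8be9808fc635a8c5bf18cfc511fe203c105fba06fc311f861ea9f8c63f18bfe316de60bc1017f880f6311e0619e902bd984f930c67d7229f8c57aa057230cf8607f8c53f189ff101cc611d2023f18920f530bfc623c0c27ea027770cfc621f8c3ff18774307f860ffc40423f186fe30cfc617ecc27f18579309fc613f8c23ea00ff101fc60e37f4807e980fe201fc603fc807f1837e305f8605f8c13f181fe30200))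
noncomputable def recs0 : Tr ℕ := (.leaf (nat_lit 0x1c601c601b301a0018d017a))
noncomputable def rows : Tr ℕ := rows0
noncomputable def recs : Tr ℕ := recs0
noncomputable def ci0 : CI := ⟨[], (nat_lit 0), false, (.node (nat_lit 1) (.leaf Rule.defn) (.leaf Rule.copy)), (.leaf (XRule.rot (nat_lit 0) [] 22 0))⟩
noncomputable def ci8 : CI := ⟨[0], (nat_lit 27), false, (.node (nat_lit 8) (.node (nat_lit 4) (.node (nat_lit 2) (.node (nat_lit 1) (.leaf Rule.defn) (.leaf Rule.copy)) (.node (nat_lit 1) (.leaf (Rule.fwd [nat_lit 27] 22 0)) (.leaf (Rule.fwd [nat_lit 8, nat_lit 8, nat_lit 8] 12 0)))) (.node (nat_lit 2) (.node (nat_lit 1) (.leaf (Rule.fwd [nat_lit 103, nat_lit 198, nat_lit 8, nat_lit 84] 16 2)) (.leaf (Rule.fwd [nat_lit 84, nat_lit 122, nat_lit 27, nat_lit 179] 18 0))) (.node (nat_lit 1) (.leaf (Rule.fwd [nat_lit 103, nat_lit 8, nat_lit 103] 14 0)) (.leaf (Rule.fwd [nat_lit 179, nat_lit 27, nat_lit 27, nat_lit 103, nat_lit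 46] 10 4))))) (.leaf (Rule.fwd [nat_lit 46, nat_lit 122] 9 2))), (.node (nat_lit 1) (.leaf XRule.defn) (.leaf XRule.defn))⟩
noncomputable def ci27 : CI := ⟨[1], (nat_lit 8), false, (.node (nat_lit 8) (.node (nat_lit 4) (.node (nat_lit 2) (.node (nat_lit 1) (.leaf Rule.defn) (.leaf Rule.copy)) (.node (nat_lit 1) (.leaf (Rule.fwd [nat_lit 8] 22 0)) (.leaf (Rule.fwd [nat_lit 27, nat_lit 103, nat_lit 46, nat_lit 8, nat_lit 179] 10 0)))) (.node (nat_lit 2) (.node (nat_lit 1) (.leaf (Rule.fwd [nat_lit 84, nat_lit 27, nat_lit 84] 15 1)) (.leaf (Rule.fwd [nat_lit 141, nat_lit 65] 8 1))) (.node (nat_lit 1) (.leaf (Rule.fwd [nat_lit 179, nat_lit 8, nat_lit 84, nat_lit 122] 18 3)) (.leaf (Rule.fwd [nat_lit 27, nat_lit 27, nat_lit 27] 13 0))))) (.node (nat_lit 1) (.leaf (Rule.fwd [nat_lit 198, nat_lit 84, nat_lit 27, nat_lit 103] 17 1)) (.leaf (Rule.fwd [nat_lit 103, nat_lit 27, nat_lit 198, nat_lit 84] 17 3)))), (.node (nat_lit 1)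 (.leaf XRule.defn) (.leaf XRule.defn))⟩
noncomputable def ci46 : CI := ⟨[2], (nat_lit 65), false, (.node (nat_lit 4) (.node (nat_lit 2) (.node (nat_lit 1) (.leaf Rule.defn) (.leaf Rule.copy)) (.node (nat_lit 1) (.leaf (Rule.fwd [nat_lit 65] 22 0)) (.leaf (Rule.fwd [nat_lit 122, nat_lit 8] 9 1)))) (.leaf (Rule.fwd [nat_lit 8, nat_lit 179, nat_lit 27, nat_lit 27, nat_lit 103] 10 3))), (.node (nat_lit 1) (.leaf XRule.defn) (.leaf XRule.defn))⟩
noncomputable def ci65 : CI := ⟨[3], (nat_lit 46), false, (.node (nat_lit 4) (.node (nat_lit 2) (.node (nat_lit 1) (.leaf Rule.defn) (.leaf Rule.copy)) (.node (nat_lit 1) (.leaf (Rule.fwd [nat_lit 46] 22 0)) (.leaf (Rule.fwd [nat_lit 27, nat_lit 141] 8 0)))) (.leaf (Rule.fwd [nat_lit 84, nat_lit 8, nat_lit 8, nat_lit 160, nat_lit 27] 11 4))), (.node (nat_lit 1) (.leaf XRule.defn) (.leaf XRule.defn))⟩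
noncomputable def ci84 : CI := ⟨[4], (nat_lit 103), false, (.node (nat_lit 4) (.node (nat_lit 2) (.node (nat_lit 1) (.leaf Rule.defn) (.leaf Rule.copy)) (.node (nat_lit 1) (.leaf (Rule.fwd [nat_lit 103] 22 0)) (.leaf (Rule.fwd [nat_lit 198, nat_lit 103, nat_lit 27, nat_lit 84] 21 4)))) (.node (nat_lit 2) (.node (nat_lit 1) (.leaf (Rule.fwd [nat_lit 27, nat_lit 84, nat_lit 27] 15 0)) (.leaf (Rule.fwd [nat_lit 198, nat_lit 103, nat_lit 103, nat_lit 8] 20 1))) (.node (nat_lit 1) (.leaf (Rule.fwd [nat_lit 122, nat_lit 27, nat_lit 179, nat_lit 8] 18 1)) (.leaf (Rule.fwd [nat_lit 27, nat_lit 103, nat_lit 27, nat_lit 198] 17 4))))), (.node (nat_lit 1) (.leaf XRule.defn) (.leaf XRule.defn))⟩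
noncomputable def ci103 : CI := ⟨[5], (nat_lit 84), false, (.node (nat_lit 8) (.node (nat_lit 4) (.node (nat_lit 2) (.node (nat_lit 1) (.leaf Rule.defn) (.leaf Rule.copy)) (.node (nat_lit 1) (.leaf (Rule.fwd [nat_lit 84] 22 0)) (.leaf (Rule.fwd [nat_lit 46, nat_lit 8, nat_lit 179, nat_lit 27, nat_lit 27] 10 2)))) (.node (nat_lit 2) (.node (nat_lit 1) (.leaf (Rule.fwd [nat_lit 8, nat_lit 84, nat_lit 198, nat_lit 103] 20 4)) (.leaf (Rule.fwd [nat_lit 103, nat_lit 8, nat_lit 84, nat_lit 198] 20 3))) (.node (nat_lit 1) (.leaf (Rule.fwd [nat_lit 8, nat_lit 103, nat_lit 8] 14 1)) (.leaf (Rule.fwd [nat_lit 27, nat_lit 198, nat_lit 84, nat_lit 27] 17 2))))) (.leaf (Rule.fwd [nat_lit 198, nat_lit 8, nat_lit 84, nat_lit 8] 16 3))), (.node (nat_lit 1) (.leaf XRule.defn) (.leaf XRule.defn))⟩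
noncomputable def ci122 : CI := ⟨[6], (nat_lit 141), true, (.node (nat_lit 8) (.node (nat_lit 4) (.node (nat_lit 2) (.node (nat_lit 1) (.leaf Rule.defn) (.leaf Rule.copy)) (.node (nat_lit 1) (.leaf (Rule.fwd [nat_lit 141] 22 0)) (.leaf (Rule.fwd [nat_lit 27, nat_lit 179, nat_lit 8, nat_lit 84] 18 2)))) (.node (nat_lit 2) (.node (nat_lit 1) (.leaf (Rule.fwd [nat_lit 122, nat_lit 122] 2 0)) (.leaf (Rule.fwd [nat_lit 198, nat_lit 122, nat_lit 198] 6 0))) (.node (nat_lit 1) (.leaf (Rule.fwd [nat_lit 8, nat_lit 46] 9 0)) (.leaf (Rule.fwd [nat_lit 198, nat_lit 179, nat_lit 122, nat_lit 179] 0 3))))) (.leaf (Rule.fwd [nat_lit 179, nat_lit 122, nat_lit 198, nat_lit 179] 0 1))), (.node (nat_lit 1) (.leaf XRule.defn) (.leaf XRule.ax))⟩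
noncomputable def ci141 : CI := ⟨[7], (nat_lit 122), true, (.node (nat_lit 4) (.node (nat_lit 2) (.node (nat_lit 1) (.leaf Rule.defn) (.leaf Rule.copy)) (.node (nat_lit 1) (.leaf (Rule.fwd [nat_lit 122] 22 0)) (.leaf (Rule.fwd [nat_lit 65, nat_lit 27] 8 2)))) (.node (nat_lit 1) (.leaf (Rule.fwd [nat_lit 103, nat_lit 27, nat_lit 160, nat_lit 8] 19 3)) (.leaf (Rule.fwd [nat_lit 160, nat_lit 141, nat_lit 160, nat_lit 198] 1 4)))), (.node (nat_lit 1) (.leaf XRule.defn) (.leaf XRule.ax))⟩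
noncomputable def ci160 : CI := ⟨[8], (nat_lit 179), true, (.node (nat_lit 4) (.node (nat_lit 2) (.node (nat_lit 1) (.leaf Rule.defn) (.leaf Rule.copy)) (.node (nat_lit 1) (.leaf (Rule.fwd [nat_lit 179] 22 0)) (.leaf (Rule.fwd [nat_lit 141, nat_lit 160, nat_lit 198, nat_lit 141] 1 3)))) (.node (nat_lit 1) (.leaf (Rule.fwd [nat_lit 27, nat_lit 65, nat_lit 84, nat_lit 8, nat_lit 8] 11 0)) (.leaf (Rule.fwd [nat_lit 8, nat_lit 141, nat_lit 103, nat_lit 27] 19 0)))), (.node (nat_lit 1) (.leaf XRule.defn) (.leaf XRule.ax))⟩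
noncomputable def ci179 : CI := ⟨[9], (nat_lit 160), true, (.node (nat_lit 4) (.node (nat_lit 2) (.node (nat_lit 1) (.leaf Rule.defn) (.leaf Rule.copy)) (.node (nat_lit 1) (.leaf (Rule.fwd [nat_lit 160] 22 0)) (.leaf (Rule.fwd [nat_lit 27, nat_lit 27, nat_lit 103, nat_lit 46, nat_lit 8] 10 5)))) (.node (nat_lit 2) (.node (nat_lit 1) (.leaf (Rule.fwd [nat_lit 122, nat_lit 198, nat_lit 179, nat_lit 122] 0 2)) (.leaf (Rule.fwd [nat_lit 179, nat_lit 179, nat_lit 179] 5 0))) (.node (nat_lit 1) (.leaf (Rule.fwd [nat_lit 122, nat_lit 179, nat_lit 122, nat_lit 198] 0 0)) (.leaf (Rule.fwd [nat_lit 8, nat_lit 84, nat_lit 122, nat_lit 27] 18 4))))), (.node (nat_lit 1) (.leaf XRule.defn) (.leaf XRule.ax))⟩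
noncomputable def ci198 : CI := ⟨[10], (nat_lit 198), true, (.node (nat_lit 8) (.node (nat_lit 4) (.node (nat_lit 2) (.node (nat_lit 1) (.leaf Rule.defn) (.leaf Rule.copy)) (.node (nat_lit 1) (.leaf (Rule.fwd [nat_lit 198] 22 0)) (.leaf (Rule.fwd [nat_lit 84, nat_lit 27, nat_lit 103, nat_lit 27] 17 0)))) (.node (nat_lit 2) (.node (nat_lit 1) (.leaf (Rule.fwd [nat_lit 8, nat_lit 84, nat_lit 8, nat_lit 103] 16 4)) (.leaf (Rule.fwd [nat_lit 122, nat_lit 198, nat_lit 122] 6 1))) (.node (nat_lit 1) (.leaf (Rule.fwd [nat_lit 141, nat_lit 160, nat_lit 141, nat_lit 160] 1 0)) (.leaf (Rule.fwd [nat_lit 103, nat_lit 27, nat_lit 84, nat_lit 84] 21 3))))) (.node (nat_lit 1) (.leaf (Rule.fwd [nat_lit 179, nat_lit 122, nat_lit 179, nat_lit 122] 0 4)) (.leaf (Rule.fwd [nat_lit 103, nat_lit 103, nat_lit 8, nat_lit 84] 20 2)))), (.node (nat_lit 1) (.leaf XRule.defn) (.leaf XRule.ax))⟩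
noncomputable def outer : Tr CI := (.node (nat_lit 2) (.node (nat_lit 1) (.node (nat_lit 4) (.node (nat_lit 8) (.node (nat_lit 32) (.leaf ci0) (.leaf ci160)) (.leaf ci8)) (.leaf ci84)) (.node (nat_lit 4) (.leaf ci65) (.leaf ci141))) (.node (nat_lit 1) (.node (nat_lit 4) (.leaf ci122) (.node (nat_lit 8) (.leaf ci198) (.leaf ci46))) (.node (nat_lit 4) (.node (nat_lit 8) (.leaf ci179) (.leaf ci27)) (.leaf ci103))))
def cols : List ℕ := [nat_lit 8, nat_lit 27, nat_lit 46, nat_lit 65, nat_lit 84, nat_lit 103, nat_lit 122, nat_lit 141, nat_lit 160, nat_lit 179, nat_lit 198]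
def invL : List ℕ := [1, 0, 3, 2, 5, 4, 7, 6, 9, 8, 10]
def rels : List (List ℕ) := [[9, 6, 9, 6, 10], [6, 6, 6], [8, 8, 8, 8], [6, 10, 6, 10], [3, 1, 7], [1, 1, 5, 2, 0, 9], [0, 0, 0, 0], [0, 5, 0, 5], [0, 4, 0, 5, 10], [0, 4, 6, 1, 9], [0, 4, 10, 5, 5]]
def subs : List (List ℕ) := [[6], [7], [8], [9], [10]]
noncomputable def row (n : ℕ) : ℕ := rowOf (fun h => rows.get h) (nat_lit 5) (nat_lit 31) (nat_lit 217) (nat_lit 0x1ffffffffffffffffffffffffffffffffffffffffffffffffffffff) n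
noncomputable def xleaf (h : ℕ) : ℕ := recs.get h
noncomputable def mF : ℕ → ℕ := mainRow row (rowChk row xleaf outer (nat_lit 8) (nat_lit 255) (nat_lit 15) (nat_lit 12) (nat_lit 4095) (nat_lit 524287) (nat_lit 128) (nat_lit 27) (nat_lit 256) (nat_lit 8) (nat_lit 255) (nat_lit 16) (nat_lit 65535) (nat_lit 8) (nat_lit 255) cols)
noncomputable def xF : ℕ → ℕ → ℕ := xLeaf row xleaf outer (nat_lit 255) (nat_lit 12) (nat_lit 524287) (nat_lit 128) (nat_lit 27) (nat_lit 8) (nat_lit 255) (nat_lit 16) (nat_lit 65535) (nat_lit 65280) (nat_lit 8) (nat_lit 255) (nat_lit 10) (nat_lit 1023) (nat_lit 2) (nat_lit 3) (nat_lit 198) (nat_lit 6912) (nat_lit 128)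
noncomputable def cert : Cert := ⟨row, xleaf, outer, cols, nat_lit 8, nat_lit 255, nat_lit 15, nat_lit 12, nat_lit 4095, nat_lit 524287, nat_lit 128, nat_lit 27, nat_lit 256, nat_lit 8, nat_lit 255, nat_lit 16, nat_lit 65535, nat_lit 65280, nat_lit 8, nat_lit 255, nat_lit 10, nat_lit 1023, nat_lit 2, nat_lit 3, nat_lit 198, nat_lit 6912, nat_lit 128, nat_lit 19, nat_lit 128, nat_lit 1⟩
theorem tabok : tabOK (fun i => invL.getD i i) rels subs outer cols (nat_lit 8) (nat_lit 198) = true := by decide +kernel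
theorem m0 : rng mF (nat_lit 1) (nat_lit 27) = 0 := by decide +kernel
noncomputable def s0 : List ℕ := [nat_lit 0x401004000000000000000000000000000000000000000000000000000000000000000000000000000000000000000000000000000000000000000000000000000000000000000000000000000000000000000000000000000000000000000000000000000000000000000000000000000000000000000000000000000000000000000000000000000000000000000000000000000000000000000000000000]
theorem x0 : xs xF s0 (nat_lit 1) = 0 := by decide +kernel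
theorem mz0 : AllZ mF 1 (nat_lit 28) := (AllZ.step (AllZ.nil mF 1) (nat_lit 27) (nat_lit 28) rfl m0)
theorem xz0 : XZ xF (nat_lit 1) := (XZ.step (XZ.nil xF) s0 (nat_lit 1) (nat_lit 1) (by decide +kernel) x0)
/-- the certificate (27 points) is valid -/
theorem valid : cert.Valid (fun i => invL.getD i i) rels subs 11 :=
  ⟨by decide +kernel, tabok, by decide +kernel, mz0, xz0⟩
theorem cert_N : cert.N = 27 := rfl

end CL.TC.GMcLL4
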