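/-
A presentation of McL (generated by tools/pc/gm.py).
-/
import Cfsg.Agent.Known.GMcL
import Cfsg.Agent.Known.GMcLL1
import Cfsg.Agent.Known.GMcLL2
import Cfsg.Agent.Known.GMcLL3
import Cfsg.Agent.Known.GMcLL4
import Cfsg.Agent.Known.GMcLL5
import Cfsg.Agent.Known.GMcLL6

set_option autoImplicit false
set_option maxRecDepth 100000
set_option linter.all false

namespace CL.Pc.GMcL
open Cfsg CL.Spor

noncomputable def rs0 : List (ℕ × ℕ) := [(0x5d7, 0), (0x174d64d6, 0), (0x134d3, 0), (0x555555, 0), (0x5d35d3, 0), (0x14390, 0), (0x58d3d238e, 0), (0x34d34d, 0), (0x48d48d, 0), (0x1748d44d, 0), (0x1639344d, 0), (0x1249744d, 0), (0x38a30a, 0), (0x40c24b28c, 0), (0x1224c24b24c, 0), (0x9249, 0), (0x3132d72c9, 0), (0x41124e309, 0), (0x287186205, 0), (0xc148148205, 0), (0x4161d0587, 0), (0x112882d6145, 0), (0xe3c82d1287, 0), (0x3d45c638a1c5, 0), (0x5c715424c1c5, 0), (0x3c55c930c1c5, 0), (0x38915258d1c5,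 0), (0x2142545c6545, 0), (0xf39434d, 0), (0xc3d32973c9, 0), (0xb2cb2cb, 0), (0xc40c389, 0), (0x20e554445245, 0), (0x59628f3c9, 0), (0x1cc147305, 0), (0x184044104, 0), (0x8082104083, 0), (0x154d5056582, 0), (0x5d048b2060922c3, 0), (0x1751644b2c91c24c1, 0), (0x133912c92ca052482, 0), (0x5d45913c814448c1c1, 0), (0xd44c28820514710e483, 0), (0x1649028b148182101141, 0), (0x55354d449205148182541, 0), (0x55240c24c148144209181, 0), (0x58e3d22c51c62043c91c1, 0), (0x5cd3493091c718410b1c1, 0), (0x59024c2851c62021cb201, 0), (0x5d54d649018414b281, 0), (0x13555352208143285281, 0), (0x5d555134c3082061c220d281, 0), (0x1734d30820514708c38f2c1, 0), (0x165122ca2c51c70885112c1, 0), (0x4d63524061862082043562c1, 0), (0x5d42ca14808a506301, 0), (0x5ce28b208202211301, 0), (0x55354d490086213301, 0), (0x59045130618808424f301, 0), (0x5522861862081843d6301, 0), (0x55338f48c24c088557301, 0), (0x1758d3d1309148143210301, 0),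 (0x134503092081450850d2301, 0), (0x145913d23092051451441470c1, 0), (0x55358e3cc30820608944a341, 0), (0x1355534f2cb2851c70885171c1, 0), (0x81, 0), (0x103, 0), (0x185, 0), (0x207, 0), (0x289, 0), (0x30b, 0), (0x38d, 0), (0x40f, 0), (0x491, 0), (0x513, 0), (0x595, 0)]
noncomputable def rs : List (ℕ × ℕ) := (rs0 ++ [])
noncomputable def p1 : PLev := ⟨16777214, [1, 2, 3, 4, 5, 6, 7, 8, 9, 10, 11, 12, 13, 14, 15, 16, 17, 18, 19, 20, 21, 22, 23], TC.GMcLL1.invL, TC.GMcLL1.rels, TC.GMcLL1.subs, [5, 6, 7, 8, 9, 10, 11, 12, 13, 14, 15, 16, 17, 18, 19, 20, 21, 22, 23], 275⟩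
noncomputable def p2 : PLev := ⟨16777184, [5, 6, 7, 8, 9, 10, 11, 12, 13, 14, 15, 16, 17, 18, 19, 20, 21, 22, 23], TC.GMcLL2.invL, TC.GMcLL2.rels, TC.GMcLL2.subs, [9, 10, 11, 12, 13, 14, 15, 16, 17, 18, 19, 20, 21, 22, 23], 112⟩
noncomputable def p3 : PLev := ⟨16776704, [9, 10, 11, 12, 13, 14, 15, 16, 17, 18, 19, 20, 21, 22, 23], TC.GMcLL3.invL, TC.GMcLL3.rels, TC.GMcLL3.subs, [13, 14, 15, 16, 17, 18, 19, 20, 21, 22, 23], 30⟩
noncomputable def p4 : PLev := ⟨16769024, [13, 14, 15, 16, 17, 18, 19, 20, 21, 22, 23], TC.GMcLL4.invL, TC.GMcLL4.rels, TC.GMcLL4.subs, [19, 20, 21, 22, 23], 27⟩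
noncomputable def p5 : PLev := ⟨16252928, [19, 20, 21, 22, 23], TC.GMcLL5.invL, TC.GMcLL5.rels, TC.GMcLL5.subs, [23], 18⟩
noncomputable def p6 : PLev := ⟨8388608, [23], TC.GMcLL6.invL, TC.GMcLL6.rels, TC.GMcLL6.subs, [], 2⟩
theorem rs0_ok : allL (fun p : ℕ × ℕ => eqB A 23 18 [133, 344, 151, 274, 407, 533, 459] p.1 p.2) rs0 = true := by decide +kernel
theorem rs_ok : ∀ p ∈ rs, (fun p : ℕ × ℕ => eqB A 23 18 [133, 344, 151, 274, 407, 533, 459] p.1 p.2) p = true :=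
  allL_app rs0_ok (allL_end)
theorem p1_ok : p1.Valid := ⟨_, TC.GMcLL1.valid, TC.GMcLL1.cert_N.le⟩
theorem p2_ok : p2.Valid := ⟨_, TC.GMcLL2.valid, TC.GMcLL2.cert_N.le⟩
theorem p3_ok : p3.Valid := ⟨_, TC.GMcLL3.valid, TC.GMcLL3.cert_N.le⟩
theorem p4_ok : p4.Valid := ⟨_, TC.GMcLL4.valid, TC.GMcLL4.cert_N.le⟩
theorem p5_ok : p5.Valid := ⟨_, TC.GMcLL5.valid, TC.GMcLL5.cert_N.le⟩
theorem p6_ok : p6.Valid := ⟨_, TC.GMcLL6.valid, TC.GMcLL6.cert_N.le⟩
universe u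
theorem pres : PresBound.{u} rs 23 898128000 :=
  presBound_of (f := 2) (defs := []) (vs := [p1, p2, p3, p4, p5, p6]) (valid_cons p1_ok (valid_cons p2_ok (valid_cons p3_ok (valid_cons p4_ok (valid_cons p5_ok (valid_cons p6_ok (valid_nil))))))) (by decide +kernel)

end CL.Pc.GMcL
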