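/-
The outer automorphism group of ONH (generated by tools/pc/gm.py).
-/
import Cfsg.Agent.Known.GONH

set_option autoImplicit false
set_option maxRecDepth 100000
set_option linter.all false
set_option Elab.async false

namespace CL.Pc.GONH
open Cfsg CL.Spor

namespace O
noncomputable def sigT : ℕ := 0xd6717b568941e72898a418820
noncomputable def ivBT : ℕ := 0x9ca117b5cb62800018a418820
noncomputable def b1pT : ℕ := 0x32915ba47a94f58d6974ab58ee89e8a395c7a6c4d74e4f2b737253a6ae2d2e952ae5d12d1b8c9733989b28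
noncomputable def b2pT : ℕ := 0xacacbbcbcaababacbacbabcbaacababacbbcbcbacbacbcba0
noncomputable def b2xT : ℕ := 0x73ce7519c04d900455f0222562c134019caa84820038eb860200bd0bad91402968c6ecc005de60a166025
noncomputable def b2yT : ℕ := 0x429d325c3a76a3d9d8edccaa98e951caff75b891b4be8187349d5636cde1bef45c0f7150e371e67ab5efe8
noncomputable def b3pT : ℕ := 0xedddeeeeedfdfdedddfeffeefdddffdedeedfdedfefdfed0
noncomputable def b3xT : ℕ := 0xa29e300d92900ab11ac66c77d85401405c026d84012021d59a49094e00ba0c0139aa04365e01c52ebcf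
noncomputable def b3yT : ℕ := 0x427adacac0fd4b4f1d3675a9c6604a561e6857943315b14e12c8e42e7d9a2a8db237262
noncomputable def b4pT : ℕ := 0x465094600
noncomputable def b4xT : ℕ := 0x43086940
noncomputable def b4yT : ℕ := 0x1b35447986c4d
noncomputable def b5pT : ℕ := 0x260
noncomputable def b5xT : ℕ := 1
noncomputable def b5yT : ℕ := 0x6a9
noncomputable def WVT : ℕ := 0x600000000000000000000028000000000000000000001000000000000000000000060000000000000000000002000000000000000000000080000000000000000000040000000000000000000081a000000000000000000040e000000000000000000020780000000000040d3cc28b2c000000000001a796516594000000000000000d28b28c000000000020716516594580e2ca30a2c72072472491c000000000081c614594593038c28b28c1c91c820720702051851650e48e410390400000000000040d38b1c510000001a79850e40e484288000001034a2ca1c90810c400000000000000000000098000000000000000000004800000000000000000000220000000000000000000000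
noncomputable def sig (i : ℕ) : ℕ := tget 5 0x1f sigT i
noncomputable def ivB (i : ℕ) : ℕ := tget 5 0x1f ivBT i
noncomputable def b1p (i : ℕ) : ℕ := tget 3 7 b1pT i
noncomputable def b1 : Lev := ⟨0, 0, 114, fun i => i, fun i => i, b1p, fun _ => 0⟩
noncomputable def b2p (i : ℕ) : ℕ := tget 4 0xf b2pT i
noncomputable def b2x (i : ℕ) : ℕ := tget 6 0x3f b2xT i
noncomputable def b2y (i : ℕ) : ℕ := tget 7 0x7f b2yT i
noncomputable def b2 : Lev := ⟨104, 9, 49, b2y, fun i => forceN (Nat.mod i 57) b2x, b2p, fun _ => 0⟩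
noncomputable def b3p (i : ℕ) : ℕ := tget 4 0xf b3pT i
noncomputable def b3x (i : ℕ) : ℕ := tget 6 0x3f b3xT i
noncomputable def b3y (i : ℕ) : ℕ := tget 6 0x3f b3yT i
noncomputable def b3 : Lev := ⟨34, 12, 48, b3y, fun i => forceN (Nat.mod i 56) b3x, b3p, fun _ => 0⟩
noncomputable def b4p (i : ℕ) : ℕ := tget 5 0x1f b4pT i
noncomputable def b4x (i : ℕ) : ℕ := tget 3 7 b4xT i
noncomputable def b4y (i : ℕ) : ℕ := tget 7 0x7f b4yT i
noncomputable def b4 : Lev := ⟨77, 15, 7, b4y, fun i => forceN (Nat.mod i 13) b4x, b4p, fun _ => 0⟩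
noncomputable def b5p (i : ℕ) : ℕ := tget 5 0x1f b5pT i
noncomputable def b5x (i : ℕ) : ℕ := tget 1 1 b5xT i
noncomputable def b5y (i : ℕ) : ℕ := tget 6 0x3f b5yT i
noncomputable def b5 : Lev := ⟨41, 18, 2, b5y, fun i => forceN (Nat.mod i 2) b5x, b5p, fun _ => 0⟩
noncomputable def b6 : Lev := ⟨61, 19, 1, fun _ => 61, fun _ => 0, fun _ => 0, fun _ => 0⟩
noncomputable def bch : List Lev := [b1, b2, b3, b4, b5, b6]
noncomputable def bls : List (Lev × ℕ) := [(b2, 1), (b3, 1), (b4, 1), (b5, 1), (b6, 1)]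
noncomputable def D : OutD := ⟨7, 8, 9, 8, 8, 19, 8, 1, 1, 6, 0, [1, 2, 4], [0xc10830c1083, 0x430410c10c10430430410c10c1043, 0x10c20420430430810810c10c2042043], [(1, 9)]⟩
noncomputable def WV (i : ℕ) : ℕ := tget 89 0x1ffffffffffffffffffffff WVT i
noncomputable def rv0 : List (ℕ × ℕ) := [(0x44, 0), (0x85, 0), (0xc6, 0), (0x41082, 7), (0x1c8, 0), (0x43046046, 9), (0x24a, 0), (0x728a288248, 0xb), (0x2cc, 0), (0x2092491c91ca, 0xd), (0x34e, 0), (0xb38c38c, 0xf), (0x3d0, 0), (0xe2cb38e, 0x11), (0x3d13cf, 0x12), (0x44d30d307287046042, 0x13), (0x407242106, 0x14), (0x44b34d287287046042, 0x15), (0xf3cb28a141, 0x16), (0x1244b2cb387285104, 0x17), (0x48b38b24728a105, 0x18)]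
noncomputable def rv : List (ℕ × ℕ) := (rv0 ++ [])
theorem b1_fix : fixChk (selA A sig) 19 114 [] b1 = true := by decide +kernel
theorem b1_pt_0 : allR (ptChk (selA A sig) 19 114 13 b1) 0 114 = true := by decide +kernel
theorem b2_fix : fixChk (selA A sig) 19 114 [0] b2 = true := by decide +kernel
theorem b2_pt_0 : allR (ptChk (selA A sig) 19 114 13 b2) 0 49 = true := by decide +kernel
theorem b3_fix : fixChk (selA A sig) 19 114 [104, 0] b3 = true := by decide +kernel
theorem b3_pt_0 : allR (ptChk (selA A sig) 19 114 13 b3) 0 48 = true := by decide +kernel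
theorem b4_fix : fixChk (selA A sig) 19 114 [34, 104, 0] b4 = true := by decide +kernel
theorem b4_pt_0 : allR (ptChk (selA A sig) 19 114 13 b4) 0 7 = true := by decide +kernel
theorem b5_fix : fixChk (selA A sig) 19 114 [77, 34, 104, 0] b5 = true := by decide +kernel
theorem b5_pt_0 : allR (ptChk (selA A sig) 19 114 13 b5) 0 2 = true := by decide +kernel
theorem b6_fix : fixChk (selA A sig) 19 114 [41, 77, 34, 104, 0] b6 = true := by decide +kernel
theorem b6_pt_0 : allR (ptChk (selA A sig) 19 114 13 b6) 0 1 = true := by decide +kernel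
theorem cent1_0 : allR (topChk A 16 13 34 (iter (A 17) 1) iv (fun W => eqB A 16 34 [0, 15, 6, 20, 54, 30] W 0) a1 als 18) 0 114 = true := by decide +kernel
theorem srch_0 : allR (topChk (selA A sig) 19 13 31 (selA A sig D.ls') ivB (D.leaf (selA A sig) 31 [0, 15, 6, 20, 54, 30]) b1 bls 5) 0 114 = true := by decide +kernel
theorem rv0_ok : allL (fun p : ℕ × ℕ => eqB (lazyA A 17 WV) 24 17 [0, 15, 6, 20, 54, 30] p.1 p.2) rv0 = true := by decide +kernel
theorem bch_ok : ChainOk (selA A sig) 19 114 13 bch [] :=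
  ChainOk.cons b1_fix (allR_step b1_pt_0 (allR_end (by decide))) (ChainOk.cons b2_fix (allR_step b2_pt_0 (allR_end (by decide))) (ChainOk.cons b3_fix (allR_step b3_pt_0 (allR_end (by decide))) (ChainOk.cons b4_fix (allR_step b4_pt_0 (allR_end (by decide))) (ChainOk.cons b5_fix (allR_step b5_pt_0 (allR_end (by decide))) (ChainOk.cons b6_fix (allR_step b6_pt_0 (allR_end (by decide))) (trivial))))))
universe u
variable {G : Type u} {X : Type*} [Group G] [MulAction G X] {pt : ℕ → X} {x : ℕ → G}
theorem cent1 (h : Ful pt x) : ∀ g, x 17 * g = g * x 17 ^ 1 → g ∈ Subgroup.zpowers (x 17) :=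
  Full.cent (v := a1) (ls := als) h (by decide +kernel) (allR_step cent1_0 (allR_end (by decide)))
theorem gen3 (h : Ful pt x) : Subgroup.closure {x 17, x 18, x 19} = ⊤ :=
  h.gen3 (f := 17) (W := WV) (M' := 24) (rs := rv) (defs := [(4, 1), (5, 2), (6, 3), (7, 0x41082), (8, 7), (9, 0x43046046), (10, 9), (11, 0x728a288248), (12, 0xb), (13, 0x2092491c91ca), (14, 0xd), (15, 0xb38c38c), (16, 0xf), (17, 0xe2cb38e), (18, 0x3d13cf), (19, 0x44d30d307287046042), (20, 0x407242106), (21, 0x44b34d287287046042), (22, 0xf3cb28a141), (23, 0x1244b2cb387285104), (24, 0x48b38b24728a105)]) (tops := [19, 20, 21, 22, 23, 24]) (by decide +kernel) (allL_app rv0_ok (allL_end))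
theorem sig_a : sig D.la = 17 ∧ sig D.lu = 18 ∧ sig D.ly = 19 := by decide +kernel
theorem out_le (h : Ful pt x) : Nat.card (Out G) ≤ 1 ∧ orderOf (x 17) = 19 := by
  have := h.out_le (σ := sig) (D := D) (v := b1) (ls := bls) (by norm_num : Nat.Prime 19) (by rw [sig_a.1]; exact cent1 h)
    (by rw [sig_a.1, sig_a.2.1, sig_a.2.2]; exact gen3 h) bch_ok (by decide +kernel) (allR_step srch_0 (allR_end (by decide)))
  rwa [sig_a.1] at this
theorem out (h : Ful pt x) : Nat.card (Out G) = 1 := h.out_one (out_le h).1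
end O

end CL.Pc.GONH
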