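/-
The point stabiliser of the O'Nan group acts on 114 points (data from tools/pc/ono.py).
-/
import Cfsg.Agent.Known.GON
import Cfsg.Agent.Known.GONH
import Cfsg.Agent.Known.PcOut2

set_option autoImplicit false
set_option maxRecDepth 100000
set_option Elab.async false
set_option linter.constructorNameAsVariable false

namespace CL.Pc.GON
open CL.Spor (allBelow allBelow_iff allL allL_iff)
open Cfsg Cfsg.Spor CL.ONP MulAction

noncomputable def WBT : ℕ := 0xa30e40c20a30e30818420428830a380000000000000000000000000000001c51851871831050f8c18828c39020a30e28c20a30e20a30828c39030e20a20600000000000000000000000000000000000000000000002000000000000000000000000000000000000000000000008000000000000000000000000000000000000000000000200000000000000000000000000000000000000000000000e00000000000000000000000000000000000000000000006000000000000000000000000000000000000000000000028000000000000000000000000000000000000000000000100000000000000000000000000000000000000000000000600000000000000000000000000000000000000000000000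
noncomputable def WB (i : ℕ) : ℕ := tget 189 0x1fffffffffffffffffffffffffffffffffffffffffffffff WBT i

/-- The tables of `a, …, f, g, g⁻¹` and of three words. -/
noncomputable def B : ℕ → ℕ → ℕ := lazyA A 33 WB

/-- The letters. -/
noncomputable def X : ℕ → ON := subA (evW (certX mk LB0)) WB 11

theorem liteB : ∃ v : ℕ → ON ⧸ H, Lite v 122760 B 11 [0, 1, 31] X :=
  lite.imp fun _ h => ⟨h.inj, by rw [B, lazyA_eq]; exact h.alph.subW WB 33 11 (by decide +kernel), h.isBase⟩

theorem X0 : X 0 = 1 := rfl

theorem eqX {f u w : ℕ} (h : eqB B 11 f [0, 1, 31] u w = true) : evW X u = evW X w :=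
  liteB.elim fun _ k => k.alph.eqB_sound k.isBase u w h

/-- The letters of the generators. -/
def ix : ON.Gen → ℕ | .g => 7 | .a => 1 | .b => 2 | .c => 3 | .d => 4 | .e => 5 | .f => 6
/-- The letters of their inverses. -/
def jx : ON.Gen → ℕ | .g => 8 | .a => 1 | .b => 2 | .c => 3 | .d => 4 | .e => 5 | .f => 6
/-- The letters in the point stabiliser. -/
def ixH : ON.Gen → ℕ | .g => 0 | .a => 1 | .b => 2 | .c => 3 | .d => 4 | .e => 5 | .f => 6
/-- The letters of the networks. -/
def lm (c : ℕ) : ℕ := cond (Nat.ble c 6) (2 * c) (c - 7)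

theorem X_of {c k : ℕ} (h : 0 < c ∧ c ≤ 11 ∧ k < 64 ∧ WB c = k) : X c = certX mk LB0 k := by
  rw [X, subA_of _ _ h.1 h.2.1, h.2.2.2, evW_single rfl h.2.2.1]

theorem X_ix (a : ON.Gen) : X (ix a) = mk (.of a) := by
  cases a
  · exact X_of (k := 1) (by decide +kernel)
  · exact X_of (k := 3) (by decide +kernel)
  · exact X_of (k := 4) (by decide +kernel)
  · exact X_of (k := 5) (by decide +kernel)
  · exact X_of (k := 6) (by decide +kernel)
  · exact X_of (k := 7) (by decide +kernel)
  · exact X_of (k := 8) (by decide +kernel)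

theorem X_lm (c : ℕ) (h1 : 0 < c) (h2 : c ≤ 8) : X c = PG.letG gs (lm c) := by
  interval_cases c
  exacts [X_ix .a, X_ix .b, X_ix .c, X_ix .d, X_ix .e, X_ix .f, X_ix .g,
    (X_of (k := 2) (by decide +kernel)).trans (map_inv mk (.of .g))]

theorem evX {f w : ℕ} (h : lettersIn 0 8 f w = true) : evW X w = PG.wordG gs (decW lm f w) := by
  rw [← evW_decW gs lm h]
  exact evW_congr (fun c h1 h2 => by rw [if_pos ⟨h1, h2⟩, X_lm c h1 h2]) h

theorem X_mem (c : ℕ) (h1 : 0 < c) (h2 : c ≤ 6) : X c ∈ H := by
  have k : ∀ a ∈ invs, X (ix a) ∈ H := fun a ha => X_ix a ▸ TC.mem_subL (List.mem_map_of_mem ha)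
  interval_cases c
  exacts [k .a (by decide), k .b (by decide), k .c (by decide), k .d (by decide), k .e (by decide), k .f (by decide)]

theorem le_of {K : Subgroup ON} {l : List ON.Gen} (h : ∀ a ∈ l, X (ix a) ∈ K) : TC.subL mk (wds l) ≤ K :=
  TC.subL_le fun _ hx => let ⟨a, ha, e⟩ := List.mem_map.1 hx; e ▸ X_ix a ▸ h a ha

theorem gens_all : ∀ a, a ∈ gens := fun a => by cases a <;> decide

/-- Relations of the point stabiliser. -/
noncomputable def rH : List (ℕ × ℕ) := [(0x41, 0), (0x81081081, 0), (0xc10c1, 0), (0x101101, 0), (0x141141, 0), (0x181181, 0), (0x82, 0), (0xc20c20c2, 0), (0x102102, 0), (0x142142, 0), (0x182182, 0), (0xc3, 0), (0x103103103103103103103103, 0), (0x143143, 0), (0x183183, 0), (0x104, 0), (0x144144144, 0), (0x184184, 0), (0x145, 0), (0x185185185, 0), (0x186, 0), (0xc40c40c40c4181, 0)]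

theorem presH : PresBound.{0} rH 6 3753792 := fun Γ _ s s0 hs => by
  have hR := hs.cox (edges := ON.edges) (extra := [ON.a * ON.f * ((ON.c * ON.d) ^ 4)⁻¹]) (ix := ixH) (jx := ixH) s0
    gens_all (by decide +kernel)
  obtain ⟨h1, h2⟩ : Finite (TC.subL (FreeGroup.lift fun a => s (ixH a)) (wds invs)) ∧
      Nat.card (TC.subL (FreeGroup.lift fun a => s (ixH a)) (wds invs)) ≤ 3753792 :=
    TC.ONB.valid.card_le (invol := invs) (LB := lets invs) hR rfl (by decide +kernel)
      (TC.subL_le_of_lettersIn (by decide +kernel)) (TC.ONC.valid.card_le (invol := invs)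
        (LB := lets [.a, .b, .c, .e, .f]) (KL := wds [.a, .b, .c, .e, .f]) hR rfl (by decide +kernel)
        (TC.subL_le_of_lettersIn (by decide +kernel)) (TC.card_subL_nil _))
  have hle : genP s 6 ≤ TC.subL (FreeGroup.lift fun a => s (ixH a)) (wds invs) := (Subgroup.closure_le _).2 (by
    rintro _ ⟨c, ⟨k1, k2⟩, rfl⟩
    have k : ∀ a ∈ invs, s (ixH a) ∈ TC.subL (FreeGroup.lift fun a => s (ixH a)) (wds invs) := fun a ha =>
      FreeGroup.lift_apply_of (f := fun a => s (ixH a)) (x := a) ▸ TC.mem_subL (List.mem_map_of_mem ha)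
    interval_cases c
    exacts [k .a (by decide), k .b (by decide), k .c (by decide), k .d (by decide), k .e (by decide), k .f (by decide)])
  exact ⟨Finite.of_injective _ (Subgroup.inclusion_injective hle), (Subgroup.card_le_of_le hle).trans h2⟩

/-- The generators of the point stabiliser. -/
noncomputable def xH (c : ℕ) : H := if h : 0 < c ∧ c ≤ 6 then ⟨X c, X_mem c h.1 h.2⟩ else 1

theorem coe_xH (c : ℕ) (h1 : 0 < c) (h2 : c ≤ 6) : H.subtype (xH c) = X c := by rw [xH, dif_pos ⟨h1, h2⟩]; rfl

theorem coe_evW {f w : ℕ} (h : lettersIn 0 6 f w = true) : ((evW xH w : H) : ON) = evW X w :=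
  (map_evW H.subtype xH w).trans (evW_congr coe_xH h)

theorem small : ∃ (_ : MulAction H (Fin 114)) (x : ℕ → H), GONH.Ful (finPt 114) x ∧
    ∀ f w, lettersIn 0 6 f w = true → ((evW x w : H) : ON) = evW X w := by
  have hf : Finite H := Nat.finite_of_card_ne_zero (by rw [card_H]; norm_num)
  have hl : allL (fun p => lettersIn 0 6 17 p.1 && lettersIn 0 6 17 p.2) rH = true := by decide +kernel
  have m : ∀ c, 0 < c → c ≤ 6 → Nat.testBit 126 c = true := fun c _ _ => by interval_cases c <;> rfl
  obtain ⟨y, hy⟩ := exists_alph (M := 6) fun c h1 h2 => exists_perm_rp (N := 114) (A := GONH.A) (m := 126)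
    (l := [(1, 1), (2, 2), (3, 3), (4, 4), (5, 5), (6, 6)]) (allR_one (by decide +kernel)) (by decide +kernel) c (m c h1 h2)
  obtain ⟨φ, hφ⟩ := exists_hom_of_sat (x := xH) presH card_H.ge rfl (fun p hp => Subtype.ext (by
      have := Bool.and_eq_true_iff.1 ((allL_iff _ _).1 hl p hp)
      rw [coe_evW this.1, coe_evW this.2]
      exact eqX ((allL_iff _ _).1 (by decide +kernel : allL (fun p => eqB B 11 17 [0, 1, 31] p.1 p.2) rH = true) p hp)))
    (Subgroup.map_injective H.subtype_injective (le_antisymm (Subgroup.map_mono le_top) (by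
      rw [← MonoidHom.range_eq_map, H.range_subtype, map_genP]
      exact le_of fun a ha => by
        have : 0 < ix a ∧ ix a ≤ 6 := by revert a; decide
        exact coe_xH _ this.1 this.2 ▸ mem_genP (s := fun c => H.subtype (xH c)) this.1 this.2)))
    hy.1 (hy.sat_all hl (allR_one (by decide +kernel)))
  let inst := MulAction.compHom (Fin 114) φ
  have r : ∀ c, 0 < c → c ≤ 6 → Rp (finPt 114) (· < 114) (GONH.A c) (xH c)⁻¹ := fun c h1 h2 =>
    Rp.compHom φ (by rw [map_inv, hφ c h1 h2]; exact hy.2 c h1 h2)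
  obtain ⟨x, h⟩ := GONH.full (G := H) (pt := finPt 114) ⟨hf, finPt_inj, fun c hc => by
    have : c < 7 := by
      by_contra hh
      rw [Nat.testBit_lt_two_pow ((by norm_num : 126 < 2 ^ 7).trans_le (Nat.pow_le_pow_right (by norm_num) (by omega)))] at hc
      exact absurd hc (by simp)
    exact ⟨_, r c (Nat.pos_of_ne_zero fun e => by rw [e] at hc; exact absurd hc (by decide)) (by omega)⟩, card_H.le⟩
  refine ⟨_, x, h, fun f w hw => ?_⟩
  rw [← coe_evW hw, evW_congr (fun c h1 h2 => h.isBase.eq_of_eqT (h.alph.2 c h1 (by omega)) (r c h1 h2)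
    ((allL_iff _ _).2 fun _ _ => Nat.beq_refl _)) hw]

end CL.Pc.GON
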