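/-
The outer automorphism group of the O'Nan group: data and checks (data from tools/pc/ono.py).
-/
import Cfsg.Agent.Known.GONS
import Cfsg.Agent.Known.GONHO

set_option autoImplicit false
set_option maxRecDepth 100000
set_option Elab.async false
set_option linter.constructorNameAsVariable false

namespace CL.Pc.GON
open CL.Spor (allBelow allBelow_iff allL allL_iff)
open Cfsg Cfsg.Spor CL.ONP MulAction

noncomputable def WIT : ℕ := 0xc20451031051851030812020431030852040c8144185083000000610a30828e18838a10620608438210620a30a20620a084180000000000000000050460c41440831021c31020c4146105103068e20638828c20620418828e20a30418828210620620a20418818a001c41c22031052022031051c20c41431020c41440c4083105083000008e20438a18838a30620a10e10620a30a18810620a206084400000001071440c21c40831010831050c40831020c41460421c2100000000000000000000a30620a10621018438620a30210620a10600000000000000000000000000000000000000000000000000000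
noncomputable def WI (i : ℕ) : ℕ := tget 213 0x1fffffffffffffffffffffffffffffffffffffffffffffffffffff WIT i
/-- An element of order 19. -/
def wa : ℕ := 0x1440420c41460831050c40831050831020c4146105083081
/-- An element of order 6 in its normaliser. -/
def wu : ℕ := 0x50c40c41440420c1
/-- The data of the Frattini argument. -/
noncomputable def D : OutD := ⟨9, 10, 11, 10, 10, 19, 8, 1, 1, 6, 1, [1, 2, 4], [0x82043082043082043082043082043082043082043082043082043082043, 0x43082043043082043043082043043082043043082043043082043043082043], [(1, 11), (1, 0x31051840831051030871420c40420c1205)]⟩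
/-- The relations. -/
noncomputable def rs : List (ℕ × ℕ) := [(0x41, 0), (0x81081081, 0), (0xc10c1, 0), (0x101101, 0), (0x141141, 0), (0x181181, 0), (0x82, 0), (0xc20c20c2, 0), (0x102102, 0), (0x142142, 0), (0x182182, 0), (0xc3, 0), (0x103103103103103103103103, 0), (0x143143, 0), (0x183183, 0), (0x104, 0), (0x144144144, 0), (0x184184, 0), (0x145, 0), (0x185185185, 0), (0x186, 0), (0x208181, 0), (0xc40c40c40c4181, 0), (0x1c41c40c4204203, 0), (0x1c31c3103203204, 0), (0x1c40c21c40c21c40c21c40c21c40c2, 0), (0x31c30870831c3087, 0), (0x41c41471441c4147, 0), (0x207, 0)]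

/-- A fixed point `p` of `u`, a word `w` leading to it, the conjugate `u'` of `u` and the elements conjugating `u` to `u'`. -/
noncomputable def chkT (p w u' : ℕ) (L : List ℕ) : Bool :=
  lettersIn 0 8 52 w && PG.ptW 122760 PM.ON.ns (decW lm 52 w) 0 p && eqB B 11 52 [0, 1, 31] (app wu w) (app w u') &&
  allL (lettersIn 0 6 52) (wu :: u' :: L) && allL (fun q => lettersIn 0 11 52 (app w q)) L &&
  allR (topChk (selA GONH.A GONH.O.sig) 19 13 52 (apR (selA GONH.A GONH.O.sig) 52 u') GONH.O.ivB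
    (fun W => anyL (fun q => eqB (selA GONH.A GONH.O.sig) 19 52 [0, 15, 6, 20, 54, 30] W q) L) GONH.O.b1 GONH.O.bls 5) 0 114

/-- The checks for one fixed point. -/
def Ok (t : ℕ × ℕ × ℕ × List ℕ) : Prop :=
  chkT t.1 t.2.1 t.2.2.1 t.2.2.2 = true ∧ ∀ q ∈ t.2.2.2, D.leaf B 52 [0, 1, 31] (app t.2.1 q) = true

/-- Data. -/
def t0 : ℕ × ℕ × ℕ × List ℕ := (0, 0, 0x50c40c41440420c1, [0, 0xc41461020c41420c40c41420c2])
theorem t0_ok : Ok t0 := ⟨by decide +kernel, List.forall_mem_cons.2 ⟨by decide +kernel, List.forall_mem_cons.2 ⟨by decide +kernel, fun _ h => nomatch h⟩⟩⟩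
/-- Data. -/
def t1 : ℕ × ℕ × ℕ × List ℕ := (295, 0x2051080c5, 0x50c2, [0x1431020c4146105101083081, 0x143103042])
theorem t1_ok : Ok t1 := ⟨by decide +kernel, List.forall_mem_cons.2 ⟨by decide +kernel, List.forall_mem_cons.2 ⟨by decide +kernel, fun _ h => nomatch h⟩⟩⟩
/-- Data. -/
def t2 : ℕ × ℕ × ℕ × List ℕ := (696, 0x2022030840c5, 0x5185081, [0xc41461020c4144081, 0x1460c4083081])
theorem t2_ok : Ok t2 := ⟨by decide +kernel, List.forall_mem_cons.2 ⟨by decide +kernel, List.forall_mem_cons.2 ⟨by decide +kernel, fun _ h => nomatch h⟩⟩⟩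
/-- Data. -/
def t3 : ℕ × ℕ × ℕ × List ℕ := (741, 0x2021c30840c5, 0x5042, [0x1431020c4146105101081, 0x1431020c1081])
theorem t3_ok : Ok t3 := ⟨by decide +kernel, List.forall_mem_cons.2 ⟨by decide +kernel, List.forall_mem_cons.2 ⟨by decide +kernel, fun _ h => nomatch h⟩⟩⟩
/-- Data. -/
def t4 : ℕ × ℕ × ℕ × List ℕ := (3109, 0x81441c30840c5, 0x105184144081, [])
theorem t4_ok : Ok t4 := ⟨by decide +kernel, fun _ h => nomatch h⟩
/-- Data. -/
def t5 : ℕ × ℕ × ℕ × List ℕ := (4383, 0x2020c21442020c5, 0x5083081, [0x143103081, 0x1431020c41461051020c1])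
theorem t5_ok : Ok t5 := ⟨by decide +kernel, List.forall_mem_cons.2 ⟨by decide +kernel, List.forall_mem_cons.2 ⟨by decide +kernel, fun _ h => nomatch h⟩⟩⟩
/-- Data. -/
def t6 : ℕ × ℕ × ℕ × List ℕ := (5351, 0x2021051c30840c5, 0x4146144042, [0xc41461020c4141, 0x1460c4083101081])
theorem t6_ok : Ok t6 := ⟨by decide +kernel, List.forall_mem_cons.2 ⟨by decide +kernel, List.forall_mem_cons.2 ⟨by decide +kernel, fun _ h => nomatch h⟩⟩⟩
/-- Data. -/
def t7 : ℕ × ℕ × ℕ × List ℕ := (5775, 0x2021441c30840c5, 0x105184144042, [])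
theorem t7_ok : Ok t7 := ⟨by decide +kernel, fun _ h => nomatch h⟩
/-- Data. -/
def t8 : ℕ × ℕ × ℕ × List ℕ := (8379, 0x80810c5103204146, 0x420c41440c40831051020c40420c4144083103042, [])
theorem t8_ok : Ok t8 := ⟨by decide +kernel, fun _ h => nomatch h⟩
/-- Data. -/
def TT : List (ℕ × ℕ × ℕ × List ℕ) := [t0, t1, t2, t3, t4, t5, t6, t7, t8]
theorem TT_ok : ∀ t ∈ TT, Ok t := List.forall_mem_cons.2 ⟨t0_ok, List.forall_mem_cons.2 ⟨t1_ok, List.forall_mem_cons.2 ⟨t2_ok, List.forall_mem_cons.2 ⟨t3_ok, List.forall_mem_cons.2 ⟨t4_ok, List.forall_mem_cons.2 ⟨t5_ok, List.forall_mem_cons.2 ⟨t6_ok, List.forall_mem_cons.2 ⟨t7_ok, List.forall_mem_cons.2 ⟨t8_ok, fun _ h => nomatch h⟩⟩⟩⟩⟩⟩⟩⟩⟩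
theorem fix_a : Nat.beq (PM.ON.P.fix PM.ON.ns (decW lm 52 wa)) (orL [0]) = true := by decide +kernel
theorem fix_u : Nat.beq (PM.ON.P.fix PM.ON.ns (decW lm 52 wu)) (orL (TT.map (·.1))) = true := by decide +kernel
theorem D_ok : D.chk B 11 122760 52 [0, 1, 31] = true := by decide +kernel
theorem rs_ok : allL (fun p : ℕ × ℕ => eqB B 8 52 [0, 1, 31] p.1 p.2) rs = true := by decide +kernel
theorem im_ok : allL (fun p : ℕ × ℕ => eqB (fun c => apR B 52 (WI c)) 8 52 [0, 1, 31] p.1 p.2) rs = true := by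
  decide +kernel

end CL.Pc.GON
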