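/-
Tables and a stabiliser chain for Fi23 on 31671 points (generated by tools/pc/gm.py).
-/
import Cfsg.Agent.Known.GFi23K0
import Cfsg.Agent.Known.GFi23K1
import Cfsg.Agent.Known.GFi23K2
import Cfsg.Agent.Known.GFi23K3
import Cfsg.Agent.Known.GFi23K4
import Cfsg.Agent.Known.GFi23K5

set_option autoImplicit false
set_option maxRecDepth 100000
set_option linter.all false

namespace CL.Pc.GFi23
open Cfsg CL.Spor

theorem df_ok : ∀ d ∈ df, ∀ i, 0 ≤ i → i < 31671 → defChk2 A 31671 38 d i = true :=
  defs_app (allR_step df0_0 (allR_step df0_1 (allR_step df0_2 (allR_step df0_3 (allR_step df0_4 (allR_step df0_5 (allR_step df0_6 (allR_step df0_7 (allR_step df0_8 (allR_step df0_9 (allR_step df0_10 (allR_step df0_11 (allR_step df0_12 (allR_step df0_13 (allR_step df0_14 (allR_end (by decide))))))))))))))))) (defs_app (allR_step df1_0 (allR_step df1_1 (allR_step df1_2 (allR_step df1_3 (allR_step df1_4 (allR_step df1_5 (allR_step df1_6 (allR_step df1_7 (allR_step df1_8 (allR_step df1_9 (allR_step df1_10 (allR_step df1_11 (allR_step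 df1_12 (allR_step df1_13 (allR_step df1_14 (allR_step df1_15 (allR_end (by decide)))))))))))))))))) (defs_app (allR_step df2_0 (allR_step df2_1 (allR_step df2_2 (allR_step df2_3 (allR_step df2_4 (allR_step df2_5 (allR_step df2_6 (allR_step df2_7 (allR_end (by decide)))))))))) (defs_app (allR_step df3_0 (allR_step df3_1 (allR_step df3_2 (allR_step df3_3 (allR_step df3_4 (allR_step df3_5 (allR_step df3_6 (allR_step df3_7 (allR_step df3_8 (allR_end (by decide))))))))))) (defs_app (allR_step df4_0 (allR_step df4_1 (allR_step df4_2 (allR_step df4_3 (allR_step df4_4 (allR_step df4_5 (allR_step df4_6 (allR_step df4_7 (allR_step df4_8 (allR_step df4_9 (allR_end (by decide)))))))))))) (defs_app (allR_step df5_0 (allR_step df5_1 (allR_step df5_2 (allR_step df5_3 (allR_step df5_4 (allR_step df5_5 (allR_step df5_6 (allR_step df5_7 (allR_step df5_8 (allR_end (by decide))))))))))) (defs_app (allR_step df6_0 (allR_step df6_1 (allR_step df6_2 (allR_step df6_3 (allR_step df6_4 (allR_step df6_5 (allR_step df6_6 (allR_step df6_7 (allR_step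 df6_8 (allR_step df6_9 (allR_step df6_10 (allR_step df6_11 (allR_step df6_12 (allR_step df6_13 (allR_end (by decide)))))))))))))))) (defs_app (allR_step df7_0 (allR_step df7_1 (allR_step df7_2 (allR_step df7_3 (allR_step df7_4 (allR_step df7_5 (allR_step df7_6 (allR_step df7_7 (allR_step df7_8 (allR_step df7_9 (allR_step df7_10 (allR_step df7_11 (allR_step df7_12 (allR_step df7_13 (allR_step df7_14 (allR_step df7_15 (allR_end (by decide)))))))))))))))))) (defs_app (allR_step df8_0 (allR_step df8_1 (allR_step df8_2 (allR_end (by decide))))) (fun _ h => nomatch h)))))))))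
theorem ach_ok : ChainOk (A) 25 31671 14 ach [] :=
  ChainOk.cons a1_fix (allR_step a1_pt_0 (allR_step a1_pt_1 (allR_step a1_pt_2 (allR_step a1_pt_3 (allR_step a1_pt_4 (allR_step a1_pt_5 (allR_step a1_pt_6 (allR_step a1_pt_7 (allR_step a1_pt_8 (allR_step a1_pt_9 (allR_step a1_pt_10 (allR_step a1_pt_11 (allR_end (by decide)))))))))))))) (ChainOk.cons a2_fix (allR_step a2_pt_0 (allR_step a2_pt_1 (allR_step a2_pt_2 (allR_step a2_pt_3 (allR_step a2_pt_4 (allR_step a2_pt_5 (allR_step a2_pt_6 (allR_step a2_pt_7 (allR_step a2_pt_8 (allR_step a2_pt_9 (allR_end (by decide)))))))))))) (ChainOk.cons a3_fix (allR_step a3_pt_0 (allR_step a3_pt_1 (allR_step a3_pt_2 (allR_step a3_pt_3 (allR_step a3_pt_4 (allR_step a3_pt_5 (allR_step a3_pt_6 (allR_end (by decide))))))))) (ChainOk.cons a4_fix (allR_step a4_pt_0 (allR_end (by decide))) (ChainOk.cons a5_fix (allR_step a5_pt_0 (allR_end (by decide))) (ChainOk.cons a6_fix (allR_step a6_pt_0 (allR_end (by decide))) (ChainOk.cons a7_fix (allR_step a7_pt_0 (allR_end (by decide))) (trivial)))))))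
universe u
variable {G : Type u} {X : Type*} [Group G] [MulAction G X] {pt : ℕ → X} {x : ℕ → G}
/-- The input: an action with the tables of the letters [26, 27, 28, 29, 30, 31, 32, 33, 34, 35]. -/
abbrev Inp (G : Type u) {X : Type*} [Group G] [MulAction G X] (pt : ℕ → X) : Prop := Input G pt 31671 A 68652367872 4089470473293004800
abbrev Ful (pt : ℕ → X) (x : ℕ → G) : Prop := Full pt 31671 A 68652367872 4089470473293004800 52 25 14 ach [96, 29621, 26709, 13332, 13031, 12317, 4693] x
theorem full (I : Inp G pt) : ∃ x : ℕ → G, Ful pt x := I.full df_ok ach_ok (by decide +kernel)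

end CL.Pc.GFi23
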