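/-
The outer automorphism group of Fi23: checks (generated by tools/pc/gm.py).
-/
import Cfsg.Agent.Known.GFi23OA

set_option autoImplicit false
set_option maxRecDepth 100000
set_option linter.all false

namespace CL.Pc.GFi23
open Cfsg CL.Spor

namespace O
theorem b1_fix : fixChk (selA A sig) 25 31671 [] b1 = true := by decide +kernel
theorem b1_pt_0 : allR (ptChk (selA A sig) 25 31671 14 b1) 0 2857 = true := by decide +kernel
theorem b1_pt_1 : allR (ptChk (selA A sig) 25 31671 14 b1) 2857 2857 = true := by decide +kernel
theorem b1_pt_2 : allR (ptChk (selA A sig) 25 31671 14 b1) 5714 2857 = true := by decide +kernel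
theorem b1_pt_3 : allR (ptChk (selA A sig) 25 31671 14 b1) 8571 2857 = true := by decide +kernel
theorem b1_pt_4 : allR (ptChk (selA A sig) 25 31671 14 b1) 11428 2857 = true := by decide +kernel
theorem b1_pt_5 : allR (ptChk (selA A sig) 25 31671 14 b1) 14285 2857 = true := by decide +kernel
theorem b1_pt_6 : allR (ptChk (selA A sig) 25 31671 14 b1) 17142 2857 = true := by decide +kernel
theorem b1_pt_7 : allR (ptChk (selA A sig) 25 31671 14 b1) 19999 2857 = true := by decide +kernel
theorem b1_pt_8 : allR (ptChk (selA A sig) 25 31671 14 b1) 22856 2857 = true := by decide +kernel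
theorem b1_pt_9 : allR (ptChk (selA A sig) 25 31671 14 b1) 25713 2857 = true := by decide +kernel
theorem b1_pt_10 : allR (ptChk (selA A sig) 25 31671 14 b1) 28570 2857 = true := by decide +kernel
theorem b1_pt_11 : allR (ptChk (selA A sig) 25 31671 14 b1) 31427 244 = true := by decide +kernel
theorem b2_fix : fixChk (selA A sig) 25 31671 [96] b2 = true := by decide +kernel
theorem b2_pt_0 : allR (ptChk (selA A sig) 25 31671 14 b2) 0 3076 = true := by decide +kernel
theorem b2_pt_1 : allR (ptChk (selA A sig) 25 31671 14 b2) 3076 3076 = true := by decide +kernel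
theorem b2_pt_2 : allR (ptChk (selA A sig) 25 31671 14 b2) 6152 3076 = true := by decide +kernel
theorem b2_pt_3 : allR (ptChk (selA A sig) 25 31671 14 b2) 9228 3076 = true := by decide +kernel
theorem b2_pt_4 : allR (ptChk (selA A sig) 25 31671 14 b2) 12304 3076 = true := by decide +kernel
theorem b2_pt_5 : allR (ptChk (selA A sig) 25 31671 14 b2) 15380 3076 = true := by decide +kernel
theorem b2_pt_6 : allR (ptChk (selA A sig) 25 31671 14 b2) 18456 3076 = true := by decide +kernel
theorem b2_pt_7 : allR (ptChk (selA A sig) 25 31671 14 b2) 21532 3076 = true := by decide +kernel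
theorem b2_pt_8 : allR (ptChk (selA A sig) 25 31671 14 b2) 24608 3076 = true := by decide +kernel
theorem b2_pt_9 : allR (ptChk (selA A sig) 25 31671 14 b2) 27684 476 = true := by decide +kernel
theorem b3_fix : fixChk (selA A sig) 25 31671 [15287, 96] b3 = true := by decide +kernel
theorem b3_pt_0 : allR (ptChk (selA A sig) 25 31671 14 b3) 0 3159 = true := by decide +kernel
theorem b4_fix : fixChk (selA A sig) 25 31671 [11226, 15287, 96] b4 = true := by decide +kernel
theorem b4_pt_0 : allR (ptChk (selA A sig) 25 31671 14 b4) 0 2240 = true := by decide +kernel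
theorem b5_fix : fixChk (selA A sig) 25 31671 [20692, 11226, 15287, 96] b5 = true := by decide +kernel
theorem b5_pt_0 : allR (ptChk (selA A sig) 25 31671 14 b5) 0 324 = true := by decide +kernel
theorem b6_fix : fixChk (selA A sig) 25 31671 [5671, 20692, 11226, 15287, 96] b6 = true := by decide +kernel
theorem b6_pt_0 : allR (ptChk (selA A sig) 25 31671 14 b6) 0 2 = true := by decide +kernel
theorem b7_fix : fixChk (selA A sig) 25 31671 [13814, 5671, 20692, 11226, 15287, 96] b7 = true := by decide +kernel
theorem b7_pt_0 : allR (ptChk (selA A sig) 25 31671 14 b7) 0 1 = true := by decide +kernel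
theorem cent1_0 : allR (topChk A 25 14 49 (iter (A 36) 1) iv (fun W => eqB A 25 49 [96, 29621, 26709, 13332, 13031, 12317, 4693] W 0) a1 als 16) 0 531 = true := by decide +kernel
theorem cent1_1 : allR (topChk A 25 14 49 (iter (A 36) 1) iv (fun W => eqB A 25 49 [96, 29621, 26709, 13332, 13031, 12317, 4693] W 0) a1 als 16) 531 707 = true := by decide +kernel
end O

end CL.Pc.GFi23
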