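/-
The outer automorphism group of Fi23 (generated by tools/pc/gm.py).
-/
import Cfsg.Agent.Known.GFi23OK0
import Cfsg.Agent.Known.GFi23OK1

set_option autoImplicit false
set_option maxRecDepth 100000
set_option linter.all false

namespace CL.Pc.GFi23
open Cfsg CL.Spor

namespace O
theorem bch_ok : ChainOk (selA A sig) 25 31671 14 bch [] :=
  ChainOk.cons b1_fix (allR_step b1_pt_0 (allR_step b1_pt_1 (allR_step b1_pt_2 (allR_step b1_pt_3 (allR_step b1_pt_4 (allR_step b1_pt_5 (allR_step b1_pt_6 (allR_step b1_pt_7 (allR_step b1_pt_8 (allR_step b1_pt_9 (allR_step b1_pt_10 (allR_step b1_pt_11 (allR_end (by decide)))))))))))))) (ChainOk.cons b2_fix (allR_step b2_pt_0 (allR_step b2_pt_1 (allR_step b2_pt_2 (allR_step b2_pt_3 (allR_step b2_pt_4 (allR_step b2_pt_5 (allR_step b2_pt_6 (allR_step b2_pt_7 (allR_step b2_pt_8 (allR_step b2_pt_9 (allR_end (by decide)))))))))))) (ChainOk.cons b3_fix (allR_step b3_pt_0 (allR_end (by decide))) (ChainOk.cons b4_fix (allR_step b4_pt_0 (allR_end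 (by decide))) (ChainOk.cons b5_fix (allR_step b5_pt_0 (allR_end (by decide))) (ChainOk.cons b6_fix (allR_step b6_pt_0 (allR_end (by decide))) (ChainOk.cons b7_fix (allR_step b7_pt_0 (allR_end (by decide))) (trivial)))))))
universe u
variable {G : Type u} {X : Type*} [Group G] [MulAction G X] {pt : ℕ → X} {x : ℕ → G}
theorem cent1 (h : Ful pt x) : ∀ g, x 36 * g = g * x 36 ^ 1 → g ∈ Subgroup.zpowers (x 36) :=
  Full.cent (v := a1) (ls := als) h (by decide +kernel) (allR_step cent1_0 (allR_step cent1_1 (allR_step cent1_2 (allR_step cent1_3 (allR_step cent1_4 (allR_step cent1_5 (allR_end (by decide))))))))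
theorem gen3 (h : Ful pt x) : Subgroup.closure {x 36, x 37, x 38} = ⊤ :=
  h.gen3 (f := 41) (W := WV) (M' := 38) (rs := rv) (defs := [(4, 1), (5, 2), (6, 3), (7, 0x30c51411810c4), (8, 7), (9, 0x6082043043145), (10, 9), (11, 0x20a28a28728a), (12, 0xb), (13, 0x828824920a288247), (14, 0xd), (15, 0xd2ce30c30d30e), (16, 0xf), (17, 0xb38e2cd2cb34c38c), (18, 0x11), (19, 0xe38c34b2cb38c34b), (20, 0x13), (21, 0x3d145450f), (22, 0x15), (23, 0x124cf4d14d0), (24, 0x17), (25, 0x134144124d1), (26, 0x19), (27, 0x19557), (28, 0x1b), (29, 0x155515105112cd2ce30e38c34828828728a1c1146103102), (30, 0x7156165123d340e38c38c34d308249248248248), (31, 0x195d04504d144b38c34b2ce30d2091ca28a288287), (32, 0x1b5cf48f50f30d30e38e2c72472482872440c30420c1), (33, 0x1b55569151251240d34d34c38e30828728a208243086046042), (34, 0x7184cf4533d12cb34b2ce30e2cd209248208248), (35, 0x1b5593d14d22cd2cb2cb34c3891c91c9208203105104186), (36, 0x60f4d138b38b34b38c1c72482871c728a202046106046), (37, 0x1a54f44f4d13ce2cb38b2cd34d3491ca2091ca287084184181),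 (38, 0x5da5cf45349450b38c38c38b2cd3471c72872490c3043083)]) (tops := [29, 30, 31, 32, 33, 34, 35, 36, 37, 38]) (by decide +kernel) (allL_app rv0_ok (allL_end))
theorem sig_a : sig D.la = 36 ∧ sig D.lu = 37 ∧ sig D.ly = 38 := by decide +kernel
theorem out_le (h : Ful pt x) : Nat.card (Out G) ≤ 1 ∧ orderOf (x 36) = 17 := by
  have := h.out_le (σ := sig) (D := D) (v := b1) (ls := bls) (by norm_num : Nat.Prime 17) (by rw [sig_a.1]; exact cent1 h)
    (by rw [sig_a.1, sig_a.2.1, sig_a.2.2]; exact gen3 h) bch_ok (by decide +kernel) (allR_step srch_0 (allR_step srch_1 (allR_step srch_2 (allR_step srch_3 (allR_step srch_4 (allR_step srch_5 (allR_step srch_6 (allR_step srch_7 (allR_step srch_8 (allR_end (by decide)))))))))))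
  rwa [sig_a.1] at this
theorem out (h : Ful pt x) : Nat.card (Out G) = 1 := h.out_one (out_le h).1
end O

end CL.Pc.GFi23
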