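/-
Landazuri-Seitz bounds for symplectic groups through the Siegel parabolic subgroup.
-/
import Cfsg.Agent.Known.LSForms
import Cfsg.Agent.Cls.SpMatrix2
import Cfsg.Agent.Cls.SpSimple
import Cfsg.Agent.Char.Linear

set_option autoImplicit false

open Module QuadraticMap Matrix Cfsg

namespace CL.LS

/-- An irreducible representation of degree at least two is not trivial on the commutator subgroup. -/
theorem not_commutator_le_ker {G : Type*} [Group G] [Finite G] {k : ℕ} (ρ : Representation ℂ G (Fin k → ℂ))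
    (hρ : ρ.IsIrreducible) (hk : 2 ≤ k) : ¬ commutator G ≤ MonoidHom.ker ρ := by
  intro h
  have h1 := (CL.Char.isIrrCharacter_character ρ).one_eq_one_iff.mpr (CL.Char.charKer_character ρ ▸ h)
  rw [Representation.char_one, finrank_fin_fun, Nat.cast_eq_one] at h1
  omega

variable {F : Type*} [Field F] {n : Type*} [Fintype n] [DecidableEq n]

/-- Symmetric matrices. -/
def symM (n F : Type*) [Field F] : Submodule F (Matrix n n F) where
  carrier := {S | Sᵀ = S}
  add_mem' hS hT := by
    simp only [Set.mem_ofPred_eq] at hS hT ⊢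
    rw [transpose_add, hS, hT]
  zero_mem' := transpose_zero
  smul_mem' c S hS := by
    simp only [Set.mem_ofPred_eq] at hS ⊢
    rw [transpose_smul, hS]

/-- The unipotent radical of the Siegel parabolic subgroup. -/
def spU (S : symM n F) : symplecticGroup n F :=
  ⟨fromBlocks 1 S.1 0 1, by
    have h : S.1ᵀ = S.1 := S.2
    rw [SymplecticGroup.mem_iff, J, fromBlocks_transpose, fromBlocks_multiply, fromBlocks_multiply, h]
    simp⟩

theorem spU_add (S T : symM n F) : spU (S + T) = spU S * spU T :=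
  Subtype.ext (by simp [spU, fromBlocks_multiply, add_comm])

theorem eq_zero_of_spU_mem_center {S : symM n F} (h : spU S ∈ Subgroup.center (symplecticGroup n F)) :
    S = 0 := by
  refine Subtype.ext (Matrix.ext fun i j => ?_)
  rcases (CL.Sp.mem_center_symplecticGroup_iff _).mp h with h | h <;>
    simpa [spU] using congrFun (congrFun h (Sum.inl i)) (Sum.inr j)

/-- The Levi factor of the Siegel parabolic subgroup. -/
def spL (g : GL n F) : symplecticGroup n F :=
  ⟨fromBlocks (g : Matrix n n F) 0 0 ((g⁻¹ : GL n F) : Matrix n n F)ᵀ, by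
    rw [SymplecticGroup.mem_iff, J, fromBlocks_transpose, fromBlocks_multiply, fromBlocks_multiply]
    simp [← transpose_mul]⟩

/-- Congruence of symmetric matrices. -/
def symAct (k : Matrix n n F) : symM n F →ₗ[F] symM n F where
  toFun S := ⟨k * S.1 * kᵀ, by
    have h : S.1ᵀ = S.1 := S.2
    change (k * S.1 * kᵀ)ᵀ = _
    rw [transpose_mul, transpose_mul, transpose_transpose, h, Matrix.mul_assoc]⟩
  map_add' S T := Subtype.ext (by simp [Matrix.mul_add, Matrix.add_mul])
  map_smul' c S := Subtype.ext (by simp)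

theorem spU_mul_spL (k : GL n F) (S : symM n F) :
    spU S * spL k⁻¹ = spL k⁻¹ * spU (symAct (k : Matrix n n F) S) :=
  Subtype.ext (by simp [spU, spL, symAct, fromBlocks_multiply, ← Matrix.mul_assoc])

/-- The rank one symmetric matrix of a vector. -/
def symSq (v : n → F) : symM n F := ⟨vecMulVec v v, transpose_vecMulVec v v⟩

/-- The symmetrised product of two vectors. -/
def symMul : (n → F) →ₗ[F] (n → F) →ₗ[F] symM n F :=
  LinearMap.mk₂ F (fun u v => ⟨vecMulVec u v + vecMulVec v u, by
      change (vecMulVec u v + vecMulVec v u)ᵀ = _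
      rw [transpose_add, transpose_vecMulVec, transpose_vecMulVec, add_comm]⟩)
    (fun _ _ _ => Subtype.ext (by simp [add_vecMulVec, vecMulVec_add]; abel))
    (fun _ _ _ => Subtype.ext (by simp [smul_vecMulVec, vecMulVec_smul]))
    (fun _ _ _ => Subtype.ext (by simp [add_vecMulVec, vecMulVec_add]; abel))
    (fun _ _ _ => Subtype.ext (by simp [smul_vecMulVec, vecMulVec_smul]))

omit [Fintype n] [DecidableEq n] in
theorem symSq_add (u v : n → F) : symSq (u + v) = symSq u + symSq v + symMul u v :=
  Subtype.ext (by simp [symSq, symMul, add_vecMulVec, vecMulVec_add]; abel)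

omit [Fintype n] [DecidableEq n] in
theorem symSq_smul (c : F) (v : n → F) : symSq (c • v) = (c * c) • symSq v :=
  Subtype.ext (by simp [symSq, smul_vecMulVec, vecMulVec_smul, smul_smul])

theorem symAct_symSq (k : Matrix n n F) (v : n → F) : symAct k (symSq v) = symSq (k *ᵥ v) :=
  Subtype.ext (by simp [symSq, symAct, mul_vecMulVec, vecMulVec_mul, vecMul_transpose])

/-- The quadratic form attached to a linear form on symmetric matrices. -/
def spQ (l : Dual F (symM n F)) : QuadraticForm F (n → F) where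
  toFun v := l (symSq v)
  toFun_smul c v := by rw [symSq_smul, map_smul]
  exists_companion' := ⟨symMul.compr₂ l, fun u v => by rw [symSq_add, map_add, map_add]; rfl⟩

omit [Fintype n] [DecidableEq n] in
theorem spQ_apply (l : Dual F (symM n F)) (v : n → F) : spQ l v = l (symSq v) := rfl

omit [Fintype n] [DecidableEq n] in
theorem polar_spQ (l : Dual F (symM n F)) (u v : n → F) : polar (spQ l) u v = l (symMul u v) := by
  simp only [polar, spQ_apply, symSq_add, map_add]
  ring

variable [Finite F] {K V : Type*} [Field K] [AddCommGroup V] [Module K V] [FiniteDimensional K V]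
  {ρ : symplecticGroup n F →* Module.End K V} {ψ : AddChar F K}

omit [Finite F] in
theorem exists_spQ_eq (l : Dual F (symM n F)) {Q : QuadraticForm F (n → F)} (hQ : Q ∈ qOrbit (spQ l)) :
    ∃ l', finrank K (wsp ρ ψ spU l) ≤ finrank K (wsp ρ ψ spU l') ∧ spQ l' = Q := by
  obtain ⟨k, hk⟩ := hQ
  refine ⟨_, finrank_wsp_le (spU_mul_spL ((CL.Sp.glEquiv n F).symm k)) l, QuadraticMap.ext fun v => ?_⟩
  rw [hk, spQ_apply, LinearMap.comp_apply, symAct_symSq, CL.Sp.glEquiv_symm_mulVec, spQ_apply]

theorem mul_ncard_qOrbit_le (hψ : ψ ≠ 1) (l : Dual F (symM n F)) :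
    finrank K (wsp ρ ψ spU l) * (qOrbit (spQ l)).ncard ≤ finrank K V :=
  mul_ncard_le hψ spU_add spQ _ fun _ hQ => exists_spQ_eq l hQ

theorem ncard_qOrbit_le (hψ : ψ ≠ 1) {l : Dual F (symM n F)} (hl : wsp ρ ψ spU l ≠ ⊥) :
    (qOrbit (spQ l)).ncard ≤ finrank K V :=
  le_trans (Nat.le_mul_of_pos_left _ (Nat.pos_of_ne_zero (mt Submodule.finrank_eq_zero.mp hl))) (mul_ncard_qOrbit_le hψ l)

omit [FiniteDimensional K V] in
theorem exists_weight_sp (hψ : ψ ≠ 1) (hker : ρ.ker ≤ Subgroup.center _) {S : symM n F} (hS : S ≠ 0) :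
    ∃ l, wsp ρ ψ spU l ≠ ⊥ ∧ l S ≠ 0 := by
  obtain ⟨l, h1, h2⟩ := exists_weight (ρ := ρ) hψ spU_add (x := S)
    fun h => hS (eq_zero_of_spU_mem_center (hker h))
  exact ⟨l, h1, fun h => h2 (by rw [h, AddChar.map_zero_eq_one])⟩

theorem sp_odd_bound [Nonempty n] (hψ : ψ ≠ 1) (h2 : (2 : F) ≠ 0) (hker : ρ.ker ≤ Subgroup.center _) :
    (Nat.card F ^ Fintype.card n - 1) / 2 ≤ finrank K V := by
  obtain ⟨i⟩ : Nonempty n := inferInstance
  obtain ⟨l, h3, h4⟩ := exists_weight_sp hψ hker (S := symSq (Pi.single i 1)) fun h => by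
    simpa [symSq, vecMulVec_apply] using congrFun (congrFun (congrArg Subtype.val h) i) i
  have := le_ncard_qOrbit_odd h2 (Q := spQ l) fun h => h4 (by rw [← spQ_apply, h]; rfl)
  rw [finrank_fintype_fun_eq_card] at this
  exact this.trans (ncard_qOrbit_le hψ h3)

theorem sp_even_bound [Nontrivial n] (hψ : ψ ≠ 1) (h2 : (2 : F) = 0) (hker : ρ.ker ≤ Subgroup.center _) :
    (Nat.card F ^ Fintype.card n - 1) * (Nat.card F ^ Fintype.card n - Nat.card F) /
      (2 * (Nat.card F + 1)) ≤ finrank K V := by
  obtain ⟨i, j, hij⟩ := exists_pair_ne n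
  obtain ⟨l, h3, h4⟩ := exists_weight_sp hψ hker (S := symMul (Pi.single i 1) (Pi.single j 1)) fun h => by
    simpa [symMul, vecMulVec_apply, hij, hij.symm] using congrFun (congrFun (congrArg Subtype.val h) i) j
  have := le_ncard_qOrbit_two h2 (Q := spQ l) (polar_spQ l _ _ ▸ h4)
  rw [finrank_fintype_fun_eq_card] at this
  exact Nat.div_le_of_le_mul (this.trans (Nat.mul_le_mul_left _ (ncard_qOrbit_le hψ h3)))

omit [Finite F] in
theorem normal_le_center_or_commutator_le_sp (N : Subgroup (symplecticGroup n F)) [hN : N.Normal] :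
    N ≤ Subgroup.center _ ∨ commutator _ ≤ N := by
  let e := CL.Sp.spEquiv n F
  have := hN.map e.toMonoidHom e.surjective
  rcases CL.Sp.normal_le_center_or_commutator_le (CL.Sp.stdForm_isAlt n F) (CL.Sp.stdForm_nondegenerate n F)
    (N.map e.toMonoidHom) with h | h
  · rw [← CL.Sp.map_center_mulEquiv e] at h
    exact Or.inl ((Subgroup.map_le_map_iff_of_injective e.injective).mp h)
  · refine Or.inr ((Subgroup.map_le_map_iff_of_injective (f := e.toMonoidHom) e.injective).mp (le_trans ?_ h))
    rw [commutator_def, Subgroup.map_commutator]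
    exact Subgroup.commutator_mono le_top le_top

theorem ker_le_center_sp {k : ℕ} (σ : Representation ℂ (symplecticGroup n F) (Fin k → ℂ))
    (hσ : σ.IsIrreducible) (hk : 2 ≤ k) : MonoidHom.ker σ ≤ Subgroup.center _ :=
  (normal_le_center_or_commutator_le_sp _).resolve_right (not_commutator_le_ker σ hσ hk)

omit [Finite F] in
theorem two_ne_zero_of_odd [Fintype F] (h : Odd (Fintype.card F)) : (2 : F) ≠ 0 := fun h2 => by
  have : CharP F 2 := CharTwo.of_one_ne_zero_of_two_eq_zero one_ne_zero h2
  have := FiniteField.even_card_of_char_two (ringChar.eq F 2)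
  rw [Nat.odd_iff] at h
  omega

omit [Finite F] in
theorem two_eq_zero_of_even [Fintype F] (h : Even (Fintype.card F)) : (2 : F) = 0 := by
  have h1 := FiniteField.even_card_iff_char_two.mpr (Nat.even_iff.mp h)
  simpa [h1] using (ringChar.spec F 2).mpr (h1 ▸ dvd_rfl)

end CL.LS
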