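/-
Tables and a stabiliser chain for Psl34 on 21 points (generated by tools/pc/gm.py).
-/
import Cfsg.Agent.Known.PcGen

set_option autoImplicit false
set_option maxRecDepth 100000
set_option linter.all false

namespace CL.Pc.GPsl34
open Cfsg CL.Spor

noncomputable def T1 : ℕ := 0x9a38e4100322c16853671619e3
noncomputable def T2 : ℕ := 0x132b08a0c8c349e888897003dae
noncomputable def T3 : ℕ := 0x143356100c4c2cdd03aa2f4c904
noncomputable def T4 : ℕ := 0x14508a82264c898613cd607360f
noncomputable def T5 : ℕ := 0x220c25418f49466a4b16d839e0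
noncomputable def T6 : ℕ := 0xc4ad43088862a0ef6ba1395220
noncomputable def T7 : ℕ := 0x8314e408c4f741a952d919d240
noncomputable def T8 : ℕ := 0x21848a62d2531d148ce50735e0
noncomputable def T9 : ℕ := 0x1494668314f0735ec5256311020
noncomputable def T10 : ℕ := 0x148ce4c4ad4829cd06bdc220c20
noncomputable def T11 : ℕ := 0xc4ad548ce506bdc829cc220c20
noncomputable def T12 : ℕ := 0x10735ec5257494668314e311020
noncomputable def T13 : ℕ := 0xf741a7320ab531339522220c20
noncomputable def T14 : ℕ := 0x641cb2a4e2a62d2e83da311020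
noncomputable def T15 : ℕ := 0xb531339522f741a7320a220c20
noncomputable def T16 : ℕ := 0xe83daa62d32a4e2641ca311020
noncomputable def ivT : ℕ := 0xf835cb62547414c320440
noncomputable def a1pT : ℕ := 0x125166245c49c488
noncomputable def a2pT : ℕ := 0x88576658865768758650
noncomputable def a2xT : ℕ := 0x68c2c149c8491e73456554c10
noncomputable def a2yT : ℕ := 0x138d44b67028d6c41c8a93e21
noncomputable def a3pT : ℕ := 0xe9dedbecbedcba90
noncomputable def a3xT : ℕ := 0xe15b2c79340f8a6d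
noncomputable def a3yT : ℕ := 0xa3e0a649134c5a63adc5
noncomputable def a4pT : ℕ := 0x41e0
noncomputable def a4xT : ℕ := 6
noncomputable def a4yT : ℕ := 0xe2
noncomputable def sel (c : ℕ) : ℕ := (cond (Nat.ble c 8) (cond (Nat.ble c 4) (cond (Nat.ble c 2) (cond (Nat.ble c 1) T1 T2) (cond (Nat.ble c 3) T3 T4)) (cond (Nat.ble c 6) (cond (Nat.ble c 5) T5 T6) (cond (Nat.ble c 7) T7 T8))) (cond (Nat.ble c 12) (cond (Nat.ble c 10) (cond (Nat.ble c 9) T9 T10) (cond (Nat.ble c 11) T11 T12)) (cond (Nat.ble c 14) (cond (Nat.ble c 13) T13 T14) (cond (Nat.ble c 15) T15 T16))))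
/-- The tables. -/
noncomputable def A (c i : ℕ) : ℕ := forceN c fun c => tget 5 0x1f (sel c) i
def df0 : List (ℕ × ℕ × ℕ) := [(2, 1, 1), (4, 3, 1), (5, 0x20c2, 0), (6, 5, 1), (7, 0x4044084, 0), (8, 7, 1), (9, 0x188, 0), (10, 9, 1), (11, 0x8206187, 0), (12, 0xb, 1), (13, 0x148187145, 0), (14, 0xd, 1), (15, 0xd2c9, 0), (16, 0xf, 1)]
def df : List (ℕ × ℕ × ℕ) := (df0 ++ [])
noncomputable def iv (i : ℕ) : ℕ := tget 5 0x1f ivT i
noncomputable def a1p (i : ℕ) : ℕ := tget 3 7 a1pT i
noncomputable def a1 : Lev := ⟨0, 0, 21, fun i => i, fun i => i, a1p, fun _ => 0⟩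
noncomputable def a2p (i : ℕ) : ℕ := tget 4 0xf a2pT i
noncomputable def a2x (i : ℕ) : ℕ := tget 5 0x1f a2xT i
noncomputable def a2y (i : ℕ) : ℕ := tget 5 0x1f a2yT i
noncomputable def a2 : Lev := ⟨1, 4, 20, a2y, fun i => forceN (Nat.mod i 20) a2x, a2p, fun _ => 0⟩
noncomputable def a3p (i : ℕ) : ℕ := tget 4 0xf a3pT i
noncomputable def a3x (i : ℕ) : ℕ := tget 4 0xf a3xT i
noncomputable def a3y (i : ℕ) : ℕ := tget 5 0x1f a3yT i
noncomputable def a3 : Lev := ⟨5, 8, 16, a3y, fun i => forceN (Nat.mod i 16) a3x, a3p, fun _ => 0⟩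
noncomputable def a4p (i : ℕ) : ℕ := tget 5 0x1f a4pT i
noncomputable def a4x (i : ℕ) : ℕ := tget 2 3 a4xT i
noncomputable def a4y (i : ℕ) : ℕ := tget 3 7 a4yT i
noncomputable def a4 : Lev := ⟨2, 14, 3, a4y, fun i => forceN (Nat.mod i 3) a4x, a4p, fun _ => 0⟩
noncomputable def ach : List Lev := [a1, a2, a3, a4]
noncomputable def als : List (Lev × ℕ) := [(a2, 0), (a3, 0), (a4, 0)]
theorem df0_0 : allR (defsChk A 21 7 df0) 0 21 = true := by decide +kernel
theorem a1_fix : fixChk (A) 16 21 [] a1 = true := by decide +kernel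
theorem a1_pt_0 : allR (ptChk (A) 16 21 5 a1) 0 21 = true := by decide +kernel
theorem a2_fix : fixChk (A) 16 21 [0] a2 = true := by decide +kernel
theorem a2_pt_0 : allR (ptChk (A) 16 21 5 a2) 0 20 = true := by decide +kernel
theorem a3_fix : fixChk (A) 16 21 [1, 0] a3 = true := by decide +kernel
theorem a3_pt_0 : allR (ptChk (A) 16 21 5 a3) 0 16 = true := by decide +kernel
theorem a4_fix : fixChk (A) 16 21 [5, 1, 0] a4 = true := by decide +kernel
theorem a4_pt_0 : allR (ptChk (A) 16 21 5 a4) 0 3 = true := by decide +kernel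
theorem df_ok : ∀ d ∈ df, ∀ i, 0 ≤ i → i < 21 → defChk2 A 21 7 d i = true :=
  defs_app (allR_step df0_0 (allR_end (by decide))) (fun _ h => nomatch h)
theorem ach_ok : ChainOk (A) 16 21 5 ach [] :=
  ChainOk.cons a1_fix (allR_step a1_pt_0 (allR_end (by decide))) (ChainOk.cons a2_fix (allR_step a2_pt_0 (allR_end (by decide))) (ChainOk.cons a3_fix (allR_step a3_pt_0 (allR_end (by decide))) (ChainOk.cons a4_fix (allR_step a4_pt_0 (allR_end (by decide))) (trivial))))
universe u
variable {G : Type u} {X : Type*} [Group G] [MulAction G X] {pt : ℕ → X} {x : ℕ → G}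
/-- The input: an action with the tables of the letters [1, 3]. -/
abbrev Inp (G : Type u) {X : Type*} [Group G] [MulAction G X] (pt : ℕ → X) : Prop := Input G pt 21 A 10 20160
abbrev Ful (pt : ℕ → X) (x : ℕ → G) : Prop := Full pt 21 A 10 20160 16 16 5 ach [0, 1, 5, 2] x
theorem full (I : Inp G pt) : ∃ x : ℕ → G, Ful pt x := I.full df_ok ach_ok (by decide +kernel)

end CL.Pc.GPsl34
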