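/-
The 2-part of the multiplier of Psl34 (generated by tools/pc/gm.py).
-/
import Cfsg.Agent.Known.GPsl34

set_option autoImplicit false
set_option maxRecDepth 100000
set_option linter.all false

namespace CL.Pc.GPsl34
open Cfsg CL.Spor

namespace P2
noncomputable def WT : ℕ := 0x40a18381260c30e086082000000000f2c520000000049628e28000003c92c5206000000000796302000001030e1861c000001260a3880800000000000000
def relT : ℕ := 0x180030006000c00180000000000a00140028005000000000a20004030800000006143000600000000142000000000000000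
def dT : ℕ := 0x35886ac8
def eT : ℕ := 0x288101440284061000000030182060f0a08000
def D : Data :=
  ⟨2, 6, 64, 1, 32, 16, 38, 20, 6, fun i j => tget 15 0x7fff relT (tri i j), 28, 5, 2,
    fun k l => tget 3 7 dT (Nat.add (Nat.mul 5 k) l), fun k l => tget 15 0x7fff eT (Nat.add (Nat.mul 5 k) l)⟩
def S : Fin2 :=
  ⟨30, 2, [0, 0x201, 0x501, 0x901, 0xe01, 0x43e, 0x83e00402],
    [0, 0, 0, 0, 0, 0, 0, 0x1f000001000000000000000000000000, 0, 0, 0, 0x14070000031f110d000019000a0d1e00000810, 0x101a1f000d0d0303001e060116031600000808, 0x1f00000000111f100000000010101f00000808, 0, 0, 0xc1a00001d010f130000060016130300000810, 0xc1a00000d111f030000061f16031200000818, 0xe1a00001d0f11030000060007030400000008, 0xe1a00000d1f0113001f060006131400000010, 0x14060000131f010d00001a001a0d0e00000010, 0, 0x60c00000710010a00001400030a1900000808, 0xe1a00000d0e02040100060117031500000808, 0xc1a00001d0010130000060016130300000810, 0x60c00001710110a0000130013090900000008, 0x1000000000000000000000000, 0x1206000013021d0c00001a00190d0b00000010],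
    [(0x1b01019010140100b010080100401, 4, 0x1e001c1e00000000000202021f0000), (0x18010140100d0100401, 4, 0x1e001e000000020002020211020000)]⟩
def r0 : List RelC := [⟨0, 5, 0x41, 0x101e⟩, ⟨0, 6, 0x41, 0x161e⟩, ⟨0, 6, 0xc3, 0x181e⟩, ⟨0, 6, 0x104, 0x191e⟩, ⟨0, 2, 0x41, 0x141f0101f0041e⟩, ⟨0, 4, 0x41, 0x1b1f0161f00b1e⟩, ⟨0, 4, 0xc3, 0x141f0121f00d1e⟩, ⟨0, 2, 0x42, 0x14010110100402⟩, ⟨0, 4, 0x44, 0x1b010190100b02⟩, ⟨0, 4, 0xc4, 0x14010130100d02⟩, ⟨0, 3, 0x82, 0x1b1f01a1f0171f0141f0111f0081e⟩, ⟨0, 3, 0x83, 0x1b0101a0101801014010120100802⟩, ⟨0, 5, 0x44, 0x1a1f⟩, ⟨0, 4, 0x43, 0x1a1f018010101f⟩, ⟨0, 3, 0x42, 0x1a010161f0121f0101f⟩, ⟨1, 0xc4, 0x103, 0x1a1f00701⟩, ⟨2, 0x83, 0xc2, 0x131e0110100c01⟩]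
def rels : List RelC := (r0 ++ [])
noncomputable def W (i : ℕ) : ℕ := tget 59 0x7ffffffffffffff WT i
def ch : List (ℕ × ℕ × List ℕ) := [(0, 21, [3, 1]), (1, 21, [6, 5, 4, 2])]
theorem r0_ok : allL (chkRel D) r0 = true := by decide +kernel
theorem g1 : goalsChk D S (rels.map (·.s)) 1 6 = true := by decide +kernel
theorem w1 : rowsChk D (eqB (lazyA A 11 W) (D.n + D.NF) 5 [0, 1, 5, 2]) 1 6 = true := by decide +kernel
theorem f0 : fusChk D (eqB (lazyA A 11 W) (D.n + D.NF) 5 [0, 1, 5, 2]) 0 = true := by decide +kernel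
theorem f1 : fusChk D (eqB (lazyA A 11 W) (D.n + D.NF) 5 [0, 1, 5, 2]) 1 = true := by decide +kernel
theorem ch_ok : chainChk (lazyA A 11 W) D.n 5 1 ch [] (D.p ^ D.n) = true := by decide +kernel
theorem params : Params D S rels 4 :=
  ⟨(by norm_num : Nat.Prime 2), by decide +kernel, by decide +kernel, by decide +kernel, by decide +kernel,
    by decide +kernel, by decide +kernel, by decide +kernel, by decide +kernel, by decide +kernel,
    by decide +kernel, by decide +kernel⟩
theorem checks : Checks D S rels :=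
  ⟨by decide +kernel, allL_app r0_ok (allL_end), cover_step g1 (cover_end (by decide)), by decide +kernel⟩
universe u
variable {G : Type u} {X : Type*} [Group G] [MulAction G X] {pt : ℕ → X} {x : ℕ → G}
theorem bound (h : Ful pt x) : PBound G 2 4 :=
  h.pbound params checks (cover_step w1 (cover_end (by decide))) (show ∀ k < 2, _ from below_step f1 (below_step f0 (below_end))) ch_ok (by decide +kernel)
end P2

end CL.Pc.GPsl34
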