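import Cfsg.Agent.Spor.TCSound

/-! coset enumeration certificate generated by tools/tc -/

set_option maxRecDepth 100000
set_option autoImplicit false
set_option linter.all false

namespace CL.TC.GPsl34L1

noncomputable def rows0 : Tr ℕ := (.leaf (nat_lit 0x19103f130664308cca1389433320776412ccc2991447198a68712fe20f94c57338ae8511cc62855c461589c232186e7406c8e23fc417298ae2312c8a2bbd0235287e8311da619b502b3b0aed80863e2313c6c278d04f1189e3313c8a27bd04f7189f0405e8613e8c47ba82fa308d8c1fe0c4bf8828271203e1311cc6239d03b4286f8409c6829d4c57ba83f030bfe2099cc579c04f730be2619e504cd189c4af183e440ece82588c171a0a74409e46159cc13198ae9614f6a279e43bd986ff104ce62a1cfe2078a037298665705c2e118501b198864710c26177e03ee9836330bbe62182042e9855d907936530cc662bfc40f09856940fd081fa502339835e310daa0fb8c17498a6b313d6811ad03f5187c032a076430ecc6258cc473a0ae750cfe207994372184f4306d6a11f0c374286e6311cce1bd1c296984c431b81e5306cae299d4273a096530ece8079cc3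3f881fd40ed2613f1447398769507ca61c7bc262b9903f4182e6610cc61d850577182ef307c8a15a1837f881f0506e1415b98538185f24123461604c460589413220167304cc805fc40b798271512c4a2192043d201f8612e2613e0c178b062d2fb8463514c481f8200f2981e0407e6a23f0c27f8816330cca60f9d013618a6f30ce661d7a0411d8cc17198365315cc811e504b3206fd40ae6623d504f2b076a60dfe205ca42f918975306eac0655c262978c2b2984e5515cc60d8104352036830fdc629b4c13f8816a30ed461fed44f618a7d404345f411c26259cc1f4283e160acca07c18337282ec30fec625f8c5733857f102f680770c43418690b2304e3305cc62999437130867508d0a1fa4c23ab0775305de61979043bb8376306fe205d9424399141b2204e4310d2819f8c531988ed307de819d941b7989f6313dec1ff0c13f880fe313f2a162fc260580c2f1a016130bf4605a0c2f8205ee302dce11a1c4731857e312fe203f5017e1847e311216230dfc6217cc2bf187e5307ccc1598c37f1877e30df6605e4c2ff1867a307f8605d0c27f8808271a05e2504c661788c133a85fb304dea09f8c2fe201fe30afc613f8c23ea01fe307fe203f8c1839e4c07d100fa301f6403ecc07e100fc301fa403f4c07f100fe301fe403f8c17f1827e303fc60400))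
noncomputable def recs0 : Tr ℕ := (.leaf (nat_lit 0x19300c4c060002ed016d00b1c056802a10147009ec04d00255))
noncomputable def rows : Tr ℕ := rows0
noncomputable def recs : Tr ℕ := recs0
noncomputable def ci0 : CI := ⟨[], (nat_lit 0), false, (.node (nat_lit 1) (.leaf Rule.defn) (.leaf Rule.copy)), (.leaf (XRule.rot (nat_lit 0) [] 50 0))⟩
noncomputable def ci9 : CI := ⟨[0], (nat_lit 28), false, (.node (nat_lit 8) (.node (nat_lit 4) (.node (nat_lit 2) (.node (nat_lit 1) (.leaf Rule.defn) (.leaf Rule.copy)) (.node (nat_lit 1) (.leaf (Rule.fwd [nat_lit 28] 50 0)) (.leaf (Rule.fwd [nat_lit 66, nat_lit 9, nat_lit 85] 33 3)))) (.node (nat_lit 2) (.node (nat_lit 1) (.leaf (Rule.fwd [nat_lit 85, nat_lit 9, nat_lit 66] 33 1)) (.leaf (Rule.fwd [nat_lit 9, nat_lit 9, nat_lit 9, nat_lit 9] 46 0))) (.node (nat_lit 1) (.leaf (Rule.fwd [nat_lit 142, nat_lit 9, nat_lit 142] 38 0)) (.leaf (Rule.fwd [nat_lit 47, nat_lit 123, nat_lit 47,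 nat_lit 28, nat_lit 47] 35 2))))) (.leaf (Rule.fwd [nat_lit 199, nat_lit 66, nat_lit 142, nat_lit 142, nat_lit 180] 40 0))), (.node (nat_lit 1) (.leaf XRule.defn) (.leaf XRule.defn))⟩
noncomputable def ci28 : CI := ⟨[1], (nat_lit 9), false, (.node (nat_lit 4) (.node (nat_lit 2) (.node (nat_lit 1) (.leaf Rule.defn) (.leaf Rule.copy)) (.node (nat_lit 1) (.leaf (Rule.fwd [nat_lit 9] 50 0)) (.leaf (Rule.fwd [nat_lit 104, nat_lit 28, nat_lit 47] 32 2)))) (.node (nat_lit 2) (.node (nat_lit 1) (.leaf (Rule.fwd [nat_lit 47, nat_lit 28, nat_lit 104] 32 0)) (.leaf (Rule.fwd [nat_lit 28, nat_lit 28, nat_lit 28, nat_lit 28] 47 0))) (.leaf (Rule.fwd [nat_lit 47, nat_lit 9, nat_lit 47, nat_lit 123, nat_lit 47] 35 4)))), (.node (nat_lit 1) (.leaf XRule.defn) (.leaf XRule.defn))⟩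
noncomputable def ci47 : CI := ⟨[2], (nat_lit 66), false, (.node (nat_lit 4) (.node (nat_lit 2) (.node (nat_lit 1) (.leaf Rule.defn) (.leaf Rule.copy)) (.node (nat_lit 1) (.leaf (Rule.fwd [nat_lit 66] 50 0)) (.leaf (Rule.fwd [nat_lit 47, nat_lit 47] 36 0)))) (.node (nat_lit 2) (.node (nat_lit 1) (.leaf (Rule.fwd [nat_lit 9, nat_lit 47, nat_lit 123, nat_lit 47, nat_lit 28] 35 3)) (.leaf (Rule.fwd [nat_lit 123, nat_lit 47, nat_lit 28, nat_lit 47, nat_lit 9] 35 1))) (.node (nat_lit 1) (.leaf (Rule.fwd [nat_lit 28, nat_lit 104, nat_lit 28] 32 1)) (.leaf (Rule.fwd [nat_lit 218, nat_lit 28, nat_lit 161, nat_lit 123, nat_lit 123] 41 3))))), (.node (nat_lit 1) (.leaf XRule.defn) (.leaf XRule.defn))⟩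
noncomputable def ci66 : CI := ⟨[3], (nat_lit 47), false, (.node (nat_lit 8) (.node (nat_lit 4) (.node (nat_lit 2) (.node (nat_lit 1) (.leaf Rule.defn) (.leaf Rule.copy)) (.node (nat_lit 1) (.leaf (Rule.fwd [nat_lit 47] 50 0)) (.leaf (Rule.fwd [nat_lit 9, nat_lit 85, nat_lit 9] 33 2)))) (.node (nat_lit 2) (.node (nat_lit 1) (.leaf (Rule.fwd [nat_lit 28, nat_lit 66, nat_lit 9, nat_lit 66, nat_lit 142] 34 0)) (.leaf (Rule.fwd [nat_lit 9, nat_lit 66, nat_lit 9, nat_lit 66, nat_lit 9, nat_lit 66, nat_lit 9, nat_lit 66, nat_lit 9] 42 1))) (.node (nat_lit 1) (.leaf (Rule.fwd [nat_lit 28, nat_lit 66, nat_lit 9, nat_lit 9, nat_lit 66, nat_lit 9, nat_lit 47, nat_lit 28, nat_lit 47, nat_lit 9, nat_lit 47, nat_lit 28, nat_lit 47, nat_lit 28, nat_lit 66, nat_lit 9, nat_lit 66, nat_lit 9, nat_lit 9, nat_lit 47, nat_lit 9, nat_lit 9] 44 5)) (.leaf (Rule.fwd [nat_lit 28, nat_lit 28, nat_lit 66, nat_lit 28, nat_lit 28, nat_lit 66,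 nat_lit 28, nat_lit 28, nat_lit 66, nat_lit 28, nat_lit 28] 49 0))))) (.node (nat_lit 1) (.leaf (Rule.fwd [nat_lit 66, nat_lit 66] 37 0)) (.leaf (Rule.fwd [nat_lit 142, nat_lit 66, nat_lit 28, nat_lit 66, nat_lit 9] 34 4)))), (.node (nat_lit 1) (.leaf XRule.defn) (.leaf XRule.defn))⟩
noncomputable def ci85 : CI := ⟨[4], (nat_lit 104), true, (.node (nat_lit 4) (.node (nat_lit 2) (.node (nat_lit 1) (.leaf Rule.defn) (.leaf Rule.copy)) (.node (nat_lit 1) (.leaf (Rule.fwd [nat_lit 104] 50 0)) (.leaf (Rule.fwd [nat_lit 123, nat_lit 161] 17 2)))) (.node (nat_lit 2) (.node (nat_lit 1) (.leaf (Rule.fwd [nat_lit 9, nat_lit 66, nat_lit 9] 33 0)) (.leaf (Rule.fwd [nat_lit 256, nat_lit 85, nat_lit 85, nat_lit 123, nat_lit 104, nat_lit 142] 20 5))) (.leaf (Rule.fwd [nat_lit 85, nat_lit 85, nat_lit 85, nat_lit 85] 30 0)))), (.node (nat_lit 1) (.leaf XRule.defn) (.leaf XRule.ax))⟩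
noncomputable def ci104 : CI := ⟨[5], (nat_lit 85), true, (.node (nat_lit 4) (.node (nat_lit 2) (.node (nat_lit 1) (.leaf Rule.defn) (.leaf Rule.copy)) (.node (nat_lit 1) (.leaf (Rule.fwd [nat_lit 85] 50 0)) (.leaf (Rule.fwd [nat_lit 180, nat_lit 142] 16 1)))) (.node (nat_lit 2) (.node (nat_lit 1) (.leaf (Rule.fwd [nat_lit 28, nat_lit 47, nat_lit 28] 32 3)) (.leaf (Rule.fwd [nat_lit 104, nat_lit 104, nat_lit 104, nat_lit 104] 31 0))) (.node (nat_lit 1) (.leaf (Rule.fwd [nat_lit 142, nat_lit 142, nat_lit 218, nat_lit 123, nat_lit 104] 18 2)) (.leaf (Rule.fwd [nat_lit 237, nat_lit 104, nat_lit 123, nat_lit 85, nat_lit 142, nat_lit 104] 21 1))))), (.node (nat_lit 1) (.leaf XRule.defn) (.leaf XRule.ax))⟩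
noncomputable def ci123 : CI := ⟨[6], (nat_lit 142), true, (.node (nat_lit 4) (.node (nat_lit 2) (.node (nat_lit 1) (.leaf Rule.defn) (.leaf Rule.copy)) (.node (nat_lit 1) (.leaf (Rule.fwd [nat_lit 142] 50 0)) (.leaf (Rule.fwd [nat_lit 104, nat_lit 104, nat_lit 142, nat_lit 142, nat_lit 218] 18 0)))) (.node (nat_lit 2) (.node (nat_lit 1) (.leaf (Rule.fwd [nat_lit 161, nat_lit 85] 17 1)) (.leaf (Rule.fwd [nat_lit 28, nat_lit 123, nat_lit 28] 39 0))) (.node (nat_lit 1) (.leaf (Rule.fwd [nat_lit 47, nat_lit 28, nat_lit 47, nat_lit 9, nat_lit 47] 35 0)) (.leaf (Rule.fwd [nat_lit 123, nat_lit 85, nat_lit 85, nat_lit 142, nat_lit 199] 19 5))))), (.node (nat_lit 1) (.leaf XRule.defn) (.leaf XRule.ax))⟩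
noncomputable def ci142 : CI := ⟨[7], (nat_lit 123), true, (.node (nat_lit 4) (.node (nat_lit 2) (.node (nat_lit 1) (.leaf Rule.defn) (.leaf Rule.copy)) (.node (nat_lit 1) (.leaf (Rule.fwd [nat_lit 123] 50 0)) (.leaf (Rule.fwd [nat_lit 9, nat_lit 142, nat_lit 9] 38 1)))) (.node (nat_lit 2) (.node (nat_lit 1) (.leaf (Rule.fwd [nat_lit 66, nat_lit 28, nat_lit 66, nat_lit 9, nat_lit 66] 34 5)) (.leaf (Rule.fwd [nat_lit 180, nat_lit 9, nat_lit 199, nat_lit 66, nat_lit 142] 40 4))) (.leaf (Rule.fwd [nat_lit 104, nat_lit 180] 16 0)))), (.node (nat_lit 1) (.leaf XRule.defn) (.leaf XRule.ax))⟩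
noncomputable def ci161 : CI := ⟨[8], (nat_lit 180), true, (.node (nat_lit 4) (.node (nat_lit 2) (.node (nat_lit 1) (.leaf Rule.defn) (.leaf Rule.copy)) (.node (nat_lit 1) (.leaf (Rule.fwd [nat_lit 180] 50 0)) (.leaf (Rule.fwd [nat_lit 85, nat_lit 123] 17 0)))) (.node (nat_lit 2) (.node (nat_lit 1) (.leaf (Rule.fwd [nat_lit 161, nat_lit 161] 4 0)) (.leaf (Rule.fwd [nat_lit 123, nat_lit 123, nat_lit 47, nat_lit 218, nat_lit 28] 41 0))) (.leaf (Rule.fwd [nat_lit 237, nat_lit 161, nat_lit 237] 10 0)))), (.node (nat_lit 1) (.leaf XRule.defn) (.leaf XRule.ax))⟩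
noncomputable def ci180 : CI := ⟨[9], (nat_lit 161), true, (.node (nat_lit 4) (.node (nat_lit 2) (.node (nat_lit 1) (.leaf Rule.defn) (.leaf Rule.copy)) (.node (nat_lit 1) (.leaf (Rule.fwd [nat_lit 161] 50 0)) (.leaf (Rule.fwd [nat_lit 142, nat_lit 104] 16 2)))) (.node (nat_lit 1) (.leaf (Rule.fwd [nat_lit 180, nat_lit 180] 5 0)) (.leaf (Rule.fwd [nat_lit 9, nat_lit 199, nat_lit 66, nat_lit 142, nat_lit 142] 40 5)))), (.node (nat_lit 1) (.leaf XRule.defn) (.leaf XRule.ax))⟩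
noncomputable def ci199 : CI := ⟨[10], (nat_lit 218), true, (.node (nat_lit 4) (.node (nat_lit 2) (.node (nat_lit 1) (.leaf Rule.defn) (.leaf Rule.copy)) (.node (nat_lit 1) (.leaf (Rule.fwd [nat_lit 66, nat_lit 142, nat_lit 142, nat_lit 180, nat_lit 9] 40 1)) (.leaf (Rule.fwd [nat_lit 218] 50 0)))) (.node (nat_lit 1) (.leaf (Rule.fwd [nat_lit 123, nat_lit 123, nat_lit 85, nat_lit 85, nat_lit 142] 19 0)) (.leaf (Rule.fwd [nat_lit 85, nat_lit 199, nat_lit 85] 22 1)))), (.node (nat_lit 1) (.leaf XRule.defn) (.leaf XRule.ax))⟩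
noncomputable def ci218 : CI := ⟨[11], (nat_lit 199), true, (.node (nat_lit 4) (.node (nat_lit 2) (.node (nat_lit 1) (.leaf Rule.defn) (.leaf Rule.copy)) (.node (nat_lit 1) (.leaf (Rule.fwd [nat_lit 199] 50 0)) (.leaf (Rule.fwd [nat_lit 104, nat_lit 218, nat_lit 104] 23 0)))) (.node (nat_lit 2) (.node (nat_lit 1) (.leaf (Rule.fwd [nat_lit 28, nat_lit 161, nat_lit 123, nat_lit 123, nat_lit 47] 41 2)) (.leaf (Rule.fwd [nat_lit 180, nat_lit 237, nat_lit 294] 13 2))) (.leaf (Rule.fwd [nat_lit 237, nat_lit 218, nat_lit 237] 15 1)))), (.node (nat_lit 1) (.leaf XRule.defn) (.leaf XRule.ax))⟩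
noncomputable def ci237 : CI := ⟨[12], (nat_lit 256), true, (.node (nat_lit 4) (.node (nat_lit 2) (.node (nat_lit 1) (.leaf Rule.defn) (.leaf Rule.copy)) (.node (nat_lit 1) (.leaf (Rule.fwd [nat_lit 256] 50 0)) (.leaf (Rule.fwd [nat_lit 104, nat_lit 123, nat_lit 85, nat_lit 142, nat_lit 104, nat_lit 104] 21 0)))) (.node (nat_lit 2) (.node (nat_lit 1) (.leaf (Rule.fwd [nat_lit 161, nat_lit 237, nat_lit 161] 10 1)) (.leaf (Rule.fwd [nat_lit 294, nat_lit 161, nat_lit 199] 2 2))) (.node (nat_lit 1) (.leaf (Rule.fwd [nat_lit 237, nat_lit 237] 8 0)) (.leaf (Rule.fwd [nat_lit 218, nat_lit 237, nat_lit 218] 15 0))))), (.node (nat_lit 1) (.leaf XRule.defn) (.leaf XRule.ax))⟩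
noncomputable def ci256 : CI := ⟨[13], (nat_lit 237), true, (.node (nat_lit 4) (.node (nat_lit 2) (.node (nat_lit 1) (.leaf Rule.defn) (.leaf Rule.copy)) (.node (nat_lit 1) (.leaf (Rule.fwd [nat_lit 237] 50 0)) (.leaf (Rule.fwd [nat_lit 85, nat_lit 85, nat_lit 123, nat_lit 104, nat_lit 142, nat_lit 85] 20 6)))) (.leaf (Rule.fwd [nat_lit 256, nat_lit 256] 9 0))), (.node (nat_lit 1) (.leaf XRule.defn) (.leaf XRule.ax))⟩
noncomputable def ci275 : CI := ⟨[14], (nat_lit 294), true, (.node (nat_lit 4) (.node (nat_lit 2) (.node (nat_lit 1) (.leaf Rule.defn) (.leaf Rule.copy)) (.node (nat_lit 1) (.leaf (Rule.fwd [nat_lit 294] 50 0)) (.leaf (Rule.fwd [nat_lit 256, nat_lit 161, nat_lit 199] 12 2)))) (.node (nat_lit 2) (.node (nat_lit 1) (.leaf (Rule.fwd [nat_lit 256, nat_lit 218, nat_lit 180] 3 0)) (.leaf (Rule.fwd [nat_lit 142, nat_lit 275, nat_lit 142] 25 0))) (.node (nat_lit 1) (.leaf (Rule.fwd [nat_lit 161, nat_lit 275,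 nat_lit 161] 26 1)) (.leaf (Rule.fwd [nat_lit 275, nat_lit 275] 0 0))))), (.node (nat_lit 1) (.leaf XRule.defn) (.leaf XRule.ax))⟩
noncomputable def ci294 : CI := ⟨[15], (nat_lit 275), true, (.node (nat_lit 4) (.node (nat_lit 2) (.node (nat_lit 1) (.leaf Rule.defn) (.leaf Rule.copy)) (.node (nat_lit 1) (.leaf (Rule.fwd [nat_lit 275] 50 0)) (.leaf (Rule.fwd [nat_lit 161, nat_lit 199, nat_lit 237] 2 3)))) (.node (nat_lit 2) (.node (nat_lit 1) (.leaf (Rule.fwd [nat_lit 180, nat_lit 294, nat_lit 180] 27 0)) (.leaf (Rule.fwd [nat_lit 123, nat_lit 294, nat_lit 123] 24 1))) (.leaf (Rule.fwd [nat_lit 199, nat_lit 294, nat_lit 199] 28 1)))), (.node (nat_lit 1) (.leaf XRule.defn) (.leaf XRule.ax))⟩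
noncomputable def outer : Tr CI := (.node (nat_lit 1) (.node (nat_lit 2) (.node (nat_lit 4) (.node (nat_lit 8) (.node (nat_lit 256) (.leaf ci0) (.leaf ci256)) (.leaf ci104)) (.node (nat_lit 8) (.leaf ci180) (.leaf ci28))) (.node (nat_lit 4) (.node (nat_lit 8) (.leaf ci66) (.leaf ci218)) (.node (nat_lit 8) (.leaf ci294) (.leaf ci142)))) (.node (nat_lit 2) (.node (nat_lit 4) (.node (nat_lit 8) (.leaf ci161) (.leaf ci9)) (.node (nat_lit 8) (.leaf ci85) (.leaf ci237))) (.node (nat_lit 4) (.node (nat_lit 8) (.leaf ci275) (.leaf ci123)) (.node (nat_lit 8) (.leaf ci199) (.leaf ci47)))))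
def cols : List ℕ := [nat_lit 9, nat_lit 28, nat_lit 47, nat_lit 66, nat_lit 85, nat_lit 104, nat_lit 123, nat_lit 142, nat_lit 161, nat_lit 180, nat_lit 199, nat_lit 218, nat_lit 237, nat_lit 256, nat_lit 275, nat_lit 294]
def invL : List ℕ := [1, 0, 3, 2, 5, 4, 7, 6, 9, 8, 11, 10, 13, 12, 15, 14]
def rels : List (List ℕ) := [[14, 14, 14], [8, 10, 12, 15], [8, 8, 8], [10, 10, 10], [12, 12, 12], [8, 12, 8, 12], [8, 10, 14, 13], [10, 13, 10, 13], [7, 5, 9], [6, 5, 5, 7, 7, 11], [4, 4, 6, 5, 7, 4, 13], [4, 10, 4, 10], [6, 15, 6, 15], [8, 14, 8, 14], [10, 15, 10, 15], [4, 4, 4, 4, 4], [1, 2, 1, 5], [3, 1, 3, 0, 3, 7], [2, 2, 2], [0, 7, 0, 7], [0, 10, 3, 7, 7, 9], [0, 3, 0, 3, 0, 3, 0, 3, 0, 3], [0, 0, 2, 0, 0, 3, 1, 3, 0, 0, 3, 0, 2, 1, 2, 0, 2, 1, 2, 1, 3, 0, 3], [0, 0, 0, 0, 0], [0, 0, 2, 0, 0, 2, 0, 0, 2, 0, 0, 2]]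
def subs : List (List ℕ) := [[4], [5], [6], [7], [8], [9], [10], [11], [12], [13], [14], [15]]
noncomputable def row (n : ℕ) : ℕ := rowOf (fun h => rows.get h) (nat_lit 5) (nat_lit 31) (nat_lit 313) (nat_lit 0x1ffffffffffffffffffffffffffffffffffffffffffffffffffffffffffffffffffffffffffffff) n
noncomputable def xleaf (h : ℕ) : ℕ := recs.get h
noncomputable def mF : ℕ → ℕ := mainRow row (rowChk row xleaf outer (nat_lit 8) (nat_lit 255) (nat_lit 15) (nat_lit 12) (nat_lit 4095) (nat_lit 524287) (nat_lit 128) (nat_lit 21) (nat_lit 256) (nat_lit 9) (nat_lit 511) (nat_lit 17) (nat_lit 131071) (nat_lit 8) (nat_lit 255) cols)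
noncomputable def xF : ℕ → ℕ → ℕ := xLeaf row xleaf outer (nat_lit 255) (nat_lit 12) (nat_lit 524287) (nat_lit 128) (nat_lit 21) (nat_lit 9) (nat_lit 511) (nat_lit 17) (nat_lit 131071) (nat_lit 130560) (nat_lit 8) (nat_lit 255) (nat_lit 10) (nat_lit 1023) (nat_lit 2) (nat_lit 3) (nat_lit 294) (nat_lit 10752) (nat_lit 128)
noncomputable def cert : Cert := ⟨row, xleaf, outer, cols, nat_lit 8, nat_lit 255, nat_lit 15, nat_lit 12, nat_lit 4095, nat_lit 524287, nat_lit 128, nat_lit 21, nat_lit 256, nat_lit 9, nat_lit 511, nat_lit 17, nat_lit 131071, nat_lit 130560, nat_lit 8, nat_lit 255, nat_lit 10, nat_lit 1023, nat_lit 2, nat_lit 3, nat_lit 294, nat_lit 10752, nat_lit 128, nat_lit 19, nat_lit 128, nat_lit 1⟩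
theorem tabok : tabOK (fun i => invL.getD i i) rels subs outer cols (nat_lit 9) (nat_lit 294) = true := by decide +kernel
theorem m0 : rng mF (nat_lit 1) (nat_lit 21) = 0 := by decide +kernel
noncomputable def s0 : List ℕ := [nat_lit 0x401004010040100000000000000000000000000000000000000000000000000000000000000000000000000000000000000000000000000000000000000000000000000000000000000000000000000000000000000000000000000000000000000000000000000000000000000000000000000000000000000000000000000000000000000000000000000000000000000000000000000000000000000000]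
theorem x0 : xs xF s0 (nat_lit 1) = 0 := by decide +kernel
theorem mz0 : AllZ mF 1 (nat_lit 22) := (AllZ.step (AllZ.nil mF 1) (nat_lit 21) (nat_lit 22) rfl m0)
theorem xz0 : XZ xF (nat_lit 1) := (XZ.step (XZ.nil xF) s0 (nat_lit 1) (nat_lit 1) (by decide +kernel) x0)
/-- the certificate (21 points) is valid -/
theorem valid : cert.Valid (fun i => invL.getD i i) rels subs 16 :=
  ⟨by decide +kernel, tabok, by decide +kernel, mz0, xz0⟩
theorem cert_N : cert.N = 21 := rfl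

end CL.TC.GPsl34L1
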