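import Cfsg.Agent.Spor.TCSound

/-! coset enumeration certificate generated by tools/tc -/

set_option maxRecDepth 100000
set_option autoImplicit false
set_option linter.all false

namespace CL.TC.GPsl34L2

noncomputable def rows0 : Tr ℕ := (.leaf (nat_lit 0xd5019acc43438668310d8e19a8c4362086a30cd8a1dc902bf8856c3131bd6623b4c2b6986ff105df011b50376b88ef70fda623b4c436d0a7b307a0f4c13d8c37f8826d60bd920dad02b43836e305dc813b0c3361886b70fb3d5015b104f53036f709da609b503b6987ec313d660fb944f6187ff10408d8829b18334a8a6930cd2629d10335a066b314dca27e9037f8826d5121bda61fb9c3fe1877f103dc617cd01f7189ee611d4e09b0c1b51896d611a0f4611dd40ff881fd40fdca23d5013a984f050bdc611acc53d9867230bb3ef025dcc276982ee813dc827e9423f881fb404f2621c8c1fa3847c30c67d6621a4c53528867314eae21ad0535a0a6a310dac25fc40fea86fc40e2ef080bc581f61896f604de60fbd83f79876f309fe207c4c279c077a30841dcc27a4c479983ff102d8c25a901b91857360ae2629a981764037e314a0f0e1be4c4b7188eb706f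6807fc40b8285f650ee4817b4c4b8402f03037af2a07ed03bba0476308f261bb904fe183ff102f860bbd03bda05f330d54e0617c1417a1817440ae8a1fc142ff8817d408e681bb1847e309fc30667d2e09ae00b5184e9311d6815ad04b4c02e7312daa1ffc40bea83eb30a2ede60fdcc2ff189ee70ddcc0bb50177b0968306d2615f5023f8816f3091bf4805a0c1b7185fe312ecc1db9c47d186fc303fe203a4c3ff188fe31041ec61de0c23f187fe30ef8605e9027ea027e30dfc619f8c2f8c84ff10108d460de4c13f18575507fc613f4c0ff1847e307fc60df5007f880fe3051bf6603f0807e180fd201fa603f8807f180ff201f8605f8c13f181fe30200))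
noncomputable def recs0 : Tr ℕ := (.leaf (nat_lit 0x1d901c601b301a0018d017a01670154))
noncomputable def rows : Tr ℕ := rows0
noncomputable def recs : Tr ℕ := recs0
noncomputable def ci0 : CI := ⟨[], (nat_lit 0), false, (.node (nat_lit 1) (.leaf Rule.defn) (.leaf Rule.copy)), (.leaf (XRule.rot (nat_lit 0) [] 32 0))⟩
noncomputable def ci8 : CI := ⟨[0], (nat_lit 27), false, (.node (nat_lit 4) (.node (nat_lit 2) (.node (nat_lit 1) (.leaf Rule.defn) (.leaf Rule.copy)) (.node (nat_lit 1) (.leaf (Rule.fwd [nat_lit 27] 32 0)) (.leaf (Rule.fwd [nat_lit 179, nat_lit 8, nat_lit 8, nat_lit 46, nat_lit 27, nat_lit 65] 20 5)))) (.node (nat_lit 2) (.node (nat_lit 1) (.leaf (Rule.fwd [nat_lit 65, nat_lit 122, nat_lit 46, nat_lit 46, nat_lit 8] 19 2)) (.leaf (Rule.fwd [nat_lit 46, nat_lit 84] 17 2))) (.leaf (Rule.fwd [nat_lit 8, nat_lit 46, nat_lit 27, nat_lit 65, nat_lit 8, nat_lit 179] 20 0)))), (.node (nat_lit 1) (.leaf XRule.defn)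 (.leaf XRule.defn))⟩
noncomputable def ci27 : CI := ⟨[1], (nat_lit 8), false, (.node (nat_lit 8) (.node (nat_lit 4) (.node (nat_lit 2) (.node (nat_lit 1) (.leaf Rule.defn) (.leaf Rule.copy)) (.node (nat_lit 1) (.leaf (Rule.fwd [nat_lit 8] 32 0)) (.leaf (Rule.fwd [nat_lit 65, nat_lit 8, nat_lit 179, nat_lit 8, nat_lit 8, nat_lit 46] 20 3)))) (.node (nat_lit 2) (.node (nat_lit 1) (.leaf (Rule.fwd [nat_lit 103, nat_lit 65] 16 1)) (.leaf (Rule.fwd [nat_lit 160, nat_lit 27, nat_lit 46, nat_lit 8, nat_lit 65, nat_lit 27] 21 1))) (.node (nat_lit 1) (.leaf (Rule.fwd [nat_lit 27, nat_lit 65, nat_lit 65, nat_lit 141, nat_lit 46] 18 1)) (.leaf (Rule.fwd [nat_lit 27, nat_lit 27, nat_lit 27, nat_lit 27] 31 0))))) (.node (nat_lit 1) (.leaf (Rule.fwd [nat_lit 65, nat_lit 65, nat_lit 141, nat_lit 46, nat_lit 27] 18 2)) (.leaf (Rule.fwd [nat_lit 27, nat_lit 160, nat_lit 27, nat_lit 46, nat_lit 8, nat_lit 65] 21 2)))), (.node (nat_lit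 1) (.leaf XRule.defn) (.leaf XRule.defn))⟩
noncomputable def ci46 : CI := ⟨[2], (nat_lit 65), false, (.node (nat_lit 4) (.node (nat_lit 2) (.node (nat_lit 1) (.leaf Rule.defn) (.leaf Rule.copy)) (.node (nat_lit 1) (.leaf (Rule.fwd [nat_lit 65] 32 0)) (.leaf (Rule.fwd [nat_lit 84, nat_lit 8] 17 1)))) (.node (nat_lit 1) (.leaf (Rule.fwd [nat_lit 8, nat_lit 65, nat_lit 27, nat_lit 27, nat_lit 160, nat_lit 27] 21 5)) (.leaf (Rule.fwd [nat_lit 46, nat_lit 8, nat_lit 8, nat_lit 65, nat_lit 122] 19 5)))), (.node (nat_lit 1) (.leaf XRule.defn) (.leaf XRule.defn))⟩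
noncomputable def ci65 : CI := ⟨[3], (nat_lit 46), false, (.node (nat_lit 4) (.node (nat_lit 2) (.node (nat_lit 1) (.leaf Rule.defn) (.leaf Rule.copy)) (.node (nat_lit 1) (.leaf (Rule.fwd [nat_lit 46] 32 0)) (.leaf (Rule.fwd [nat_lit 27, nat_lit 103] 16 0)))) (.node (nat_lit 2) (.node (nat_lit 1) (.leaf (Rule.fwd [nat_lit 141, nat_lit 46, nat_lit 27, nat_lit 27, nat_lit 65] 18 4)) (.leaf (Rule.fwd [nat_lit 65, nat_lit 141, nat_lit 46, nat_lit 27, nat_lit 27] 18 3))) (.leaf (Rule.fwd [nat_lit 122, nat_lit 46, nat_lit 46, nat_lit 8, nat_lit 8] 19 1)))), (.node (nat_lit 1) (.leaf XRule.defn) (.leaf XRule.defn))⟩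
noncomputable def ci84 : CI := ⟨[4], (nat_lit 103), true, (.node (nat_lit 4) (.node (nat_lit 2) (.node (nat_lit 1) (.leaf Rule.defn) (.leaf Rule.copy)) (.node (nat_lit 1) (.leaf (Rule.fwd [nat_lit 103] 32 0)) (.leaf (Rule.fwd [nat_lit 84, nat_lit 84] 4 0)))) (.node (nat_lit 2) (.node (nat_lit 1) (.leaf (Rule.fwd [nat_lit 198, nat_lit 84, nat_lit 198] 26 0)) (.leaf (Rule.fwd [nat_lit 160, nat_lit 84, nat_lit 160] 10 0))) (.leaf (Rule.fwd [nat_lit 122, nat_lit 198, nat_lit 179] 12 0)))), (.node (nat_lit 1) (.leaf XRule.defn) (.leaf XRule.ax))⟩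
noncomputable def ci103 : CI := ⟨[5], (nat_lit 84), true, (.node (nat_lit 4) (.node (nat_lit 2) (.node (nat_lit 1) (.leaf Rule.defn) (.leaf Rule.copy)) (.node (nat_lit 1) (.leaf (Rule.fwd [nat_lit 84] 32 0)) (.leaf (Rule.fwd [nat_lit 65, nat_lit 27] 16 2)))) (.node (nat_lit 2) (.node (nat_lit 1) (.leaf (Rule.fwd [nat_lit 198, nat_lit 179, nat_lit 141] 3 1)) (.leaf (Rule.fwd [nat_lit 217, nat_lit 103, nat_lit 217] 27 1))) (.node (nat_lit 1) (.leaf (Rule.fwd [nat_lit 160, nat_lit 217, nat_lit 141] 13 1)) (.leaf (Rule.fwd [nat_lit 179, nat_lit 103, nat_lit 179] 11 1))))), (.node (nat_lit 1) (.leaf XRule.defn) (.leaf XRule.ax))⟩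
noncomputable def ci122 : CI := ⟨[6], (nat_lit 141), true, (.node (nat_lit 4) (.node (nat_lit 2) (.node (nat_lit 1) (.leaf Rule.defn) (.leaf Rule.copy)) (.node (nat_lit 1) (.leaf (Rule.fwd [nat_lit 8, nat_lit 122, nat_lit 8] 22 1)) (.leaf (Rule.fwd [nat_lit 141] 32 0)))) (.node (nat_lit 2) (.node (nat_lit 1) (.leaf (Rule.fwd [nat_lit 198, nat_lit 179, nat_lit 84] 12 1)) (.leaf (Rule.fwd [nat_lit 122, nat_lit 122] 6 0))) (.leaf (Rule.fwd [nat_lit 160, nat_lit 217, nat_lit 84] 2 1)))), (.node (nat_lit 1) (.leaf XRule.defn) (.leaf XRule.ax))⟩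
noncomputable def ci141 : CI := ⟨[7], (nat_lit 122), true, (.node (nat_lit 8) (.node (nat_lit 4) (.node (nat_lit 2) (.node (nat_lit 1) (.leaf Rule.defn) (.leaf Rule.copy)) (.node (nat_lit 1) (.leaf (Rule.fwd [nat_lit 122] 32 0)) (.leaf (Rule.fwd [nat_lit 141, nat_lit 141] 7 0)))) (.node (nat_lit 2) (.node (nat_lit 1) (.leaf (Rule.fwd [nat_lit 160, nat_lit 141, nat_lit 160] 15 1)) (.leaf (Rule.fwd [nat_lit 198, nat_lit 141, nat_lit 198] 29 1))) (.node (nat_lit 1) (.leaf (Rule.fwd [nat_lit 27, nat_lit 141, nat_lit 27] 23 0)) (.leaf (Rule.fwd [nat_lit 103, nat_lit 198, nat_lit 179] 3 2))))) (.leaf (Rule.fwd [nat_lit 46, nat_lit 27, nat_lit 27, nat_lit 65, nat_lit 65] 18 5))), (.node (nat_lit 1) (.leaf XRule.defn) (.leaf XRule.ax))⟩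
noncomputable def ci160 : CI := ⟨[8], (nat_lit 179), true, (.node (nat_lit 4) (.node (nat_lit 2) (.node (nat_lit 1) (.leaf Rule.defn) (.leaf Rule.copy)) (.node (nat_lit 1) (.leaf (Rule.fwd [nat_lit 179] 32 0)) (.leaf (Rule.fwd [nat_lit 160, nat_lit 160] 8 0)))) (.node (nat_lit 2) (.node (nat_lit 1) (.leaf (Rule.fwd [nat_lit 84, nat_lit 160, nat_lit 84] 10 1)) (.leaf (Rule.fwd [nat_lit 217, nat_lit 141, nat_lit 103] 13 0))) (.node (nat_lit 1) (.leaf (Rule.fwd [nat_lit 27, nat_lit 46, nat_lit 8, nat_lit 65, nat_lit 27, nat_lit 27] 21 0)) (.leaf (Rule.fwd [nat_lit 141, nat_lit 160, nat_lit 141] 15 0))))), (.node (nat_lit 1) (.leaf XRule.defn) (.leaf XRule.ax))⟩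
noncomputable def ci179 : CI := ⟨[9], (nat_lit 160), true, (.node (nat_lit 4) (.node (nat_lit 2) (.node (nat_lit 1) (.leaf Rule.defn) (.leaf Rule.copy)) (.node (nat_lit 1) (.leaf (Rule.fwd [nat_lit 160] 32 0)) (.leaf (Rule.fwd [nat_lit 84, nat_lit 122, nat_lit 198] 12 3)))) (.node (nat_lit 2) (.node (nat_lit 1) (.leaf (Rule.fwd [nat_lit 8, nat_lit 8, nat_lit 46, nat_lit 27, nat_lit 65, nat_lit 8] 20 6)) (.leaf (Rule.fwd [nat_lit 122, nat_lit 179, nat_lit 122] 14 1))) (.leaf (Rule.fwd [nat_lit 141, nat_lit 103, nat_lit 198] 3 3)))), (.node (nat_lit 1) (.leaf XRule.defn) (.leaf XRule.ax))⟩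
noncomputable def ci198 : CI := ⟨[10], (nat_lit 217), true, (.node (nat_lit 4) (.node (nat_lit 2) (.node (nat_lit 1) (.leaf Rule.defn) (.leaf Rule.copy)) (.node (nat_lit 1) (.leaf (Rule.fwd [nat_lit 217] 32 0)) (.leaf (Rule.fwd [nat_lit 179, nat_lit 141, nat_lit 103] 3 0)))) (.node (nat_lit 2) (.node (nat_lit 1) (.leaf (Rule.fwd [nat_lit 198, nat_lit 198] 0 0)) (.leaf (Rule.fwd [nat_lit 65, nat_lit 198, nat_lit 65] 25 0))) (.node (nat_lit 1) (.leaf (Rule.fwd [nat_lit 179, nat_lit 84, nat_lit 122] 12 2)) (.leaf (Rule.fwd [nat_lit 141, nat_lit 198, nat_lit 141] 29 0))))), (.node (nat_lit 1) (.leaf XRule.defn) (.leaf XRule.ax))⟩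
noncomputable def ci217 : CI := ⟨[11], (nat_lit 198), true, (.node (nat_lit 4) (.node (nat_lit 2) (.node (nat_lit 1) (.leaf Rule.defn) (.leaf Rule.copy)) (.node (nat_lit 1) (.leaf (Rule.fwd [nat_lit 198] 32 0)) (.leaf (Rule.fwd [nat_lit 46, nat_lit 217, nat_lit 46] 24 1)))) (.node (nat_lit 2) (.node (nat_lit 1) (.leaf (Rule.fwd [nat_lit 103, nat_lit 217, nat_lit 103] 27 0)) (.leaf (Rule.fwd [nat_lit 141, nat_lit 103, nat_lit 160] 13 3))) (.node (nat_lit 1) (.leaf (Rule.fwd [nat_lit 122, nat_lit 217, nat_lit 122] 28 1)) (.leaf (Rule.fwd [nat_lit 217, nat_lit 217] 1 0))))), (.node (nat_lit 1) (.leaf XRule.defn) (.leaf XRule.ax))⟩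
noncomputable def outer : Tr CI := (.node (nat_lit 1) (.node (nat_lit 2) (.node (nat_lit 4) (.node (nat_lit 8) (.node (nat_lit 32) (.leaf ci0) (.leaf ci160)) (.leaf ci8)) (.leaf ci84)) (.node (nat_lit 4) (.leaf ci122) (.node (nat_lit 8) (.leaf ci198) (.leaf ci46)))) (.node (nat_lit 2) (.node (nat_lit 4) (.node (nat_lit 8) (.leaf ci65) (.leaf ci217)) (.leaf ci141)) (.node (nat_lit 4) (.node (nat_lit 8) (.leaf ci179) (.leaf ci27)) (.leaf ci103))))
def cols : List ℕ := [nat_lit 8, nat_lit 27, nat_lit 46, nat_lit 65, nat_lit 84, nat_lit 103, nat_lit 122, nat_lit 141, nat_lit 160, nat_lit 179, nat_lit 198, nat_lit 217]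
def invL : List ℕ := [1, 0, 3, 2, 5, 4, 7, 6, 9, 8, 11, 10]
def rels : List (List ℕ) := [[10, 10, 10], [4, 6, 8, 11], [4, 4, 4], [6, 6, 6], [8, 8, 8], [4, 8, 4, 8], [4, 6, 10, 9], [6, 9, 6, 9], [3, 1, 5], [2, 1, 1, 3, 3, 7], [0, 0, 2, 1, 3, 0, 9], [0, 6, 0, 6], [2, 11, 2, 11], [4, 10, 4, 10], [6, 11, 6, 11], [0, 0, 0, 0, 0]]
def subs : List (List ℕ) := [[4], [5], [6], [7], [8], [9], [10], [11]]
noncomputable def row (n : ℕ) : ℕ := rowOf (fun h => rows.get h) (nat_lit 5) (nat_lit 31) (nat_lit 236) (nat_lit 0xfffffffffffffffffffffffffffffffffffffffffffffffffffffffffff) n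
noncomputable def xleaf (h : ℕ) : ℕ := recs.get h
noncomputable def mF : ℕ → ℕ := mainRow row (rowChk row xleaf outer (nat_lit 8) (nat_lit 255) (nat_lit 15) (nat_lit 12) (nat_lit 4095) (nat_lit 524287) (nat_lit 128) (nat_lit 20) (nat_lit 256) (nat_lit 8) (nat_lit 255) (nat_lit 16) (nat_lit 65535) (nat_lit 8) (nat_lit 255) cols)
noncomputable def xF : ℕ → ℕ → ℕ := xLeaf row xleaf outer (nat_lit 255) (nat_lit 12) (nat_lit 524287) (nat_lit 128) (nat_lit 20) (nat_lit 8) (nat_lit 255) (nat_lit 16) (nat_lit 65535) (nat_lit 65280) (nat_lit 8) (nat_lit 255) (nat_lit 10) (nat_lit 1023) (nat_lit 2) (nat_lit 3) (nat_lit 217) (nat_lit 5120) (nat_lit 128)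
noncomputable def cert : Cert := ⟨row, xleaf, outer, cols, nat_lit 8, nat_lit 255, nat_lit 15, nat_lit 12, nat_lit 4095, nat_lit 524287, nat_lit 128, nat_lit 20, nat_lit 256, nat_lit 8, nat_lit 255, nat_lit 16, nat_lit 65535, nat_lit 65280, nat_lit 8, nat_lit 255, nat_lit 10, nat_lit 1023, nat_lit 2, nat_lit 3, nat_lit 217, nat_lit 5120, nat_lit 128, nat_lit 19, nat_lit 128, nat_lit 1⟩
theorem tabok : tabOK (fun i => invL.getD i i) rels subs outer cols (nat_lit 8) (nat_lit 217) = true := by decide +kernel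
theorem m0 : rng mF (nat_lit 1) (nat_lit 20) = 0 := by decide +kernel
noncomputable def s0 : List ℕ := [nat_lit 0x401004010000000000000000000000000000000000000000000000000000000000000000000000000000000000000000000000000000000000000000000000000000000000000000000000000000000000000000000000000000000000000000000000000000000000000000000000000000000000000000000000000000000000000000000000000000000000000000000000000000000000000000000000]
theorem x0 : xs xF s0 (nat_lit 1) = 0 := by decide +kernel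
theorem mz0 : AllZ mF 1 (nat_lit 21) := (AllZ.step (AllZ.nil mF 1) (nat_lit 20) (nat_lit 21) rfl m0)
theorem xz0 : XZ xF (nat_lit 1) := (XZ.step (XZ.nil xF) s0 (nat_lit 1) (nat_lit 1) (by decide +kernel) x0)
/-- the certificate (20 points) is valid -/
theorem valid : cert.Valid (fun i => invL.getD i i) rels subs 12 :=
  ⟨by decide +kernel, tabok, by decide +kernel, mz0, xz0⟩
theorem cert_N : cert.N = 20 := rfl

end CL.TC.GPsl34L2
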