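import Cfsg.Agent.Spor.TCSound

/-! coset enumeration certificate generated by tools/tc -/

set_option maxRecDepth 100000
set_option autoImplicit false
set_option linter.all false

namespace CL.TC.GPsl34L3

noncomputable def rows0 : Tr ℕ := (.leaf (nat_lit 0xeac27ad0cf0c23f905f142bbe0beec2bab0e50ef82bc408eac2fad04ef827ab06f5837f90408fb013be05fe40fa60ce4c3b9c0eed843d30a62e6c1bab07e6c37a50df8c33f903f7013cb0f2ce8c43d409e6c3bae03fe40fed0deac1bd6083ee8c0ff902ed013b70fecc43b50ae9c2f9b0b74f0c23b40ff8c27f902eac2fbb10f743bc51050f7033b310fe40bec0af741bb30ff0c17ed0762f343fcb0af2c17cc10f701ff902f2c33be062ce8c37e306f8c1bf901f8c0bd308f8c27d30550f6c1fa50dfe407ec07ed03fd309ecc23b40c62ecc3bb504fcc43d508f8c13f901f701fcc092ceac17e40ee8c3fab0bfe407ed05fcc3fd30d3ee940bae0be8c33f30efcc37f30cf8c0bf90108fcc2f9c03fcc2bf309fcc23ec07fe407ec031afcc07fa01fcc1ff306fcc17f304fcc0ff30200))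
noncomputable def recs0 : Tr ℕ := (.leaf (nat_lit 0x1860174))
noncomputable def rows : Tr ℕ := rows0
noncomputable def recs : Tr ℕ := recs0
noncomputable def ci0 : CI := ⟨[], (nat_lit 0), false, (.node (nat_lit 1) (.leaf Rule.defn) (.leaf Rule.copy)), (.leaf (XRule.rot (nat_lit 0) [] 16 0))⟩
noncomputable def ci8 : CI := ⟨[0], (nat_lit 26), false, (.node (nat_lit 4) (.node (nat_lit 2) (.node (nat_lit 1) (.leaf Rule.defn) (.leaf Rule.copy)) (.node (nat_lit 1) (.leaf (Rule.fwd [nat_lit 26] 16 0)) (.leaf (Rule.fwd [nat_lit 8, nat_lit 8] 4 0)))) (.node (nat_lit 1) (.leaf (Rule.fwd [nat_lit 80, nat_lit 8, nat_lit 80] 10 0)) (.leaf (Rule.fwd [nat_lit 44, nat_lit 80, nat_lit 134] 2 0)))), (.node (nat_lit 1) (.leaf XRule.defn) (.leaf XRule.defn))⟩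
noncomputable def ci26 : CI := ⟨[1], (nat_lit 8), false, (.node (nat_lit 4) (.node (nat_lit 2) (.node (nat_lit 1) (.leaf Rule.defn) (.leaf Rule.copy)) (.node (nat_lit 1) (.leaf (Rule.fwd [nat_lit 8] 16 0)) (.leaf (Rule.fwd [nat_lit 116, nat_lit 98, nat_lit 62] 3 1)))) (.node (nat_lit 2) (.node (nat_lit 1) (.leaf (Rule.fwd [nat_lit 98, nat_lit 26, nat_lit 98] 11 1)) (.leaf (Rule.fwd [nat_lit 26, nat_lit 26] 5 0))) (.leaf (Rule.fwd [nat_lit 80, nat_lit 134, nat_lit 62] 13 1)))), (.node (nat_lit 1) (.leaf XRule.defn) (.leaf XRule.defn))⟩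
noncomputable def ci44 : CI := ⟨[2], (nat_lit 62), false, (.node (nat_lit 4) (.node (nat_lit 2) (.node (nat_lit 1) (.leaf Rule.defn) (.leaf Rule.copy)) (.node (nat_lit 1) (.leaf (Rule.fwd [nat_lit 62] 16 0)) (.leaf (Rule.fwd [nat_lit 80, nat_lit 134, nat_lit 8] 2 1)))) (.node (nat_lit 1) (.leaf (Rule.fwd [nat_lit 44, nat_lit 44] 6 0)) (.leaf (Rule.fwd [nat_lit 116, nat_lit 98, nat_lit 8] 12 1)))), (.node (nat_lit 1) (.leaf XRule.defn) (.leaf XRule.defn))⟩
noncomputable def ci62 : CI := ⟨[3], (nat_lit 44), false, (.node (nat_lit 4) (.node (nat_lit 2) (.node (nat_lit 1) (.leaf Rule.defn) (.leaf Rule.copy)) (.node (nat_lit 1) (.leaf (Rule.fwd [nat_lit 44] 16 0)) (.leaf (Rule.fwd [nat_lit 62, nat_lit 62] 7 0)))) (.node (nat_lit 1) (.leaf (Rule.fwd [nat_lit 80, nat_lit 62, nat_lit 80] 15 1)) (.leaf (Rule.fwd [nat_lit 26, nat_lit 80, nat_lit 134] 13 2)))), (.node (nat_lit 1) (.leaf XRule.defn) (.leaf XRule.defn))⟩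
noncomputable def ci80 : CI := ⟨[4], (nat_lit 98), false, (.node (nat_lit 4) (.node (nat_lit 2) (.node (nat_lit 1) (.leaf Rule.defn) (.leaf Rule.copy)) (.node (nat_lit 1) (.leaf (Rule.fwd [nat_lit 98] 16 0)) (.leaf (Rule.fwd [nat_lit 80, nat_lit 80] 8 0)))) (.node (nat_lit 2) (.node (nat_lit 1) (.leaf (Rule.fwd [nat_lit 62, nat_lit 80, nat_lit 62] 15 0)) (.leaf (Rule.fwd [nat_lit 8, nat_lit 80, nat_lit 8] 10 1))) (.leaf (Rule.fwd [nat_lit 134, nat_lit 8, nat_lit 44] 2 2)))), (.node (nat_lit 1) (.leaf XRule.defn) (.leaf XRule.defn))⟩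
noncomputable def ci98 : CI := ⟨[5], (nat_lit 80), false, (.node (nat_lit 2) (.node (nat_lit 1) (.leaf Rule.defn) (.leaf Rule.copy)) (.node (nat_lit 1) (.leaf (Rule.fwd [nat_lit 80] 16 0)) (.leaf (Rule.fwd [nat_lit 44, nat_lit 98, nat_lit 44] 14 1)))), (.node (nat_lit 1) (.leaf XRule.defn) (.leaf XRule.defn))⟩
noncomputable def ci116 : CI := ⟨[6], (nat_lit 134), true, (.node (nat_lit 4) (.node (nat_lit 2) (.node (nat_lit 1) (.leaf Rule.defn) (.leaf Rule.copy)) (.node (nat_lit 1) (.leaf (Rule.fwd [nat_lit 98, nat_lit 8, nat_lit 44] 12 2)) (.leaf (Rule.fwd [nat_lit 134] 16 0)))) (.node (nat_lit 1) (.leaf (Rule.fwd [nat_lit 116, nat_lit 116] 0 0)) (.leaf (Rule.fwd [nat_lit 98, nat_lit 62, nat_lit 26] 3 0)))), (.node (nat_lit 1) (.leaf XRule.defn) (.leaf XRule.ax))⟩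
noncomputable def ci134 : CI := ⟨[7], (nat_lit 116), true, (.node (nat_lit 4) (.node (nat_lit 2) (.node (nat_lit 1) (.leaf Rule.defn) (.leaf Rule.copy)) (.node (nat_lit 1) (.leaf (Rule.fwd [nat_lit 116] 16 0)) (.leaf (Rule.fwd [nat_lit 62, nat_lit 26, nat_lit 80] 13 3)))) (.node (nat_lit 1) (.leaf (Rule.fwd [nat_lit 8, nat_lit 44, nat_lit 80] 2 3)) (.leaf (Rule.fwd [nat_lit 134, nat_lit 134] 1 0)))), (.node (nat_lit 1) (.leaf XRule.defn) (.leaf XRule.ax))⟩
noncomputable def outer : Tr CI := (.node (nat_lit 2) (.node (nat_lit 4) (.node (nat_lit 8) (.node (nat_lit 16) (.leaf ci0) (.leaf ci80)) (.leaf ci8)) (.node (nat_lit 8) (.leaf ci116) (.leaf ci44))) (.node (nat_lit 4) (.node (nat_lit 8) (.leaf ci98) (.leaf ci26)) (.node (nat_lit 8) (.leaf ci134) (.leaf ci62))))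
def cols : List ℕ := [nat_lit 8, nat_lit 26, nat_lit 44, nat_lit 62, nat_lit 80, nat_lit 98, nat_lit 116, nat_lit 134]
def invL : List ℕ := [1, 0, 3, 2, 5, 4, 7, 6]
def rels : List (List ℕ) := [[6, 6, 6], [0, 2, 4, 7], [0, 0, 0], [2, 2, 2], [4, 4, 4], [0, 4, 0, 4], [0, 2, 6, 5], [2, 5, 2, 5]]
def subs : List (List ℕ) := [[6], [7]]
noncomputable def row (n : ℕ) : ℕ := rowOf (fun h => rows.get h) (nat_lit 5) (nat_lit 31) (nat_lit 152) (nat_lit 0xffffffffffffffffffffffffffffffffffffff) n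
noncomputable def xleaf (h : ℕ) : ℕ := recs.get h
noncomputable def mF : ℕ → ℕ := mainRow row (rowChk row xleaf outer (nat_lit 8) (nat_lit 255) (nat_lit 7) (nat_lit 11) (nat_lit 2047) (nat_lit 262143) (nat_lit 128) (nat_lit 16) (nat_lit 256) (nat_lit 8) (nat_lit 255) (nat_lit 16) (nat_lit 65535) (nat_lit 8) (nat_lit 255) cols)
noncomputable def xF : ℕ → ℕ → ℕ := xLeaf row xleaf outer (nat_lit 255) (nat_lit 11) (nat_lit 262143) (nat_lit 128) (nat_lit 16) (nat_lit 8) (nat_lit 255) (nat_lit 16) (nat_lit 65535) (nat_lit 65280) (nat_lit 8) (nat_lit 255) (nat_lit 10) (nat_lit 1023) (nat_lit 2) (nat_lit 3) (nat_lit 134) (nat_lit 4096) (nat_lit 128)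
noncomputable def cert : Cert := ⟨row, xleaf, outer, cols, nat_lit 8, nat_lit 255, nat_lit 7, nat_lit 11, nat_lit 2047, nat_lit 262143, nat_lit 128, nat_lit 16, nat_lit 256, nat_lit 8, nat_lit 255, nat_lit 16, nat_lit 65535, nat_lit 65280, nat_lit 8, nat_lit 255, nat_lit 10, nat_lit 1023, nat_lit 2, nat_lit 3, nat_lit 134, nat_lit 4096, nat_lit 128, nat_lit 18, nat_lit 128, nat_lit 1⟩
theorem tabok : tabOK (fun i => invL.getD i i) rels subs outer cols (nat_lit 8) (nat_lit 134) = true := by decide +kernel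
theorem m0 : rng mF (nat_lit 1) (nat_lit 16) = 0 := by decide +kernel
noncomputable def s0 : List ℕ := [nat_lit 0x400000000000000000000000000000000000000000000000000000000000000000000000000000000000000000000000000000000000000000000000000000000000000000000000000000000000000000000000000000000000000000000000000000000000000000000000000000000000000000000000000000000000000000000000000000000000000000000000000000000000000000000000000000]
theorem x0 : xs xF s0 (nat_lit 1) = 0 := by decide +kernel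
theorem mz0 : AllZ mF 1 (nat_lit 17) := (AllZ.step (AllZ.nil mF 1) (nat_lit 16) (nat_lit 17) rfl m0)
theorem xz0 : XZ xF (nat_lit 1) := (XZ.step (XZ.nil xF) s0 (nat_lit 1) (nat_lit 1) (by decide +kernel) x0)
/-- the certificate (16 points) is valid -/
theorem valid : cert.Valid (fun i => invL.getD i i) rels subs 8 :=
  ⟨by decide +kernel, tabok, by decide +kernel, mz0, xz0⟩
theorem cert_N : cert.N = 16 := rfl

end CL.TC.GPsl34L3
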