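/-
A cover of Psl34 (generated by tools/pc/gm.py).
-/
import Cfsg.Agent.Known.GPsl34R

set_option autoImplicit false
set_option maxRecDepth 100000
set_option linter.all false

namespace CL.Pc.GPsl34
open Cfsg CL.Spor

namespace C3
noncomputable def n0 : PG.Net := .cons 32 0x1b912a60 (.cons 16 0xb9040000b3a1 (.cons 8 0x1b0013005100cc (.cons 4 0x90e0c0c020a05 (.cons 2 0x2023023003312323 (.cons 1 0x5140544444014040 (.cons 2 0x220020202002020 (.cons 4 0x40a0a0c00080a02 (.cons 8 0x62005000fa00b2 (.cons 16 0xd16800004252 (.cons 32 0x2a2966f4 (.nil)))))))))))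
noncomputable def n1 : PG.Net := .cons 32 0x73efc082 (.cons 16 0xf62500000dc4 (.cons 8 0xe200f300c700af (.cons 4 0x60a030f0c0d0509 (.cons 2 0x1231011231121331 (.cons 1 0x4450144454441441 (.cons 2 0x200022200202200 (.cons 4 0x8020c0a0204040c (.cons 8 0x2c009200bc00fe (.cons 16 0xb4e2000027c0 (.cons 32 0x67f30df2 (.nil)))))))))))
noncomputable def n2 : PG.Net := .cons 32 0xbc2e627c (.cons 16 0xd2d2000010b4 (.cons 8 0x880023005200ee (.cons 4 0x30d04070d040700 (.cons 2 0x2202213130010202 (.cons 1 0x5101104111414114 (.cons 2 0x202202200220000 (.cons 4 0x8000c0808000408 (.cons 8 0x58006800580030 (.cons 16 0x50540000620c (.cons 32 0xc9ed0994 (.nil)))))))))))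
noncomputable def n3 : PG.Net := .cons 32 0x5e8efc48 (.cons 16 0x44f10000cd5c (.cons 8 0x6000e900f8008c (.cons 4 0x600040a0a05030c (.cons 2 0x3120121222123232 (.cons 1 0x4150404501551014 (.cons 2 0x2000000002000000 (.cons 4 0x60c0c060a0c0004 (.cons 8 0x4a006400b2002c (.cons 16 0xc0600004e8e (.cons 32 0x135b6680 (.nil)))))))))))
noncomputable def n4 : PG.Net := .cons 32 0x48f396b4 (.cons 16 0x6e7900008dfe (.cons 8 0xd200aa00ff0068 (.cons 4 0xd00070503080a0a (.cons 2 0x3323032303323000 (.cons 1 0x4041515154401514 (.cons 2 0x2022020002000022 (.cons 4 0x402060808000204 (.cons 8 0xaa00ec00240076 (.cons 16 0x2ea00008c44 (.cons 32 0x4f39b68e (.nil)))))))))))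
noncomputable def n5 : PG.Net := .cons 32 0x9a4a2c08 (.cons 16 0xd8de00004b0a (.cons 8 0x5900b400ea0058 (.cons 4 0x40c0a0907000300 (.cons 2 0x1032211231010202 (.cons 1 0x5540554510141114 (.cons 2 0x20002000002200 (.cons 4 0x608040202020c (.cons 8 0x4000b800a20038 (.cons 16 0xc02c00000246 (.cons 32 0xc604ec1a (.nil)))))))))))
noncomputable def n6 : PG.Net := .cons 32 0xb8e57552 (.cons 16 0xff5100009b58 (.cons 8 0xf7001500890072 (.cons 4 0x6000209010c0502 (.cons 2 0x2111101210130032 (.cons 1 0x5410144151401444 (.cons 2 0x220000000220 (.cons 4 0xa020c0808040408 (.cons 8 0x640038008e0048 (.cons 16 0xac8400009128 (.cons 32 0xf2fb4d0e (.nil)))))))))))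
noncomputable def n7 : PG.Net := .cons 32 0xf375a43a (.cons 16 0x79ba0000b87c (.cons 8 0x1c00a000c700c0 (.cons 4 0x8010900000f0b08 (.cons 2 0x2331321222133012 (.cons 1 0x4544111515151044 (.cons 2 0x22202000202022 (.cons 4 0x2080806080a0008 (.cons 8 0x100026008c00b2 (.cons 16 0x57640000a2b2 (.cons 32 0xc4e94f56 (.nil)))))))))))
noncomputable def n8 : PG.Net := .cons 32 0xfffffc00 (.cons 16 0x7ff000003ff (.cons 8 0xf800f800fc00fc (.cons 4 0x707070707030303 (.cons 2 0x2222222222333333 (.cons 1 0x5555555555400000 (.cons 2 0x200000 (.cons 8 0x800000 (.cons 32 0x80000000 (.nil)))))))))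
noncomputable def lmT : ℕ := 0x20f7358b525073148310400
noncomputable def ns : List PG.Net := [n0, n1, n2, n3, n4, n5, n6, n7, n8]
noncomputable def lm (i : ℕ) : ℕ := tget 5 0x1f lmT i
noncomputable def zs : List ℕ := [0, 0, 0, 0, 0, 0, 0, 0, 0, 0, 0, 0, 0, 0, 0, 0, 0, 0, 0, 0x11, 0x11, 0, 0, 0x11, 0x11, 0, 0, 0, 0, 0, 0, 0, 0]
noncomputable def ab0 : ℕ × ℕ := (0x28d, 0xf2480c1)
noncomputable def RL : List (ℕ × ℕ) := ((16 + 1) * ones 3, 0) :: covRels rs zs [ab0] 16
theorem c0_0 : allL (netRel 64 6 3 ns lm (16 + 1) 25 0) (RL) = true := by decide +kernel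
theorem RL_ok : ∀ t < 1, ∀ p ∈ RL, netRel 64 6 3 ns lm (16 + 1) 25 t p = true :=
  below_step ((allL_iff _ _).1 c0_0) (below_end)
universe u
variable {G : Type u} {X : Type*} [Group G] [MulAction G X] {pt : ℕ → X} {x : ℕ → G}
theorem cover (h : Ful pt x) : Cover G (Multiplicative (ZMod 3)) :=
  h.cover1 pres (by decide) rs_ok (i := 0) (by decide +kernel) (by decide +kernel) RL_ok
end C3

end CL.Pc.GPsl34
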