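/-
The 7-part of the multiplier of He (generated by tools/pc/gm.py).
-/
import Cfsg.Agent.Known.GHe

set_option autoImplicit false
set_option maxRecDepth 100000
set_option linter.all false

namespace CL.Pc.GHe
open Cfsg CL.Spor

namespace P7
noncomputable def WT : ℕ := 0xf3892cd1c51451440830c2084044a2cb3451c61c6041102101000000041324c389206041101f4cb38c2061871860830c20830000000000000000000000000
def relT : ℕ := 0x3000030000000000c30c200000000000000000000
def dT : ℕ := 0xe4
def eT : ℕ := 0xc0000030c30410418208208104104104000000000000000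
def D : Data :=
  ⟨7, 3, 68719476736, 1090785345, 7, 13, 14, 87, 2, fun i j => tget 20 0xfffff relT (tri i j), 10, 4, 1,
    fun k l => tget 2 3 dT (Nat.add (Nat.mul 4 k) l), fun k l => tget 62 0x3fffffffffffffff eT (Nat.add (Nat.mul 4 k) l)⟩
def S : Fin2 :=
  ⟨28, 7, [0, 0x201, 0x501, 0x40e],
    [0, 0, 0, 0, 0, 0, 0, 0x50400, 0x60300, 5],
    []⟩
def r0 : List RelC := [⟨0, 2, 0x1041041041, 0x904⟩, ⟨1, 0x83, 0xc2, 0x80600704⟩, ⟨1, 0x43, 0xc1, 0x80500705⟩]
def rels : List RelC := (r0 ++ [])
noncomputable def W (i : ℕ) : ℕ := tget 100 0xfffffffffffffffffffffffff WT i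
def ch : List (ℕ × ℕ × List ℕ) := [(0, 2058, [3, 2, 1])]
theorem r0_ok : allL (chkRel D) r0 = true := by decide +kernel
theorem g1 : goalsChk D S (rels.map (·.s)) 1 3 = true := by decide +kernel
theorem w1 : rowsChk D (eqB (lazyA A 18 W) (D.n + D.NF) 13 [90, 447, 760, 596, 974]) 1 3 = true := by decide +kernel
theorem f0 : fusChk D (eqB (lazyA A 18 W) (D.n + D.NF) 13 [90, 447, 760, 596, 974]) 0 = true := by decide +kernel
theorem ch_ok : chainChk (lazyA A 18 W) D.n 13 6 ch [] (D.p ^ D.n) = true := by decide +kernel
theorem params : Params D S rels 0 :=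
  ⟨(by norm_num : Nat.Prime 7), by decide +kernel, by decide +kernel, by decide +kernel, by decide +kernel,
    by decide +kernel, by decide +kernel, by decide +kernel, by decide +kernel, by decide +kernel,
    by decide +kernel, by decide +kernel⟩
theorem checks : Checks D S rels :=
  ⟨by decide +kernel, allL_app r0_ok (allL_end), cover_step g1 (cover_end (by decide)), by decide +kernel⟩
universe u
variable {G : Type u} {X : Type*} [Group G] [MulAction G X] {pt : ℕ → X} {x : ℕ → G}
theorem bound (h : Ful pt x) : PBound G 7 0 :=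
  h.pbound params checks (cover_step w1 (cover_end (by decide))) (show ∀ k < 1, _ from below_step f0 (below_end)) ch_ok (by decide +kernel)
end P7

end CL.Pc.GHe
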