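/-
Groups that are the union of the conjugates of two proper subgroups: the framework, and the linear groups.
-/
import Cfsg.Agent.Cls.PrimeOrderExt
import Cfsg.Agent.Cls.UniStab
import Cfsg.Agent.Cls.SpSimple
import Cfsg.Agent.Cls.SLnTv
import Cfsg.Agent.Cls.SpMaxOrth
import Cfsg.Agent.Cls.QuadClass
import Cfsg.Agent.Known.UnipSp

set_option autoImplicit false

open Polynomial Module

namespace CL.Cov

open CL.Uni

/-- `G` is the union of the conjugates of two proper subgroups. -/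
def IsCov (G : Type*) [Group G] : Prop :=
  ∃ H K : Subgroup G, H ≠ ⊤ ∧ K ≠ ⊤ ∧ ∀ g : G, ∃ x : G, x * g * x⁻¹ ∈ H ∨ x * g * x⁻¹ ∈ K

/-- A family of subgroups of `Γ`, none containing `M`, all containing the centre of `M`, and conjugate under `M`. -/
structure Good {Γ : Type*} [Group Γ] (M : Subgroup Γ) (𝒮 : Set (Subgroup Γ)) : Prop where
  proper : ∀ H ∈ 𝒮, ¬ M ≤ H
  cen : ∀ H ∈ 𝒮, ∀ z ∈ M, (∀ m ∈ M, m * z = z * m) → z ∈ H
  conj : ∀ H ∈ 𝒮, ∀ K ∈ 𝒮, ∃ k ∈ M, ∀ g ∈ H, k * g * k⁻¹ ∈ K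

section Abstract

variable {Γ : Type*} [Group Γ] {M : Subgroup Γ} {𝒮 𝒯 : Set (Subgroup Γ)}

theorem exists_two (h1 : Good M 𝒮) (h2 : Good M 𝒯)
    (h : ∀ g ∈ M, (∃ H ∈ 𝒮, g ∈ H) ∨ ∃ H ∈ 𝒯, g ∈ H) :
    ∃ H K : Subgroup Γ, ¬ M ≤ H ∧ ¬ M ≤ K ∧ (∀ z ∈ M, (∀ m ∈ M, m * z = z * m) → z ∈ H ∧ z ∈ K) ∧
      ∀ g ∈ M, ∃ x ∈ M, x * g * x⁻¹ ∈ H ∨ x * g * x⁻¹ ∈ K := by
  rcases 𝒮.eq_empty_or_nonempty with hS | ⟨H, hH⟩
  · obtain ⟨K, hK, -⟩ := (h 1 M.one_mem).resolve_left (by simp [hS])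
    refine ⟨K, K, h2.proper K hK, h2.proper K hK, fun z hz hc => ⟨h2.cen K hK z hz hc, h2.cen K hK z hz hc⟩,
      fun g hg => ?_⟩
    obtain ⟨L, hL, hgL⟩ := (h g hg).resolve_left (by simp [hS])
    obtain ⟨k, hk, hk'⟩ := h2.conj L hL K hK
    exact ⟨k, hk, Or.inl (hk' g hgL)⟩
  rcases 𝒯.eq_empty_or_nonempty with hT | ⟨K, hK⟩
  · refine ⟨H, H, h1.proper H hH, h1.proper H hH, fun z hz hc => ⟨h1.cen H hH z hz hc, h1.cen H hH z hz hc⟩,
      fun g hg => ?_⟩
    obtain ⟨L, hL, hgL⟩ := (h g hg).resolve_right (by simp [hT])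
    obtain ⟨k, hk, hk'⟩ := h1.conj L hL H hH
    exact ⟨k, hk, Or.inl (hk' g hgL)⟩
  refine ⟨H, K, h1.proper H hH, h2.proper K hK, fun z hz hc => ⟨h1.cen H hH z hz hc, h2.cen K hK z hz hc⟩,
    fun g hg => ?_⟩
  rcases h g hg with ⟨L, hL, hgL⟩ | ⟨L, hL, hgL⟩
  · obtain ⟨k, hk, hk'⟩ := h1.conj L hL H hH
    exact ⟨k, hk, Or.inl (hk' g hgL)⟩
  · obtain ⟨k, hk, hk'⟩ := h2.conj L hL K hK
    exact ⟨k, hk, Or.inr (hk' g hgL)⟩

theorem exists_two_of_equiv {G : Type*} [Group G] (e : G ≃* M) (h1 : Good M 𝒮) (h2 : Good M 𝒯)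
    (h : ∀ g ∈ M, (∃ H ∈ 𝒮, g ∈ H) ∨ ∃ H ∈ 𝒯, g ∈ H) :
    ∃ H K : Subgroup G, H ≠ ⊤ ∧ K ≠ ⊤ ∧ Subgroup.center G ≤ H ∧ Subgroup.center G ≤ K ∧
      ∀ g : G, ∃ x : G, x * g * x⁻¹ ∈ H ∨ x * g * x⁻¹ ∈ K := by
  obtain ⟨H, K, hH, hK, hZ, hc⟩ := exists_two h1 h2 h
  let φ : G →* Γ := M.subtype.comp e.toMonoidHom
  have hφ : ∀ m ∈ M, ∃ g, φ g = m := fun m hm => ⟨e.symm ⟨m, hm⟩, by simp [φ]⟩
  have hφM : ∀ g, φ g ∈ M := fun g => (e g).2
  have hne : ∀ L : Subgroup Γ, ¬ M ≤ L → L.comap φ ≠ ⊤ := fun L hL e' => hL fun m hm => by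
    obtain ⟨g, rfl⟩ := hφ m hm
    exact (e'.ge (Subgroup.mem_top g) : g ∈ L.comap φ)
  have hz : ∀ z ∈ Subgroup.center G, φ z ∈ H ∧ φ z ∈ K := fun z hz => hZ _ (hφM z) fun m hm => by
    obtain ⟨g, rfl⟩ := hφ m hm
    rw [← map_mul, ← map_mul, Subgroup.mem_center_iff.1 hz g]
  refine ⟨H.comap φ, K.comap φ, hne H hH, hne K hK, fun z h => (hz z h).1, fun z h => (hz z h).2, fun g => ?_⟩
  obtain ⟨x, hx, hx'⟩ := hc (φ g) (hφM g)
  obtain ⟨y, rfl⟩ := hφ x hx
  refine ⟨y, ?_⟩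
  simpa only [Subgroup.mem_comap, map_mul, map_inv] using hx'

theorem cov_of_good {G : Type*} [Group G] (e : G ≃* M) (h1 : Good M 𝒮) (h2 : Good M 𝒯)
    (h : ∀ g ∈ M, (∃ H ∈ 𝒮, g ∈ H) ∨ ∃ H ∈ 𝒯, g ∈ H) : IsCov G := by
  obtain ⟨H, K, hH, hK, -, -, hc⟩ := exists_two_of_equiv e h1 h2 h
  exact ⟨H, K, hH, hK, hc⟩

theorem cov_quot_of_good {G : Type*} [Group G] (e : G ≃* M) (h1 : Good M 𝒮) (h2 : Good M 𝒯)
    (h : ∀ g ∈ M, (∃ H ∈ 𝒮, g ∈ H) ∨ ∃ H ∈ 𝒯, g ∈ H) : IsCov (G ⧸ Subgroup.center G) := by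
  obtain ⟨H, K, hH, hK, hZH, hZK, hc⟩ := exists_two_of_equiv e h1 h2 h
  have hne : ∀ L : Subgroup G, L ≠ ⊤ → Subgroup.center G ≤ L →
      L.map (QuotientGroup.mk' (Subgroup.center G)) ≠ ⊤ := fun L hL hZ e' => hL (by
    have := congrArg (Subgroup.comap (QuotientGroup.mk' (Subgroup.center G))) e'
    rwa [Subgroup.comap_map_eq, QuotientGroup.ker_mk', sup_eq_left.2 hZ, Subgroup.comap_top] at this)
  refine ⟨_, _, hne H hH hZH, hne K hK hZK, fun g => ?_⟩
  obtain ⟨g, rfl⟩ := QuotientGroup.mk'_surjective _ g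
  obtain ⟨x, hx⟩ := hc g
  refine ⟨QuotientGroup.mk' _ x, ?_⟩
  rw [← map_inv, ← map_mul, ← map_mul]
  exact hx.imp (Subgroup.mem_map_of_mem _) (Subgroup.mem_map_of_mem _)

end Abstract

section Poly

variable {F : Type*} [Field F] [Finite F]

/-- A separable polynomial that has a root in every residue field of `F[X]/(χ)` has a root in `F[X]/(χ)`. -/
theorem exists_dvd_comp {χ f : F[X]} (hχ : χ.Monic) (hf : Irreducible f)
    (h : ∀ p : F[X], Irreducible p → p ∣ χ → f.natDegree ∣ p.natDegree) : ∃ r : F[X], χ ∣ f.comp r := by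
  haveI : Module.Finite F (AdjoinRoot χ) := hχ.finite_adjoinRoot
  haveI : Finite (AdjoinRoot χ) := Module.finite_of_finite F
  haveI : Fact (Irreducible f) := ⟨hf⟩
  have h1 : ∀ m : MaximalSpectrum (AdjoinRoot χ), ∃ y : AdjoinRoot χ ⧸ m.asIdeal, aeval y f = 0 := fun m => by
    haveI := m.isMaximal
    letI : Field (AdjoinRoot χ ⧸ m.asIdeal) := Ideal.Quotient.field _
    haveI : Finite (AdjoinRoot χ ⧸ m.asIdeal) := Finite.of_surjective _ Ideal.Quotient.mk_surjective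
    let x : AdjoinRoot χ ⧸ m.asIdeal := Ideal.Quotient.mkₐ F m.asIdeal (AdjoinRoot.root χ)
    have hx : IsIntegral F x := IsIntegral.of_finite F x
    have hx0 : aeval x χ = 0 := by
      rw [show x = Ideal.Quotient.mkₐ F m.asIdeal (AdjoinRoot.root χ) from rfl, aeval_algHom_apply,
        AdjoinRoot.aeval_eq, AdjoinRoot.mk_self, map_zero]
    have hd : finrank F (AdjoinRoot f) ∣ finrank F (AdjoinRoot χ ⧸ m.asIdeal) := by
      rw [show finrank F (AdjoinRoot f) = f.natDegree from finrank_quotient_span_eq_natDegree]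
      exact (h _ (minpoly.irreducible hx) (minpoly.dvd F x hx0)).trans (minpoly.degree_dvd hx)
    obtain ⟨φ⟩ := FiniteField.nonempty_algHom_of_finrank_dvd hd
    exact ⟨φ (AdjoinRoot.root f), by rw [aeval_algHom_apply, AdjoinRoot.aeval_eq, AdjoinRoot.mk_self, map_zero]⟩
  choose y hy using h1
  obtain ⟨r, hr⟩ := Ideal.pi_quotient_surjective (I := fun m : MaximalSpectrum (AdjoinRoot χ) => m.asIdeal)
    (fun I _ => I.isCoprime_of_ne) y
  have hn : IsNilpotent (aeval r f) := by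
    refine nilpotent_iff_mem_prime.2 fun J hJ => ?_
    have hJ' : J.IsMaximal := IsArtinianRing.isMaximal_of_isPrime J
    have := hy ⟨J, hJ'⟩
    rw [← hr ⟨J, hJ'⟩, show ((r : AdjoinRoot χ ⧸ J)) = Ideal.Quotient.mkₐ F J r from rfl, aeval_algHom_apply] at this
    exact Ideal.Quotient.eq_zero_iff_mem.1 this
  have hu : IsUnit (aeval r (derivative f)) := by
    obtain ⟨a, b, hab⟩ : IsCoprime f (derivative f) := PerfectField.separable_of_irreducible hf
    have h2 := congrArg (aeval r) hab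
    rw [map_add, map_mul, map_mul, map_one] at h2
    have h3 : IsUnit (aeval r b * aeval r (derivative f)) := by
      rw [eq_sub_of_add_eq' h2]
      exact ((Commute.all _ _).isNilpotent_mul_left hn).isUnit_one_sub
    exact isUnit_of_mul_isUnit_right h3
  obtain ⟨s, ⟨-, hs⟩, -⟩ := existsUnique_nilpotent_sub_and_aeval_eq_zero hn hu
  obtain ⟨t, rfl⟩ := AdjoinRoot.mk_surjective s
  refine ⟨t, AdjoinRoot.mk_eq_zero.1 ?_⟩
  rw [← AdjoinRoot.aeval_eq, aeval_comp, AdjoinRoot.aeval_eq, hs]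

theorem exists_aeval_root {A : Type*} [Ring A] [Algebra F A] {χ f : F[X]} (hχ : χ.Monic) (hf : Irreducible f)
    (h : ∀ p : F[X], Irreducible p → p ∣ χ → f.natDegree ∣ p.natDegree) {g : A} (hg : aeval g χ = 0) :
    ∃ r : F[X], aeval (aeval g r) f = 0 := by
  obtain ⟨r, c, hc⟩ := exists_dvd_comp hχ hf h
  exact ⟨r, by rw [← aeval_comp, hc, map_mul, hg, zero_mul]⟩

end Poly

section Linear

variable {F V : Type*} [Field F] [AddCommGroup V] [Module F V]

/-- The automorphisms `g` with `g J g⁻¹ = J + c` for some `c ∈ A`. -/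
def NJ (A : AddSubgroup F) (J : End F V) : Subgroup (V ≃ₗ[F] V) where
  carrier := {g | ∃ c ∈ A, ∀ v, g (J v) = J (g v) + c • g v}
  one_mem' := ⟨0, A.zero_mem, fun v => by simp⟩
  mul_mem' := by
    rintro g h ⟨c, hc, hg⟩ ⟨d, hd, hh⟩
    refine ⟨c + d, A.add_mem hc hd, fun v => ?_⟩
    simp only [LinearEquiv.mul_apply, hh, map_add, map_smul, hg, add_smul, add_assoc]
  inv_mem' := by
    rintro g ⟨c, hc, hg⟩
    refine ⟨-c, A.neg_mem hc, fun v => g.injective ?_⟩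
    rw [map_add, map_smul, hg, CL.Sp.apply_inv_apply, CL.Sp.apply_inv_apply]
    simp

theorem mem_NJ {A : AddSubgroup F} {J : End F V} {g : V ≃ₗ[F] V} :
    g ∈ NJ A J ↔ ∃ c ∈ A, ∀ v, g (J v) = J (g v) + c • g v := Iff.rfl

theorem mem_NJ_of_comm {A : AddSubgroup F} {J : End F V} {g : V ≃ₗ[F] V} (h : ∀ v, g (J v) = J (g v)) :
    g ∈ NJ A J := ⟨0, A.zero_mem, fun v => by simp [h]⟩

theorem mem_NJ_aeval {A : AddSubgroup F} (g : V ≃ₗ[F] V) (r : F[X]) :
    g ∈ NJ A (aeval (g : End F V) r) := mem_NJ_of_comm fun v => by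
  have : (g : End F V) * aeval (g : End F V) r = aeval (g : End F V) r * g := by
    have h := (Commute.all (X : F[X]) r).map (aeval (g : End F V))
    rw [aeval_X] at h
    exact h
  exact congrArg (fun f : End F V => f v) this

theorem conj_mem_NJ {A : AddSubgroup F} {J J' : End F V} {k : V ≃ₗ[F] V} (hk : ∀ v, k (J v) = J' (k v))
    {g : V ≃ₗ[F] V} (hg : g ∈ NJ A J) : k * g * k⁻¹ ∈ NJ A J' := by
  obtain ⟨c, hc, hg⟩ := hg
  refine ⟨c, hc, fun v => ?_⟩
  have h1 : k⁻¹ (J' v) = J (k⁻¹ v) := k.injective (by rw [hk, CL.Sp.apply_inv_apply, CL.Sp.apply_inv_apply])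
  simp only [LinearEquiv.mul_apply, h1, hg, map_add, map_smul, hk]

theorem smul_mem_NJ {A : AddSubgroup F} {J : End F V} {z : V ≃ₗ[F] V} {a : F} (h : ∀ v, z v = a • v) :
    z ∈ NJ A J := mem_NJ_of_comm fun v => by rw [h, h, map_smul]

theorem smul_mem_stabSet {W : Submodule F V} {z : V ≃ₗ[F] V} {a : F} (h : ∀ v, z v = a • v) :
    z ∈ stabSet F (W : Set V) := fun v => by
  rcases eq_or_ne a 0 with rfl | ha
  · have : v = 0 := z.injective (by rw [h, zero_smul, map_zero])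
    simp [this]
  · simp only [h, SetLike.mem_coe, W.smul_mem_iff ha]

theorem conj_mem_stabSet {W W' : Submodule F V} {k : V ≃ₗ[F] V} (hk : W.map (k : V →ₗ[F] V) = W')
    {g : V ≃ₗ[F] V} (hg : g ∈ stabSet F (W : Set V)) : k * g * k⁻¹ ∈ stabSet F (W' : Set V) := fun v => by
  have h1 : ∀ x, k x ∈ W' ↔ x ∈ W := fun x => by
    rw [← hk]
    exact ⟨fun ⟨y, hy, e⟩ => k.injective e ▸ hy, fun hx => ⟨x, hx, rfl⟩⟩
  simp only [LinearEquiv.mul_apply, SetLike.mem_coe, h1]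
  rw [← show _ ∈ W ↔ _ ∈ W from hg _, ← h1, CL.Sp.apply_inv_apply]

theorem tv_notMem_NJ {A : AddSubgroup F} {J : End F V} (hJ : ∀ v (c : F), J v = c • v → v = 0)
    (hA : A = ⊥ ∨ 3 ≤ finrank F V) {t : V ≃ₗ[F] V} {φ : V →ₗ[F] F} {u : V} (hu : u ≠ 0) (hφ : φ ≠ 0)
    (ht : ∀ v, t v = v + φ v • u) : t ∉ NJ A J := by
  rintro ⟨c, hc, h⟩
  have h1 : ∀ v, φ (J v) • u = φ v • J u + c • v + (c * φ v) • u := fun v => by
    have := h v
    rw [ht, ht, map_add, map_smul, smul_add, smul_smul, add_assoc, add_right_inj] at this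
    rw [this, add_assoc]
  have hc0 : c = 0 := by
    rcases hA with rfl | hA
    · exact hc
    by_contra hc0
    haveI : Module.Finite F V := Module.finite_of_finrank_pos (by omega)
    have h2 : LinearMap.ker φ ≤ F ∙ u := fun v hv => by
      have := h1 v
      rw [LinearMap.mem_ker.1 hv, zero_smul, mul_zero, zero_smul, zero_add, add_zero] at this
      exact Submodule.mem_span_singleton.2 ⟨c⁻¹ * φ (J v), by
        rw [mul_smul, this, smul_smul, inv_mul_cancel₀ hc0, one_smul]⟩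
    have h3 := Submodule.finrank_mono h2
    rw [finrank_span_singleton hu] at h3
    have h4 := LinearMap.finrank_range_add_finrank_ker φ
    have h5 : finrank F (LinearMap.range φ) ≤ 1 := (Submodule.finrank_le _).trans (finrank_self F).le
    omega
  obtain ⟨v, hv⟩ := DFunLike.ne_iff.1 hφ
  have h2 := h1 v
  rw [hc0, zero_smul, zero_mul, zero_smul, add_zero, add_zero] at h2
  refine hu (hJ u ((φ v)⁻¹ * φ (J v)) ?_)
  rw [mul_smul, h2, smul_smul, inv_mul_cancel₀ hv, one_smul]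

theorem no_eigen {J : End F V} {f : F[X]} (hf : ∀ c, ¬ f.IsRoot c) (hJ : aeval J f = 0) (v : V) (c : F)
    (h : J v = c • v) : v = 0 := by
  by_contra hv
  have := Module.End.aeval_apply_of_hasEigenvector (p := f)
    (show Module.End.HasEigenvector J c v from ⟨Module.End.mem_eigenspace_iff.2 h, hv⟩)
  rw [hJ, LinearMap.zero_apply] at this
  exact hf c ((smul_eq_zero.1 this.symm).resolve_right hv)

theorem not_isRoot_of_irreducible {f : F[X]} (hf : Irreducible f) (hd : 2 ≤ f.natDegree) (c : F) :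
    ¬ f.IsRoot c := fun h => by
  have : f.natDegree = 1 := natDegree_eq_of_degree_eq_some (degree_eq_one_of_irreducible_of_root hf h)
  omega

/-- The action of `F[X]/(f)` given by a root of `f`. -/
noncomputable def rootAct {A : Type*} [Ring A] [Algebra F A] {f : F[X]} {J : A} (hJ : aeval J f = 0) :
    AdjoinRoot f →ₐ[F] A :=
  Ideal.Quotient.liftₐ (Ideal.span {f}) (aeval J) fun a ha => by
    obtain ⟨b, rfl⟩ := Ideal.mem_span_singleton'.1 ha
    rw [map_mul, hJ, mul_zero]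

theorem rootAct_root {A : Type*} [Ring A] [Algebra F A] {f : F[X]} {J : A} (hJ : aeval J f = 0) :
    rootAct hJ (AdjoinRoot.root f) = J := aeval_X J

theorem exists_intertwine [Finite F] [FiniteDimensional F V] [Nontrivial V] {f : F[X]} (hf : Irreducible f)
    {J J' : End F V} (hJ : aeval J f = 0) (hJ' : aeval J' f = 0) {c : F} (hc : c ≠ 0) :
    ∃ k : V ≃ₗ[F] V, dt k = c ∧ ∀ v, k (J v) = J' (k v) := by
  haveI : Fact (Irreducible f) := ⟨hf⟩
  haveI : Module.Finite F (AdjoinRoot f) := (AdjoinRoot.powerBasis hf.ne_zero).finite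
  haveI : Finite (AdjoinRoot f) := Module.finite_of_finite F
  obtain ⟨e, he⟩ := CL.Elu.exists_equiv_intertwine (rootAct hJ') (rootAct hJ) rfl
  obtain ⟨g, hg, hg'⟩ := CL.Elu.exists_comm_det (rootAct hJ') (c := c * (dt e)⁻¹)
    (mul_ne_zero hc (inv_ne_zero (dt_ne_zero e)))
  refine ⟨g * e, by rw [map_mul, dt_apply g, hg, inv_mul_cancel_right₀ (dt_ne_zero e)], fun v => ?_⟩
  have h1 := he (AdjoinRoot.root f) v
  have h2 := hg' (AdjoinRoot.root f) (e v)
  rw [rootAct_root, rootAct_root] at h1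
  rw [rootAct_root] at h2
  rw [LinearEquiv.mul_apply, LinearEquiv.mul_apply, h1, h2]

theorem exists_irreducible_natDegree (F : Type*) [Field F] [Finite F] {d : ℕ} (hd : d ≠ 0) :
    ∃ f : F[X], Irreducible f ∧ f.natDegree = d := by
  obtain ⟨p, hp⟩ := CharP.exists F
  haveI : Fact p.Prime := ⟨CharP.char_is_prime F p⟩
  haveI : NeZero d := ⟨hd⟩
  let b := Field.powerBasisOfFiniteOfSeparable F (FiniteField.Extension F p d)
  exact ⟨minpoly F b.gen, minpoly.irreducible b.isIntegral_gen, by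
    rw [b.natDegree_minpoly, ← b.finrank, FiniteField.finrank_extension]⟩

theorem mem_stabSet_span [FiniteDimensional F V] {g : V ≃ₗ[F] V} {v : V} {c : F} (h : g v = c • v) :
    g ∈ stabSet F ((F ∙ v : Submodule F V) : Set V) :=
  mem_stabSet_of_forall fun w hw => by
    obtain ⟨a, rfl⟩ := Submodule.mem_span_singleton.1 hw
    rw [map_smul, h]
    exact Submodule.smul_mem _ _ (Submodule.smul_mem _ _ (Submodule.mem_span_singleton_self v))

theorem map_span_singleton {k : V ≃ₗ[F] V} {v w : V} (h : k v = w) :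
    (F ∙ v : Submodule F V).map (k : V →ₗ[F] V) = F ∙ w := by
  rw [Submodule.map_span, Set.image_singleton]
  exact congrArg (fun x => F ∙ x) h

end Linear

section SL

variable {F V : Type*} [Field F] [AddCommGroup V] [Module F V] [FiniteDimensional F V]

/-- The special linear group of `V`. -/
noncomputable def SLG (F V : Type*) [Field F] [AddCommGroup V] [Module F V] : Subgroup (V ≃ₗ[F] V) :=
  (LinearEquiv.det (R := F) (M := V)).ker

omit [FiniteDimensional F V] in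
theorem mem_SLG {g : V ≃ₗ[F] V} : g ∈ SLG F V ↔ dt g = 1 := by
  simp only [SLG, MonoidHom.mem_ker, dt_eq_coe, Units.val_eq_one]

theorem tv_mem_SLG {φ : Dual F V} {u : V} (h : φ u = 0) : LinearEquiv.transvection h ∈ SLG F V := by
  rw [SLG, MonoidHom.mem_ker, LinearEquiv.transvection.det_eq_one]

theorem exists_SLG_apply_of_notMem {u v : V} (h : v ∉ F ∙ u) (h' : u ≠ 0) : ∃ k ∈ SLG F V, k u = v := by
  have hl : LinearIndependent F ![u, v] := by
    rw [LinearIndependent.pair_iff' h']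
    exact fun a e => h (Submodule.mem_span_singleton.2 ⟨a, e⟩)
  obtain ⟨φ, hφ⟩ : ∃ φ : Dual F V, ∀ i, φ (![u, v] i) = 1 := by
    obtain ⟨ψ, hψ⟩ := LinearMap.exists_extend ((Basis.span hl).constr F fun _ => (1 : F))
    refine ⟨ψ, fun i => ?_⟩
    have := congrArg (fun f => f (Basis.span hl i)) hψ
    simp only [LinearMap.comp_apply, Submodule.subtype_apply, Basis.constr_basis] at this
    rwa [Basis.span_apply] at this
  have h0 : φ (v - u) = 0 := by
    rw [map_sub, show φ v = 1 from hφ 1, show φ u = 1 from hφ 0, sub_self]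
  exact ⟨_, tv_mem_SLG h0, by
    rw [LinearEquiv.transvection.apply, show φ u = 1 from hφ 0, one_smul, add_sub_cancel]⟩

theorem exists_notMem_span (h2 : 2 ≤ finrank F V) (u : V) : ∃ v, v ∉ F ∙ u := by
  by_contra! h
  have h1 : finrank F (⊤ : Submodule F V) ≤ finrank F (F ∙ u) := Submodule.finrank_mono fun v _ => h v
  have h3 : finrank F (F ∙ u) ≤ 1 := by simpa using finrank_span_le_card (R := F) ({u} : Set V)
  rw [finrank_top] at h1
  omega

theorem SLG_cen (h2 : 2 ≤ finrank F V) {z : V ≃ₗ[F] V} (hz : ∀ m ∈ SLG F V, m * z = z * m) :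
    ∃ a : F, ∀ v, z v = a • v := by
  refine CL.Sp.exists_smul_of_forall_mem_span fun u => ?_
  by_contra hu
  obtain ⟨φ, h1, h0⟩ := CL.SLn.exists_dual_of_notMem hu
  have h0' : φ u = 0 := h0 u (Submodule.mem_span_singleton_self u)
  have := congrArg (fun f : V ≃ₗ[F] V => f u) (hz _ (tv_mem_SLG h0'))
  simp only [LinearEquiv.mul_apply, LinearEquiv.transvection.apply, h1, h0', one_smul, zero_smul, add_zero,
    add_eq_left] at this
  exact hu (by simp [this])

theorem good_points (h2 : 2 ≤ finrank F V) :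
    Good (SLG F V) {H | ∃ v : V, v ≠ 0 ∧ H = stabSet F ((F ∙ v : Submodule F V) : Set V)} where
  proper := by
    rintro _ ⟨u, hu, rfl⟩ hle
    obtain ⟨v, hv⟩ := exists_notMem_span h2 u
    obtain ⟨k, hk, rfl⟩ := exists_SLG_apply_of_notMem hv hu
    exact hv ((hle hk u).1 (Submodule.mem_span_singleton_self u))
  cen := by
    rintro _ ⟨u, hu, rfl⟩ z - hz
    obtain ⟨a, ha⟩ := SLG_cen h2 hz
    exact smul_mem_stabSet ha
  conj := by
    rintro _ ⟨u, hu, rfl⟩ _ ⟨v, hv, rfl⟩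
    by_cases h : v ∈ F ∙ u
    · have : (F ∙ v : Submodule F V) = F ∙ u := by
        obtain ⟨a, rfl⟩ := Submodule.mem_span_singleton.1 h
        exact Submodule.span_singleton_smul_eq (IsUnit.mk0 _ (left_ne_zero_of_smul hv)) u
      exact ⟨1, (SLG F V).one_mem, fun g hg => by simpa [this] using hg⟩
    · obtain ⟨k, hk, e⟩ := exists_SLG_apply_of_notMem h hu
      exact ⟨k, hk, fun g hg => conj_mem_stabSet (map_span_singleton e) hg⟩

theorem good_field [Finite F] (h2 : 2 ≤ finrank F V) {f : F[X]} (hf : Irreducible f) (hd : 2 ≤ f.natDegree) :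
    Good (SLG F V) {H | ∃ J : End F V, aeval J f = 0 ∧ H = NJ ⊥ J} where
  proper := by
    rintro _ ⟨J, hJ, rfl⟩ hle
    haveI : Nontrivial V := nontrivial_of_finrank_pos (R := F) (by omega)
    obtain ⟨u, hu⟩ := exists_ne (0 : V)
    obtain ⟨v, hv⟩ := exists_notMem_span h2 u
    obtain ⟨φ, h1, h0⟩ := CL.SLn.exists_dual_of_notMem hv
    have h0' : φ u = 0 := h0 u (Submodule.mem_span_singleton_self u)
    exact tv_notMem_NJ (no_eigen (not_isRoot_of_irreducible hf hd) hJ) (Or.inl rfl) hu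
      (fun e => by simp [e] at h1) (LinearEquiv.transvection.apply h0') (hle (tv_mem_SLG h0'))
  cen := by
    rintro _ ⟨J, hJ, rfl⟩ z - hz
    obtain ⟨a, ha⟩ := SLG_cen h2 hz
    exact smul_mem_NJ ha
  conj := by
    rintro _ ⟨J, hJ, rfl⟩ _ ⟨J', hJ', rfl⟩
    haveI : Nontrivial V := nontrivial_of_finrank_pos (R := F) (by omega)
    obtain ⟨k, hk, hk'⟩ := exists_intertwine hf hJ hJ' one_ne_zero
    exact ⟨k, mem_SLG.2 hk, fun g hg => conj_mem_NJ hk' hg⟩

theorem exists_eigen_of_isRoot {g : End F V} {c : F} (h : g.charpoly.IsRoot c) : ∃ v, v ≠ 0 ∧ g v = c • v := by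
  obtain ⟨v, hv⟩ := (Module.End.hasEigenvalue_iff_isRoot_charpoly g c).2 h |>.exists_hasEigenvector
  exact ⟨v, hv.2, hv.apply_eq_smul⟩

theorem two_le_natDegree {χ p : F[X]} (hχ : ∀ c, ¬ χ.IsRoot c) (hp : Irreducible p) (h : p ∣ χ) :
    2 ≤ p.natDegree := by
  by_contra h1
  have h2 : p.natDegree = 1 := by have := hp.natDegree_pos; omega
  obtain ⟨c, hc⟩ := exists_root_of_degree_eq_one ((degree_eq_iff_natDegree_eq_of_pos one_pos).2 h2)
  exact hχ c (hc.dvd h)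

/-- The degrees of the irreducible factors of a polynomial of degree `2`, `3` or `4` without roots. -/
theorem natDegree_factor {χ p : F[X]} (h0 : χ ≠ 0) (hχ : ∀ c, ¬ χ.IsRoot c) (hp : Irreducible p) (h : p ∣ χ) :
    p.natDegree = χ.natDegree ∨ (2 ≤ p.natDegree ∧ p.natDegree + 2 ≤ χ.natDegree) := by
  have h1 := two_le_natDegree hχ hp h
  obtain ⟨r, rfl⟩ := h
  rw [natDegree_mul hp.ne_zero (right_ne_zero_of_mul h0)]
  rcases Nat.eq_zero_or_pos r.natDegree with h2 | h2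
  · exact Or.inl (by omega)
  · obtain ⟨s, hs, hsr⟩ := exists_irreducible_of_natDegree_pos h2
    have h3 := two_le_natDegree hχ hs (hsr.mul_left p)
    have h4 := natDegree_le_of_dvd hsr (right_ne_zero_of_mul h0)
    exact Or.inr ⟨h1, by omega⟩

theorem cover_SL [Finite F] {f : F[X]} (hf : Irreducible f)
    (hn : (finrank F V = 2 ∧ f.natDegree = 2) ∨ (finrank F V = 3 ∧ f.natDegree = 3) ∨
      (finrank F V = 4 ∧ f.natDegree = 2)) (g : V ≃ₗ[F] V) :
    (∃ H ∈ {H | ∃ v : V, v ≠ 0 ∧ H = stabSet F ((F ∙ v : Submodule F V) : Set V)}, g ∈ H) ∨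
      ∃ H ∈ {H | ∃ J : End F V, aeval J f = 0 ∧ H = NJ ⊥ J}, g ∈ H := by
  by_cases h : ∃ c, (g : End F V).charpoly.IsRoot c
  · obtain ⟨c, hc⟩ := h
    obtain ⟨v, hv, e⟩ := exists_eigen_of_isRoot hc
    exact Or.inl ⟨_, ⟨v, hv, rfl⟩, mem_stabSet_span e⟩
  · push Not at h
    obtain ⟨r, hr⟩ := exists_aeval_root (g : End F V).charpoly_monic hf (fun p hp hd => by
      have := natDegree_factor (g : End F V).charpoly_monic.ne_zero h hp hd
      rw [LinearMap.charpoly_natDegree] at this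
      rcases hn with ⟨h1, h2⟩ | ⟨h1, h2⟩ | ⟨h1, h2⟩ <;> rw [h2] <;> omega) (g : End F V).aeval_self_charpoly
    exact Or.inr ⟨_, ⟨_, hr, rfl⟩, mem_NJ_aeval g r⟩

theorem nonempty_slEquiv (n : ℕ) (F : Type*) [Field F] :
    Nonempty (Matrix.SpecialLinearGroup (Fin n) F ≃* SLG F (Fin n → F)) := by
  let φ : Matrix.SpecialLinearGroup (Fin n) F →* ((Fin n → F) ≃ₗ[F] (Fin n → F)) :=
    (glEquiv (Fin n) F).toMonoidHom.comp Matrix.SpecialLinearGroup.toGL
  have hφ : Function.Injective φ := (glEquiv (Fin n) F).injective.comp Matrix.SpecialLinearGroup.toGL_injective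
  refine ⟨(MonoidHom.ofInjective hφ).trans (MulEquiv.subgroupCongr ?_)⟩
  ext g
  rw [mem_SLG]
  constructor
  · rintro ⟨A, rfl⟩
    exact (dt_glEquiv _).trans A.2
  · intro hg
    obtain ⟨A, rfl⟩ := (glEquiv (Fin n) F).surjective g
    exact ⟨⟨A, (dt_glEquiv A).symm.trans hg⟩, congrArg (glEquiv (Fin n) F) (Units.ext rfl)⟩

theorem isCov_PSL (F : Type*) [Field F] [Finite F] {n : ℕ} (hn : n = 2 ∨ n = 3 ∨ n = 4) :
    IsCov (Matrix.ProjectiveSpecialLinearGroup (Fin n) F) := by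
  obtain ⟨e⟩ := nonempty_slEquiv n F
  have hV : finrank F (Fin n → F) = n := by simp
  obtain ⟨f, hf, hd⟩ := exists_irreducible_natDegree F (d := if n = 3 then 3 else 2) (by split_ifs <;> omega)
  exact cov_quot_of_good e (good_points (by omega)) (good_field (by omega) hf (by split_ifs at hd <;> omega))
    fun g _ => cover_SL hf (by split_ifs at hd <;> omega) g

end SL

section SpEven

variable {F V : Type*} [Field F] [AddCommGroup V] [Module F V] [FiniteDimensional F V]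
  {B : LinearMap.BilinForm F V}

open QuadraticMap CL.Sp

/-- The isometry group of a function. -/
def QStab (F : Type*) [Field F] [Module F V] (Q : V → F) : Subgroup (V ≃ₗ[F] V) where
  carrier := {g | ∀ v, Q (g v) = Q v}
  one_mem' _ := rfl
  mul_mem' {a b} ha hb v := (ha _).trans (hb v)
  inv_mem' {a} ha v := by rw [← ha, apply_inv_apply]

omit [FiniteDimensional F V] in
theorem isom_cen (hB : B.IsAlt) (hN : B.Nondegenerate) {z : V ≃ₗ[F] V} (hz : z ∈ Isom B)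
    (h : ∀ m ∈ Isom B, m * z = z * m) : (∀ v, z v = (1 : F) • v) ∨ ∀ v, z v = (-1 : F) • v := by
  rcases (mem_center_isom_iff hB hN ⟨z, hz⟩).1
    (Subgroup.mem_center_iff.2 fun m => Subtype.ext (h m m.2)) with e | e
  · exact Or.inl fun v => by rw [show z = 1 from e]; simp
  · exact Or.inr fun v => by rw [show z = LinearEquiv.neg F from e]; simp

theorem good_quad [Finite F] (hB : B.IsAlt) (hN : B.Nondegenerate) (h2 : (2 : F) = 0) (hd : 3 ≤ finrank F V)
    (P : QuadraticForm F V → Prop) {W : Type*} [AddCommGroup W] [Module F W] (Q₀ : W → F)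
    (hP : ∀ Q, polarBilin Q = B → P Q → ∃ e : V ≃ₗ[F] W, ∀ v, Q₀ (e v) = Q v) :
    Good (Isom B) {H | ∃ Q : QuadraticForm F V, (polarBilin Q = B ∧ P Q) ∧ H = QStab F Q} where
  proper := by
    rintro _ ⟨Q, ⟨hQ, -⟩, rfl⟩ hle
    obtain ⟨g, hg, hg'⟩ := exists_isom_not_quad hB hN h2 (isSquare_of_two_eq_zero h2) hd (Q := Q)
      (fun c v => by rw [QuadraticMap.map_smul, smul_eq_mul, pow_two]) (fun u v => by rw [← hQ]; rfl)
    exact hg' (hle hg)
  cen := by
    rintro _ ⟨Q, -, rfl⟩ z hz h v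
    rcases isom_cen hB hN hz h with e | e <;> simp [e]
  conj := by
    rintro _ ⟨Q, ⟨hQ, hPQ⟩, rfl⟩ _ ⟨Q', ⟨hQ', hPQ'⟩, rfl⟩
    obtain ⟨e, he⟩ := hP Q hQ hPQ
    obtain ⟨e', he'⟩ := hP Q' hQ' hPQ'
    have hk : ∀ v, Q' ((e.trans e'.symm) v) = Q v := fun v => by
      rw [← he', ← he, LinearEquiv.trans_apply, LinearEquiv.apply_symm_apply]
    refine ⟨e.trans e'.symm, fun u v => ?_, fun g hg v => ?_⟩
    · conv_lhs => rw [← hQ']
      rw [← hQ, polarBilin_apply_apply, polarBilin_apply_apply, polar, polar, ← map_add, hk, hk, hk]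
    · rw [LinearEquiv.mul_apply, LinearEquiv.mul_apply, hk, hg, ← hk, apply_inv_apply]

theorem isCov_PSp_even (F : Type*) [Field F] [Fintype F] {m : ℕ} (hm : 2 ≤ m) (hF : ¬ Odd (Fintype.card F)) :
    IsCov (Cfsg.PSp m F) := by
  have h2 := two_eq_zero_of_not_odd_card hF
  haveI : CharP F 2 := CL.Cls.ringChar_eq_two_of_two_eq_zero h2 ▸ ringChar.charP F
  obtain ⟨k, rfl⟩ : ∃ k, m = k + 1 := ⟨m - 1, by omega⟩
  have hV : finrank F (Fin (k + 1) ⊕ Fin (k + 1) → F) = 2 * (k + 1) := by simp; omega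
  obtain ⟨a, b, hab⟩ := CL.Cls.exists_anisotropic_pair F
  have hB := stdForm_isAlt (Fin (k + 1)) F
  have hN := stdForm_nondegenerate (Fin (k + 1)) F
  refine cov_quot_of_good (spEquiv (Fin (k + 1)) F)
    (good_quad hB hN h2 (by omega) (fun Q => ∃ X : Submodule F _, finrank F X = k + 1 ∧ ∀ x ∈ X, Q x = 0)
      (CL.Cls.qfPlus (k + 1) F) fun Q hQ hX => CL.Cls.exists_equiv_qfPlus (hQ ▸ hN) hV hX)
    (good_quad hB hN h2 (by omega) (fun Q => ¬ ∃ X : Submodule F _, finrank F X = k + 1 ∧ ∀ x ∈ X, Q x = 0)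
      (CL.Cls.qfMinus k F a b) fun Q hQ hX => CL.Cls.exists_equiv_qfMinus (hQ ▸ hN) hV hX hab) fun g hg => ?_
  obtain ⟨Q, hQ, hg'⟩ := CL.Known.exists_quad_fixed_of_two hN.1 hB g hg
  by_cases h : ∃ X : Submodule F _, finrank F X = k + 1 ∧ ∀ x ∈ X, Q x = 0
  · exact Or.inl ⟨_, ⟨Q, ⟨hQ, h⟩, rfl⟩, hg'⟩
  · exact Or.inr ⟨_, ⟨Q, ⟨hQ, h⟩, rfl⟩, hg'⟩

end SpEven

end CL.Cov
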