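/-
`G₂(q)`, `q` even, is the union of the conjugates of the stabilisers of the two kinds of quadratic étale subalgebras.
-/
import Cfsg.Agent.Known.Cov1
import Cfsg.Agent.Blk.SqG2

set_option autoImplicit false

open Module QuadraticMap Cfsg.Lie CL.Blk.Zorn
open scoped Matrix MatrixGroups

namespace CL.Cov

theorem isCov_of_families {G : Type*} [Group G] {𝒮 𝒯 : Set (Subgroup G)} (h1 : ∀ H ∈ 𝒮, H ≠ ⊤)
    (h2 : ∀ H ∈ 𝒯, H ≠ ⊤) (c1 : ∀ H ∈ 𝒮, ∀ K ∈ 𝒮, ∃ k, ∀ g ∈ H, k * g * k⁻¹ ∈ K)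
    (c2 : ∀ H ∈ 𝒯, ∀ K ∈ 𝒯, ∃ k, ∀ g ∈ H, k * g * k⁻¹ ∈ K)
    (h : ∀ g, (∃ H ∈ 𝒮, g ∈ H) ∨ ∃ H ∈ 𝒯, g ∈ H) : IsCov G := by
  rcases 𝒮.eq_empty_or_nonempty with hS | ⟨H, hH⟩
  · obtain ⟨K, hK, -⟩ := (h 1).resolve_left (by simp [hS])
    refine ⟨K, K, h2 K hK, h2 K hK, fun g => ?_⟩
    obtain ⟨L, hL, hgL⟩ := (h g).resolve_left (by simp [hS])
    obtain ⟨k, hk⟩ := c2 L hL K hK
    exact ⟨k, Or.inl (hk g hgL)⟩
  rcases 𝒯.eq_empty_or_nonempty with hT | ⟨K, hK⟩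
  · refine ⟨H, H, h1 H hH, h1 H hH, fun g => ?_⟩
    obtain ⟨L, hL, hgL⟩ := (h g).resolve_right (by simp [hT])
    obtain ⟨k, hk⟩ := c1 L hL H hH
    exact ⟨k, Or.inl (hk g hgL)⟩
  refine ⟨H, K, h1 H hH, h2 K hK, fun g => ?_⟩
  rcases h g with ⟨L, hL, hgL⟩ | ⟨L, hL, hgL⟩
  · obtain ⟨k, hk⟩ := c1 L hL H hH
    exact ⟨k, Or.inl (hk g hgL)⟩
  · obtain ⟨k, hk⟩ := c2 L hL K hK
    exact ⟨k, Or.inr (hk g hgL)⟩

variable {F : Type*} [Field F]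

/-- Conjugacy of octonions under `G₂`. -/
def ORel (x y : Fin 8 → F) : Prop := ∃ k : G2 F, act F k x = y

theorem ORel.refl (x : Fin 8 → F) : ORel x x := ⟨1, by rw [map_one]; rfl⟩

theorem ORel.symm {x y : Fin 8 → F} (h : ORel x y) : ORel y x := by
  obtain ⟨k, rfl⟩ := h
  exact ⟨k⁻¹, act_inv_act k x⟩

theorem ORel.trans {x y z : Fin 8 → F} (h : ORel x y) (h' : ORel y z) : ORel x z := by
  obtain ⟨k, rfl⟩ := h
  obtain ⟨l, rfl⟩ := h'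
  exact ⟨l * k, by rw [map_mul]; rfl⟩

theorem ORel.tr {x y : Fin 8 → F} (h : ORel x y) : y 0 + y 7 = x 0 + x 7 := by
  obtain ⟨k, rfl⟩ := h
  exact (act_tr_nrm k x).1

theorem ORel.nrm {x y : Fin 8 → F} (h : ORel x y) : nrm8 F y = nrm8 F x := by
  obtain ⟨k, rfl⟩ := h
  exact (act_tr_nrm k x).2

/-- Exchange of the first and third coordinates. -/
def sw13 (F : Type*) [Field F] : (Fin 8 → F) →ₗ[F] (Fin 8 → F) where
  toFun x := ![x 0, -x 3, -x 2, -x 1, -x 6, -x 5, -x 4, x 7]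
  map_add' x y := by apply ext8 <;> simp <;> ring
  map_smul' c x := by apply ext8 <;> simp

/-- Exchange of the second and third coordinates. -/
def sw23 (F : Type*) [Field F] : (Fin 8 → F) →ₗ[F] (Fin 8 → F) where
  toFun x := ![x 0, -x 1, -x 3, -x 2, -x 4, -x 6, -x 5, x 7]
  map_add' x y := by apply ext8 <;> simp <;> ring
  map_smul' c x := by apply ext8 <;> simp

theorem sw13_apply (x : Fin 8 → F) : sw13 F x = ![x 0, -x 3, -x 2, -x 1, -x 6, -x 5, -x 4, x 7] := rfl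

theorem sw23_apply (x : Fin 8 → F) : sw23 F x = ![x 0, -x 1, -x 3, -x 2, -x 4, -x 6, -x 5, x 7] := rfl

theorem orel_sw13 (x : Fin 8 → F) : ORel x ![x 0, -x 3, -x 2, -x 1, -x 6, -x 5, -x 4, x 7] := by
  obtain ⟨t, ht⟩ := exists_act (f := sw13 F) (LinearMap.ext fun x => by apply ext8 <;> simp [sw13_apply])
    fun x y => by apply ext8 <;> simp [sw13_apply, zm0, zm1, zm2, zm3, zm4, zm5, zm6, zm7] <;> ring
  exact ⟨t, by rw [ht]; rfl⟩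

theorem orel_sw23 (x : Fin 8 → F) : ORel x ![x 0, -x 1, -x 3, -x 2, -x 4, -x 6, -x 5, x 7] := by
  obtain ⟨t, ht⟩ := exists_act (f := sw23 F) (LinearMap.ext fun x => by apply ext8 <;> simp [sw23_apply])
    fun x y => by apply ext8 <;> simp [sw23_apply, zm0, zm1, zm2, zm3, zm4, zm5, zm6, zm7] <;> ring
  exact ⟨t, by rw [ht]; rfl⟩

theorem orel_tau (x : Fin 8 → F) : ORel x ![x 7, -x 4, -x 5, -x 6, -x 1, -x 2, -x 3, x 0] := by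
  obtain ⟨t, ht⟩ := exists_act (tauL_sq (F := F) one_ne_zero) (isAut_tauL one_ne_zero)
  exact ⟨t, by rw [ht, tauL_apply]; simp⟩

theorem orel_psi (k g : SL(2, F)) (x : Fin 8 → F) : ORel x (psiL k.1 g.1 x) :=
  ⟨psi F ![k, g], by rw [act_psi]; rfl⟩

theorem orel_up (s : F) (x : Fin 8 → F) : ORel x ![x 0 + s * x 6, x 1, x 2, x 3 + s * x 7 - (x 0 + s * x 6) * s,
    x 4 + s * x 2, x 5 - s * x 1, x 6, x 7 - s * x 6] := by
  convert orel_psi ⟨!![1, s; 0, 1], by simp [Matrix.det_fin_two]⟩ 1 x using 1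
  apply ext8 <;> simp [ps0, ps1, ps2, ps3, ps4, ps5, ps6, ps7] <;> ring

theorem orel_low (s : F) (x : Fin 8 → F) : ORel x ![x 0 - s * x 3, x 1 - s * x 5, x 2 + s * x 4, x 3,
    x 4, x 5, s * x 0 + x 6 - (s * x 3 + x 7) * s, s * x 3 + x 7] := by
  convert orel_psi ⟨!![1, 0; s, 1], by simp [Matrix.det_fin_two]⟩ 1 x using 1
  apply ext8 <;> simp [ps0, ps1, ps2, ps3, ps4, ps5, ps6, ps7]
  ring

theorem orel_long (s : F) (x : Fin 8 → F) : ORel x ![x 0, x 1, x 2 + s * x 1, x 3, x 4 - s * x 5, x 5, x 6, x 7] := by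
  convert orel_psi 1 ⟨!![1, 0; s, 1], by simp [Matrix.det_fin_two]⟩ x using 1
  apply ext8 <;> simp [ps0, ps1, ps2, ps3, ps4, ps5, ps6, ps7] <;> ring

theorem orel_long' (s : F) (x : Fin 8 → F) : ORel x ![x 0, x 1 + s * x 2, x 2, x 3, x 4, x 5 - s * x 4, x 6, x 7] := by
  convert orel_psi 1 ⟨!![1, s; 0, 1], by simp [Matrix.det_fin_two]⟩ x using 1
  apply ext8 <;> simp [ps0, ps1, ps2, ps3, ps4, ps5, ps6, ps7] <;> ring

theorem orel_diag {d : F} (hd : d ≠ 0) (x : Fin 8 → F) :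
    ORel x ![x 0, d * x 1, d⁻¹ * x 2, x 3, d⁻¹ * x 4, d * x 5, x 6, x 7] := by
  convert orel_psi 1 ⟨!![d, 0; 0, d⁻¹], by simp [Matrix.det_fin_two, hd]⟩ x using 1
  apply ext8 <;> simp [ps0, ps1, ps2, ps3, ps4, ps5, ps6, ps7] <;> ring

theorem orel_A (h2 : (2 : F) = 0) {x : Fin 8 → F} (hx : x 0 + x 7 = 1) : ∃ y, ORel x y ∧ y 3 ≠ 0 := by
  have h1 : ∀ x : Fin 8 → F, x 1 ≠ 0 ∨ x 2 ≠ 0 ∨ x 3 ≠ 0 → ∃ y, ORel x y ∧ y 3 ≠ 0 := by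
    rintro x (h | h | h)
    · exact ⟨_, orel_sw13 x, by simpa using h⟩
    · exact ⟨_, orel_sw23 x, by simpa using h⟩
    · exact ⟨x, .refl x, h⟩
  by_cases ha : x 1 ≠ 0 ∨ x 2 ≠ 0 ∨ x 3 ≠ 0
  · exact h1 x ha
  by_cases hb : x 4 ≠ 0 ∨ x 5 ≠ 0 ∨ x 6 ≠ 0
  · obtain ⟨y, hy, hy'⟩ := h1 ![x 7, -x 4, -x 5, -x 6, -x 1, -x 2, -x 3, x 0] (by simpa using hb)
    exact ⟨y, (orel_tau x).trans hy, hy'⟩
  push Not at ha hb
  refine ⟨_, orel_up 1 x, ?_⟩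
  have : x 3 + 1 * x 7 - (x 0 + 1 * x 6) * 1 = 1 := by
    rw [ha.2.2, hb.2.2]
    linear_combination hx - x 0 * h2
  simpa only [Matrix.cons_val, this] using one_ne_zero

theorem orel_B {x : Fin 8 → F} (hx : x 3 ≠ 0) : ∃ y, ORel x y ∧ y 3 ≠ 0 ∧ y 4 = 0 ∧ y 5 = 0 := by
  have h1 : ∀ x : Fin 8 → F, x 3 ≠ 0 → ∃ y, ORel x y ∧ y 3 = x 3 ∧ y 4 = x 4 ∧ y 5 = 0 := fun x hx =>
    ⟨_, ((orel_sw13 x).trans (orel_up (x 5 / x 3) _)).trans (orel_sw13 _), by simp, by simp, by simp [hx]⟩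
  have h2 : ∀ x : Fin 8 → F, x 3 ≠ 0 → ∃ y, ORel x y ∧ y 3 = x 3 ∧ y 4 = 0 ∧ y 5 = x 5 := fun x hx =>
    ⟨_, ((orel_sw23 x).trans (orel_up (-(x 4 / x 3)) _)).trans (orel_sw23 _), by simp, by simp [hx], by simp⟩
  obtain ⟨y, hy, e1, -, e3⟩ := h1 x hx
  obtain ⟨z, hz, f1, f2, f3⟩ := h2 y (e1 ▸ hx)
  exact ⟨z, hy.trans hz, by rw [f1, e1]; exact hx, f2, f3.trans e3⟩

theorem orel_C {x : Fin 8 → F} (hx : x 3 ≠ 0) (h4 : x 4 = 0) (h5 : x 5 = 0) :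
    ∃ y, ORel x y ∧ y 3 ≠ 0 ∧ y 4 = 0 ∧ y 5 = 0 ∧ y 1 = 0 ∧ y 2 = 0 := by
  have h1 : ∀ x : Fin 8 → F, x 3 ≠ 0 →
      ∃ y, ORel x y ∧ y 3 = x 3 ∧ y 4 = x 4 ∧ y 5 = x 5 ∧ y 1 = x 1 ∧ y 2 = 0 := fun x hx =>
    ⟨_, ((orel_sw13 x).trans (orel_long (-(x 2 / x 3)) _)).trans (orel_sw13 _), by simp, by simp, by simp,
      by simp, by simp [hx]⟩
  have h2 : ∀ x : Fin 8 → F, x 3 ≠ 0 →
      ∃ y, ORel x y ∧ y 3 = x 3 ∧ y 4 = x 4 ∧ y 5 = x 5 ∧ y 1 = 0 ∧ y 2 = x 2 := fun x hx =>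
    ⟨_, ((orel_sw23 x).trans (orel_long' (-(x 1 / x 3)) _)).trans (orel_sw23 _), by simp, by simp, by simp,
      by simp [hx], by simp⟩
  obtain ⟨y, hy, e1, e2, e3, -, e5⟩ := h1 x hx
  obtain ⟨z, hz, f1, f2, f3, f4, f5⟩ := h2 y (e1 ▸ hx)
  exact ⟨z, hy.trans hz, by rw [f1, e1]; exact hx, by rw [f2, e2, h4], by rw [f3, e3, h5], f4, f5.trans e5⟩

theorem orel_nf (h2 : (2 : F) = 0) {x : Fin 8 → F} (hx : x 0 + x 7 = 1) :
    ORel x ![0, 0, 0, 1, 0, 0, -nrm8 F x, 1] := by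
  obtain ⟨y, r1, hy⟩ := orel_A h2 hx
  obtain ⟨z, r2, hz, z4, z5⟩ := orel_B hy
  obtain ⟨w, r3, hw, w4, w5, w1, w2⟩ := orel_C hz z4 z5
  obtain ⟨u, r4, u3, u4, u5, u1, u2, u0⟩ : ∃ u, ORel w u ∧ u 3 = w 3 ∧ u 4 = 0 ∧ u 5 = 0 ∧ u 1 = 0 ∧ u 2 = 0 ∧
      u 0 = 0 := ⟨_, orel_low (w 0 / w 3) w, by simp, by simp [w4], by simp [w5], by simp [w1, w5],
        by simp [w2, w4], by simp [hw]⟩
  obtain ⟨v, r5, v3, v4, v5, v1, v2, v0⟩ : ∃ v, ORel u v ∧ v 3 = 1 ∧ v 4 = 0 ∧ v 5 = 0 ∧ v 1 = 0 ∧ v 2 = 0 ∧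
      v 0 = 0 := ⟨_, ((orel_sw23 u).trans (orel_diag hw _)).trans (orel_sw23 _), by simp [u3, hw], by simp [u4],
        by simp [u5], by simp [u1], by simp [u2], by simp [u0]⟩
  have r := (((r1.trans r2).trans r3).trans r4).trans r5
  have e1 := r.tr
  have e2 := r.nrm
  rw [nrm8_apply, v0, v1, v2, v3] at e2
  rw [v0, hx] at e1
  convert r using 1
  apply ext8 <;> simp only [Matrix.cons_val, v0, v1, v2, v3, v4, v5]
  · linear_combination e2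
  · linear_combination -e1

theorem orel_of_eq (h2 : (2 : F) = 0) {x y : Fin 8 → F} (hx : x 0 + x 7 = 1) (hy : y 0 + y 7 = 1)
    (h : nrm8 F x = nrm8 F y) : ORel x y := (orel_nf h2 hx).trans (h ▸ (orel_nf h2 hy).symm)

/-- The stabiliser of the subalgebra spanned by `1` and `x`. -/
def OSt (x : Fin 8 → F) : Subgroup (G2 F) where
  carrier := {g | ∃ a : F, act F g x = x + a • one8 F}
  one_mem' := ⟨0, by simp⟩
  mul_mem' := by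
    rintro g h ⟨a, ha⟩ ⟨b, hb⟩
    exact ⟨a + b, by rw [map_mul, Module.End.mul_apply, hb, map_add, map_smul, ha, act_one8, add_smul, add_assoc]⟩
  inv_mem' := by
    rintro g ⟨a, ha⟩
    refine ⟨-a, ?_⟩
    have := congrArg (act F g⁻¹) ha
    rw [act_inv_act, map_add, map_smul, act_one8] at this
    rw [neg_smul, ← sub_eq_add_neg, eq_sub_iff_add_eq, ← this]

theorem oSt_ne_top (h2 : (2 : F) = 0) {x : Fin 8 → F} (hx : x 0 + x 7 = 1) : OSt x ≠ ⊤ := fun e => by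
  obtain ⟨k, hk⟩ := orel_nf h2 hx
  obtain ⟨l, hl⟩ := (orel_nf h2 hx).trans (orel_sw13 _)
  obtain ⟨a, ha⟩ : k ∈ OSt x := e.ge (Subgroup.mem_top k)
  obtain ⟨b, hb⟩ : l ∈ OSt x := e.ge (Subgroup.mem_top l)
  have h1 := congrFun (hk.symm.trans ha) 3
  have h3 := congrFun (hl.symm.trans hb) 3
  simp [one8] at h1 h3
  exact one_ne_zero (h1.trans h3.symm)

theorem nrm8_add_one (x : Fin 8 → F) (t : F) :
    nrm8 F (x + t • one8 F) = nrm8 F x + t * (x 0 + x 7) + t ^ 2 := by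
  simp only [nrm8_apply, Pi.add_apply, Pi.smul_apply, one8, Matrix.cons_val, smul_eq_mul]
  ring

theorem oSt_conj (h2 : (2 : F) = 0) {x y : Fin 8 → F} (hx : x 0 + x 7 = 1) (hy : y 0 + y 7 = 1) {t : F}
    (h : nrm8 F y = nrm8 F x + t ^ 2 + t) : ∃ k, ∀ g ∈ OSt x, k * g * k⁻¹ ∈ OSt y := by
  obtain ⟨k, hk⟩ := orel_of_eq h2 (x := x + t • one8 F) (y := y)
    (by simp [one8]; linear_combination hx + t * h2) hy (by rw [nrm8_add_one, hx, h]; ring)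
  refine ⟨k, fun g ⟨a, ha⟩ => ⟨a, ?_⟩⟩
  rw [← hk, map_mul, map_mul, Module.End.mul_apply, Module.End.mul_apply, act_inv_act]
  simp only [map_add, map_smul, act_one8, ha]
  abel

theorem exists_mem_oSt (h2 : (2 : F) = 0) (g : G2 F) : ∃ x : Fin 8 → F, x 0 + x 7 = 1 ∧ g ∈ OSt x := by
  let B : LinearMap.BilinForm F (Fin 8 → F) := polarBilin (nrm8 F)
  have hB : B.IsAlt := fun x => by
    change polar (nrm8 F) x x = 0
    rw [polar_self, two_nsmul, ← two_mul, h2, zero_mul]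
  have hN : B.Nondegenerate := ⟨fun x h => nrm8_nondeg h, fun x h => nrm8_nondeg fun y => by
    rw [polar_comm]; exact h y⟩
  have hT : ∀ x, B (one8 F) x = x 0 + x 7 := fun x => by
    change polar (nrm8 F) _ x = _
    simp [polar_nrm8, one8, add_comm]
  have hg : ∀ x y, B (act F g x) (act F g y) = B x y := polar_act g
  have h1 : one8 F ∉ (B.orthogonal (F ∙ one8 F)).map (act F g⁻¹ - 1) := by
    rintro ⟨y, hy, e⟩
    have hy' : y 0 + y 7 = 0 := (hT y).symm.trans (CL.Sp.mem_orth.1 hy _ (Submodule.mem_span_singleton_self _))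
    have h3 := (act_tr_nrm g⁻¹ y).2
    rw [LinearMap.sub_apply, Module.End.one_apply, sub_eq_iff_eq_add', ← one_smul F (one8 F)] at e
    rw [e, nrm8_add_one, hy'] at h3
    simp at h3
  obtain ⟨u, hu, hu'⟩ := CL.Sp.exists_orth_ne_zero hB hN h1
  have h3 : act F g u - u ∈ F ∙ one8 F := by
    rw [← CL.Sp.orth_orth hB hN (F ∙ one8 F), CL.Sp.mem_orth]
    intro w hw
    have := CL.Sp.mem_orth.1 hu _ ⟨w, hw, rfl⟩
    rw [LinearMap.sub_apply, Module.End.one_apply, map_sub, LinearMap.sub_apply, ← hg,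
      show act F g (act F g⁻¹ w) = w by simpa only [inv_inv] using act_inv_act g⁻¹ w] at this
    rw [map_sub, this]
  obtain ⟨a, ha⟩ := Submodule.mem_span_singleton.1 h3
  rw [hT] at hu'
  refine ⟨(u 0 + u 7)⁻¹ • u, ?_, (u 0 + u 7)⁻¹ * a, ?_⟩
  · rw [Pi.smul_apply, Pi.smul_apply, smul_eq_mul, smul_eq_mul, ← mul_add, inv_mul_cancel₀ hu']
  · rw [map_smul, mul_smul, ha, ← smul_add, add_sub_cancel]

theorem isCov_G2 [Finite F] (h2 : (2 : F) = 0) : IsCov (G2 F) := by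
  refine isCov_of_families
    (𝒮 := {H | ∃ x : Fin 8 → F, (x 0 + x 7 = 1 ∧ ∃ t, t ^ 2 + t + nrm8 F x = 0) ∧ H = OSt x})
    (𝒯 := {H | ∃ x : Fin 8 → F, (x 0 + x 7 = 1 ∧ ∀ t, t ^ 2 + t + nrm8 F x ≠ 0) ∧ H = OSt x}) ?_ ?_ ?_ ?_
    fun g => ?_
  · rintro _ ⟨x, hx, rfl⟩
    exact oSt_ne_top h2 hx.1
  · rintro _ ⟨x, hx, rfl⟩
    exact oSt_ne_top h2 hx.1
  · rintro _ ⟨x, ⟨hx, s, hs⟩, rfl⟩ _ ⟨y, ⟨hy, t, ht⟩, rfl⟩
    exact oSt_conj h2 hx hy (t := s + t) (by linear_combination ht - hs - (s * t + t ^ 2 + t) * h2)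
  · rintro _ ⟨x, ⟨hx, hs⟩, rfl⟩ _ ⟨y, ⟨hy, ht⟩, rfl⟩
    obtain ⟨c, hc⟩ := CL.Cls.exists_sq_add_of_char_two h2 hs ht
    exact oSt_conj h2 hx hy hc
  · obtain ⟨x, hx, hg⟩ := exists_mem_oSt h2 g
    by_cases h : ∃ t, t ^ 2 + t + nrm8 F x = 0
    · exact Or.inl ⟨_, ⟨x, ⟨hx, h⟩, rfl⟩, hg⟩
    · exact Or.inr ⟨_, ⟨x, ⟨hx, fun t e => h ⟨t, e⟩⟩, rfl⟩, hg⟩

end CL.Cov
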