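/-
Tables and a stabiliser chain for Psp62 on 63 points (generated by tools/pc/gm.py).
-/
import Cfsg.Agent.Known.PcGen

set_option autoImplicit false
set_option maxRecDepth 100000
set_option linter.all false

namespace CL.Pc.GPsp62
open Cfsg CL.Spor

noncomputable def T1 : ℕ := 0x96fd9f57c14ef94344b677b4643293ab0e63ca887805b48a8f9c2940a0d92126c2ee1a323c4f15736be5d1e9ee1cd5
noncomputable def T2 : ℕ := 0x1df260ea1d1c17ea006c353d92be922511eed4d6b39f098e6319cf50c672a101add6ced32824fc9bfa416e2d5d19e22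
noncomputable def T3 : ℕ := 0x22a505c90b7c3ed4c0d57a3b278194801f2e73f0539c4ee9442f6f6b91d5983ea86fe0128d1bbd26b546d169fa3ac48
noncomputable def T4 : ℕ := 0x366e53029d1e1cd4b9a80774a026f694f43b8a7d9c3e4ed1316221c5b16ed7c8886b1bc5633b474fe80a4d91ecf942a
noncomputable def T5 : ℕ := 0x37e092a9a976103e2842070beeb5c6fcece3451b3d1352599e76cacc2fef75d83123915587239e996a7a207d2472c40
noncomputable def T6 : ℕ := 0x185eaa4b33df955a3902070beeb5c6f9e8721f8114b4cc615e76cac92b7e0f4218840f6d689da67bf0d3a5993532c40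
noncomputable def T7 : ℕ := 0x29a9c6cd3b8de07d55840f1c8b33ae67a1e74616fc2285353ef4721a66bb33d0204f4269585edbbcec92914a48f5d80
noncomputable def T8 : ℕ := 0x1e74a26caf8dc10955afc2390b31763dfa9a903c40e2876d689fceda64e373d1f8051914b9eadb8721b726972c544c0
noncomputable def T9 : ℕ := 0x3ef4c2ca278df6d440c2070beeb5c6da6689e69544d24607de76caeaa585d65648e28503ce37cefae481c6174cf2c40
noncomputable def T10 : ℕ := 0x1e77ae4e36aa56572c4616287ef5a66eb4a276d5246694205c6f8dcc2e89d44f0bc40e07fced85ecac81f4cd03e48c0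
noncomputable def T11 : ℕ := 0x2eb4e37cedc6e6946174cd44eaa4a278dd85e2842070bd03fef5e76cacc2f6d565648c40fae5a6689c81f2c524607c0
noncomputable def T12 : ℕ := 0x3ef7ced85da676d74cd03d244c2ce36aa689c40c61628607de75c6f8dfae565544f0bf2c6caeeb4a2481e48e6942040
noncomputable def T13 : ℕ := 0x1a6585dc6de7524503d44d656aa689ecaeeb628607e48e697cefef7ae78df4cf6d72c70bcc2ce34a2481c40c6142040
noncomputable def T14 : ℕ := 0x1c6de75a6585d44d65524503e89eaa6eb6cae07e28669648f8dfae7ef7cef0bf2c76d74ccc2ce34a2481c40c6142040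
noncomputable def T15 : ℕ := 0x1e75c6fef7ced65544f6d74cce34c2eeb6cac61440e69648fae78dda6585f2c70bd24503eaa689ca2481e28607c2040
noncomputable def T16 : ℕ := 0x3ae78dde75c6f2c70bd65544eaa689ce34c2e28607c61440fef7ceda6585f6d74cd24503eeb6caca2481e69648c2040
noncomputable def T17 : ℕ := 0x1e75c6fae78dd65544f2c70bce34c2eaa689c61440e28607fef7ceda6585f6d74cd24503eeb6caca2481e69648c2040
noncomputable def T18 : ℕ := 0x3ae78dfef7cef2c70bf6d74ceaa689eeb6cae28607e69648de75c6da6585d65544d24503ce34c2ca2481c61440c2040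
noncomputable def ivT : ℕ := 0x4a2f835cc52d27414c320440
noncomputable def a1pT : ℕ := 0xdc88a4cc8db4a14d36892522cc25b2537248915142626d8
noncomputable def a2pT : ℕ := 0x77758877568675657656575878787650
noncomputable def a2xT : ℕ := 0xd000000000023e3add869c72a5c8bc8076db129d07b097b8e2
noncomputable def a2yT : ℕ := 0x76e238367f6d68b6c95fafb7aea319efcb1ea58e4a728387
noncomputable def a3pT : ℕ := 0xba9ba9b9ababa90
noncomputable def a3xT : ℕ := 0xd0401ab708060000e030c529000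
noncomputable def a3yT : ℕ := 0x25d61bd50d14cf1738dfc41
noncomputable def a4pT : ℕ := 0xddededc0
noncomputable def a4xT : ℕ := 0x1bd508600
noncomputable def a4yT : ℕ := 0xd554d1bf3c4f
noncomputable def a5pT : ℕ := 0x41e0
noncomputable def a5xT : ℕ := 0x18
noncomputable def a5yT : ℕ := 0x1f8c3
noncomputable def a6pT : ℕ := 0x240
noncomputable def a6xT : ℕ := 4
noncomputable def a6yT : ℕ := 0x8df
noncomputable def sel (c : ℕ) : ℕ := (cond (Nat.ble c 9) (cond (Nat.ble c 5) (cond (Nat.ble c 3) (cond (Nat.ble c 2) (cond (Nat.ble c 1) T1 T2) T3) (cond (Nat.ble c 4) T4 T5)) (cond (Nat.ble c 7) (cond (Nat.ble c 6) T6 T7) (cond (Nat.ble c 8) T8 T9))) (cond (Nat.ble c 14) (cond (Nat.ble c 12) (cond (Nat.ble c 11) (cond (Nat.ble c 10) T10 T11) T12) (cond (Nat.ble c 13) T13 T14)) (cond (Nat.ble c 16) (cond (Nat.ble c 15) T15 T16) (cond (Nat.ble c 17) T17 T18))))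
/-- The tables. -/
noncomputable def A (c i : ℕ) : ℕ := forceN c fun c => tget 6 0x3f (sel c) i
def df0 : List (ℕ × ℕ × ℕ) := [(2, 1, 1), (4, 3, 1), (5, 0x3043082, 0), (6, 5, 1), (7, 0x4082083, 0), (8, 7, 1), (9, 0x6186, 0), (10, 0x8145205, 0), (11, 0xa, 1), (12, 0xa24b, 0), (13, 0x24a24b2cb, 0), (14, 0xd, 1), (15, 0x30d30d, 0), (16, 0xf, 1), (17, 0xd34c38e, 0), (18, 0x3d1, 0)]
def df : List (ℕ × ℕ × ℕ) := (df0 ++ [])
noncomputable def iv (i : ℕ) : ℕ := tget 5 0x1f ivT i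
noncomputable def a1p (i : ℕ) : ℕ := tget 3 7 a1pT i
noncomputable def a1 : Lev := ⟨0, 0, 63, fun i => i, fun i => i, a1p, fun _ => 0⟩
noncomputable def a2p (i : ℕ) : ℕ := tget 4 0xf a2pT i
noncomputable def a2x (i : ℕ) : ℕ := tget 5 0x1f a2xT i
noncomputable def a2y (i : ℕ) : ℕ := tget 6 0x3f a2yT i
noncomputable def a2 : Lev := ⟨7, 4, 32, a2y, fun i => forceN (Nat.mod i 40) a2x, a2p, fun _ => 0⟩
noncomputable def a3p (i : ℕ) : ℕ := tget 4 0xf a3pT i
noncomputable def a3x (i : ℕ) : ℕ := tget 4 0xf a3xT i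
noncomputable def a3y (i : ℕ) : ℕ := tget 6 0x3f a3yT i
noncomputable def a3 : Lev := ⟨1, 8, 15, a3y, fun i => forceN (Nat.mod i 27) a3x, a3p, fun _ => 0⟩
noncomputable def a4p (i : ℕ) : ℕ := tget 4 0xf a4pT i
noncomputable def a4x (i : ℕ) : ℕ := tget 3 7 a4xT i
noncomputable def a4y (i : ℕ) : ℕ := tget 6 0x3f a4yT i
noncomputable def a4 : Lev := ⟨15, 11, 8, a4y, fun i => forceN (Nat.mod i 11) a4x, a4p, fun _ => 0⟩
noncomputable def a5p (i : ℕ) : ℕ := tget 5 0x1f a5pT i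
noncomputable def a5x (i : ℕ) : ℕ := tget 2 3 a5xT i
noncomputable def a5y (i : ℕ) : ℕ := tget 6 0x3f a5yT i
noncomputable def a5 : Lev := ⟨3, 14, 3, a5y, fun i => forceN (Nat.mod i 3) a5x, a5p, fun _ => 0⟩
noncomputable def a6p (i : ℕ) : ℕ := tget 5 0x1f a6pT i
noncomputable def a6x (i : ℕ) : ℕ := tget 1 1 a6xT i
noncomputable def a6y (i : ℕ) : ℕ := tget 6 0x3f a6yT i
noncomputable def a6 : Lev := ⟨31, 17, 2, a6y, fun i => forceN (Nat.mod i 3) a6x, a6p, fun _ => 0⟩
noncomputable def ach : List Lev := [a1, a2, a3, a4, a5, a6]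
noncomputable def als : List (Lev × ℕ) := [(a2, 0), (a3, 0), (a4, 0), (a5, 0), (a6, 0)]
theorem df0_0 : allR (defsChk A 63 7 df0) 0 63 = true := by decide +kernel
theorem a1_fix : fixChk (A) 18 63 [] a1 = true := by decide +kernel
theorem a1_pt_0 : allR (ptChk (A) 18 63 7 a1) 0 63 = true := by decide +kernel
theorem a2_fix : fixChk (A) 18 63 [0] a2 = true := by decide +kernel
theorem a2_pt_0 : allR (ptChk (A) 18 63 7 a2) 0 32 = true := by decide +kernel
theorem a3_fix : fixChk (A) 18 63 [7, 0] a3 = true := by decide +kernel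
theorem a3_pt_0 : allR (ptChk (A) 18 63 7 a3) 0 15 = true := by decide +kernel
theorem a4_fix : fixChk (A) 18 63 [1, 7, 0] a4 = true := by decide +kernel
theorem a4_pt_0 : allR (ptChk (A) 18 63 7 a4) 0 8 = true := by decide +kernel
theorem a5_fix : fixChk (A) 18 63 [15, 1, 7, 0] a5 = true := by decide +kernel
theorem a5_pt_0 : allR (ptChk (A) 18 63 7 a5) 0 3 = true := by decide +kernel
theorem a6_fix : fixChk (A) 18 63 [3, 15, 1, 7, 0] a6 = true := by decide +kernel
theorem a6_pt_0 : allR (ptChk (A) 18 63 7 a6) 0 2 = true := by decide +kernel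
theorem df_ok : ∀ d ∈ df, ∀ i, 0 ≤ i → i < 63 → defChk2 A 63 7 d i = true :=
  defs_app (allR_step df0_0 (allR_end (by decide))) (fun _ h => nomatch h)
theorem ach_ok : ChainOk (A) 18 63 7 ach [] :=
  ChainOk.cons a1_fix (allR_step a1_pt_0 (allR_end (by decide))) (ChainOk.cons a2_fix (allR_step a2_pt_0 (allR_end (by decide))) (ChainOk.cons a3_fix (allR_step a3_pt_0 (allR_end (by decide))) (ChainOk.cons a4_fix (allR_step a4_pt_0 (allR_end (by decide))) (ChainOk.cons a5_fix (allR_step a5_pt_0 (allR_end (by decide))) (ChainOk.cons a6_fix (allR_step a6_pt_0 (allR_end (by decide))) (trivial))))))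
universe u
variable {G : Type u} {X : Type*} [Group G] [MulAction G X] {pt : ℕ → X} {x : ℕ → G}
/-- The input: an action with the tables of the letters [1, 3]. -/
abbrev Inp (G : Type u) {X : Type*} [Group G] [MulAction G X] (pt : ℕ → X) : Prop := Input G pt 63 A 10 1451520
abbrev Ful (pt : ℕ → X) (x : ℕ → G) : Prop := Full pt 63 A 10 1451520 18 18 7 ach [0, 7, 1, 15, 3, 31] x
theorem full (I : Inp G pt) : ∃ x : ℕ → G, Ful pt x := I.full df_ok ach_ok (by decide +kernel)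

end CL.Pc.GPsp62
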