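/-
Overgroups of Sylow 2-subgroups in symmetric and alternating groups: a unique maximal one in degree `2 ^ k + 1`,
two that generate in the other degrees.
-/
import Cfsg.Agent.Known.AltSylowTools
import Cfsg.Agent.S2222

set_option autoImplicit false

namespace CL.Known

open Equiv Equiv.Perm MulAction
open scoped Pointwise

universe u

variable {Λ Ω : Type*}

theorem five_three_cycle_aux : ∀ h : Perm (Fin 5), h 4 ≠ 4 → ∃ u ∈ Cfsg.Agent.S2222.vl, ∃ s ∈ Cfsg.Agent.S2222.vl,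
    (h * u * h⁻¹ * s).support.card = 3 := by decide +kernel

theorem five_three_cycle {S K : Subgroup (Perm (Fin 5))} (hS : CL.Grp.IsSylowIn 2 S (alternatingGroup (Fin 5)))
    (hSK : S ≤ K) (hK : IsPretransitive K (Fin 5)) : ∃ c ∈ K, IsThreeCycle c := by
  have hV : CL.Grp.IsSylowIn 2 Cfsg.Agent.S2222.V (alternatingGroup (Fin 5)) := by
    refine isSylowIn_of_card ?_ Cfsg.Agent.S2222.card_V (m := 15) ?_ (by norm_num)
    · have : ∀ a ∈ Cfsg.Agent.S2222.vl, sign a = 1 := by decide +kernel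
      exact fun a ha => this a ha
    · rw [nat_card_alternatingGroup]; simp; rfl
  obtain ⟨k, -, rfl⟩ := hV.exists_conj_eq hS
  obtain ⟨h, hh⟩ := hK.exists_smul_eq (k 4) (k 0)
  have hh' : (h : Perm (Fin 5)) (k 4) = k 0 := hh
  obtain ⟨u, hu, s, hs, e⟩ := five_three_cycle_aux (k⁻¹ * h * k) (by simp [hh'])
  refine ⟨h * (k * u * k⁻¹) * (h : Perm (Fin 5))⁻¹ * (k * s * k⁻¹), K.mul_mem (K.mul_mem (K.mul_mem h.2
    (hSK (CL.Grp.conj_mem_conj_smul k hu))) (K.inv_mem h.2)) (hSK (CL.Grp.conj_mem_conj_smul k hs)), ?_⟩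
  rw [card_support_eq_three_iff] at e
  have : h * (k * u * k⁻¹) * (h : Perm (Fin 5))⁻¹ * (k * s * k⁻¹) =
      k * (k⁻¹ * h * k * u * (k⁻¹ * h * k)⁻¹ * s) * k⁻¹ := by group
  rw [this]
  unfold IsThreeCycle at e ⊢
  rwa [cycleType_conj]

theorem wE_pair_moved_iff [DecidableEq Λ] (ι : ZMod 2 × Λ ↪ Ω) {l m : Λ} (hlm : l ≠ m) (t : Ω) :
    wE ι (Pi.single l 1 + Pi.single m 1) 1 t ≠ t ↔ ∃ a, t = ι (a, l) ∨ t = ι (a, m) := by
  constructor
  · intro ht
    obtain ⟨a, j, rfl, hj⟩ := wE_base_moved ι _ ht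
    refine ⟨a, ?_⟩
    by_cases h1 : j = l
    · exact Or.inl (by rw [h1])
    · by_cases h2 : j = m
      · exact Or.inr (by rw [h2])
      · exact absurd (by simp [h1, h2]) hj
  · rintro ⟨a, rfl | rfl⟩
    · simp [wE_apply, hlm]
    · simp [wE_apply, hlm.symm]

theorem three_cycle_of_WR [Fintype Ω] [DecidableEq Ω] [Finite Λ] (ι : ZMod 2 × Λ ↪ Ω) (h4 : 4 ≤ Nat.card Λ)
    {x : Ω} (hx : x ∉ Set.range ι) (hx' : ∀ y, y ∉ Set.range ι → y = x) {K : Subgroup (Perm Ω)}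
    (hK : WR ι ⊥ ⊓ alternatingGroup Ω ≤ K) (ht : IsPretransitive K Ω) : ∃ c ∈ K, IsThreeCycle c := by
  classical
  haveI := Fintype.ofFinite Λ
  have hmem : ∀ l m, wE ι (Pi.single l 1 + Pi.single m 1) 1 ∈ K := fun l m =>
    hK (Subgroup.mem_inf.2 ⟨wE_mem_WR.2 (Subgroup.one_mem _), sign_wE_single_add_single ι l m⟩)
  haveI : Nontrivial Λ := Finite.one_lt_card_iff_nontrivial.1 (by omega)
  obtain ⟨l0, l1, h01⟩ := exists_pair_ne Λ
  obtain ⟨⟨h, hh⟩, e⟩ := ht.exists_smul_eq (ι (0, l0)) x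
  have e' : h (ι (0, l0)) = x := e
  set v := h * wE ι (Pi.single l0 1 + Pi.single l1 1) 1 * h⁻¹ with hv
  have hvK : v ∈ K := K.mul_mem (K.mul_mem hh (hmem _ _)) (K.inv_mem hh)
  have hsupp : ∀ t, v t ≠ t ↔ t = x ∨ t = h (ι (1, l0)) ∨ t = h (ι (0, l1)) ∨ t = h (ι (1, l1)) := by
    intro t
    obtain ⟨t, rfl⟩ := h.surjective t
    have : v (h t) ≠ h t ↔ wE ι (Pi.single l0 1 + Pi.single l1 1) 1 t ≠ t := by simp [hv]
    rw [this, wE_pair_moved_iff ι h01, ← e']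
    simp only [EmbeddingLike.apply_eq_iff_eq]
    constructor
    · rintro ⟨a, rfl | rfl⟩ <;> rcases zmod_two_cases a with rfl | rfl <;> simp
    · rintro (rfl | rfl | rfl | rfl)
      exacts [⟨_, Or.inl rfl⟩, ⟨_, Or.inl rfl⟩, ⟨_, Or.inr rfl⟩, ⟨_, Or.inr rfl⟩]
  have hr : ∀ y, y ≠ (0, l0) → ∃ a l, h (ι y) = ι (a, l) := by
    intro y hy
    by_contra hc
    push Not at hc
    have := hx' (h (ι y)) (by rintro ⟨⟨a, l⟩, e⟩; exact hc a l e.symm)
    rw [← e'] at this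
    exact hy (by simpa using this)
  obtain ⟨a1, m1, e1⟩ := hr (1, l0) (by simp)
  obtain ⟨a2, m2, e2⟩ := hr (0, l1) (by simp [h01.symm])
  obtain ⟨a3, m3, e3⟩ := hr (1, l1) (by simp)
  have d12 : (a1, m1) ≠ (a2, m2) := fun e => by
    rw [e, ← e2] at e1; simp at e1
  have d13 : (a1, m1) ≠ (a3, m3) := fun e => by
    rw [e, ← e3] at e1; simp [h01] at e1
  have d23 : (a2, m2) ≠ (a3, m3) := fun e => by
    rw [e, ← e3] at e2; simp at e2
  rw [e1, e2, e3] at hsupp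
  have hsupp' : ∀ a l, v (ι (a, l)) ≠ ι (a, l) ↔ (a, l) = (a1, m1) ∨ (a, l) = (a2, m2) ∨ (a, l) = (a3, m3) := by
    intro a l
    rw [hsupp]
    simp only [EmbeddingLike.apply_eq_iff_eq]
    exact or_iff_right fun e => hx ⟨_, e⟩
  obtain ⟨m, hm⟩ : ∃ m, m ∉ ({m1, m2, m3} : Finset Λ) := by
    by_contra hc
    push Not at hc
    have h1 := Finset.card_le_card (fun m _ => hc m : Finset.univ ⊆ ({m1, m2, m3} : Finset Λ))
    have h2 := Finset.card_le_three (a := m1) (b := m2) (c := m3)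
    rw [Finset.card_univ, ← Nat.card_eq_fintype_card] at h1
    omega
  simp only [Finset.mem_insert, Finset.mem_singleton, not_or] at hm
  obtain ⟨a, l, hl1, hl2⟩ : ∃ a l, v (ι (a, l)) ≠ ι (a, l) ∧ ¬ v (ι (a + 1, l)) ≠ ι (a + 1, l) := by
    by_contra hc
    push Not at hc
    have c1 := (hsupp' _ _).1 (hc a1 m1 ((hsupp' _ _).2 (Or.inl rfl)))
    have c2 := (hsupp' _ _).1 (hc a2 m2 ((hsupp' _ _).2 (Or.inr (Or.inl rfl))))
    have c3 := (hsupp' _ _).1 (hc a3 m3 ((hsupp' _ _).2 (Or.inr (Or.inr rfl))))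
    simp only [ne_eq, Prod.mk.injEq, not_and] at c1 c2 c3 d12 d13 d23
    have z : ∀ a : ZMod 2, a + 1 ≠ a := by decide
    have z2 : ∀ a b c : ZMod 2, a = b ∨ a = c ∨ b = c := by decide
    have := z2 a1 a2 a3
    grind
  have hlm : l ≠ m := by
    rintro rfl
    rcases (hsupp' _ _).1 hl1 with e | e | e <;> simp [hm.1, hm.2.1, hm.2.2] at e
  refine ⟨_, K.mul_mem (K.mul_mem (K.mul_mem hvK (hmem l m)) (K.inv_mem hvK)) (K.inv_mem (hmem l m)),
    isThreeCycle_commutator hl1 ((wE_pair_moved_iff ι hlm _).2 ⟨a, Or.inl rfl⟩) fun y hy hy' => ?_⟩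
  obtain ⟨b, rfl | rfl⟩ := (wE_pair_moved_iff ι hlm _).1 hy'
  · have : ∀ a b : ZMod 2, b = a ∨ b = a + 1 := by decide
    rcases this a b with rfl | rfl
    · rfl
    · exact absurd hy hl2
  · rcases (hsupp' _ _).1 hy with e | e | e <;> simp [hm.1, hm.2.1, hm.2.2] at e

theorem exists_unique_notMem_range [Finite Λ] [Finite Ω] (ι : ZMod 2 × Λ ↪ Ω) (hΛ : Nat.card Λ = Nat.card Ω / 2)
    (ho : Odd (Nat.card Ω)) : ∃ x, x ∉ Set.range ι ∧ ∀ y, y ∉ Set.range ι → y = x := by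
  have h1 := card_compl_range ι hΛ
  rw [Nat.odd_iff.1 ho, Nat.card_eq_one_iff_exists] at h1
  obtain ⟨⟨x, hx⟩, h⟩ := h1
  exact ⟨x, hx, fun y hy => congrArg Subtype.val (h ⟨y, hy⟩)⟩

theorem sylow_two_unique_point {n k : ℕ} (hk : 2 ≤ k) (hn : n = 2 ^ k + 1) {P : Subgroup (Perm (Fin n))}
    (hP : CL.Grp.IsSylowIn 2 P ⊤) : ∃ x, (∀ g ∈ P, g x = x) ∧ ∀ K, P ⊓ alternatingGroup (Fin n) ≤ K →
      (∃ h ∈ K, h x ≠ x) → alternatingGroup (Fin n) ≤ K := by
  obtain ⟨k, rfl⟩ : ∃ j, k = j + 2 := ⟨k - 2, by omega⟩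
  have hΛ : Nat.card (Fin (2 ^ (k + 1))) = Nat.card (Fin n) / 2 := by
    simp only [Nat.card_eq_fintype_card, Fintype.card_fin, hn, pow_succ]; omega
  obtain ⟨Q, hQ⟩ := CL.Grp.exists_isSylowIn 2 (⊤ : Subgroup (Perm (Fin (2 ^ (k + 1)))))
  have hS := hP.inf_of_normalized (N := alternatingGroup (Fin n)) le_top (by rw [Subgroup.normalizer_eq_top])
  obtain ⟨ι, rfl⟩ := exists_WR_eq hP _ hΛ hQ
  obtain ⟨x, hx, hx'⟩ := exists_unique_notMem_range ι hΛ (by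
    simp only [Nat.card_eq_fintype_card, Fintype.card_fin, hn, pow_succ]; exact ⟨2 ^ k * 2, by ring⟩)
  have hfix : ∀ g ∈ WR ι Q, g x = x := by
    rintro _ ⟨f, σ, -, rfl⟩
    exact wE_apply_of_notMem _ _ _ hx
  refine ⟨x, hfix, fun K hK h1 => ?_⟩
  haveI : Nontrivial (Fin (2 ^ (k + 1))) := Fin.nontrivial_iff_two_le.2 (by rw [pow_succ]; have := k.two_pow_pos; omega)
  have h2 : ∀ a b, a ≠ x → b ≠ x → ∃ g ∈ K, g x = x ∧ g a = b := by
    intro a b ha hb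
    obtain ⟨a, rfl⟩ : a ∈ Set.range ι := by_contra fun h => ha (hx' a h)
    obtain ⟨b, rfl⟩ : b ∈ Set.range ι := by_contra fun h => hb (hx' b h)
    obtain ⟨g, hg, e⟩ := WR_inf_alt_trans ι (sylow_isPretransitive (k + 1) _ (by simp) Q hQ) a b
    exact ⟨g, hK hg, hfix g hg.1, e⟩
  obtain ⟨c, hc, hc3⟩ : ∃ c ∈ K, IsThreeCycle c := by
    rcases Nat.eq_zero_or_pos k with rfl | hk0
    · subst hn
      exact five_three_cycle hS hK (isPretransitive_of_stab h1 h2)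
    · refine three_cycle_of_WR ι ?_ hx hx' ((inf_le_inf_right _ (WR_mono ι bot_le)).trans hK)
        (isPretransitive_of_stab h1 h2)
      simp only [Nat.card_eq_fintype_card, Fintype.card_fin]
      exact Nat.pow_le_pow_right (n := 2) (by norm_num) (show 2 ≤ k + 1 by omega)
  exact alternatingGroup_le_of_isPreprimitive_of_isThreeCycle_mem (isPreprimitive_of_stab h1 h2) hc3 hc

section two
variable [Fintype Ω] [DecidableEq Ω]

theorem alt_le_sup_of_stabilizer {s : Set Ω} (h0 : s.Nonempty) (h1 : sᶜ.Nonempty) (hs : Nat.card Ω ≠ 2 * s.ncard)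
    {K : Subgroup (Perm Ω)} {g : Perm Ω} (hg : g ∈ K ⊓ alternatingGroup Ω) (hg' : g ∉ stabilizer (Perm Ω) s) :
    alternatingGroup Ω ≤ (stabilizer (Perm Ω) s ⊓ alternatingGroup Ω) ⊔ (K ⊓ alternatingGroup Ω) := by
  have hc := alternatingGroup.isCoatom_stabilizer h0 h1 hs
  have := hc.2 (((stabilizer (Perm Ω) s ⊓ alternatingGroup Ω) ⊔ (K ⊓ alternatingGroup Ω)).subgroupOf _) (by
    refine lt_of_le_of_ne (fun a ha => Subgroup.mem_sup_left (S := _ ⊓ _) ⟨ha, a.2⟩) fun e => hg' ?_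
    have : (⟨g, hg.2⟩ : alternatingGroup Ω) ∈ stabilizer (alternatingGroup Ω) s := by
      rw [e]; exact Subgroup.mem_sup_right hg
    exact this)
  exact Subgroup.subgroupOf_eq_top.1 this

theorem not_alt_le_stabilizer (h3 : 3 ≤ Nat.card Ω) {s : Set Ω} (h0 : s.Nonempty) (h1 : sᶜ.Nonempty) :
    ¬ alternatingGroup Ω ≤ stabilizer (Perm Ω) s := by
  intro h
  obtain ⟨a, ha⟩ := h0
  obtain ⟨b, hb⟩ := h1
  obtain ⟨g, rfl⟩ := (alternatingGroup.isPretransitive_of_three_le_card Ω h3).exists_smul_eq a b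
  apply hb
  rw [← mem_stabilizer_iff.1 (h g.2)]
  exact ⟨a, ha, rfl⟩

theorem not_alt_le_WR [Nontrivial Λ] (ι : ZMod 2 × Λ ↪ Ω) : ¬ alternatingGroup Ω ≤ WR ι ⊤ := by
  intro h
  obtain ⟨l, m, hlm⟩ := exists_pair_ne Λ
  obtain ⟨f, σ, -, e⟩ := h (show swap (ι (0, l)) (ι (0, m)) * swap (ι (0, l)) (ι (1, m)) ∈ _ from
    (isThreeCycle_swap_mul_swap_same (by simp [hlm]) (by simp) (by simp)).mem_alternatingGroup)
  have e1 := congrArg (fun g : Perm Ω => g (ι (0, l))) e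
  have e2 := congrArg (fun g : Perm Ω => g (ι (1, l))) e
  simp only [Perm.mul_apply, wE_apply, swap_apply_left] at e1 e2
  rw [swap_apply_of_ne_of_ne (by simp) (by simp)] at e1
  rw [swap_apply_of_ne_of_ne (x := ι (1, l)) (by simp) (by simp [hlm]), swap_apply_of_ne_of_ne (by simp) (by simp)] at e2
  simp only [EmbeddingLike.apply_eq_iff_eq, Prod.mk.injEq] at e1 e2
  exact hlm (e2.2.trans e1.2.symm)

theorem le_stabilizer_orbit (P : Subgroup (Perm Ω)) (x : Ω) : P ≤ stabilizer (Perm Ω) (orbit P x) := by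
  intro g hg
  exact smul_orbit (⟨g, hg⟩ : P) x

theorem exists_even_move {T : Set Ω} {a b c : Ω} (ha : a ∈ T) (hb : b ∈ T) (hc : c ∈ T) (hca : c ≠ a) (hcb : c ≠ b) :
    ∃ g ∈ alternatingGroup Ω, g a = b ∧ (∀ y, y ∉ T → g y = y) ∧ ∀ y ∈ T, g y ∈ T := by
  refine ⟨swap b c * swap a c, by simp [sign_swap hca.symm, sign_swap hcb.symm], by simp, fun y hy => ?_, fun y hy => ?_⟩
  · have h1 : y ≠ a := fun e => hy (e ▸ ha)
    have h2 : y ≠ b := fun e => hy (e ▸ hb)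
    have h3 : y ≠ c := fun e => hy (e ▸ hc)
    rw [Perm.mul_apply, swap_apply_of_ne_of_ne h1 h3, swap_apply_of_ne_of_ne h2 h3]
  · rw [Perm.mul_apply]
    simp only [swap_apply_def]
    split_ifs <;> assumption

theorem alt_le_sup_colour [Finite Λ] (ι : ZMod 2 × Λ ↪ Ω) {c : Ω → ZMod 2} {c' : Λ → ZMod 2}
    (hc : ∀ a l, c (ι (a, l)) = c' l) (h2 : ∀ i, ∃ l m, m ≠ l ∧ c' l = i ∧ c' m = i) :
    alternatingGroup Ω ≤ (WR ι ⊤ ⊓ alternatingGroup Ω) ⊔ (colourStab c ⊓ alternatingGroup Ω) := by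
  classical
  set M := (WR ι ⊤ ⊓ alternatingGroup Ω) ⊔ (colourStab c ⊓ alternatingGroup Ω)
  obtain ⟨l0, l1, h01, c0, c1⟩ := h2 0
  obtain ⟨m0, m1, g01, d0, d1⟩ := h2 1
  have hl0m0 : l0 ≠ m0 := fun e => by rw [e, d0] at c0; exact one_ne_zero c0
  have hl1m0 : l1 ≠ m0 := fun e => by rw [e, d0] at c1; exact one_ne_zero c1
  have move : ∀ x a b, a ≠ x → b ≠ x → c a = c b → ∃ g ∈ M, g x = x ∧ g a = b := by
    intro x a b ha hb hab
    obtain ⟨l, m, hlm, e1, e2⟩ := h2 (c a)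
    obtain ⟨d, hd⟩ : ∃ d ∈ ({ι (0, l), ι (1, l), ι (0, m), ι (1, m)} : Finset Ω), d ∉ ({x, a, b} : Finset Ω) := by
      apply Finset.exists_mem_notMem_of_card_lt_card
      refine lt_of_le_of_lt Finset.card_le_three ?_
      rw [Finset.card_insert_of_notMem (by simp [hlm.symm]), Finset.card_insert_of_notMem (by simp [hlm.symm]),
        Finset.card_pair (by simp)]
      norm_num
    have hd1 : c d = c a := by
      have := hd.1
      simp only [Finset.mem_insert, Finset.mem_singleton] at this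
      rcases this with rfl | rfl | rfl | rfl <;> rw [hc] <;> assumption
    have hd2 := hd.2
    simp only [Finset.mem_insert, Finset.mem_singleton, not_or] at hd2
    obtain ⟨g, hg, e, f1, f2⟩ := exists_even_move (T := {y | y ≠ x ∧ c y = c a}) ⟨ha, rfl⟩ ⟨hb, hab.symm⟩
      ⟨hd2.1, hd1⟩ hd2.2.1 hd2.2.2
    refine ⟨g, Subgroup.mem_sup_right ⟨⟨0, fun y => ?_⟩, hg⟩, f1 x (by simp), e⟩
    by_cases hy : y ∈ {y | y ≠ x ∧ c y = c a}
    · rw [add_zero, (f2 y hy).2, hy.2]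
    · rw [f1 y hy, add_zero]
  have hsw : wE ι 0 (swap l1 m0) ∈ M :=
    Subgroup.mem_sup_left ⟨wE_mem_WR.2 trivial, sign_wE_top_two ι _⟩
  have hsw0 : wE ι 0 (swap l1 m0) (ι (0, l0)) = ι (0, l0) := by
    rw [wE_apply, swap_apply_of_ne_of_ne h01.symm hl0m0]; simp
  have h2' : ∀ a b, a ≠ ι (0, l0) → b ≠ ι (0, l0) → ∃ g ∈ M, g (ι (0, l0)) = ι (0, l0) ∧ g a = b := by
    have key : ∀ a, a ≠ ι (0, l0) → ∃ g ∈ M, g (ι (0, l0)) = ι (0, l0) ∧ g (ι (0, l1)) = a := by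
      intro a ha
      rcases zmod_two_cases (c a) with h | h
      · exact move _ _ _ (by simp [h01]) ha (by rw [hc, c1, h])
      · obtain ⟨g, hg, e1, e2⟩ := move _ (ι (0, m0)) _ (by simp [hl0m0.symm]) ha (by rw [hc, d0, h])
        refine ⟨g * wE ι 0 (swap l1 m0), M.mul_mem hg hsw, by rw [Perm.mul_apply, hsw0, e1], ?_⟩
        rw [Perm.mul_apply, wE_apply, swap_apply_left, ← e2]; simp
    intro a b ha hb
    obtain ⟨g, hg, e1, rfl⟩ := key a ha
    obtain ⟨h, hh, e2, rfl⟩ := key b hb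
    refine ⟨h * g⁻¹, M.mul_mem hh (M.inv_mem hg), ?_, by simp⟩
    rw [Perm.mul_apply, Perm.inv_eq_iff_eq.2 e1.symm, e2]
  have h1' : ∃ g ∈ M, g (ι (0, l0)) ≠ ι (0, l0) := by
    obtain ⟨g, hg, -, e⟩ := move (ι (0, m0)) (ι (0, l0)) (ι (0, l1)) (by simp [hl0m0]) (by simp [hl1m0])
      (by rw [hc, hc, c0, c1])
    exact ⟨g, hg, by simp [e, h01]⟩
  have h3 := isThreeCycle_swap_mul_swap_same (a := ι (0, l0)) (b := ι (1, l0)) (c := ι (0, l1)) (by simp)
    (by simp [h01.symm]) (by simp)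
  refine alternatingGroup_le_of_isPreprimitive_of_isThreeCycle_mem (isPreprimitive_of_stab h1' h2') h3
    (Subgroup.mem_sup_right ⟨⟨0, fun y => ?_⟩, h3.mem_alternatingGroup⟩)
  rw [add_zero, Perm.mul_apply]
  simp only [swap_apply_def]
  split_ifs <;> simp_all

theorem not_alt_le_colourStab (ι : ZMod 2 × Λ ↪ Ω) {c : Ω → ZMod 2} {c' : Λ → ZMod 2}
    (hc : ∀ a l, c (ι (a, l)) = c' l) (h2 : ∀ i, ∃ l, c' l = i) : ¬ alternatingGroup Ω ≤ colourStab c := by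
  intro h
  obtain ⟨l, hl⟩ := h2 0
  obtain ⟨m, hm⟩ := h2 1
  have hlm : l ≠ m := fun e => by rw [e, hm] at hl; exact one_ne_zero hl
  obtain ⟨ε, hε⟩ := h (show swap (ι (0, l)) (ι (1, l)) * swap (ι (0, l)) (ι (0, m)) ∈ _ from
    (isThreeCycle_swap_mul_swap_same (by simp) (by simp [hlm]) (by simp)).mem_alternatingGroup)
  have e1 := hε (ι (0, l))
  have e2 := hε (ι (1, m))
  rw [Perm.mul_apply, swap_apply_left, swap_apply_of_ne_of_ne (by simp [hlm.symm]) (by simp), hc, hc, hl, hm] at e1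
  rw [Perm.mul_apply, swap_apply_of_ne_of_ne (x := ι (1, m)) (by simp) (by simp),
    swap_apply_of_ne_of_ne (by simp) (by simp [hlm.symm]), hc, hm] at e2
  clear hε
  revert e1 e2 ε; decide

theorem sylow_two_two_overgroups (h5 : 5 ≤ Nat.card Ω) (hn : ∀ k, Nat.card Ω ≠ 2 ^ k + 1) {P : Subgroup (Perm Ω)}
    (hP : CL.Grp.IsSylowIn 2 P ⊤) : ∃ K1 K2 : Subgroup (Perm Ω), P ≤ K1 ∧ P ≤ K2 ∧ ¬ alternatingGroup Ω ≤ K1 ∧
      ¬ alternatingGroup Ω ≤ K2 ∧ alternatingGroup Ω ≤ (K1 ⊓ alternatingGroup Ω) ⊔ (K2 ⊓ alternatingGroup Ω) := by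
  classical
  have hΛ : Nat.card (Fin (Nat.card Ω / 2)) = Nat.card Ω / 2 := by simp
  obtain ⟨Q, hQ⟩ := CL.Grp.exists_isSylowIn 2 (⊤ : Subgroup (Perm (Fin (Nat.card Ω / 2))))
  obtain ⟨ι, rfl⟩ := exists_WR_eq hP _ hΛ hQ
  haveI : Nontrivial (Fin (Nat.card Ω / 2)) := Fin.nontrivial_iff_two_le.2 (by omega)
  rcases Nat.even_or_odd (Nat.card Ω) with he | ho
  · have hs := surjective_of_dvd ι hΛ he.two_dvd
    by_cases hp : ∃ k, Nat.card Ω = 2 ^ k
    · obtain ⟨k, hk⟩ := hp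
      obtain ⟨k, rfl⟩ : ∃ j, k = j + 3 := by
        refine ⟨k - 3, ?_⟩
        by_contra hc
        have : k ≤ 2 := by omega
        have := Nat.pow_le_pow_right (n := 2) (by norm_num) this
        omega
      obtain ⟨c', hc', h2⟩ := exists_colour (k + 1) _ (by rw [hΛ, hk, pow_succ 2 (k + 2), Nat.mul_div_cancel _ (by norm_num)]) Q hQ
      obtain ⟨c, hc, hle⟩ := exists_colour_WR ι hs hc'
      exact ⟨WR ι ⊤, colourStab c, WR_mono ι le_top, hle, not_alt_le_WR ι,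
        not_alt_le_colourStab ι hc fun i => (h2 i).imp fun _ h => h.1,
        alt_le_sup_colour ι hc fun i => by
          obtain ⟨l, hl, h⟩ := h2 i
          obtain ⟨m, hm, hm'⟩ := h (by omega)
          exact ⟨l, m, hm, hl, hm'⟩⟩
    · obtain ⟨l⟩ : Nonempty (Fin (Nat.card Ω / 2)) := inferInstance
      obtain ⟨j, hj⟩ := card_orbit_eq_pow hP.2.1 (ι (0, l))
      have h1 : (orbit (WR ι Q) (ι (0, l)))ᶜ.Nonempty := by
        rw [Set.nonempty_compl]
        intro e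
        rw [e, Nat.card_univ] at hj
        exact hp ⟨j, hj⟩
      obtain ⟨b, hb⟩ := id h1
      obtain ⟨⟨a, m⟩, rfl⟩ := hs b
      have hb0 : ι (0, m) ∉ orbit (WR ι Q) (ι (0, l)) := fun h =>
        hb ((pinv_orbit _ _ (wE ι (fun _ => a) 1) (wE_mem_WR.2 Q.one_mem) _).2 h |> fun h => by
          simpa [wE_apply] using h)
      refine ⟨_, WR ι ⊤, le_stabilizer_orbit _ (ι (0, l)), WR_mono ι le_top,
        not_alt_le_stabilizer (by omega) (nonempty_orbit _) h1, not_alt_le_WR ι,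
        alt_le_sup_of_stabilizer (nonempty_orbit _) h1 ?_ (g := wE ι 0 (swap l m))
          ⟨wE_mem_WR.2 trivial, sign_wE_top_two ι _⟩ fun h => hb0 ?_⟩
      · rw [← Nat.card_coe_set_eq, hj, ← pow_succ']
        exact fun e => hp ⟨_, e⟩
      · rw [← mem_stabilizer_iff.1 h]
        exact ⟨ι (0, l), mem_orbit_self _, by simp [wE_apply]⟩
  · obtain ⟨x, hx, hx'⟩ := exists_unique_notMem_range ι hΛ ho
    have hfix : ∀ g ∈ WR ι Q, g x = x := by
      rintro _ ⟨f, σ, -, rfl⟩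
      exact wE_apply_of_notMem _ _ _ hx
    obtain ⟨l⟩ : Nonempty (Fin (Nat.card Ω / 2)) := inferInstance
    obtain ⟨j, hj⟩ := card_orbit_eq_pow hP.2.1 (ι (0, l))
    have hxo : x ∉ orbit (WR ι Q) (ι (0, l)) := by
      rintro ⟨g, hg⟩
      rw [← hfix g g.2] at hg
      exact hx ⟨_, (g : Perm Ω).injective hg⟩
    obtain ⟨z, hz, hzx⟩ : ∃ z, z ∉ orbit (WR ι Q) (ι (0, l)) ∧ z ≠ x := by
      by_contra hc
      push Not at hc
      apply hn j
      rw [← hj]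
      refine (card_add_card_not (fun y => y ∈ orbit (WR ι Q) (ι (0, l)))).symm.trans ?_
      congr 1
      rw [Nat.card_eq_one_iff_exists]
      exact ⟨⟨x, hxo⟩, fun y => Subtype.ext (hc y y.2)⟩
    obtain ⟨g, hg, e⟩ := alternatingGroup.exists_mem_stabilizer_smul_eq (α := Ω) (by omega)
      (t := (orbit (WR ι Q) (ι (0, l)))ᶜ) x hxo z hz
    rw [stabilizer_compl] at hg
    have hc1 : ({x}ᶜ : Set Ω).Nonempty := ⟨z, hzx⟩
    refine ⟨stabilizer (Perm Ω) ({x} : Set Ω), _, fun g hg => by simpa using hfix g hg, le_stabilizer_orbit _ (ι (0, l)),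
      not_alt_le_stabilizer (by omega) (Set.singleton_nonempty x) hc1,
      not_alt_le_stabilizer (by omega) (nonempty_orbit _) ⟨x, hxo⟩,
      alt_le_sup_of_stabilizer (Set.singleton_nonempty x) hc1 (by simp only [Set.ncard_singleton]; omega)
        (g := g) ⟨hg, g.2⟩ fun h => hzx ?_⟩
    rw [← e]
    have h' : (g : Perm Ω) x = x := by simpa using h
    exact h'

end two

end CL.Known
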