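/-
Direct decompositions of the Sylow 2-subgroups of the alternating groups.
-/
import Cfsg.Agent.Known.AltSylowMax
import Cfsg.Agent.Known.AltRestrict
import Cfsg.Agent.Even.Amb
import Cfsg.Prelude.Def_TwoFusion

set_option autoImplicit false
set_option linter.unusedSectionVars false

namespace CL.Known.SylDec

open Equiv Equiv.Perm MulAction Subgroup CL.Grp CL.Even Cfsg

/-- directly decomposable -/
def Dec {G : Type*} [Group G] (S : Subgroup G) : Prop :=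
  ∃ S₁ S₂ : Subgroup G, S₁ ≠ ⊥ ∧ S₂ ≠ ⊥ ∧ IsInternalDirectProduct S₁ S₂ S

theorem dec_map {G H : Type*} [Group G] [Group H] {φ : G →* H} (hφ : Function.Injective φ) (S : Subgroup G) :
    Dec (S.map φ) ↔ Dec S := by
  constructor
  · rintro ⟨A, B, hA, hB, h1, h2, h3, h4, h5⟩
    have eA : (A.comap φ).map φ = A := map_comap_eq_self (h1.trans (map_le_range φ S))
    have eB : (B.comap φ).map φ = B := map_comap_eq_self (h2.trans (map_le_range φ S))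
    refine ⟨A.comap φ, B.comap φ, fun e => hA (by rw [← eA, e, Subgroup.map_bot]), fun e => hB (by rw [← eB, e, Subgroup.map_bot]),
      (map_le_map_iff_of_injective hφ).1 (eA.symm ▸ h1), (map_le_map_iff_of_injective hφ).1 (eB.symm ▸ h2),
      fun a ha b hb => hφ (by rw [map_mul, map_mul, h3 _ ha _ hb]), ?_, map_injective hφ ?_⟩
    · rw [← comap_inf, h4, MonoidHom.comap_bot, (MonoidHom.ker_eq_bot_iff φ).2 hφ]
    · rw [Subgroup.map_sup, eA, eB, h5]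
  · rintro ⟨A, B, hA, hB, h1, h2, h3, h4, h5⟩
    refine ⟨A.map φ, B.map φ, fun e => hA ((map_eq_bot_iff_of_injective _ hφ).1 e),
      fun e => hB ((map_eq_bot_iff_of_injective _ hφ).1 e), map_mono h1, map_mono h2, ?_, ?_, ?_⟩
    · rintro _ ⟨a, ha, rfl⟩ _ ⟨b, hb, rfl⟩
      rw [← map_mul, ← map_mul, h3 a ha b hb]
    · rw [← Subgroup.map_inf _ _ _ hφ, h4, Subgroup.map_bot]
    · rw [← Subgroup.map_sup, h5]

section DP
variable {G : Type*} [Group G] {A B S : Subgroup G}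

theorem dp_symm (h : IsInternalDirectProduct A B S) : IsInternalDirectProduct B A S :=
  ⟨h.2.1, h.1, fun b hb a ha => (h.2.2.1 a ha b hb).symm, by rw [inf_comm, h.2.2.2.1], by rw [sup_comm, h.2.2.2.2]⟩

theorem dp_mul (h : IsInternalDirectProduct A B S) {g : G} (hg : g ∈ S) : ∃ a ∈ A, ∃ b ∈ B, a * b = g :=
  (mem_sup_nl (le_trans (show B ≤ 𝒞(A) from fun b hb => mem_centralizer_iff.2 fun a ha => h.2.2.1 a ha b hb)
    (cent_le_norm A))).1 (h.2.2.2.2 ▸ hg)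

theorem dp_conj (h : IsInternalDirectProduct A B S) {g x : G} (hg : g ∈ S) (hx : x ∈ A) : g * x * g⁻¹ ∈ A := by
  obtain ⟨a, ha, b, hb, rfl⟩ := dp_mul h hg
  rw [show a * b * x * (a * b)⁻¹ = a * (b * x) * b⁻¹ * a⁻¹ by group, ← h.2.2.1 x hx b hb]
  simpa [mul_assoc] using mul_mem (mul_mem ha hx) (inv_mem ha)

theorem dp_comm (h : IsInternalDirectProduct A B S) (hB : ∀ b ∈ B, ∀ b' ∈ B, b * b' = b' * b) {g x : G} (hg : g ∈ S)
    (hx : x ∈ S) : g * x * g⁻¹ * x⁻¹ ∈ A := by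
  obtain ⟨a, ha, b, hb, rfl⟩ := dp_mul h hg
  obtain ⟨a', ha', b', hb', rfl⟩ := dp_mul h hx
  have e : b * (a' * b') * b⁻¹ = a' * b' := by
    rw [← mul_assoc, ← h.2.2.1 a' ha' b hb, mul_assoc a', hB b hb b' hb']; group
  rw [show a * b * (a' * b') * (a * b)⁻¹ * (a' * b')⁻¹ = a * (b * (a' * b') * b⁻¹) * a⁻¹ * (a' * b')⁻¹ by group, e,
    mul_assoc, mul_assoc, ← mul_assoc (a' * b')]
  exact mul_mem ha (dp_conj h (mul_mem (h.1 ha') (h.2.1 hb')) (inv_mem ha))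

theorem dp_center [Finite G] (h : IsInternalDirectProduct A B S) (hS : IsPGroup 2 S) (hA : A ≠ ⊥) :
    ∃ z ∈ A, z ≠ 1 ∧ ∀ g ∈ S, g * z = z * g := by
  have := Fact.mk Nat.prime_two
  have := (nontrivial_iff_ne_bot A).2 hA
  have := (hS.to_le h.1).center_nontrivial
  obtain ⟨z, hz⟩ := exists_ne (1 : center A)
  refine ⟨z.1, z.1.2, fun e => hz (Subtype.ext (Subtype.ext e)), fun g hg => ?_⟩
  obtain ⟨a, ha, b, hb, rfl⟩ := dp_mul h hg
  have e : a * z.1 = z.1 * a := congrArg Subtype.val (mem_center_iff.1 z.2 ⟨a, ha⟩)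
  rw [mul_assoc, ← h.2.2.1 _ z.1.2 b hb, ← mul_assoc, e, mul_assoc]

end DP

variable {Λ Ω : Type*} [Fintype Λ] [DecidableEq Λ] [Fintype Ω] [DecidableEq Ω] (ι : ZMod 2 × Λ ↪ Ω)
  {Q : Subgroup (Perm Λ)}

theorem fadd_self (f : Λ → ZMod 2) : f + f = 0 := funext fun _ => CharTwo.add_self_eq_zero _

theorem base_mul (f g : Λ → ZMod 2) : wE ι f 1 * wE ι g 1 = wE ι (f + g) 1 := by
  rw [wE_mul]; rfl

theorem sign_base (f : Λ → ZMod 2) : sign (wE ι f 1) = if ∑ l, f l = 0 then 1 else -1 := by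
  induction f using Pi.single_induction with
  | zero => simp [wE_zero_one]
  | add f g hf hg =>
    rw [← base_mul, map_mul, hf, hg]
    simp only [Pi.add_apply, Finset.sum_add_distrib]
    rcases zmod_two_cases (∑ l, f l) with e | e <;> rcases zmod_two_cases (∑ l, g l) with e' | e' <;> rw [e, e'] <;>
      decide
  | single l a =>
    rcases zmod_two_cases a with rfl | rfl
    · simp [wE_zero_one]
    · rw [sign_wE_single]; simp

/-- the even part of the wreath product -/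
abbrev EW (Q : Subgroup (Perm Λ)) : Subgroup (Perm Ω) := WR ι Q ⊓ alternatingGroup Ω

theorem mem_EW {f : Λ → ZMod 2} {σ : Perm Λ} : wE ι f σ ∈ EW ι Q ↔ σ ∈ Q ∧ ∑ l, f l = 0 := by
  rw [mem_inf, wE_mem_WR, mem_alternatingGroup, wE_eq_top_mul_base, map_mul, sign_wE_top_two, one_mul, sign_base]
  by_cases h : ∑ l, f l = 0 <;> simp [h]

variable {ι}

theorem exists_EW {g : Perm Ω} (hg : g ∈ EW ι Q) : ∃ f σ, g = wE ι f σ := by
  obtain ⟨f, σ, -, e⟩ := mem_WR.1 hg.1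
  exact ⟨f, σ, e⟩

/-- the indicator of two points -/
def pr (x y : Λ) : Λ → ZMod 2 := Pi.single x 1 + Pi.single y 1

theorem pr_mem (x y : Λ) : wE ι (pr x y) 1 ∈ EW ι Q :=
  (mem_EW ι).2 ⟨one_mem _, by simp [pr, Finset.sum_add_distrib]; decide⟩

theorem top_mem {σ : Perm Λ} (h : σ ∈ Q) : wE ι 0 σ ∈ EW ι Q := (mem_EW ι).2 ⟨h, by simp⟩

theorem pr_left {x y : Λ} (h : x ≠ y) : pr x y x = 1 := by simp [pr, h]

theorem pr_other {x y z : Λ} (h1 : z ≠ x) (h2 : z ≠ y) : pr x y z = 0 := by simp [pr, h1, h2]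

theorem comm_apply {f g : Λ → ZMod 2} {σ τ : Perm Λ} (h : wE ι f σ * wE ι g τ = wE ι g τ * wE ι f σ) (y : Λ) :
    f (τ y) + g y = g (σ y) + f y := by
  rw [wE_mul, wE_mul, wE_inj] at h
  exact congrFun h.1 y

theorem commutator_base (f h : Λ → ZMod 2) (σ : Perm Λ) :
    wE ι f σ * wE ι h 1 * (wE ι f σ)⁻¹ * (wE ι h 1)⁻¹ = wE ι (h ∘ ⇑σ⁻¹ + h) 1 := by
  rw [wE_conj_base, mul_inv_eq_iff_eq_mul, base_mul, add_assoc, fadd_self, add_zero]

theorem not_dec_of_center (hQ : IsPGroup 2 (EW ι Q)) (h3 : 3 ≤ Fintype.card Λ)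
    (hZ : ∀ f g : Λ → ZMod 2, (∀ σ ∈ Q, ∀ y, f (σ y) = f y) → (∀ σ ∈ Q, ∀ y, g (σ y) = g y) → ∑ l, f l = 0 →
      ∑ l, g l = 0 → f ≠ 0 → g ≠ 0 → f = g) : ¬ Dec (EW ι Q) := by
  have key : ∀ z ∈ EW ι Q, z ≠ 1 → (∀ g ∈ EW ι Q, g * z = z * g) →
      ∃ f, z = wE ι f 1 ∧ (∀ σ ∈ Q, ∀ y, f (σ y) = f y) ∧ ∑ l, f l = 0 ∧ f ≠ 0 := fun z hz z1 hc => by
    obtain ⟨f, σ, rfl⟩ := exists_EW hz
    obtain rfl : σ = 1 := by
      refine Equiv.ext fun x => by_contra fun (hx : σ x ≠ x) => ?_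
      obtain ⟨w, w1, w2⟩ : ∃ w, w ≠ x ∧ w ≠ σ x := by
        by_contra hn
        push Not at hn
        have h1 : (Finset.univ : Finset Λ) ⊆ {x, σ x} := fun w _ => by
          by_cases e : w = x
          · simp [e]
          · simp [hn w e]
        have := (Finset.card_le_card h1).trans (Finset.card_le_two)
        rw [Finset.card_univ] at this
        omega
      have h1 := comm_apply (hc _ (pr_mem x w)) x
      rw [pr_left w1.symm, pr_other hx w2.symm] at h1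
      simpa using h1
    refine ⟨f, rfl, fun σ hσ y => ?_, ((mem_EW ι).1 hz).2, fun e => z1 (by rw [e, wE_zero_one])⟩
    simpa using (comm_apply (hc _ (top_mem hσ)) y).symm
  rintro ⟨A, B, hA, hB, h⟩
  obtain ⟨a, ha, a1, hac⟩ := dp_center h hQ hA
  obtain ⟨b, hb, b1, hbc⟩ := dp_center (dp_symm h) hQ hB
  obtain ⟨f, rfl, h1, h2, h4⟩ := key a (h.1 ha) a1 hac
  obtain ⟨g, rfl, h5, h6, h7⟩ := key b (h.2.1 hb) b1 hbc
  obtain rfl := hZ f g h1 h5 h2 h6 h4 h7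
  exact a1 (mem_bot.1 (h.2.2.2.1 ▸ (⟨ha, hb⟩ : _ ∈ A ⊓ B)))

variable (ι) in
/-- some element of `T` moves the pair `x` -/
def Mv (T : Subgroup (Perm Ω)) (x : Λ) : Prop := ∃ f σ, wE ι f σ ∈ T ∧ σ x ≠ x

section Even

variable {A B : Subgroup (Perm Ω)} (h : IsInternalDirectProduct A B (EW ι Q))
include h

theorem top_A {f : Λ → ZMod 2} {σ : Perm Λ} (ha : wE ι f σ ∈ A) : σ ∈ Q := ((mem_EW ι).1 (h.1 ha)).1

theorem pair {x w : Λ} (hw : ∀ σ ∈ Q, σ x ≠ w) {f g : Λ → ZMod 2} {σ τ : Perm Λ} (ha : wE ι f σ ∈ A) (hx : σ x ≠ x)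
    (hb : wE ι g τ ∈ B) : (τ x = x ∨ τ x = σ x) ∧ (τ (σ x) = x ∨ τ (σ x) = σ x) := by
  have hσ := top_A h ha
  have hτ := top_A (dp_symm h) hb
  have h1 : wE ι (pr x w ∘ ⇑σ⁻¹ + pr x w) 1 ∈ A := by
    rw [← commutator_base f, mul_assoc, mul_assoc, ← mul_assoc (wE ι (pr x w) 1)]
    exact mul_mem ha (dp_conj h (pr_mem x w) (inv_mem ha))
  have h2 := comm_apply (h.2.2.1 _ h1 _ hb)
  have h3 : ∀ ρ ∈ Q, (pr x w ∘ ⇑σ⁻¹ + pr x w) (ρ x) = 1 ↔ ρ x = x ∨ ρ x = σ x := fun ρ hρ => by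
    have e1 : σ⁻¹ (ρ x) ≠ w := hw _ (mul_mem (inv_mem hσ) hρ)
    have e2 : σ⁻¹ (ρ x) = x ↔ ρ x = σ x := by rw [Perm.inv_eq_iff_eq]
    have e3 : x ≠ w := hw 1 (one_mem _)
    rw [Pi.add_apply, Function.comp_apply]
    by_cases c1 : ρ x = x <;> by_cases c2 : ρ x = σ x
    · exact absurd (c2.symm.trans c1) hx
    · rw [pr_other (mt e2.1 c2) e1, c1, pr_left e3]; simp
    · rw [pr_other c1 (hw ρ hρ), e2.2 c2, pr_left e3]; simp [c2]
    · rw [pr_other c1 (hw ρ hρ), pr_other (mt e2.1 c2) e1]; simp [c1, c2]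
  refine ⟨(h3 τ hτ).1 ?_, (h3 (τ * σ) (mul_mem hτ hσ)).1 ?_⟩
  · have := h2 x
    rw [Perm.one_apply, add_comm (g x), add_left_inj] at this
    rw [this]; exact (h3 1 (one_mem _)).2 (Or.inl rfl)
  · have := h2 (σ x)
    rw [Perm.one_apply, add_comm (g _), add_left_inj] at this
    rw [Perm.mul_apply, this]; exact (h3 σ hσ).2 (Or.inr rfl)

theorem mv_smul {x : Λ} (hx : Mv ι A x) {ρ : Perm Λ} (hρ : ρ ∈ Q) : Mv ι A (ρ x) := by
  obtain ⟨f, σ, ha, hσ⟩ := hx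
  obtain ⟨f', e⟩ := wE_conj ι 0 f ρ σ
  exact ⟨f', _, e ▸ dp_conj h (top_mem hρ) ha, by simpa using hσ⟩

theorem not_both {x w : Λ} (hw : ∀ σ ∈ Q, σ x ≠ w) (h1 : Mv ι A x) (h2 : Mv ι B x) : False := by
  obtain ⟨f₀, σ₀, ha₀, hσ₀⟩ := h1
  obtain ⟨g₀, τ₀, hb₀, hτ₀⟩ := h2
  have e₀ : τ₀ x = σ₀ x := (pair h hw ha₀ hσ₀ hb₀).1.resolve_left hτ₀
  obtain ⟨a, ha, b, hb, e⟩ := dp_mul h (pr_mem (ι := ι) (Q := Q) x w)
  obtain ⟨f, σ, rfl⟩ := exists_EW (h.1 ha)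
  obtain ⟨g, τ, rfl⟩ := exists_EW (h.2.1 hb)
  rw [wE_mul, wE_inj] at e
  have u1 : f (τ x) + g x = 1 := (congrFun e.1 x).trans (pr_left (hw 1 (one_mem _)))
  have u2 : f (τ (σ₀ x)) + g (σ₀ x) = 0 := (congrFun e.1 (σ₀ x)).trans (pr_other hσ₀ (hw _ (top_A h ha₀)))
  have u3 : ∀ y, σ (τ y) = y := fun y => by rw [← Perm.mul_apply, e.2, Perm.one_apply]
  obtain ⟨p1, p2⟩ := pair h hw ha₀ hσ₀ hb
  obtain ⟨p3, -⟩ := pair (dp_symm h) hw hb₀ hτ₀ ha
  rcases p1 with c | c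
  · have c2 : τ (σ₀ x) = σ₀ x := p2.resolve_left fun e => hσ₀ (τ.injective (e.trans c.symm))
    have c3 : σ x = x := by simpa [c] using u3 x
    have k1 := comm_apply (h.2.2.1 _ ha _ hb₀) x
    have k2 := comm_apply (h.2.2.1 _ ha₀ _ hb) x
    rw [c3, e₀, add_comm (g₀ x), add_left_inj] at k1
    rw [c, add_comm (f₀ x), add_left_inj] at k2
    rw [c2, k1, ← k2, ← c, c] at u2
    rw [c, u2] at u1
    exact zero_ne_one u1
  · have c2 : τ (σ₀ x) = x := p2.resolve_right fun e => hσ₀ (τ.injective (e.trans c.symm))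
    have c3 : σ x = σ₀ x := by rw [← u3 (σ₀ x), c2]
    have k1 := comm_apply (h.2.2.1 _ ha _ hb) x
    rw [u1, c3, add_comm, ← c2, c2] at k1
    rw [c2, ← k1] at u2
    exact one_ne_zero u2

theorem quiet {x : Λ} (hx : ¬ Mv ι B x) {g : Λ → ZMod 2} {τ : Perm Λ} (hb : wE ι g τ ∈ B) {ρ : Perm Λ} (hρ : ρ ∈ Q) :
    g (ρ x) = g x := by
  obtain ⟨a, ha, b, hb', e⟩ := dp_mul h (top_mem (ι := ι) hρ)
  obtain ⟨f, σ, rfl⟩ := exists_EW (h.1 ha)
  obtain ⟨g', τ', rfl⟩ := exists_EW (h.2.1 hb')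
  rw [wE_mul, wE_inj] at e
  have c1 : τ' x = x := by_contra fun c => hx ⟨_, _, hb', c⟩
  have c2 : τ x = x := by_contra fun c => hx ⟨_, _, hb, c⟩
  have k := comm_apply (h.2.2.1 _ ha _ hb) x
  rw [c2, add_comm (f x), add_left_inj] at k
  rw [← e.2, Perm.mul_apply, c1, k]

variable {ζ : Λ → Λ} (z1 : ∀ y, ζ y ≠ y) (z2 : ∀ y, ζ (ζ y) = y) (z3 : ∀ y, swap y (ζ y) ∈ Q)
include z1 z2 z3

theorem quiet_bot (h3 : ∀ y, ∃ w, w ≠ y ∧ w ≠ ζ y) (hB : ∀ x, ¬ Mv ι B x) : B = ⊥ := by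
  have h1 : ∀ b ∈ B, ∃ g, b = wE ι g 1 ∧ ∀ y, g (ζ y) = g y := fun b hb => by
    obtain ⟨g, τ, rfl⟩ := exists_EW (h.2.1 hb)
    obtain rfl : τ = 1 := Equiv.ext fun x => by_contra fun c => hB x ⟨_, _, hb, c⟩
    exact ⟨g, rfl, fun y => by simpa using quiet h (hB y) hb (z3 y)⟩
  have h2 : ∀ y, wE ι (pr y (ζ y)) 1 ∈ A := fun y => by
    obtain ⟨w, w1, w2⟩ := h3 y
    have := dp_comm h (fun b hb b' hb' => by
      obtain ⟨g, rfl, -⟩ := h1 b hb
      obtain ⟨g', rfl, -⟩ := h1 b' hb'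
      rw [base_mul, base_mul, add_comm]) (top_mem (ι := ι) (z3 y)) (pr_mem y w)
    rw [commutator_base] at this
    convert this using 2
    funext l
    by_cases c1 : l = y
    · simp [pr, c1, Pi.single_apply, z1 y, (z1 y).symm, w1.symm, w2.symm]
    by_cases c2 : l = ζ y
    · simp [pr, c2, Pi.single_apply, z1 y, w1.symm, w2.symm]
    · simp [pr, c1, c2, swap_apply_of_ne_of_ne c1 c2, CharTwo.add_self_eq_zero]
  have h4 : ∀ (n : ℕ) (g : Λ → ZMod 2), (Finset.univ.filter fun y => g y ≠ 0).card = n → (∀ y, g (ζ y) = g y) →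
      wE ι g 1 ∈ A := fun n => by
    induction n using Nat.strong_induction_on with
    | _ n ih =>
      intro g hn hg
      by_cases h0 : g = 0
      · rw [h0, wE_zero_one]; exact one_mem _
      obtain ⟨y, hy⟩ := Function.ne_iff.1 h0
      have hy1 : g y = 1 := (zmod_two_cases _).resolve_left hy
      have h5 := ih _ (hn ▸ Finset.card_lt_card (s := Finset.univ.filter fun l => (g + pr y (ζ y)) l ≠ 0) ⟨fun l => by
        by_cases c1 : l = y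
        · simp [c1, hy1]
        by_cases c2 : l = ζ y
        · simp [c2, hg, hy1]
        · simp [pr_other c1 c2], fun hs => by
        have := hs (Finset.mem_filter.2 ⟨Finset.mem_univ y, hy⟩)
        simp [hy1, pr_left (z1 y).symm, CharTwo.add_self_eq_zero] at this⟩) (g + pr y (ζ y)) rfl fun l => by
          have c1 : ζ l = y ↔ l = ζ y := ⟨fun e => by rw [← e, z2], fun e => by rw [e, z2]⟩
          have c2 : ζ l = ζ y ↔ l = y := ⟨fun e => by rw [← z2 l, e, z2], fun e => by rw [e]⟩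
          simp only [Pi.add_apply, hg, pr, Pi.single_apply, c1, c2, add_comm]
      have := mul_mem h5 (h2 y)
      rwa [base_mul, add_assoc, fadd_self, add_zero] at this
  refine eq_bot_iff.2 fun b hb => ?_
  obtain ⟨g, rfl, hg⟩ := h1 b hb
  exact h.2.2.2.1 ▸ (⟨h4 _ g rfl hg, hb⟩ : _ ∈ A ⊓ B)

omit h z3 in
theorem sum_zero {X : Λ → Prop} [DecidablePred X] (hX : ∀ y, X y → X (ζ y)) {g : Λ → ZMod 2}
    (hg : ∀ y, X y → g (ζ y) = g y) : ∑ l ∈ Finset.univ.filter X, g l = 0 :=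
  Finset.sum_involution (fun y _ => ζ y)
    (fun y hy => by rw [hg y (Finset.mem_filter.1 hy).2, CharTwo.add_self_eq_zero]) (fun y _ _ => z1 y)
    (fun y hy => Finset.mem_filter.2 ⟨Finset.mem_univ _, hX y (Finset.mem_filter.1 hy).2⟩) fun y _ => z2 y

theorem even_intrans (hw : ∀ x, ∃ w, ∀ σ ∈ Q, σ x ≠ w) : A = ⊥ ∨ B = ⊥ := by
  classical
  have h3 : ∀ y, ∃ w, w ≠ y ∧ w ≠ ζ y := fun y => by
    obtain ⟨w, hw⟩ := hw y
    exact ⟨w, (hw 1 (one_mem _)).symm, by simpa using (hw _ (z3 y)).symm⟩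
  have nb : ∀ x, Mv ι A x → ¬ Mv ι B x := fun x h1 h2 => (hw x).elim fun w hw => not_both h hw h1 h2
  by_cases c1 : ∀ x, ¬ Mv ι A x
  · exact Or.inl (quiet_bot (dp_symm h) z1 z2 z3 h3 c1)
  by_cases c2 : ∀ x, Mv ι A x
  · exact Or.inr (quiet_bot h z1 z2 z3 h3 fun x => nb x (c2 x))
  push Not at c1 c2
  obtain ⟨x, hx⟩ := c1
  obtain ⟨w, hw'⟩ := c2
  have hζ : ∀ y, Mv ι A y → Mv ι A (ζ y) := fun y hy => by simpa using mv_smul h hy (z3 y)
  obtain ⟨a, ha, b, hb, e⟩ := dp_mul h (pr_mem (ι := ι) (Q := Q) x w)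
  obtain ⟨f, σ, rfl⟩ := exists_EW (h.1 ha)
  obtain ⟨g, τ, rfl⟩ := exists_EW (h.2.1 hb)
  rw [wE_mul, wE_inj] at e
  have s1 : ∑ l ∈ Finset.univ.filter (Mv ι A), g l = 0 :=
    sum_zero z1 z2 hζ fun y hy => by simpa using quiet h (nb y hy) hb (z3 y)
  have s2 : ∑ l ∈ Finset.univ.filter (fun l => ¬ Mv ι A l), f l = 0 :=
    sum_zero z1 z2 (fun y hy e => hy (z2 y ▸ hζ _ e)) fun y hy => by simpa using quiet (dp_symm h) hy ha (z3 y)
  have s3 := Finset.sum_filter_add_sum_filter_not Finset.univ (Mv ι A) f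
  rw [s2, add_zero, ((mem_EW ι).1 (h.1 ha)).2] at s3
  have s4 : ∑ l ∈ Finset.univ.filter (Mv ι A), pr x w l = 0 := by
    rw [← e.1, ← (show _ + _ = (0 : ZMod 2) by rw [s3, s1, add_zero] :
      ∑ l ∈ Finset.univ.filter (Mv ι A), f l + ∑ l ∈ Finset.univ.filter (Mv ι A), g l = 0), ← Finset.sum_add_distrib]
    refine Finset.sum_congr rfl fun l hl => ?_
    have : τ l = l := by_contra fun c => nb l (Finset.mem_filter.1 hl).2 ⟨_, _, hb, c⟩
    simp [this]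
  simp [pr, Finset.sum_add_distrib, Pi.single_apply, hx, hw'] at s4

end Even

theorem dec_two (hΛ : Fintype.card Λ = 2) (hQ : Q = ⊤) : Dec (EW ι Q) := by
  obtain ⟨x, y, hxy, hu⟩ := Finset.card_eq_two.1 (Finset.card_univ.trans hΛ)
  have hc : ∀ f : Λ → ZMod 2, ∑ l, f l = 0 → ∀ a b, f a = f b := fun f hf => by
    rw [hu, Finset.sum_pair hxy, CharTwo.add_eq_zero] at hf
    have : ∀ a, f a = f x := fun a => by
      rcases Finset.mem_insert.1 (hu ▸ Finset.mem_univ a) with e | e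
      · rw [e]
      · rw [Finset.mem_singleton.1 e, hf]
    exact fun a b => (this a).trans (this b).symm
  refine ⟨EW ι ⊥, Q.map (wTopHom ι), fun e => ?_, fun e => ?_, inf_le_inf_right _ (WR_mono ι bot_le), ?_, ?_, ?_, ?_⟩
  · have := mem_bot.1 (e ▸ pr_mem (ι := ι) (Q := ⊥) x y)
    have := congrFun ((wE_eq_one ι).1 this).1 x
    rw [pr_left hxy] at this
    exact one_ne_zero this
  · have := mem_bot.1 (e ▸ mem_map_of_mem (wTopHom ι) (hQ ▸ mem_top (swap x y) : swap x y ∈ Q))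
    exact hxy (swap_eq_one_iff.1 ((wE_eq_one ι).1 this).2)
  · rintro _ ⟨σ, hσ, rfl⟩
    exact top_mem hσ
  · rintro a ha _ ⟨σ, -, rfl⟩
    obtain ⟨f, τ, rfl⟩ := exists_EW ha
    obtain ⟨rfl, hf⟩ := (mem_EW ι).1 ha
    rw [wTopHom_apply, wE_mul, wE_mul, wE_inj]
    exact ⟨funext fun l => by simp [hc f hf (σ l) l], by simp⟩
  · refine eq_bot_iff.2 ?_
    rintro _ ⟨ha, σ, -, rfl⟩
    obtain ⟨rfl, -⟩ := (mem_EW ι).1 ha
    exact mem_bot.2 (map_one (wTopHom ι))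
  · refine le_antisymm (sup_le (inf_le_inf_right _ (WR_mono ι bot_le)) ?_) fun g hg => ?_
    · rintro _ ⟨σ, hσ, rfl⟩
      exact top_mem hσ
    · obtain ⟨f, σ, rfl⟩ := exists_EW hg
      rw [wE_eq_top_mul_base]
      exact mul_mem (mem_sup_right (mem_map_of_mem (wTopHom ι) ((mem_EW ι).1 hg).1))
        (mem_sup_left ((mem_EW ι).2 ⟨one_mem _, ((mem_EW ι).1 hg).2⟩))

theorem exists_restrict (hQ : IsSylowIn 2 Q ⊤) {p : Λ → Prop} [DecidablePred p] (hp : PInv Q p) {σ : Perm Λ}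
    (hσ : σ ∈ Q) : ∃ σ₁ ∈ Q, (∀ l, p l → σ₁ l = σ l) ∧ ∀ l, ¬ p l → σ₁ l = l := by
  have := Fact.mk Nat.prime_two
  have h1 : IsPGroup 2 (pres hp) := hQ.isPGroup.of_surjective _ (pres_surj hp)
  have h2 : IsPGroup 2 (pres hp.not) := hQ.isPGroup.of_surjective _ (pres_surj hp.not)
  obtain ⟨i, hi⟩ := IsPGroup.iff_card.1 h1
  obtain ⟨j, hj⟩ := IsPGroup.iff_card.1 h2
  have h3 := hQ.eq_of_le (IsPGroup.of_card (n := i + j) (by rw [card_pext, hi, hj, pow_add])) (le_pext hp) le_top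
  refine ⟨(presHom hp ⟨σ, hσ⟩).subtypeCongr 1, h3.le (subtypeCongr_mem_pext.2 ⟨presHom_mem hp _, one_mem _⟩),
    fun l hl => ?_, fun l hl => ?_⟩
  · rw [subtypeCongr.left_apply _ _ hl, presHom_apply]
  · rw [subtypeCongr.right_apply _ _ hl]; rfl

theorem dec_odd (hQ : IsSylowIn 2 Q ⊤) {l₀ x y : Λ} (h0 : ∀ σ ∈ Q, σ l₀ = l₀) (hx : x ≠ l₀) (hy : y ≠ l₀)
    (hxy : y ∉ orbit Q x) : Dec (EW ι Q) := by
  classical
  have hp := pinv_orbit Q x
  have hl : l₀ ∉ orbit Q x := by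
    rintro ⟨σ, e⟩
    exact hx ((σ : Perm Λ).injective (e.trans (h0 σ σ.2).symm))
  let F : (Λ → Prop) → Subgroup (Perm Ω) := fun p => EW ι Q ⊓ fixingSubgroup (Perm Ω) {t | ∃ a l, p l ∧ t = ι (a, l)}
  have hF : ∀ p f σ, wE ι f σ ∈ F p ↔ wE ι f σ ∈ EW ι Q ∧ ∀ l, p l → f l = 0 ∧ σ l = l := fun p f σ => by
    refine mem_inf.trans (and_congr_right fun _ => ?_)
    rw [mem_fixingSubgroup_iff]
    constructor
    · intro H l hl
      simpa [wE_apply] using H _ ⟨0, l, hl, rfl⟩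
    · rintro H _ ⟨a, l, hl, rfl⟩
      simp [wE_apply, H l hl]
  have hne : ∀ (p : Λ → Prop) (z : Λ), z ≠ l₀ → ¬ p z → ¬ p l₀ → F p ≠ ⊥ := fun p z h1 h2 h3 e => by
    have := mem_bot.1 (e ▸ (hF p (pr z l₀) 1).2 ⟨pr_mem z l₀, fun l hl =>
      ⟨pr_other (fun c => h2 (c ▸ hl)) fun c => h3 (c ▸ hl), rfl⟩⟩)
    have := congrFun ((wE_eq_one ι).1 this).1 z
    rw [pr_left h1] at this
    exact one_ne_zero this
  refine ⟨F fun l => l ∉ orbit Q x ∧ l ≠ l₀, F fun l => l ∈ orbit Q x, hne _ x hx (fun e => e.1 (mem_orbit_self x))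
    fun e => e.2 rfl, hne _ y hy hxy hl, inf_le_left, inf_le_left, fun a ha b hb => ?_, eq_bot_iff.2 fun a ha => ?_,
    le_antisymm (sup_le inf_le_left inf_le_left) fun g hg => ?_⟩
  · obtain ⟨f, σ, rfl⟩ := exists_EW ha.1
    obtain ⟨g, τ, rfl⟩ := exists_EW hb.1
    obtain ⟨h1, h2⟩ := (hF _ _ _).1 ha
    obtain ⟨h3, h4⟩ := (hF _ _ _).1 hb
    have hσ := ((mem_EW ι).1 h1).1
    have hτ := ((mem_EW ι).1 h3).1
    have key : ∀ l, f (τ l) = f l ∧ g (σ l) = g l ∧ σ (τ l) = τ (σ l) := fun l => by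
      by_cases c : l ∈ orbit Q x
      · have c' := (hp σ hσ l).2 c
        rw [(h4 l c).2, (h4 l c).1, (h4 _ c').1, (h4 _ c').2]
        exact ⟨rfl, rfl, rfl⟩
      by_cases c0 : l = l₀
      · simp [c0, h0 σ hσ, h0 τ hτ]
      have c' : τ l ∉ orbit Q x ∧ τ l ≠ l₀ :=
        ⟨fun e => c ((hp τ hτ l).1 e), fun e => c0 (τ.injective (e.trans (h0 τ hτ).symm))⟩
      rw [(h2 l ⟨c, c0⟩).2, (h2 l ⟨c, c0⟩).1, (h2 _ c').1, (h2 _ c').2]
      exact ⟨rfl, rfl, rfl⟩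
    rw [wE_mul, wE_mul, wE_inj]
    exact ⟨funext fun l => by simp [(key l).1, (key l).2.1, add_comm], Equiv.ext fun l => (key l).2.2⟩
  · obtain ⟨f, σ, rfl⟩ := exists_EW ha.1.1
    obtain ⟨h1, h2⟩ := (hF _ _ _).1 ha.1
    obtain ⟨-, h4⟩ := (hF _ _ _).1 ha.2
    have key : ∀ l, l ≠ l₀ → f l = 0 ∧ σ l = l := fun l c0 => by
      by_cases c : l ∈ orbit Q x
      exacts [h4 l c, h2 l ⟨c, c0⟩]
    have h5 := ((mem_EW ι).1 h1).2
    rw [Finset.sum_eq_single l₀ (fun l _ c => (key l c).1) (by simp)] at h5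
    refine mem_bot.2 ((wE_eq_one ι).2 ⟨funext fun l => ?_, Equiv.ext fun l => ?_⟩) <;> by_cases c : l = l₀
    exacts [c ▸ h5, (key l c).1, c ▸ h0 σ ((mem_EW ι).1 h1).1, (key l c).2]
  · obtain ⟨f, σ, rfl⟩ := exists_EW hg
    obtain ⟨σ₁, h1, h2, h3⟩ := exists_restrict hQ hp ((mem_EW ι).1 hg).1
    let f₀ : Λ → ZMod 2 := fun l => if l ∈ orbit Q x then f l else 0
    let f₁ : Λ → ZMod 2 := f₀ + Pi.single l₀ (∑ l, f₀ l)
    have h4 : wE ι f₁ σ₁ ∈ EW ι Q := (mem_EW ι).2 ⟨h1, by simp [f₁, Finset.sum_add_distrib, CharTwo.add_self_eq_zero]⟩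
    rw [← mul_inv_cancel_left (wE ι f₁ σ₁) (wE ι f σ)]
    refine mul_mem (mem_sup_left ((hF _ _ _).2 ⟨h4, fun l hl => ⟨by simp [f₁, f₀, hl.1, hl.2], h3 l hl.1⟩⟩))
      (mem_sup_right (mem_inf.2 ⟨mul_mem (inv_mem h4) hg, ?_⟩))
    rw [mem_fixingSubgroup_iff]
    rintro _ ⟨a, l, hl', rfl⟩
    have : l ≠ l₀ := fun e => hl (e ▸ hl')
    rw [Perm.smul_def, Perm.mul_apply, Perm.inv_eq_iff_eq, wE_apply, wE_apply, h2 l hl']
    simp [f₁, f₀, hl', this]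

theorem dec_iff (hQ : IsSylowIn 2 Q ⊤) (hW : IsPGroup 2 (EW ι Q)) (h2 : 2 ≤ Fintype.card Λ) :
    Dec (EW ι Q) ↔ Fintype.card Λ = 2 ∨ (Odd (Fintype.card Λ) ∧ ∀ r, Fintype.card Λ - 1 ≠ 2 ^ r) := by
  have := Fact.mk Nat.prime_two
  rcases h2.eq_or_lt with h2 | h2
  · refine iff_of_true (dec_two h2.symm (hQ.eq_of_le (IsPGroup.of_card (n := 1) ?_) le_top le_top).symm)
      (Or.inl h2.symm)
    rw [card_top, Nat.card_perm, Nat.card_eq_fintype_card, ← h2]; rfl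
  obtain ⟨Q', hQ'⟩ := exists_isSylowIn (p := 2) (⊤ : Subgroup (Perm (Fin (Fintype.card Λ / 2))))
  have hc : Nat.card (Fin (Fintype.card Λ / 2)) = Nat.card Λ / 2 := by simp
  obtain ⟨κ, hκ⟩ := exists_WR_eq hQ _ hc hQ'
  rw [or_iff_right h2.ne']
  rcases Nat.even_or_odd (Fintype.card Λ) with he | ho
  · refine iff_of_false ?_ fun e => Nat.not_odd_iff_even.2 he e.1
    have hs := surjective_of_dvd κ hc (Nat.card_eq_fintype_card (α := Λ) ▸ he.two_dvd)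
    by_cases ht : ∀ x w, ∃ σ ∈ Q, σ x = w
    · have key : ∀ f : Λ → ZMod 2, (∀ σ ∈ Q, ∀ y, f (σ y) = f y) → f ≠ 0 → f = fun _ => 1 := fun f h1 h0 => by
        obtain ⟨y, hy⟩ := Function.ne_iff.1 h0
        funext l
        obtain ⟨σ, hσ, rfl⟩ := ht y l
        rw [h1 σ hσ, (zmod_two_cases _).resolve_left hy]
      exact not_dec_of_center hW h2 fun f g h1 h3 _ _ h4 h5 => (key f h1 h4).trans (key g h3 h5).symm
    · push Not at ht
      obtain ⟨x, w, hxw⟩ := ht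
      rintro ⟨A, B, hA, hB, h⟩
      let e := Equiv.ofBijective κ ⟨κ.injective, hs⟩
      have he : ∀ z, e.symm (κ z) = z := e.symm_apply_apply
      refine (even_intrans h (ζ := fun y => κ ((e.symm y).1 + 1, (e.symm y).2)) (fun y => ?_) (fun y => ?_)
        (fun y => ?_) fun x' => ?_).elim hA hB
      · obtain ⟨⟨a, l⟩, rfl⟩ := hs y
        simp [he]
      · obtain ⟨⟨a, l⟩, rfl⟩ := hs y
        simp [he, add_assoc, CharTwo.add_self_eq_zero]
      · obtain ⟨⟨a, l⟩, rfl⟩ := hs y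
        have : swap (κ (0, l)) (κ (1, l)) ∈ Q := by rw [← wE_single_eq_swap, hκ]; exact wE_mem_WR.2 (one_mem _)
        rcases zmod_two_cases a with rfl | rfl
        · simpa [he] using this
        · simpa [he, CharTwo.add_self_eq_zero, swap_comm] using this
      · by_contra hn
        push Not at hn
        obtain ⟨σ, hσ, rfl⟩ := hn x
        obtain ⟨τ, hτ, rfl⟩ := hn w
        exact hxw (τ * σ⁻¹) (mul_mem hτ (inv_mem hσ)) (by simp)
  obtain ⟨l₀, h0, h1⟩ := exists_unique_notMem_range κ hc (Nat.card_eq_fintype_card (α := Λ) ▸ ho)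
  have h3 : ∀ σ ∈ Q, σ l₀ = l₀ := fun σ hσ => by
    obtain ⟨f, τ, -, rfl⟩ := mem_WR.1 (hκ ▸ hσ)
    exact wE_apply_of_notMem κ f τ h0
  obtain ⟨x, hx⟩ := Fintype.exists_ne_of_one_lt_card (by omega) l₀
  rw [and_iff_right ho]
  refine ⟨fun hd r hr => ?_, fun hr => ?_⟩
  · obtain ⟨k, hk⟩ := ho
    obtain _ | r := r
    · omega
    have ht := sylow_isPretransitive r _ (by rw [hc, Nat.card_eq_fintype_card]; omega) Q' hQ'
    have key : ∀ f : Λ → ZMod 2, (∀ σ ∈ Q, ∀ y, f (σ y) = f y) → ∑ l, f l = 0 → f ≠ 0 →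
        f = fun l => if l = l₀ then 0 else 1 := fun f h4 h5 h6 => by
      have h7 : ∀ l, l ≠ l₀ → f l = f x := fun l hl => by
        obtain ⟨a, rfl⟩ : l ∈ Set.range κ := by_contra fun c => hl (h1 l c)
        obtain ⟨b, rfl⟩ : x ∈ Set.range κ := by_contra fun c => hx (h1 x c)
        obtain ⟨σ, hσ, e⟩ := WR_trans κ ht b a
        rw [← e, h4 σ (hκ ▸ hσ)]
      rw [← Finset.add_sum_erase _ _ (Finset.mem_univ l₀), Finset.sum_congr rfl fun l hl => h7 l (Finset.ne_of_mem_erase hl),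
        Finset.sum_const, Finset.card_erase_of_mem (Finset.mem_univ _), Finset.card_univ, hr, pow_succ', mul_nsmul,
        two_nsmul, CharTwo.add_self_eq_zero, nsmul_zero, add_zero] at h5
      obtain ⟨y, hy⟩ := Function.ne_iff.1 h6
      have h8 : f x = 1 := by
        rw [← h7 y fun c => hy (c ▸ h5)]; exact (zmod_two_cases _).resolve_left hy
      funext l
      split_ifs with c
      exacts [c ▸ h5, (h7 l c).trans h8]
    exact not_dec_of_center hW h2 (fun f g h4 h5 h6 h7 h8 h9 => (key f h4 h6 h8).trans (key g h5 h7 h9).symm) hd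
  · by_contra hd
    obtain ⟨j, hj⟩ := card_orbit_eq_pow hQ.isPGroup x
    have : orbit Q x = {l₀}ᶜ := Set.ext fun y => ⟨fun ⟨σ, e⟩ c => hx ((σ : Perm Λ).injective
      ((e.trans c).trans (h3 σ σ.2).symm)), fun c => by_contra fun c' => hd (dec_odd hQ h3 hx c c')⟩
    refine hr j ?_
    rw [← hj, this, Nat.card_eq_fintype_card, Fintype.card_compl_set, Set.card_singleton]

end CL.Known.SylDec
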