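/-
Class numbers of classical groups, part 1: power series with non-negative coefficients, sums over degree types,
evaluation bounds.
-/
import Cfsg.Agent.Base

set_option autoImplicit false

open PowerSeries Finset

namespace CL.ClassNo

/-- The series `∑ β m * X ^ (e * m)`. -/
noncomputable def ser (e : ℕ) (β : ℕ → ℝ) : ℝ⟦X⟧ := PowerSeries.mk fun j => if e ∣ j then β (j / e) else 0

theorem coeff_ser (e : ℕ) (β : ℕ → ℝ) (j : ℕ) : coeff j (ser e β) = if e ∣ j then β (j / e) else 0 := coeff_mk _ _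

theorem coeff_ser_mul {e : ℕ} (he : e ≠ 0) (β : ℕ → ℝ) (m : ℕ) : coeff (e * m) (ser e β) = β m := by
  rw [coeff_ser, if_pos (dvd_mul_right _ _), Nat.mul_div_cancel_left _ (Nat.pos_of_ne_zero he)]

theorem coeff_ser_one (β : ℕ → ℝ) (m : ℕ) : coeff m (ser 1 β) = β m := by simp [coeff_ser]

theorem ser_eq_expand {e : ℕ} (he : e ≠ 0) (β : ℕ → ℝ) : ser e β = expand e he (ser 1 β) := by
  ext j; rw [coeff_expand, coeff_ser, coeff_ser_one]

theorem ser_mul_eq_expand {d : ℕ} (hd : d ≠ 0) {e : ℕ} (he : e ≠ 0) (β : ℕ → ℝ) :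
    ser (d * e) β = expand d hd (ser e β) := by
  rw [ser_eq_expand (mul_ne_zero hd he), ser_eq_expand he, expand_mul]

/-- All coefficients are non-negative. -/
def NN (f : ℝ⟦X⟧) : Prop := ∀ j, 0 ≤ coeff j f

theorem NN.add {f g : ℝ⟦X⟧} (hf : NN f) (hg : NN g) : NN (f + g) := fun j => by
  rw [map_add]; exact add_nonneg (hf j) (hg j)

theorem NN.mul {f g : ℝ⟦X⟧} (hf : NN f) (hg : NN g) : NN (f * g) := fun j => by
  rw [coeff_mul]; exact sum_nonneg fun p _ => mul_nonneg (hf _) (hg _)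

theorem nn_one : NN 1 := fun j => by rw [coeff_one]; split_ifs <;> norm_num

theorem nn_X_pow (k : ℕ) : NN (X ^ k) := fun j => by rw [coeff_X_pow]; split_ifs <;> norm_num

theorem nn_C {c : ℝ} (hc : 0 ≤ c) : NN (C c) := fun j => by rw [coeff_C]; split_ifs <;> simp [hc]

theorem nn_prod {ι : Type*} {s : Finset ι} {f : ι → ℝ⟦X⟧} (h : ∀ i ∈ s, NN (f i)) : NN (∏ i ∈ s, f i) :=
  prod_induction _ _ (fun _ _ => NN.mul) nn_one h

theorem nn_ser (e : ℕ) {β : ℕ → ℝ} (h : ∀ m, 0 ≤ β m) : NN (ser e β) := fun j => by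
  rw [coeff_ser]; split_ifs <;> simp [h]

theorem NN.expand {f : ℝ⟦X⟧} (hf : NN f) {e : ℕ} (he : e ≠ 0) : NN (expand e he f) := fun j => by
  rw [coeff_expand]; split_ifs <;> simp [hf _]

theorem NN.le {f g : ℝ⟦X⟧} (h : NN (g - f)) (j : ℕ) : coeff j f ≤ coeff j g := by
  have := h j; rwa [map_sub, sub_nonneg] at this

theorem nn_sub_of_le {f g : ℝ⟦X⟧} (h : ∀ j, coeff j f ≤ coeff j g) : NN (g - f) := fun j => by
  rw [map_sub, sub_nonneg]; exact h j

theorem nn_ser_sub_one {e : ℕ} {β : ℕ → ℝ} (h : ∀ m, 0 ≤ β m) (h0 : β 0 = 1) : NN (ser e β - 1) :=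
  nn_sub_of_le fun j => by
    rw [coeff_one, coeff_ser]
    split_ifs with h1 h2 h2
    · simp [h1, h0]
    · exact absurd (h1 ▸ dvd_zero e) h2
    · exact h _
    · rfl

theorem nn_prod_sub {ι : Type*} {s : Finset ι} {f g : ι → ℝ⟦X⟧} (hf : ∀ i ∈ s, NN (f i))
    (h : ∀ i ∈ s, NN (g i - f i)) : NN (∏ i ∈ s, g i - ∏ i ∈ s, f i) := by
  classical
  induction s using Finset.induction_on with
  | empty => intro j; simp
  | insert a s ha ih =>
    rw [prod_insert ha, prod_insert ha]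
    have h1 := ih (fun i hi => hf i (mem_insert_of_mem hi)) fun i hi => h i (mem_insert_of_mem hi)
    have h2 := nn_prod fun i hi => hf i (mem_insert_of_mem hi)
    have h3 := hf a (mem_insert_self _ _)
    have h4 := h a (mem_insert_self _ _)
    convert ((h4.add h3).mul h1).add (h4.mul h2) using 1
    ring

/-- Agreement of the coefficients up to degree `n`. -/
def Agree (n : ℕ) (f g : ℝ⟦X⟧) : Prop := ∀ j ≤ n, coeff j f = coeff j g

theorem Agree.mul {n : ℕ} {f g f' g' : ℝ⟦X⟧} (h : Agree n f g) (h' : Agree n f' g') : Agree n (f * f') (g * g') :=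
  fun j hj => by
    rw [coeff_mul, coeff_mul]
    refine sum_congr rfl fun p hp => ?_
    have := mem_antidiagonal.1 hp
    rw [h _ (by omega), h' _ (by omega)]

theorem agree_prod {ι : Type*} {n : ℕ} {s : Finset ι} {f g : ι → ℝ⟦X⟧} (h : ∀ i ∈ s, Agree n (f i) (g i)) :
    Agree n (∏ i ∈ s, f i) (∏ i ∈ s, g i) := by
  classical
  induction s using Finset.induction_on with
  | empty => exact fun _ _ => rfl
  | insert a s ha ih =>
    rw [prod_insert ha, prod_insert ha]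
    exact (h a (mem_insert_self _ _)).mul (ih fun i hi => h i (mem_insert_of_mem hi))

theorem agree_ser_one {n e : ℕ} (h : n < e) {β : ℕ → ℝ} (h0 : β 0 = 1) : Agree n (ser e β) 1 := fun j hj => by
  rw [coeff_ser, coeff_one]
  by_cases h1 : j = 0
  · simp [h1, h0]
  · rw [if_neg h1, if_neg fun hd => absurd (Nat.le_of_dvd (Nat.pos_of_ne_zero h1) hd) (by omega)]

/-- Factors of index above `n` do not change the coefficients up to `n`. -/
theorem agree_prod_subset {n : ℕ} {s t : Finset ℕ} (hst : s ⊆ t) {w : ℕ → ℕ} {β : ℕ → ℕ → ℝ}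
    (h0 : ∀ e, β e 0 = 1) (h : ∀ e ∈ t, e ∉ s → n < w e) :
    Agree n (∏ e ∈ t, ser (w e) (β e)) (∏ e ∈ s, ser (w e) (β e)) := by
  rw [← prod_sdiff hst]
  have := (agree_prod (n := n) (s := t \ s) (f := fun e => ser (w e) (β e)) (g := fun _ => 1) fun e he =>
    agree_ser_one (h e (mem_sdiff.1 he).1 (mem_sdiff.1 he).2) (h0 e)).mul
    (f' := ∏ e ∈ s, ser (w e) (β e)) fun _ _ => rfl
  simpa using this

/-- Degree types: `m e` is the multiplicity of the part `e + 1`. -/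
def typ (k n : ℕ) : Finset (Fin k → ℕ) :=
  (Fintype.piFinset fun _ => range (n + 1)).filter fun m => ∑ e : Fin k, (e + 1) * m e = n

theorem mem_typ {k n : ℕ} {m : Fin k → ℕ} : m ∈ typ k n ↔ ∑ e : Fin k, (e + 1) * m e = n := by
  rw [typ, mem_filter, Fintype.mem_piFinset]
  refine ⟨fun h => h.2, fun h => ⟨fun e => ?_, h⟩⟩
  have := single_le_sum (f := fun e : Fin k => ((e : ℕ) + 1) * m e) (fun _ _ => Nat.zero_le _) (mem_univ e)
  rw [mem_range]; nlinarith

theorem coeff_prod_ser (k n : ℕ) (β : ℕ → ℕ → ℝ) :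
    coeff n (∏ e ∈ range k, ser (e + 1) (β e)) = ∑ m ∈ typ k n, ∏ e : Fin k, β e (m e) := by
  have h : ∀ e, Agree n (ser (e + 1) (β e)) (∑ m ∈ range (n + 1), C (β e m) * X ^ ((e + 1) * m)) := fun e j hj => by
    simp only [map_sum, coeff_C_mul, coeff_X_pow, coeff_ser]
    split_ifs with h1
    · obtain ⟨m, rfl⟩ := h1
      rw [Nat.mul_div_cancel_left _ e.succ_pos, sum_eq_single m]
      · simp
      · intro b _ hb
        rw [if_neg fun h => hb (Nat.eq_of_mul_eq_mul_left e.succ_pos h).symm, mul_zero]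
      · intro hm
        exact absurd (mem_range.2 (by nlinarith)) hm
    · exact (sum_eq_zero fun m _ => by rw [if_neg fun h => h1 ⟨m, h⟩, mul_zero]).symm
  rw [agree_prod (fun e _ => h e) n le_rfl, ← Fin.prod_univ_eq_prod_range
    (fun e => ∑ m ∈ range (n + 1), C (β e m) * (X : ℝ⟦X⟧) ^ ((e + 1) * m)), prod_univ_sum, map_sum, typ, sum_filter]
  refine sum_congr rfl fun m _ => ?_
  rw [prod_mul_distrib, ← map_prod, prod_pow_eq_pow_sum, coeff_C_mul, coeff_X_pow]
  by_cases h1 : ∑ e : Fin k, ((e : ℕ) + 1) * m e = n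
  · rw [if_pos h1, if_pos h1.symm, mul_one]
  · rw [if_neg h1, if_neg (Ne.symm h1), mul_zero]

/-- Truncated evaluation. -/
noncomputable def ev (N : ℕ) (x : ℝ) (f : ℝ⟦X⟧) : ℝ := ∑ j ∈ range N, coeff j f * x ^ j

theorem ev_nonneg {N : ℕ} {x : ℝ} (hx : 0 ≤ x) {f : ℝ⟦X⟧} (hf : NN f) : 0 ≤ ev N x f :=
  sum_nonneg fun j _ => mul_nonneg (hf j) (pow_nonneg hx j)

theorem ev_mul_le {N : ℕ} {x : ℝ} (hx : 0 ≤ x) {f g : ℝ⟦X⟧} (hf : NN f) (hg : NN g) :
    ev N x (f * g) ≤ ev N x f * ev N x g := by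
  have h : ev N x (f * g) = ∑ j ∈ range N, ∑ k ∈ range (j + 1),
      (fun a b => coeff a f * x ^ a * (coeff b g * x ^ b)) k (j - k) := by
    refine sum_congr rfl fun j _ => ?_
    rw [coeff_mul, Nat.sum_antidiagonal_eq_sum_range_succ_mk, sum_mul]
    refine sum_congr rfl fun k hk => ?_
    have : x ^ j = x ^ k * x ^ (j - k) := by rw [← pow_add, Nat.add_sub_cancel' (by have := mem_range.1 hk; omega)]
    simp only [this]; ring
  rw [h, sum_range_diag_flip N fun a b => coeff a f * x ^ a * (coeff b g * x ^ b), ev, ev, sum_mul_sum]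
  refine sum_le_sum fun a _ => sum_le_sum_of_subset_of_nonneg (range_subset_range.2 (by omega)) fun b _ _ => ?_
  exact mul_nonneg (mul_nonneg (hf a) (pow_nonneg hx a)) (mul_nonneg (hg b) (pow_nonneg hx b))

theorem ev_one_le (N : ℕ) (x : ℝ) : ev N x 1 ≤ 1 := by
  rcases N with _ | N
  · simp [ev]
  · rw [ev, sum_range_succ']; simp [coeff_one]

theorem ev_prod_le {ι : Type*} {N : ℕ} {x : ℝ} (hx : 0 ≤ x) {s : Finset ι} {f : ι → ℝ⟦X⟧} {B : ι → ℝ}
    (hf : ∀ i ∈ s, NN (f i)) (h : ∀ i ∈ s, ev N x (f i) ≤ B i) : ev N x (∏ i ∈ s, f i) ≤ ∏ i ∈ s, B i := by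
  classical
  induction s using Finset.induction_on with
  | empty => simpa using ev_one_le N x
  | insert a s ha ih =>
    rw [prod_insert ha, prod_insert ha]
    have h1 := ih (fun i hi => hf i (mem_insert_of_mem hi)) fun i hi => h i (mem_insert_of_mem hi)
    have h2 := nn_prod fun i hi => hf i (mem_insert_of_mem hi)
    have h3 := hf a (mem_insert_self _ _)
    have h4 := h a (mem_insert_self _ _)
    exact (ev_mul_le hx h3 h2).trans (mul_le_mul h4 h1 (ev_nonneg hx h2) ((ev_nonneg hx h3).trans h4))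

theorem ev_expand_le {N e : ℕ} (he : e ≠ 0) {x : ℝ} (hx : 0 ≤ x) {f : ℝ⟦X⟧} (hf : NN f) :
    ev N x (expand e he f) ≤ ev N (x ^ e) f := by
  have h : ev N x (expand e he f) = ∑ j ∈ (range N).filter (e ∣ ·), coeff (j / e) f * (x ^ e) ^ (j / e) := by
    rw [ev, sum_filter]
    refine sum_congr rfl fun j _ => ?_
    rw [coeff_expand]
    split_ifs with h
    · rw [← pow_mul, Nat.mul_div_cancel' h]
    · rw [zero_mul]
  rw [h, ← sum_image (f := fun m => coeff m f * (x ^ e) ^ m) (g := fun j => j / e)]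
  · refine sum_le_sum_of_subset_of_nonneg (fun m hm => ?_) fun m _ _ => mul_nonneg (hf m) (by positivity)
    obtain ⟨j, hj, rfl⟩ := mem_image.1 hm
    exact mem_range.2 ((Nat.div_le_self _ _).trans_lt (mem_range.1 (mem_filter.1 hj).1))
  · intro a ha b hb hab
    rw [← Nat.mul_div_cancel' (mem_filter.1 ha).2, ← Nat.mul_div_cancel' (mem_filter.1 hb).2]
    exact congrArg _ hab

theorem ev_ser_le {N e : ℕ} (he : e ≠ 0) {x : ℝ} (hx : 0 ≤ x) {β : ℕ → ℝ} (h : ∀ m, 0 ≤ β m) :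
    ev N x (ser e β) ≤ ∑ m ∈ range N, β m * (x ^ e) ^ m := by
  rw [ser_eq_expand he]
  refine (ev_expand_le he hx (nn_ser 1 h)).trans_eq ?_
  simp [ev, coeff_ser_one]

/-- The leading factor controls the growth. -/
theorem coeff_mul_le {n : ℕ} {x c : ℝ} (hx : 0 ≤ x) {f g : ℝ⟦X⟧} (hg : NN g)
    (h : ∀ m ≤ n, coeff m f * x ^ m ≤ c) : coeff n (f * g) * x ^ n ≤ c * ev (n + 1) x g := by
  rw [mul_comm f, coeff_mul, Nat.sum_antidiagonal_eq_sum_range_succ_mk, sum_mul, ev, mul_sum]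
  refine sum_le_sum fun k hk => ?_
  have h1 : x ^ n = x ^ k * x ^ (n - k) := by rw [← pow_add, Nat.add_sub_cancel' (by have := mem_range.1 hk; omega)]
  have h2 := mul_le_mul_of_nonneg_right (h (n - k) (by omega)) (mul_nonneg (hg k) (pow_nonneg hx k))
  simp only [h1]
  linarith

theorem coeff_le_ev {n : ℕ} {x : ℝ} (hx : 0 ≤ x) {g : ℝ⟦X⟧} (hg : NN g) : coeff n g * x ^ n ≤ ev (n + 1) x g :=
  single_le_sum (f := fun j => coeff j g * x ^ j) (fun j _ => mul_nonneg (hg j) (pow_nonneg hx j))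
    (mem_range.2 n.lt_succ_self)

/-- A rational generating function bounds the partial sums. -/
theorem ev_le_of_rec {N : ℕ} {y r : ℝ} (hy : 0 ≤ y) (hr : r < 1) {f g : ℝ⟦X⟧} (hf : NN f) {k : ℕ} {c : ℝ}
    (hc : 0 ≤ c) (hk : c * y ^ k = r) (h : ∀ j, coeff j f ≤ coeff j (g + C c * X ^ k * f)) {B : ℝ}
    (hB : ev N y g ≤ B) : ev N y f ≤ B / (1 - r) := by
  rw [le_div_iff₀ (by linarith)]
  have h1 : ev N y f ≤ ev N y g + ev N y (C c * X ^ k * f) := by
    rw [ev, ev, ev, ← sum_add_distrib]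
    refine sum_le_sum fun j _ => ?_
    rw [← add_mul, ← map_add]
    exact mul_le_mul_of_nonneg_right (h j) (pow_nonneg hy j)
  have h2 : ev N y (C c * X ^ k) ≤ r := by
    rw [ev, ← hk]
    simp only [coeff_C_mul, coeff_X_pow, mul_ite, mul_one, mul_zero, ite_mul, zero_mul, sum_ite_eq', mem_range]
    split_ifs
    · rfl
    · positivity
  have h3 := (ev_mul_le (N := N) hy ((nn_C hc).mul (nn_X_pow k)) hf).trans
    (mul_le_mul_of_nonneg_right h2 (ev_nonneg hy hf))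
  linarith

/-- Tail of an infinite product. -/
theorem prod_tail_le {B : ℕ → ℝ} {s ρ D : ℝ} (hρ : 0 ≤ ρ) (hρ1 : ρ ≤ 1) (hs : 0 ≤ s) (hD : s ≤ D * (1 - ρ))
    (hD0 : 0 ≤ D) (hD1 : D < 1) (h0 : ∀ i, 0 ≤ B i) (h : ∀ i, B i ≤ 1 + s * ρ ^ i) (k : ℕ) :
    ∏ i ∈ range k, B i ≤ 1 / (1 - D) := by
  have key : (∏ i ∈ range k, B i) * (1 - D) ≤ 1 - D * ρ ^ k := by
    induction k with
    | zero => simp
    | succ k ih =>
      have hp := pow_nonneg hρ k
      have hp1 := pow_le_one₀ (n := k) hρ hρ1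
      have h5 : 0 ≤ 1 - D * ρ ^ k := by nlinarith
      have h6 : 0 ≤ s * ρ ^ k * (D * ρ ^ k) := by positivity
      rw [prod_range_succ, mul_right_comm]
      calc _ ≤ (1 - D * ρ ^ k) * B k := mul_le_mul_of_nonneg_right ih (h0 k)
        _ ≤ (1 - D * ρ ^ k) * (1 + s * ρ ^ k) := mul_le_mul_of_nonneg_left (h k) h5
        _ ≤ _ := by rw [pow_succ]; nlinarith [mul_le_mul_of_nonneg_right hD hp]
  rw [le_div_iff₀ (by linarith)]
  nlinarith [mul_nonneg hD0 (pow_nonneg hρ k)]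

end CL.ClassNo
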