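/-
Class numbers of classical groups, part 2: the generating function of `GL_n(q)`, and sums twisted by the square of
a common divisor of the parts.
-/
import Cfsg.Agent.Known.ClassNo1

set_option autoImplicit false

open PowerSeries Finset

namespace CL.ClassNo

/-- The coefficient of `X ^ n` in `∏ ser e β`. -/
noncomputable def Kc (β : ℕ → ℝ) (n : ℕ) : ℝ := coeff n (∏ e ∈ range n, ser (e + 1) β)

theorem Kc_eq {β : ℕ → ℝ} (h0 : β 0 = 1) {n k : ℕ} (h : n ≤ k) :
    coeff n (∏ e ∈ range k, ser (e + 1) β) = Kc β n :=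
  agree_prod_subset (range_subset_range.2 h) (w := fun e => e + 1) (β := fun _ => β) (fun _ => h0)
    (fun e _ he => by simpa [Nat.lt_succ_iff] using he) n le_rfl

theorem Kc_nonneg {β : ℕ → ℝ} (h : ∀ m, 0 ≤ β m) (n : ℕ) : 0 ≤ Kc β n := nn_prod (fun _ _ => nn_ser _ h) n

theorem Kc_one (β : ℕ → ℝ) : Kc β 1 = β 1 := by simp [Kc, coeff_ser]

theorem Kc_two {β : ℕ → ℝ} (h0 : β 0 = 1) : Kc β 2 = β 2 + β 1 := by
  simp [Kc, coeff_ser, prod_range_succ, coeff_mul, Nat.sum_antidiagonal_succ, h0, add_comm]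

theorem Kc_three {β : ℕ → ℝ} (h0 : β 0 = 1) : Kc β 3 = β 3 + β 1 * β 1 + β 1 := by
  simp [Kc, coeff_ser, prod_range_succ, coeff_mul, Nat.sum_antidiagonal_succ, h0]
  ring

theorem sum_geom_le {β : ℕ → ℝ} {c r y : ℝ} (hy : 0 ≤ y) (hr : 0 ≤ r) (hc : 0 ≤ c) (hry : r * y < 1) (h0 : β 0 ≤ 1)
    (h : ∀ m, β (m + 1) ≤ c * r ^ m) (N : ℕ) : ∑ m ∈ range N, β m * y ^ m ≤ 1 + c * y / (1 - r * y) := by
  have h1 : 0 < 1 - r * y := by linarith
  rcases N with _ | N
  · rw [sum_range_zero]; positivity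
  · rw [sum_range_succ', pow_zero, mul_one, add_comm]
    refine add_le_add h0 ?_
    have h2 : ∑ m ∈ range N, β (m + 1) * y ^ (m + 1) ≤ c * y * ∑ m ∈ range N, (r * y) ^ m := by
      rw [mul_sum]
      refine sum_le_sum fun m _ => (mul_le_mul_of_nonneg_right (h m) (by positivity)).trans_eq ?_
      rw [mul_pow]; ring
    refine h2.trans ?_
    rw [le_div_iff₀ h1, mul_assoc, geom_sum_mul_neg]
    have : 0 ≤ (r * y) ^ N := by positivity
    nlinarith [mul_nonneg hc hy]

/-- Number of monic polynomials of degree `m` with non-zero constant term. -/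
noncomputable def glw (q : ℝ) : ℕ → ℝ
  | 0 => 1
  | m + 1 => (q - 1) * q ^ m

section Lin

variable {q : ℝ} (hq : 2 ≤ q)
include hq

theorem glw_nonneg (m : ℕ) : 0 ≤ glw q m := by
  cases m with
  | zero => simp [glw]
  | succ m => exact mul_nonneg (by linarith) (pow_nonneg (by linarith) _)

omit hq in
theorem ser_glw {e : ℕ} (he : e ≠ 0) : ser e (glw q) = 1 - X ^ e + C q * X ^ e * ser e (glw q) := by
  have h : ser 1 (glw q) = 1 - X + C q * X * ser 1 (glw q) := by
    ext j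
    rcases j with _ | _ | j
    · simp [coeff_ser_one, glw, mul_assoc]
    · simp [coeff_ser_one, glw, mul_assoc, coeff_succ_X_mul, coeff_one]; ring
    · simp [coeff_ser_one, glw, mul_assoc, coeff_succ_X_mul, coeff_one, coeff_X]; ring
  rw [ser_eq_expand he]
  conv_lhs => rw [h]
  simp [expand_C]

/-- The product of the factors with index in `[s, s + k)`. -/
noncomputable def glP (q : ℝ) (s k : ℕ) : ℝ⟦X⟧ := ∏ e ∈ range k, ser (s + e) (glw q)

/-- The stable coefficients. -/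
noncomputable def glh (q : ℝ) (s j : ℕ) : ℝ := coeff j (glP q s j)

theorem nn_glP (s k : ℕ) : NN (glP q s k) := nn_prod fun _ _ => nn_ser _ (glw_nonneg hq)

omit hq in
theorem coeff_glP {s k j : ℕ} (hs : 1 ≤ s) (h : j < s + k) : coeff j (glP q s k) = glh q s j := by
  have key : ∀ k k', k ≤ k' → j < s + k → coeff j (glP q s k') = coeff j (glP q s k) := fun k k' h1 h2 =>
    agree_prod_subset (range_subset_range.2 h1) (w := fun e => s + e) (β := fun _ => glw q) (fun _ => rfl)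
      (fun e _ he => by simp only [mem_range] at he; omega) j le_rfl
  rcases le_total k j with h1 | h1
  · exact (key _ _ h1 h).symm
  · exact key _ _ h1 (by omega)

theorem nn_glP_sub (s k r : ℕ) : NN (glP q s (k + r) - glP q s k) := by
  induction r with
  | zero => intro j; simp
  | succ r ih =>
    have := ih.add ((nn_glP hq s (k + r)).mul (nn_ser_sub_one (e := s + (k + r)) (glw_nonneg hq) rfl))
    convert this using 1
    rw [← add_assoc, glP, prod_range_succ, ← glP]; ring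

theorem glh_shift {s j r : ℕ} (hs : 1 ≤ s) (hj : 1 ≤ j) (hr : 1 ≤ r) :
    (1 - 1 / q) * glh q s j ≤ glh q s (j + r) := by
  have hc : 0 ≤ 1 - 1 / q := by rw [sub_nonneg, div_le_one] <;> linarith
  have hcq : (C (1 - 1 / q) : ℝ⟦X⟧) * C q = C (q - 1) := by
    rw [← map_mul]; congr 1; field_simp
  have key : ∀ k, NN (glP q s (k + r) - 1 - C (1 - 1 / q) * X ^ r * (glP q s k - 1)) := by
    intro k
    induction k with
    | zero => simpa [glP] using nn_glP_sub hq s 0 r
    | succ k ih =>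
      obtain ⟨r, rfl⟩ : ∃ r', r = r' + 1 := ⟨r - 1, by omega⟩
      have h1 := ((nn_C (c := q) (by linarith)).mul (nn_X_pow (s + (k + (r + 1))))).mul
        ((nn_ser_sub_one (e := s + (k + (r + 1))) (glw_nonneg hq) rfl).mul (nn_glP hq s (k + (r + 1))))
      have h2 := ((nn_C (c := q - 1) (by linarith)).mul (nn_X_pow (s + (k + (r + 1))))).mul
        (nn_glP_sub hq s (k + 1) r)
      have h3 := ((nn_C hc).mul (nn_X_pow (s + (k + (r + 1))))).mul (nn_glP hq s k)
      convert ((ih.add h1).add h2).add h3 using 1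
      have e1 : glP q s (k + 1 + (r + 1)) = glP q s (k + (r + 1)) * ser (s + (k + (r + 1))) (glw q) := by
        rw [show k + 1 + (r + 1) = k + (r + 1) + 1 by ring, glP, prod_range_succ, ← glP]
      have e2 : glP q s (k + 1) = glP q s k * ser (s + k) (glw q) := by rw [glP, prod_range_succ, ← glP]
      have e3 := ser_glw (q := q) (e := s + (k + (r + 1))) (by omega)
      have e4 := ser_glw (q := q) (e := s + k) (by omega)
      have e5 : (X : ℝ⟦X⟧) ^ (s + (k + (r + 1))) = X ^ (s + k) * X ^ (r + 1) := by rw [← pow_add, add_assoc]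
      have e6 : (C (q - 1) : ℝ⟦X⟧) = C q - 1 := by simp
      rw [show k + 1 + r = k + (r + 1) by ring, e1, e2, e5] at *
      rw [e6] at hcq ⊢
      generalize ser (s + (k + (r + 1))) (glw q) = A at *
      generalize ser (s + k) (glw q) = A' at *
      linear_combination (glP q s (k + (r + 1))) * e3 - C (1 - 1 / q) * X ^ (r + 1) * glP q s k * e4 -
        X ^ (s + k) * X ^ (r + 1) * glP q s k * A' * hcq
  have := key j (j + r)
  rw [map_sub, map_sub, mul_assoc, coeff_C_mul, add_comm j r, coeff_X_pow_mul', if_pos (by omega),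
    Nat.add_sub_cancel_left, map_sub, coeff_one, coeff_one, if_neg (by omega), if_neg (by omega)] at this
  rw [glh, glh, add_comm j r]
  linarith

omit hq in
theorem glh_rec {s : ℕ} (hs : 1 ≤ s) (j : ℕ) :
    glh q s (j + s) = q * glh q s j + glh q (s + 1) (j + s) - glh q (s + 1) j := by
  have e1 : glP q s (j + s + 1) = glP q (s + 1) (j + s) * ser s (glw q) := by
    rw [glP, prod_range_succ', glP]; simp [add_assoc, add_comm 1]
  have e2 : glP q s (j + s + 1) = glP q (s + 1) (j + s) - X ^ s * glP q (s + 1) (j + s) +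
      C q * (X ^ s * glP q s (j + s + 1)) := by
    rw [e1]; linear_combination glP q (s + 1) (j + s) * ser_glw (q := q) (e := s) (by omega)
  have := congrArg (coeff (j + s)) e2
  rw [map_add, map_sub, coeff_C_mul, coeff_X_pow_mul, coeff_X_pow_mul, coeff_glP hs (by omega),
    coeff_glP (by omega) (by omega), coeff_glP (by omega) (by omega), coeff_glP hs (by omega)] at this
  linarith

theorem glh_succ_le {s : ℕ} (hs : 1 ≤ s) (j : ℕ) : glh q (s + 1) j ≤ glh q s j := by
  have e1 : glP q s (j + 1) = glP q (s + 1) j * ser s (glw q) := by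
    rw [glP, prod_range_succ', glP]; simp [add_assoc, add_comm 1]
  have := (nn_glP hq (s + 1) j).mul (nn_ser_sub_one (e := s) (glw_nonneg hq) rfl) j
  rw [mul_sub, mul_one, ← e1, map_sub, coeff_glP hs (by omega)] at this
  rw [glh]; linarith

theorem sum_glh_two_le (M : ℕ) : (1 - 1 / q) * ∑ j ∈ range M, glh q 2 j * (1 / q) ^ j ≤ 1 := by
  set x := 1 / q with hx
  have hx0 : 0 < x := by positivity
  have hx1 : x < 1 := by rw [hx, div_lt_one] <;> linarith
  have hqx : q * x = 1 := by rw [hx]; field_simp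
  have h1 : ∑ j ∈ range M, glh q 2 j * x ^ j = ev M x (glP q 2 M) :=
    sum_congr rfl fun j hj => by rw [coeff_glP (by omega) (by have := mem_range.1 hj; omega)]
  have hp : ∀ e, 0 < 1 - x ^ (e + 1) := fun e => sub_pos.2 (pow_lt_one₀ hx0.le hx1 e.succ_ne_zero)
  have h2 : ev M x (glP q 2 M) ≤ ∏ e ∈ range M, (1 - x ^ (e + 2)) / (1 - x ^ (e + 1)) := by
    refine ev_prod_le hx0.le (fun _ _ => nn_ser _ (glw_nonneg hq)) fun e _ => ?_
    have e1 : q * x ^ (2 + e) = x ^ (e + 1) := by linear_combination x ^ (e + 1) * hqx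
    refine (ev_ser_le (by omega) hx0.le (glw_nonneg hq)).trans ((sum_geom_le (c := q - 1) (r := q) (by positivity)
      (by linarith) (by linarith) (by rw [e1]; linarith [hp e]) le_rfl (fun _ => le_rfl) M).trans_eq ?_)
    rw [e1]; field_simp [(hp e).ne']
    linear_combination x ^ (e + 1) * hqx
  have h3 : ∀ k, ∏ e ∈ range k, (1 - x ^ (e + 2)) / (1 - x ^ (e + 1)) = (1 - x ^ (k + 1)) / (1 - x) := by
    intro k
    induction k with
    | zero => simp [(sub_pos.2 hx1).ne']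
    | succ k ih => rw [prod_range_succ, ih]; field_simp [(hp k).ne']
  rw [h1, mul_comm, ← le_div_iff₀ (by linarith)]
  refine h2.trans ((h3 M).trans_le (div_le_div_of_nonneg_right ?_ (by linarith)))
  linarith [pow_nonneg hx0.le (M + 1)]

theorem Kc_glw_le (n : ℕ) : Kc (glw q) n ≤ q ^ n := by
  rcases Nat.eq_zero_or_pos n with rfl | hn
  · simp [Kc]
  have hK : Kc (glw q) n = glh q 1 n := by simp [Kc, glh, glP, add_comm]
  have h5 := sum_glh_two_le hq
  have h6 := fun j => glh_shift hq (s := 2) (j := j) (r := 1) (by omega)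
  have h7 := fun j => glh_shift hq (s := 3) (j := j) (r := 2) (by omega)
  set x := 1 / q with hx
  have hx0 : 0 < x := by positivity
  have hx1 : x ≤ 1 / 2 := by rw [hx]; gcongr
  have hqx : q * x = 1 := by rw [hx]; field_simp
  have h1 : ∀ n, glh q 1 n * x ^ n = (1 - x) * ∑ j ∈ range (n + 1), glh q 2 j * x ^ j + glh q 2 n * x ^ (n + 1) := by
    intro n
    induction n with
    | zero => simp [glh, glP]
    | succ n ih =>
      rw [sum_range_succ, glh_rec le_rfl]
      linear_combination ih + glh q 1 n * x ^ n * hqx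
  have hh : ∀ s j, 0 ≤ glh q s j := fun s j => nn_glP hq s j j
  set r := x - x ^ 3 with hr
  have hr0 : 0 ≤ r := by rw [hr]; nlinarith [mul_pos hx0 hx0]
  have hr1 : r < 1 := by rw [hr]; nlinarith [pow_pos hx0 3]
  have h2 : ∀ j, 1 ≤ j → r * glh q 2 j ≤ glh q 2 (j + 2) * x ^ 2 := fun j hj => by
    have e1 := glh_rec (q := q) (s := 2) (by omega) j
    have e2 := h7 j hj (by omega)
    have e3 := mul_le_mul_of_nonneg_left (glh_succ_le hq (s := 2) (by omega) j) hx0.le
    have e4 : (q - x) * glh q 2 j ≤ glh q 2 (j + 2) := by linarith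
    refine le_of_eq_of_le ?_ (mul_le_mul_of_nonneg_right e4 (sq_nonneg x))
    rw [hr]; linear_combination -x * glh q 2 j * hqx
  have h3 : ∀ i, r ^ i * (glh q 2 n * x ^ n) ≤ glh q 2 (n + 2 * i) * x ^ (n + 2 * i) ∧
      (1 - x) * ∑ j ∈ range (n + 1), glh q 2 j * x ^ j + glh q 2 n * x ^ (n + 1) * (1 - r ^ i) ≤
        (1 - x) * ∑ j ∈ range (n + 2 * i + 1), glh q 2 j * x ^ j := by
    intro i
    induction i with
    | zero => simp
    | succ i ih =>
      have e1 := mul_le_mul_of_nonneg_right (h2 (n + 2 * i) (by omega)) (pow_nonneg hx0.le (n + 2 * i))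
      have e2 := mul_le_mul_of_nonneg_left ih.1 hr0
      have e3 := mul_le_mul_of_nonneg_right (h6 (n + 2 * i) (by omega) le_rfl) (pow_nonneg hx0.le (n + 2 * i + 1))
      have e4 : r ^ (i + 1) * (glh q 2 n * x ^ n) ≤ glh q 2 (n + 2 * i + 2) * x ^ (n + 2 * i + 2) := by
        rw [pow_succ, pow_add x _ 2]; linarith
      refine ⟨e4, ?_⟩
      rw [show n + 2 * (i + 1) + 1 = n + 2 * i + 1 + 1 + 1 by ring, sum_range_succ _ (n + 2 * i + 1 + 1),
        sum_range_succ _ (n + 2 * i + 1)]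
      have e5 := mul_le_mul_of_nonneg_left ih.1 (mul_nonneg (show 0 ≤ 1 - x by linarith) hx0.le)
      have e6 : (1 - x) * x * (r ^ i * (glh q 2 n * x ^ n)) ≤ glh q 2 (n + 2 * i + 1) * x ^ (n + 2 * i + 1) := by
        rw [pow_succ] at e3 ⊢; linarith
      have e7 := mul_le_mul_of_nonneg_left (add_le_add e6 e4) (show 0 ≤ 1 - x by linarith)
      have e8 : 0 ≤ r ^ i * (glh q 2 n * x ^ n) * (x * (1 - 2 * x)) := by
        have := hh 2 n
        have : 0 ≤ 1 - 2 * x := by linarith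
        positivity
      have e9 := ih.2
      rw [pow_succ r, pow_succ x n] at *
      have e10 : (1 - x) * ((1 - x) * x * (r ^ i * (glh q 2 n * x ^ n)) + r ^ i * r * (glh q 2 n * x ^ n)) =
          r ^ i * (glh q 2 n * x ^ n) * (x * (1 - 2 * x)) + glh q 2 n * (x ^ n * x) * (r ^ i - r ^ i * r) := by
        rw [hr]; ring
      rw [show n + 2 * i + 1 + 1 = n + 2 * i + 2 by ring]
      linarith
  have h4 : glh q 1 n * x ^ n ≤ 1 := by
    refine le_of_forall_pos_le_add fun ε hε => ?_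
    have hb : 0 ≤ glh q 2 n * x ^ (n + 1) := mul_nonneg (hh _ _) (by positivity)
    obtain ⟨i, hi⟩ := exists_pow_lt_of_lt_one (div_pos hε (show 0 < glh q 2 n * x ^ (n + 1) + 1 by linarith)) hr1
    rw [lt_div_iff₀ (by linarith)] at hi
    have := (h3 i).2.trans (h5 _)
    rw [h1]
    nlinarith [pow_nonneg hr0 i]
  rw [hK]
  have : q ^ n * x ^ n = 1 := by rw [← mul_pow, hqx, one_pow]
  exact le_of_mul_le_mul_right (h4.trans_eq this.symm) (pow_pos hx0 n)

end Lin

/-- Types all of whose parts are divisible by `d`. -/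
theorem sum_typ_dvd {β : ℕ → ℝ} (h0 : β 0 = 1) {n d : ℕ} (hd : d ≠ 0) (hdn : d ∣ n) :
    ∑ m ∈ (typ n n).filter (fun m => ∀ e : Fin n, m e ≠ 0 → d ∣ e + 1), ∏ e, β (m e) = Kc β (n / d) := by
  obtain ⟨k, rfl⟩ := hdn
  rw [Nat.mul_div_cancel_left _ (Nat.pos_of_ne_zero hd)]
  have h1 := coeff_prod_ser (d * k) (d * k) fun e m => if d ∣ e + 1 then β m else if m = 0 then 1 else 0
  have h2 : ∀ e, ser (e + 1) (fun m => if d ∣ e + 1 then β m else if m = 0 then 1 else 0) =
      if d ∣ e + 1 then ser (e + 1) β else 1 := fun e => by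
    split_ifs with h
    · rfl
    · ext j
      rw [coeff_ser, coeff_one]
      by_cases hj : j = 0
      · simp [hj]
      · rw [if_neg hj]
        split_ifs with h3 h4
        · exact absurd (Nat.eq_zero_of_dvd_of_div_eq_zero h3 h4) hj
        · rfl
        · rfl
  have h3 : ∏ e ∈ range (d * k), (if d ∣ e + 1 then ser (e + 1) β else 1) =
      expand d hd (∏ e ∈ range k, ser (e + 1) β) := by
    rw [← prod_filter, map_prod]
    symm
    refine prod_nbij (fun e => d * (e + 1) - 1) (fun e he => ?_) (fun a _ b _ h => ?_) (fun e he => ?_) fun e _ => ?_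
    · have h4 : d * (e + 1) ≤ d * k := Nat.mul_le_mul_left _ (mem_range.1 he)
      have h5 : 0 < d * (e + 1) := by positivity
      rw [mem_filter, mem_range, Nat.sub_add_cancel h5]
      exact ⟨by omega, dvd_mul_right _ _⟩
    · have h4 : 0 < d * (a + 1) := by positivity
      have h5 : 0 < d * (b + 1) := by positivity
      have : d * (a + 1) = d * (b + 1) := by simp only at h; omega
      simpa [hd] using this
    · obtain ⟨h4, c, hc⟩ := mem_filter.1 (mem_coe.1 he)
      rcases c with _ | c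
      · omega
      · refine ⟨c, mem_coe.2 (mem_range.2 ?_), by simp only; omega⟩
        have := mem_range.1 h4
        exact Nat.le_of_mul_le_mul_left (show d * (c + 1) ≤ d * k by omega) (Nat.pos_of_ne_zero hd)
    · rw [Nat.sub_add_cancel (show 0 < d * (e + 1) by positivity), ser_mul_eq_expand hd e.succ_ne_zero]
  simp only [h2, h3, coeff_expand_mul] at h1
  rw [Kc, h1, sum_filter]
  refine sum_congr rfl fun m _ => ?_
  split_ifs with h
  · refine prod_congr rfl fun e _ => ?_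
    split_ifs with h4 h5
    · rfl
    · rw [h5, h0]
    · exact absurd (h e h5) h4
  · push Not at h
    obtain ⟨e, h4, h5⟩ := h
    exact (prod_eq_zero (mem_univ e) (by rw [if_neg h5, if_neg h4])).symm

/-- The bound for sums twisted by the square of a common divisor of `N` and of all parts. -/
noncomputable def Sb (β : ℕ → ℝ) (N n : ℕ) : ℝ :=
  Kc β n + ∑ d ∈ (Icc 2 n).filter (fun d => d ∣ n ∧ d ∣ N), ((d : ℝ) ^ 2 - 1) * Kc β (n / d)

theorem sum_typ_sq_le {β : ℕ → ℝ} (h : ∀ m, 0 ≤ β m) (h0 : β 0 = 1) {n N : ℕ} (hn : n ≠ 0) (g : (Fin n → ℕ) → ℕ)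
    (hg : ∀ m, g m ∣ N ∧ ∀ e : Fin n, m e ≠ 0 → g m ∣ e + 1) :
    ∑ m ∈ typ n n, (g m : ℝ) ^ 2 * ∏ e, β (m e) ≤ Sb β N n := by
  have h1 : ∀ d ∈ (Icc 2 n).filter (fun d => d ∣ n ∧ d ∣ N), ((d : ℝ) ^ 2 - 1) * Kc β (n / d) =
      ∑ m ∈ typ n n, if ∀ e : Fin n, m e ≠ 0 → d ∣ e + 1 then ((d : ℝ) ^ 2 - 1) * ∏ e, β (m e) else 0 := by
    intro d hd
    obtain ⟨h2, h3, -⟩ := mem_filter.1 hd
    rw [← sum_typ_dvd h0 (by have := (mem_Icc.1 h2).1; omega) h3, ← sum_filter, mul_sum]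
  rw [Sb, sum_congr rfl h1, sum_comm, Kc, coeff_prod_ser n n fun _ => β, ← sum_add_distrib]
  refine sum_le_sum fun m hm => ?_
  have hp : 0 ≤ ∏ e, β (m e) := prod_nonneg fun e _ => h _
  have hnn : ∀ d ∈ (Icc 2 n).filter (fun d => d ∣ n ∧ d ∣ N),
      0 ≤ if ∀ e : Fin n, m e ≠ 0 → d ∣ e + 1 then ((d : ℝ) ^ 2 - 1) * ∏ e, β (m e) else 0 := fun d hd => by
    have : (2 : ℝ) ≤ d := by exact_mod_cast (mem_Icc.1 (mem_filter.1 hd).1).1
    split_ifs
    · exact mul_nonneg (by nlinarith) hp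
    · rfl
  have hgn : g m ∣ n := by
    rw [← mem_typ.1 hm]
    refine dvd_sum fun e _ => ?_
    by_cases he : m e = 0
    · simp [he]
    · exact ((hg m).2 e he).mul_right _
  by_cases h2 : g m ≤ 1
  · have : (g m : ℝ) ^ 2 ≤ 1 := by exact_mod_cast pow_le_one₀ (Nat.zero_le _) h2
    nlinarith [sum_nonneg hnn]
  · have := single_le_sum hnn (mem_filter.2 ⟨mem_Icc.2 ⟨by omega, Nat.le_of_dvd (by omega) hgn⟩, hgn, (hg m).1⟩)
    rw [if_pos (hg m).2] at this
    linarith

/-- Weights supported on multiples of `t`. -/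
theorem Kc_sparse {β : ℕ → ℝ} (h0 : β 0 = 1) {t : ℕ} (ht : t ≠ 0) (n : ℕ) :
    Kc (fun m => if t ∣ m then β (m / t) else 0) n = if t ∣ n then Kc β (n / t) else 0 := by
  have h : ∀ e, ser (e + 1) (fun m => if t ∣ m then β (m / t) else 0) = expand t ht (ser (e + 1) β) := fun e => by
    rw [← ser_mul_eq_expand ht e.succ_ne_zero, mul_comm, ser_mul_eq_expand e.succ_ne_zero ht,
      ser_eq_expand e.succ_ne_zero]
    congr 1
    ext j
    rw [coeff_ser_one, coeff_ser]
  simp only [Kc, h]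
  rw [← map_prod, coeff_expand, Kc_eq h0 (Nat.div_le_self _ _), Kc]

theorem Sb_sparse {β : ℕ → ℝ} (h0 : β 0 = 1) {t : ℕ} (ht : t ≠ 0) (N : ℕ) {k : ℕ} (hk : k ≠ 0) :
    Sb (fun m => if t ∣ m then β (m / t) else 0) N (t * k) = Sb β N k := by
  have ht0 := Nat.pos_of_ne_zero ht
  simp only [Sb, Kc_sparse h0 ht]
  rw [if_pos (dvd_mul_right _ _), Nat.mul_div_cancel_left _ ht0]
  congr 1
  symm
  refine sum_subset_zero_on_sdiff (fun d hd => ?_) (fun d hd => ?_) fun d hd => ?_
  · simp only [mem_filter, mem_Icc] at hd ⊢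
    exact ⟨⟨hd.1.1, hd.1.2.trans (Nat.le_mul_of_pos_left _ ht0)⟩, hd.2.1.mul_left _, hd.2.2⟩
  · simp only [mem_sdiff, mem_filter, mem_Icc] at hd
    rw [if_neg, mul_zero]
    rintro ⟨c, hc⟩
    have h1 : t * k = t * (d * c) := by rw [← Nat.mul_div_cancel' hd.1.2.1, hc]; ring
    have h2 : d ∣ k := ⟨c, Nat.eq_of_mul_eq_mul_left ht0 h1⟩
    exact hd.2 ⟨⟨hd.1.1.1, Nat.le_of_dvd (by omega) h2⟩, h2, hd.1.2.2⟩
  · simp only [mem_filter, mem_Icc] at hd
    obtain ⟨c, rfl⟩ := hd.2.1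
    have hd0 : 0 < d := by omega
    rw [Nat.mul_div_cancel_left _ hd0, mul_left_comm, Nat.mul_div_cancel_left _ hd0, if_pos (dvd_mul_right _ _),
      Nat.mul_div_cancel_left _ ht0]

theorem Sb_one (β : ℕ → ℝ) (N : ℕ) : Sb β N 1 = β 1 := by simp [Sb, Kc_one]

theorem Sb_two (β : ℕ → ℝ) (N : ℕ) : Sb β N 2 = Kc β 2 + if 2 ∣ N then 3 * β 1 else 0 := by
  simp [Sb, sum_filter, Kc_one]; norm_num

theorem Sb_three (β : ℕ → ℝ) (N : ℕ) : Sb β N 3 = Kc β 3 + if 3 ∣ N then 8 * β 1 else 0 := by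
  simp [Sb, sum_filter, Kc_one, show Icc 2 3 = {2, 3} from rfl]; norm_num

theorem Sb_four (β : ℕ → ℝ) (N : ℕ) :
    Sb β N 4 = Kc β 4 + ((if 2 ∣ N then 3 * Kc β 2 else 0) + if 4 ∣ N then 15 * β 1 else 0) := by
  simp [Sb, sum_filter, Kc_one, show Icc 2 4 = {2, 3, 4} from rfl]; norm_num

theorem Sb_five (β : ℕ → ℝ) (N : ℕ) : Sb β N 5 = Kc β 5 + if 5 ∣ N then 24 * β 1 else 0 := by
  simp [Sb, sum_filter, Kc_one, show Icc 2 5 = {2, 3, 4, 5} from rfl]; norm_num

theorem Sb_of_one (β : ℕ → ℝ) (n : ℕ) : Sb β 1 n = Kc β n := by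
  rw [Sb, sum_eq_zero, add_zero]
  intro d hd
  simp only [mem_filter, mem_Icc, Nat.dvd_one] at hd
  omega

theorem Sb_le {β : ℕ → ℝ} {q C : ℝ} (hq : 1 ≤ q) (hC : 0 ≤ C) (hK : ∀ j, Kc β j ≤ C * q ^ j) {N : ℕ} (hN : N ≠ 0)
    (n : ℕ) : Sb β N n ≤ Kc β n + C * (3 * q ^ (n / 2) + (N + 1) ^ 3 / 3 * q ^ (n / 3)) := by
  have h1 : ∀ M : ℕ, ∑ d ∈ range (M + 1), (d : ℝ) ^ 2 ≤ (M + 1) ^ 3 / 3 := fun M => by
    induction M with
    | zero => simp
    | succ M ih => rw [sum_range_succ]; push_cast; nlinarith [M.cast_nonneg (α := ℝ)]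
  have h2 : ∑ d ∈ range (N + 1), C * ((if d = 2 then 3 * q ^ (n / 2) else 0) + (d : ℝ) ^ 2 * q ^ (n / 3)) ≤
      C * (3 * q ^ (n / 2) + (N + 1) ^ 3 / 3 * q ^ (n / 3)) := by
    rw [← mul_sum, sum_add_distrib, ← sum_mul, sum_ite_eq']
    refine mul_le_mul_of_nonneg_left (add_le_add ?_ (mul_le_mul_of_nonneg_right (h1 N) (by positivity))) hC
    split_ifs
    · rfl
    · positivity
  refine add_le_add le_rfl (le_trans ?_ h2)
  refine (sum_le_sum fun d hd => ?_).trans (sum_le_sum_of_subset_of_nonneg (fun d hd => ?_) fun d _ _ => ?_)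
  · have hd2 : 2 ≤ d := (mem_Icc.1 (mem_filter.1 hd).1).1
    have hd2' : (2 : ℝ) ≤ d := by exact_mod_cast hd2
    refine (mul_le_mul_of_nonneg_left (hK _) (by nlinarith)).trans ?_
    rw [mul_left_comm]
    refine mul_le_mul_of_nonneg_left ?_ hC
    split_ifs with h
    · subst h
      have : 0 ≤ q ^ (n / 3) := by positivity
      push_cast; nlinarith
    · have h3 : q ^ (n / d) ≤ q ^ (n / 3) := pow_le_pow_right₀ hq (Nat.div_le_div_left (by omega) (by norm_num))
      have : 0 ≤ q ^ (n / d) := by positivity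
      nlinarith [mul_le_mul_of_nonneg_left h3 (sq_nonneg (d : ℝ))]
  · exact mem_range.2 (Nat.lt_succ_of_le (Nat.le_of_dvd (by omega) (mem_filter.1 hd).2.2))
  · split_ifs <;> positivity

section SLnum

variable {N : ℕ} (hN : N ≠ 0)
include hN

theorem Sb_glw_two : Sb (glw (N + 1)) N 2 ≤ N * (N + 5) ∧ 2 * Sb (glw (N + 1)) N 2 ≤ N * (5 * (N + 1)) := by
  rw [Sb_two, Kc_two rfl]
  simp only [glw]
  have h1 : (1 : ℝ) ≤ N := by exact_mod_cast Nat.pos_of_ne_zero hN
  split_ifs with h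
  · have h2 : (2 : ℝ) ≤ N := by exact_mod_cast Nat.le_of_dvd (by omega) h
    constructor <;> nlinarith
  · constructor <;> nlinarith

theorem Sb_glw_le (k : ℕ) : Sb (glw (N + 1)) N (k + 3) ≤ N * ((N + 1) ^ (k + 2) + 3 * (N + 1) ^ (k + 1)) := by
  have h1 : (1 : ℝ) ≤ N := by exact_mod_cast Nat.pos_of_ne_zero hN
  have hK := Kc_glw_le (q := N + 1) (by linarith)
  have hd : ∀ d : ℕ, d ∣ N → (d : ℝ) ≤ N := fun d h => by exact_mod_cast Nat.le_of_dvd (by omega) h
  by_cases h2 : N = 1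
  · subst h2
    rw [Sb_of_one]
    refine (hK _).trans ?_
    have : (0 : ℝ) ≤ 2 ^ k := by positivity
    norm_num [pow_succ]; linarith
  have h3 : (2 : ℝ) ≤ N := by exact_mod_cast (show 2 ≤ N by omega)
  rcases k with _ | _ | _ | k
  · rw [Sb_three, Kc_three rfl]
    simp only [glw, zero_add]
    split_ifs with h
    · have := hd 3 h
      push_cast at this ⊢
      nlinarith
    · nlinarith
  · rw [Sb_four]
    have e1 := hK 4
    have e2 := hK 2
    simp only [glw, zero_add, Nat.reduceAdd]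
    split_ifs with h h' h'
    · have := hd 4 h'
      push_cast at this ⊢
      nlinarith [mul_nonneg (sub_nonneg.2 this) (sq_nonneg (N : ℝ))]
    · nlinarith [mul_nonneg (sub_nonneg.2 h3) (sq_nonneg ((N : ℝ) + 1))]
    · exact absurd (dvd_trans (by norm_num) h') h
    · nlinarith [mul_nonneg (sub_nonneg.2 h3) (sq_nonneg ((N : ℝ) + 1))]
  · rw [Sb_five]
    have e1 := hK 5
    have e2 : (27 : ℝ) * N ≤ (N + 1) ^ 3 * (2 * N - 1) := by
      have : (3 : ℝ) ^ 3 ≤ (N + 1) ^ 3 := by gcongr; linarith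
      nlinarith
    simp only [glw, zero_add, Nat.reduceAdd]
    split_ifs <;> nlinarith
  · refine (Sb_le (q := N + 1) (by linarith) zero_le_one (by simpa using hK) hN _).trans ?_
    have e1 := hK (k + 1 + 1 + 1 + 3)
    set q : ℝ := N + 1 with hq
    have e2 : q ^ ((k + 1 + 1 + 1 + 3) / 2) ≤ q ^ (k + 3) := pow_le_pow_right₀ (by linarith) (by omega)
    have e3 : q ^ ((k + 1 + 1 + 1 + 3) / 3) ≤ q ^ (k + 2) := pow_le_pow_right₀ (by linarith) (by omega)
    have e4 : 0 ≤ q ^ (k + 2) := by positivity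
    have e5 := mul_le_mul_of_nonneg_left e3 (show 0 ≤ q ^ 3 / 3 by positivity)
    have e6 : (N : ℝ) = q - 1 := by linarith
    have e7 : 3 ≤ q := by linarith
    have e8 : 0 ≤ q ^ (k + 2) * q * (5 / 3 * q ^ 2 - 3 * q - 3) := by
      have : 0 ≤ 5 / 3 * q ^ 2 - 3 * q - 3 := by nlinarith
      positivity
    rw [e6]
    simp only [pow_succ] at *
    linarith

theorem two_mul_Sb_glw_le (k : ℕ) : 2 * Sb (glw (N + 1)) N (k + 1) ≤ N * (5 * (N + 1) ^ k) := by
  have h1 : (1 : ℝ) ≤ N := by exact_mod_cast Nat.pos_of_ne_zero hN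
  rcases k with _ | _ | k
  · rw [Sb_one]; simp only [glw]; nlinarith
  · simpa using (Sb_glw_two hN).2
  · have h2 := Sb_glw_le hN k
    have h3 : (0 : ℝ) ≤ N * (N + 1) ^ (k + 1) * (N - 1) := by
      have : (0 : ℝ) ≤ N - 1 := by linarith
      positivity
    simp only [pow_succ] at *
    linarith

end SLnum

end CL.ClassNo
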