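/-
Class numbers of classical groups, part 3: counting through sequences of polynomials.  A multiset of primary
polynomials is encoded by its layers `lay e s`, the product of the `π` with `π ^ e` in `s`.
-/
import Cfsg.Agent.Known.ClassNo2
import Cfsg.Agent.Cls.PrimeOrderGL

set_option autoImplicit false

open Finset Polynomial

namespace CL.ClassNo

open CL.GLn

theorem card_le_sum_fib {C D : Type*} [Finite C] (p : C → Prop) (s : Finset D) (f : C → D) (hf : ∀ c, p c → f c ∈ s)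
    (w : D → ℝ) (h : ∀ d ∈ s, (Nat.card {c // p c ∧ f c = d} : ℝ) ≤ w d) :
    (Nat.card {c // p c} : ℝ) ≤ ∑ d ∈ s, w d := by
  classical
  have := Fintype.ofFinite C
  rw [Nat.card_eq_fintype_card, Fintype.card_subtype,
    card_eq_sum_card_fiberwise (f := f) (t := s) fun c hc => hf c (by simpa using hc)]
  push_cast
  refine sum_le_sum fun d hd => le_of_eq_of_le ?_ (h d hd)
  rw [Nat.card_eq_fintype_card, Fintype.card_subtype, filter_filter]

theorem card_le_of_imp {C : Type*} [Finite C] {p p' : C → Prop} (h : ∀ c, p c → p' c) :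
    Nat.card {c // p c} ≤ Nat.card {c // p' c} :=
  Nat.card_le_card_of_injective (Subtype.map id h) (Subtype.map_injective h Function.injective_id)

theorem card_fib_le {C D : Type*} [Finite C] {p : C → Prop} {f : C → D} {b : ℝ} (hb : 0 ≤ b)
    (h : ∀ c, p c → (Nat.card {c' // f c' = f c} : ℝ) ≤ b) (hp : ∀ c c', p c → p c' → f c' = f c) :
    (Nat.card {c // p c} : ℝ) ≤ b := by
  by_cases h1 : ∃ c, p c
  · obtain ⟨c, hc⟩ := h1
    exact le_trans (by exact_mod_cast card_le_of_imp fun c' hc' => hp c c' hc hc') (h c hc)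
  · have : IsEmpty {c // p c} := ⟨fun c => h1 ⟨c.1, c.2⟩⟩
    simpa using hb

theorem weighted_count {α C : Type*} [Finite C] {n k : ℕ} (dg : α → ℕ) (T : ℕ → ℕ → Finset α) (ω : ℕ → α → ℝ)
    (β : ℕ → ℕ → ℝ) (hω : ∀ e f, 0 ≤ ω e f) (hβ : ∀ e m, ∑ f ∈ T e m, ω e f ≤ β e m) (Φ : C → Fin k → α)
    (hT : ∀ c (e : Fin k), Φ c e ∈ T e (dg (Φ c e))) (hdeg : ∀ c, ∑ e : Fin k, (e + 1) * dg (Φ c e) = n)
    (hfib : ∀ c, (Nat.card {c' // Φ c' = Φ c} : ℝ) ≤ ∏ e : Fin k, ω e (Φ c e)) :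
    (Nat.card C : ℝ) ≤ PowerSeries.coeff n (∏ e ∈ range k, ser (e + 1) (β e)) := by
  classical
  rw [coeff_prod_ser, ← Nat.card_congr (Equiv.subtypeUnivEquiv (p := fun _ : C => True) fun _ => trivial)]
  refine card_le_sum_fib _ _ (fun c e => dg (Φ c e)) (fun c _ => mem_typ.2 (hdeg c)) _ fun m _ => ?_
  refine le_trans ?_ (prod_le_prod (fun e _ => sum_nonneg fun f _ => hω e f) fun e _ => hβ e (m e))
  rw [prod_univ_sum]
  refine card_le_sum_fib _ _ Φ (fun c hc => Fintype.mem_piFinset.2 fun e => ?_) _ fun u _ => ?_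
  · rw [← hc.2]; exact hT c e
  · exact card_fib_le (f := Φ) (prod_nonneg fun e _ => hω _ _) (fun c hc => hc.2 ▸ hfib c)
      fun c c' hc hc' => hc'.2.trans hc.2.symm

theorem twisted_count {α A C : Type*} [CommGroup A] [Finite A] [IsCyclic A] [Finite C] {n : ℕ} (hn : n ≠ 0)
    (dg : α → ℕ) (T : ℕ → A → Finset α) (β : ℕ → ℝ) (h0 : β 0 = 1)
    (hβ : ∀ m ≠ 0, ∀ a, (Nat.card A : ℝ) * (T m a).card ≤ β m) (Φ : C → Fin n → α) (κ : C → Fin n → A)
    (hT : ∀ c e, dg (Φ c e) ≠ 0 → Φ c e ∈ T (dg (Φ c e)) (κ c e))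
    (hdeg : ∀ c, ∑ e : Fin n, (e + 1) * dg (Φ c e) = n)
    (hone : ∀ c c' e, dg (Φ c e) = 0 → dg (Φ c' e) = 0 → Φ c e = Φ c' e)
    (hκ : ∀ c e, dg (Φ c e) = 0 → κ c e = 1) (hdet : ∀ c, ∏ e : Fin n, κ c e ^ ((e : ℕ) + 1) = 1)
    (hfib : ∀ c, ∃ J : Subgroup A, (∀ e : Fin n, dg (Φ c e) ≠ 0 → ∀ a, a ^ ((e : ℕ) + 1) ∈ J) ∧
      Nat.card {c' // Φ c' = Φ c} ≤ J.index) :
    (Nat.card A : ℝ) * Nat.card C ≤ Sb β (Nat.card A) n := by
  classical
  have := Fintype.ofFinite A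
  have hN : (0 : ℝ) < Nat.card A := by exact_mod_cast Nat.card_pos
  have hβ0 : ∀ m, 0 ≤ β m := fun m => by
    by_cases h : m = 0
    · simp [h, h0]
    · exact le_trans (by positivity) (hβ m h 1)
  let φ : ∀ m : Fin n → ℕ, ({e // m e ≠ 0} → A) →* A := fun m =>
    { toFun := fun a => ∏ e, a e ^ ((e.1 : ℕ) + 1)
      map_one' := by simp
      map_mul' := fun a b => by simp [mul_pow, prod_mul_distrib] }
  have hφ : ∀ m (e : Fin n), m e ≠ 0 → ∀ a : A, a ^ ((e : ℕ) + 1) ∈ (φ m).range := fun m e he a =>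
    ⟨Pi.mulSingle ⟨e, he⟩ a, by
      change ∏ _e : {e // m e ≠ 0}, _ = _
      rw [prod_eq_single (⟨e, he⟩ : {e // m e ≠ 0}) (fun b _ hb => by rw [Pi.mulSingle_eq_of_ne hb, one_pow]) (by simp),
        Pi.mulSingle_eq_same]⟩
  refine le_trans ?_ (sum_typ_sq_le hβ0 h0 hn (fun m => (φ m).range.index) fun m =>
    ⟨Subgroup.index_dvd_card _, fun e he => ?_⟩)
  swap
  · have : IsCyclic (A ⧸ (φ m).range) := isCyclic_of_surjective _ (QuotientGroup.mk'_surjective _)
    rw [Subgroup.index, ← IsCyclic.exponent_eq_card]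
    refine Monoid.exponent_dvd_of_forall_pow_eq_one fun x => ?_
    obtain ⟨a, rfl⟩ := QuotientGroup.mk_surjective x
    rw [← QuotientGroup.mk_pow, QuotientGroup.eq_one_iff]
    exact hφ m e he a
  rw [← le_div_iff₀' hN, sum_div,
    ← Nat.card_congr (Equiv.subtypeUnivEquiv (p := fun _ : C => True) fun _ => trivial)]
  refine card_le_sum_fib _ _ (fun c e => dg (Φ c e)) (fun c _ => mem_typ.2 (hdeg c)) _ fun m _ => ?_
  set g := (φ m).range.index
  have h1 : (Nat.card {c // True ∧ (fun e => dg (Φ c e)) = m} : ℝ) ≤ ∑ _a ∈ univ.filter (· ∈ (φ m).ker),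
      (∏ e : {e // m e ≠ 0}, β (m e) / Nat.card A) * g := by
    refine card_le_sum_fib _ _ (fun c e => κ c e.1) (fun c hc => ?_) _ fun a _ => ?_
    · rw [mem_filter, MonoidHom.mem_ker]
      refine ⟨mem_univ _, ?_⟩
      rw [← hdet c, ← Fintype.prod_subtype_mul_prod_subtype fun e => m e ≠ 0]
      refine (mul_eq_left.2 (prod_eq_one fun e _ => ?_)).symm
      rw [hκ c e (by simpa [← hc.2] using e.2), one_pow]
    · have h2 : (Nat.card {c // (True ∧ (fun e => dg (Φ c e)) = m) ∧ (fun e : {e // m e ≠ 0} => κ c e.1) = a} : ℝ) ≤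
          ∑ _u ∈ Fintype.piFinset fun e : {e // m e ≠ 0} => T (m e) (a e), (g : ℝ) := by
        refine card_le_sum_fib _ _ (fun c e => Φ c e.1) (fun c hc => Fintype.mem_piFinset.2 fun e => ?_) _
          fun u _ => card_fib_le (f := Φ) (by positivity) (fun c hc => ?_) fun c c' hc hc' => funext fun e => ?_
        · have h3 : dg (Φ c e.1) = m e := congrFun hc.1.2 e
          rw [← hc.2, ← h3]; exact hT c e (h3 ▸ e.2)
        · obtain ⟨J, hJ, h3⟩ := hfib c
          refine Nat.cast_le.2 (h3.trans (Subgroup.index_antitone ?_))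
          rintro _ ⟨b, rfl⟩
          change ∏ e : {e // m e ≠ 0}, b e ^ ((e.1 : ℕ) + 1) ∈ J
          exact J.prod_mem fun e _ => hJ e.1 (fun h => e.2 ((congrFun hc.1.1.2 e.1).symm.trans h)) _
        · by_cases he : m e = 0
          · exact hone _ _ _ ((congrFun hc'.1.1.2 e).trans he) ((congrFun hc.1.1.2 e).trans he)
          · exact congrFun (hc'.2.trans hc.2.symm) ⟨e, he⟩
      refine h2.trans ?_
      rw [sum_const, nsmul_eq_mul, Fintype.card_piFinset]
      push_cast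
      refine mul_le_mul_of_nonneg_right (prod_le_prod (fun _ _ => by positivity) fun e _ => ?_) (by positivity)
      rw [le_div_iff₀' hN]; exact hβ _ e.2 _
  refine h1.trans_eq ?_
  have h2 : Nat.card (φ m).ker * Nat.card (φ m).range = Nat.card A ^ Fintype.card {e // m e ≠ 0} := by
    rw [← Subgroup.index_ker, Subgroup.card_mul_index, Nat.card_pi, prod_const, card_univ]
  have h3 : Nat.card (φ m).range * g = Nat.card A := Subgroup.card_mul_index _
  have h4 : ∏ e, β (m e) = ∏ e : {e // m e ≠ 0}, β (m e) := by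
    rw [← Fintype.prod_subtype_mul_prod_subtype fun e => m e ≠ 0]
    refine mul_right_eq_self₀.2 (Or.inl (prod_eq_one fun e _ => ?_))
    rw [not_not.1 e.2, h0]
  rw [sum_const, nsmul_eq_mul, ← Fintype.card_subtype, ← Nat.card_eq_fintype_card, prod_div_distrib, prod_const,
    card_univ, h4, ← Nat.cast_pow, ← h2]
  have h5 : (0 : ℝ) < Nat.card (φ m).ker := by exact_mod_cast Nat.card_pos
  have h6 : (0 : ℝ) < Nat.card (φ m).range := by exact_mod_cast Nat.card_pos
  have h7 : (g : ℝ) ≠ 0 := by exact_mod_cast Subgroup.index_ne_zero_of_finite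
  rw [← h3]
  push_cast
  field_simp

variable {F : Type*} [Field F]

open Classical in
/-- The monic irreducible `π` with `π ^ e` in `s`, with multiplicity. -/
noncomputable def bs (e : ℕ) (s : Multiset F[X]) : Multiset F[X] :=
  s.filterMap fun P => if h : ∃ π : F[X], π.Monic ∧ Irreducible π ∧ P = π ^ e then some h.choose else none

/-- The `e`-th layer. -/
noncomputable def lay (e : ℕ) (s : Multiset F[X]) : F[X] := (bs e s).prod

theorem bs_zero (e : ℕ) : bs e (0 : Multiset F[X]) = 0 := rfl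

theorem bs_add (e : ℕ) (s t : Multiset F[X]) : bs e (s + t) = bs e s + bs e t := Multiset.filterMap_add _ _ _

theorem bs_cons {p : F[X]} (hp : p.Monic) (hi : Irreducible p) {a : ℕ} (ha : 1 ≤ a) (e : ℕ) (s : Multiset F[X]) :
    bs e (p ^ a ::ₘ s) = if a = e then p ::ₘ bs e s else bs e s := by
  split_ifs with h
  · subst h
    have h : ∃ π : F[X], π.Monic ∧ Irreducible π ∧ p ^ a = π ^ a := ⟨p, hp, hi, rfl⟩
    refine Multiset.filterMap_cons_some _ _ _ ?_
    rw [dif_pos h, ← (pow_inj_of_monic_irreducible hp hi h.choose_spec.1 h.choose_spec.2.1 ha h.choose_spec.2.2).1]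
  · refine Multiset.filterMap_cons_none _ _ (dif_neg ?_)
    rintro ⟨π, h1, h2, h3⟩
    exact h (pow_inj_of_monic_irreducible hp hi h1 h2 ha h3).2

theorem of_mem_bs {e : ℕ} {s : Multiset F[X]} {π : F[X]} (h : π ∈ bs e s) : π.Monic ∧ Irreducible π ∧ π ^ e ∈ s := by
  obtain ⟨P, hP, h⟩ := (Multiset.mem_filterMap _ _).1 h
  split_ifs at h with h1
  obtain rfl := Option.some.inj h
  exact ⟨h1.choose_spec.1, h1.choose_spec.2.1, h1.choose_spec.2.2 ▸ hP⟩

open Classical in
theorem count_bs {s : Multiset F[X]} (hs : ∀ P ∈ s, IsPrimaryPoly P) {π : F[X]} (hπ : π.Monic) (hi : Irreducible π)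
    (e : ℕ) : (bs e s).count π = s.count (π ^ e) := by
  induction s using Multiset.induction_on with
  | empty => simp [bs_zero]
  | cons P s ih =>
    obtain ⟨p, a, h1, h2, h3, rfl⟩ := hs P (Multiset.mem_cons_self _ _)
    have ih := ih fun Q hQ => hs Q (Multiset.mem_cons_of_mem hQ)
    rw [bs_cons h1 h2 h3, Multiset.count_cons, ← ih]
    by_cases h : π ^ e = p ^ a
    · obtain ⟨rfl, rfl⟩ := pow_inj_of_monic_irreducible h1 h2 hπ hi h3 h.symm
      simp
    · rw [if_neg h]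
      split_ifs with h4
      · rw [Multiset.count_cons_of_ne, add_zero]
        rintro rfl
        exact h (h4 ▸ rfl)
      · rfl

theorem eq_sum_bs {n : ℕ} {s : Multiset F[X]} (hs : ∀ P ∈ s, IsPrimaryPoly P ∧ P.natDegree ≤ n) :
    s = ∑ e : Fin n, (bs (e + 1) s).map (· ^ ((e : ℕ) + 1)) := by
  induction s using Multiset.induction_on with
  | empty => simp [bs_zero]
  | cons P s ih =>
    obtain ⟨⟨p, a, h1, h2, h3, rfl⟩, h4⟩ := hs P (Multiset.mem_cons_self _ _)
    have h5 : a ≤ n := by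
      rw [h1.natDegree_pow] at h4
      exact (Nat.le_mul_of_pos_right _ h2.natDegree_pos).trans h4
    have h6 : ∀ e : Fin n, (bs (e + 1) (p ^ a ::ₘ s)).map (· ^ ((e : ℕ) + 1)) =
        (if e = ⟨a - 1, by omega⟩ then {p ^ a} else 0) + (bs (e + 1) s).map (· ^ ((e : ℕ) + 1)) := fun e => by
      rw [bs_cons h1 h2 h3]
      by_cases h : a = e + 1
      · rw [if_pos h, if_pos (Fin.ext (by simp [h])), Multiset.map_cons, h, Multiset.singleton_add]
      · rw [if_neg h, if_neg fun h' => h (by simp only [h']; omega), zero_add]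
    simp only [h6]
    rw [sum_add_distrib, ← ih fun Q hQ => hs Q (Multiset.mem_cons_of_mem hQ)]
    simp

theorem monic_lay (e : ℕ) (s : Multiset F[X]) : (lay e s).Monic := by
  simpa [lay] using monic_multiset_prod_of_monic (bs e s) id fun π h => (of_mem_bs h).1

theorem lay_add (e : ℕ) (s t : Multiset F[X]) : lay e (s + t) = lay e s * lay e t := by
  rw [lay, bs_add, Multiset.prod_add, lay, lay]

theorem exists_mem_of_lay {e : ℕ} {s : Multiset F[X]} (h : (lay e s).natDegree ≠ 0) :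
    ∃ π : F[X], π.Monic ∧ Irreducible π ∧ π ^ e ∈ s := by
  obtain ⟨π, hπ⟩ := Multiset.exists_mem_of_ne_zero (s := bs e s) fun h0 => h (by simp [lay, h0])
  exact ⟨π, of_mem_bs hπ⟩

theorem dvd_lay_iff {e : ℕ} {s : Multiset F[X]} {π : F[X]} (hπ : π.Monic) (hi : Irreducible π) :
    π ∣ lay e s ↔ π ∈ bs e s := by
  refine ⟨fun h => ?_, Multiset.dvd_prod⟩
  obtain ⟨p, hp, h⟩ := hi.prime.exists_mem_multiset_dvd h
  rwa [eq_of_monic_of_associated hπ (of_mem_bs hp).1 (hi.associated_of_dvd (of_mem_bs hp).2.1 h)]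

theorem coeff_zero_lay_ne {e : ℕ} (he : e ≠ 0) {s : Multiset F[X]} (hs : ∀ P ∈ s, ¬ X ∣ P) : (lay e s).coeff 0 ≠ 0 :=
  fun h => hs _ (of_mem_bs ((dvd_lay_iff monic_X irreducible_X).1 (X_dvd_iff.2 h))).2.2 (dvd_pow_self _ he)

theorem prod_lay {n : ℕ} {s : Multiset F[X]} (hs : ∀ P ∈ s, IsPrimaryPoly P ∧ P.natDegree ≤ n) :
    ∏ e : Fin n, lay (e + 1) s ^ ((e : ℕ) + 1) = s.prod := by
  conv_rhs => rw [eq_sum_bs hs, Multiset.prod_sum]
  simp [lay, Multiset.prod_map_pow]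

theorem eq_of_lay_eq {n : ℕ} {s t : Multiset F[X]} (hs : ∀ P ∈ s, IsPrimaryPoly P ∧ P.natDegree ≤ n)
    (ht : ∀ P ∈ t, IsPrimaryPoly P ∧ P.natDegree ≤ n) (h : ∀ e : Fin n, lay (e + 1) s = lay (e + 1) t) : s = t := by
  rw [eq_sum_bs hs, eq_sum_bs ht]
  refine sum_congr rfl fun e _ => congrArg _ (multiset_eq_of_prod_eq (fun π h => ?_) (fun π h => ?_) (h e)) <;>
  exact ⟨(of_mem_bs h).1, (of_mem_bs h).2.1⟩

theorem sum_natDegree_lay {n : ℕ} {s : Multiset F[X]} (hs : ∀ P ∈ s, IsPrimaryPoly P ∧ P.natDegree ≤ n) :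
    ∑ e : Fin n, (e + 1) * (lay (e + 1) s).natDegree = (s.map natDegree).sum := by
  rw [← natDegree_multiset_prod_of_monic _ fun P hP => (hs P hP).1.monic, ← prod_lay hs,
    natDegree_prod_of_monic _ _ fun e _ => (monic_lay _ _).pow _]
  simp [(monic_lay _ _).natDegree_pow]

/-- The signed constant term. -/
noncomputable def sc (f : F[X]) : F := (-1) ^ f.natDegree * f.coeff 0

theorem prod_sc_lay {n : ℕ} {s : Multiset F[X]} (hs : ∀ P ∈ s, IsPrimaryPoly P ∧ P.natDegree ≤ n) :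
    ∏ e : Fin n, sc (lay (e + 1) s) ^ ((e : ℕ) + 1) = (-1) ^ (s.map natDegree).sum * s.prod.coeff 0 := by
  rw [← sum_natDegree_lay hs, ← prod_lay hs, coeff_zero_prod, ← prod_pow_eq_pow_sum, ← prod_mul_distrib]
  refine prod_congr rfl fun e _ => ?_
  rw [sc, mul_pow, ← pow_mul, mul_comm _ (_ + 1), coeff_zero_eq_eval_zero, coeff_zero_eq_eval_zero, eval_pow]

open Classical in
/-- Layers are invariant under a symmetry of the kernel dimensions. -/
theorem map_bs_eq {V : Type*} [AddCommGroup V] [Module F V] {f : Module.End F V} {s : Multiset F[X]} (h : HasED f s)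
    (hX : ∀ P ∈ s, ¬ X ∣ P) (ρ : F[X] → F[X])
    (h1 : ∀ π : F[X], π.Monic → Irreducible π → π.coeff 0 ≠ 0 →
      (ρ π).Monic ∧ Irreducible (ρ π) ∧ (ρ π).natDegree = π.natDegree ∧ ∀ k, kd f (ρ π ^ k) = kd f (π ^ k))
    (h2 : ∀ π π' : F[X], π.Monic → π'.Monic → π.coeff 0 ≠ 0 → π'.coeff 0 ≠ 0 → ρ π = ρ π' → π = π') (e : ℕ) :
    (bs (e + 1) s).map ρ = bs (e + 1) s := by
  have h0 : ∀ π ∈ bs (e + 1) s, π.coeff 0 ≠ 0 := fun π hπ h =>
    hX _ (of_mem_bs hπ).2.2 (dvd_pow (X_dvd_iff.2 h) e.succ_ne_zero)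
  refine Multiset.eq_of_le_of_card_le (Multiset.le_iff_count.2 fun y => ?_) (by simp)
  by_cases hy : y ∈ (bs (e + 1) s).map ρ
  · obtain ⟨π, hπ, rfl⟩ := Multiset.mem_map.1 hy
    obtain ⟨a1, a2, -⟩ := of_mem_bs hπ
    obtain ⟨b1, b2, b3, b4⟩ := h1 π a1 a2 (h0 π hπ)
    rw [Multiset.count_map_eq_count _ _ (fun x hx y hy => h2 x y (of_mem_bs hx).1 (of_mem_bs hy).1 (h0 x hx) (h0 y hy))
      _ hπ, count_bs h.primary a1 a2, count_bs h.primary b1 b2]
    have c1 := h.count_eq a1 a2 e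
    have c2 := h.count_eq b1 b2 e
    rw [b3, b4, b4, b4, ← c1] at c2
    exact (Nat.eq_of_mul_eq_mul_right a2.natDegree_pos (Nat.add_left_cancel c2)).ge
  · simp [Multiset.count_eq_zero_of_notMem hy]

section Matrix

variable {ι : Type*} [Fintype ι] [DecidableEq ι]

theorem elemDiv_good (A : Matrix ι ι F) : ∀ P ∈ elemDiv A, IsPrimaryPoly P ∧ P.natDegree ≤ Fintype.card ι :=
  fun P hP => ⟨elemDiv_primary A P hP, natDegree_le_of_mem_elemDiv hP⟩

theorem prod_sc_elemDiv (A : Matrix ι ι F) :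
    ∏ e : Fin (Fintype.card ι), sc (lay (e + 1) (elemDiv A)) ^ ((e : ℕ) + 1) = A.det := by
  rw [prod_sc_lay (elemDiv_good A), sum_natDegree_elemDiv, prod_elemDiv, Matrix.det_eq_sign_charpoly_coeff]

theorem det_aeval_X_add_C (M : Matrix ι ι F) (a : F) :
    (aeval M (X + C a)).det = (-1) ^ Fintype.card ι * M.charpoly.eval (-a) := by
  rw [Matrix.eval_charpoly, ← Matrix.det_neg]
  congr 1
  ext i j
  by_cases h : i = j <;> simp [Algebra.algebraMap_eq_smul_one, h, add_comm]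

theorem map_det_aeval {K : Type*} [Field K] (φ : F →+* K) (M : Matrix ι ι F) (Q : F[X]) :
    φ (aeval M Q).det = (aeval (M.map φ) (Q.map φ)).det := by
  rw [RingHom.map_det]
  exact congrArg _ (map_aeval_eq_aeval_map (φ := φ) (ψ := φ.mapMatrix)
    (by ext a i j; by_cases h : i = j <;> simp [Matrix.algebraMap_matrix_apply, h]) Q M)

theorem det_aeval_eq_pow {κ : Type*} [Fintype κ] [DecidableEq κ] (A : Matrix ι ι F) (B : Matrix κ κ F) {e : ℕ}
    (h : A.charpoly = B.charpoly ^ e) (Q : F[X]) : (aeval A Q).det = (aeval B Q).det ^ e := by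
  have key : ∀ (A : Matrix ι ι (AlgebraicClosure F)) (B : Matrix κ κ (AlgebraicClosure F)),
      A.charpoly = B.charpoly ^ e → ∀ Q : (AlgebraicClosure F)[X], (aeval A Q).det = (aeval B Q).det ^ e := by
    intro A B h Q
    have hd : Fintype.card ι = Fintype.card κ * e := by
      simpa [B.charpoly_monic.natDegree_pow, mul_comm] using congrArg natDegree h
    refine Submonoid.closure_induction (fun x hx => ?_) (by simp) (fun x y _ _ hx hy => ?_) (IsAlgClosed.splits Q)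
    · obtain ⟨a, rfl⟩ | ⟨a, rfl⟩ := hx
      · simp [Algebra.algebraMap_eq_smul_one, hd, pow_mul]
      · rw [det_aeval_X_add_C, det_aeval_X_add_C, h, hd, mul_pow, eval_pow, pow_mul]
    · rw [map_mul, map_mul, Matrix.det_mul, Matrix.det_mul, hx, hy, mul_pow]
  apply (algebraMap F (AlgebraicClosure F)).injective
  rw [map_pow, map_det_aeval, map_det_aeval]
  exact key _ _ (by rw [Matrix.charpoly_map, Matrix.charpoly_map, h, Polynomial.map_pow]) _

theorem norm_mk_pow {π : F[X]} (hπ : π.Monic) (e : ℕ) (Q : F[X]) :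
    Algebra.norm F (AdjoinRoot.mk (π ^ e) Q) = Algebra.norm F (AdjoinRoot.mk π Q) ^ e := by
  have h : ∀ {P : F[X]} (hP : P.Monic), Algebra.norm F (AdjoinRoot.mk P Q) =
      (aeval (Algebra.leftMulMatrix (AdjoinRoot.powerBasis hP.ne_zero).basis (AdjoinRoot.root P)) Q).det ∧
      (Algebra.leftMulMatrix (AdjoinRoot.powerBasis hP.ne_zero).basis (AdjoinRoot.root P)).charpoly = P := fun hP => by
    refine ⟨by rw [aeval_algHom_apply, AdjoinRoot.aeval_eq, ← Algebra.norm_eq_matrix_det], ?_⟩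
    have h := charpoly_leftMulMatrix (AdjoinRoot.powerBasis hP.ne_zero)
    rwa [AdjoinRoot.minpoly_powerBasis_gen_of_monic hP, AdjoinRoot.powerBasis_gen] at h
  rw [(h hπ).1, (h (hπ.pow e)).1]
  exact det_aeval_eq_pow _ _ (by rw [(h hπ).2, (h (hπ.pow e)).2]) _

theorem exists_commute_det_lay [Finite F] (A : Matrix ι ι F) {π : F[X]} (hπ : π.Monic) (hi : Irreducible π) {e : ℕ}
    (h : π ^ e ∈ elemDiv A) (c : F) : ∃ B : Matrix ι ι F, B * A = A * B ∧ B.det = c ^ e := by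
  have := finite_adjoinRoot hi.ne_zero
  have : Fact (Irreducible π) := ⟨hi⟩
  have : Finite (AdjoinRoot π) := Module.finite_of_finite F
  obtain ⟨u, hu⟩ := FiniteField.norm_surjective F (AdjoinRoot π) c
  obtain ⟨Q, rfl⟩ := AdjoinRoot.mk_surjective u
  obtain ⟨B, h1, h2⟩ := exists_commute_det A h (AdjoinRoot.mk _ Q)
  exact ⟨B, h1, by rw [h2, norm_mk_pow hπ, hu]⟩

end Matrix

end CL.ClassNo
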