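/-
Class numbers of classical groups, part 4: general, special and projective special linear groups.
-/
import Cfsg.Agent.Known.ClassNo3
import Cfsg.Agent.Known.GLCyc
import Cfsg.Agent.Known.ProjClass
import Cfsg.Agent.Cls.SLnCard

set_option autoImplicit false

open Finset Polynomial

namespace CL.ClassNo

open CL.GLn

variable {F : Type*} [Field F]

/-- Monic polynomials of degree `m` with property `S`. -/
noncomputable def mon [Finite F] (m : ℕ) (S : F[X] → Prop) : Finset F[X] :=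
  Set.Finite.toFinset (s := {f | f.Monic ∧ f.natDegree = m ∧ S f})
    (Set.Finite.subset (s := {f | f.Monic ∧ f.natDegree = m}) (Finite.of_equiv _ (monicEquiv m).symm)
      fun _ h => ⟨h.1, h.2.1⟩)

theorem mem_mon [Finite F] {m : ℕ} {S : F[X] → Prop} {f : F[X]} : f ∈ mon m S ↔ f.Monic ∧ f.natDegree = m ∧ S f :=
  Set.Finite.mem_toFinset _

theorem card_mon [Finite F] (m : ℕ) (S : F[X] → Prop) :
    (mon m S).card = Nat.card {f : F[X] // f.Monic ∧ f.natDegree = m ∧ S f} := by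
  rw [← Nat.card_eq_finsetCard]
  exact Nat.card_congr (Equiv.subtypeEquivRight fun f => mem_mon)

theorem mk_out {G : Type*} [Monoid G] (c : ConjClasses G) : ConjClasses.mk (Quotient.out c) = c := Quotient.out_eq c

theorem elemDiv_good' {n : ℕ} (A : Matrix (Fin n) (Fin n) F) : ∀ P ∈ elemDiv A, IsPrimaryPoly P ∧ P.natDegree ≤ n := by
  simpa using elemDiv_good A

theorem special_count [Finite F] {G : Type*} [Monoid G] [Finite G] {n : ℕ} (hn : n ≠ 0)
    (ρ : G → Matrix (Fin n) (Fin n) F) (A : Subgroup Fˣ) (p : ConjClasses G → Prop) (S : F[X] → Prop) (β : ℕ → ℝ)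
    (h0 : β 0 = 1) (hβ : ∀ m ≠ 0, ∀ a : A,
      (Nat.card A : ℝ) * Nat.card {f : F[X] // f.Monic ∧ f.natDegree = m ∧ sc f = a.1 ∧ S f} ≤ β m)
    (hdet : ∀ g, (ρ g).det = 1)
    (hS : ∀ g, p (ConjClasses.mk g) → ∀ e, S (lay (e + 1) (elemDiv (ρ g))) ∧
      ∃ a : A, sc (lay (e + 1) (elemDiv (ρ g))) = a.1)
    (hfib : ∀ g, ∃ J : Subgroup A, (∀ (π : F[X]) (e : ℕ), π.Monic → Irreducible π → π ^ e ∈ elemDiv (ρ g) →
      ∀ a, a ^ e ∈ J) ∧ Nat.card {C : ConjClasses G // ∃ v, ConjClasses.mk v = C ∧ IsConj (ρ g) (ρ v)} ≤ J.index) :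
    (Nat.card A : ℝ) * Nat.card {c // p c} ≤ Sb β (Nat.card A) n := by
  have hS' := fun c : {c // p c} => hS (Quotient.out c.1) ((mk_out c.1).symm ▸ c.2)
  choose κ hκ using fun c e => (hS' c e).2
  refine twisted_count hn natDegree (fun m a => mon m fun f => sc f = a.1 ∧ S f) β h0
    (fun m hm a => card_mon (F := F) _ _ ▸ hβ m hm a) (fun c e => lay (e + 1) (elemDiv (ρ (Quotient.out c.1))))
    (fun c e => κ c e) (fun c e _ => mem_mon.2 ⟨monic_lay _ _, rfl, hκ c e, (hS' c e).1⟩) (fun c => ?_)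
    (fun c c' e h h' => ?_) (fun c e h => ?_) (fun c => ?_) fun c => ?_
  · rw [sum_natDegree_lay (elemDiv_good' _), sum_natDegree_elemDiv, Fintype.card_fin]
  · rw [(monic_lay _ _).natDegree_eq_zero.1 h, (monic_lay _ _).natDegree_eq_zero.1 h']
  · refine Subtype.ext (Units.ext ?_)
    rw [← hκ, (monic_lay _ _).natDegree_eq_zero.1 h]
    simp [sc]
  · refine Subtype.ext (Units.ext ?_)
    have h := prod_sc_lay (elemDiv_good' (ρ (Quotient.out c.1)))
    rw [sum_natDegree_elemDiv, prod_elemDiv, ← Matrix.det_eq_sign_charpoly_coeff, hdet] at h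
    simpa [hκ] using h
  · obtain ⟨J, hJ, h⟩ := hfib (Quotient.out c.1)
    refine ⟨J, fun e he => ?_, le_trans ?_ h⟩
    · obtain ⟨π, h1, h2, h3⟩ := exists_mem_of_lay he
      exact hJ π _ h1 h2 h3
    · refine Nat.card_le_card_of_injective (fun c' => ⟨c'.1.1, _, mk_out _, isConj_iff_elemDiv.2
        (eq_of_lay_eq (elemDiv_good' _) (elemDiv_good' _) fun e => (congrFun c'.2 e).symm)⟩) fun a b h => ?_
      exact Subtype.ext (Subtype.ext (Subtype.mk.inj h))

theorem card_classes_GL_le [Fintype F] (n : ℕ) : Nat.card (ConjClasses (GL (Fin n) F)) ≤ Fintype.card F ^ n := by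
  have hq : (2 : ℝ) ≤ Fintype.card F := by exact_mod_cast Fintype.one_lt_card
  have h := weighted_count (C := ConjClasses (GL (Fin n) F)) (n := n) (k := n) natDegree
    (fun _ m => mon m fun f : F[X] => f.coeff 0 ≠ 0) (fun _ _ => 1) (fun _ => glw (Fintype.card F)) (by simp)
    (fun e m => ?_) (fun c e => lay (e + 1) (elemDiv (Quotient.out c).1))
    (fun c e => mem_mon.2 ⟨monic_lay _ _, rfl, coeff_zero_lay_ne (by simp) ((isUnit_iff_elemDiv _).1 (Units.isUnit _))⟩)
    (fun c => ?_) fun c => ?_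
  · exact_mod_cast h.trans (Kc_glw_le hq n)
  · rw [sum_const, nsmul_eq_mul, mul_one]
    rcases m with _ | m
    · rw [glw, Nat.cast_le_one, card_le_one]
      intro a ha b hb
      rw [mem_mon] at ha hb
      rw [ha.1.natDegree_eq_zero.1 ha.2.1, hb.1.natDegree_eq_zero.1 hb.2.1]
    · rw [card_mon, card_monic_coeff_zero m (· ≠ 0), natCard_ne_zero_field, Nat.card_eq_fintype_card, glw]
      push_cast [Fintype.card_pos.nat_succ_le]
      rfl
  · rw [sum_natDegree_lay (elemDiv_good' _), sum_natDegree_elemDiv, Fintype.card_fin]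
  · rw [prod_const_one, Nat.cast_le_one, Finite.card_le_one_iff_subsingleton]
    refine ⟨fun a b => Subtype.ext ?_⟩
    rw [← mk_out a.1, ← mk_out b.1, ConjClasses.mk_eq_mk_iff_isConj, isConj_GL_iff_elemDiv]
    exact eq_of_lay_eq (elemDiv_good' _) (elemDiv_good' _) fun e => congrFun (a.2.trans b.2.symm) e

theorem le_card_classes_GL [Fintype F] {n : ℕ} (hn : 1 ≤ n) :
    Fintype.card F ^ n - Fintype.card F ^ (n - 1) ≤ Nat.card (ConjClasses (GL (Fin n) F)) := by
  obtain ⟨p, hp⟩ := CharP.exists F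
  have : Fact p.Prime := ⟨CharP.char_is_prime F p⟩
  obtain ⟨m, rfl⟩ := Nat.exists_eq_add_of_le' hn
  have h := card_conjClasses_semisimple (n := Fin (m + 1)) (F := F) p (fun _ => True) (fun _ => True) (by simp)
  simp only [and_true, Fintype.card_fin] at h
  rw [card_monic_coeff_zero m (· ≠ 0), natCard_ne_zero_field, Nat.card_eq_fintype_card (α := F)] at h
  rw [Nat.add_sub_cancel, pow_succ', ← Nat.sub_one_mul, ← h]
  exact Nat.card_le_card_of_injective _ Subtype.val_injective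

theorem sl_count [Finite F] {n : ℕ} (hn : n ≠ 0) (p : ConjClasses (Matrix.SpecialLinearGroup (Fin n) F) → Prop)
    (S : F[X] → Prop) (β : ℕ → ℝ) (h0 : β 0 = 1) (hβ : ∀ m ≠ 0, ∀ a : F,
      (Nat.card F - 1 : ℝ) * Nat.card {f : F[X] // f.Monic ∧ f.natDegree = m ∧ sc f = a ∧ S f} ≤ β m)
    (hS : ∀ g, p (ConjClasses.mk g) → ∀ e, S (lay (e + 1) (elemDiv g.1))) :
    (Nat.card F - 1 : ℝ) * Nat.card {c // p c} ≤ Sb β (Nat.card F - 1) n := by
  have h1 : Nat.card (⊤ : Subgroup Fˣ) = Nat.card F - 1 := by rw [Subgroup.card_top, Nat.card_units]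
  have h2 : ((Nat.card F - 1 : ℕ) : ℝ) = Nat.card F - 1 := by push_cast [Nat.card_pos.nat_succ_le]; rfl
  have : NeZero n := ⟨hn⟩
  rw [← h2, ← h1]
  refine special_count hn (fun g : Matrix.SpecialLinearGroup (Fin n) F => g.1) ⊤ p S β h0 (fun m hm a => by rw [h1, h2]; exact hβ m hm _) (fun g => g.2)
    (fun g hg e => And.intro (by simpa only using hS g hg e) ?_) fun g => ⟨((Subgroup.centralizer
      {Matrix.SpecialLinearGroup.toGL g}).map Matrix.GeneralLinearGroup.det).subgroupOf ⊤, fun π e h1 h2 h3 a => ?_, ?_⟩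
  · have h : sc (lay (e + 1) (elemDiv g.1)) ≠ 0 := mul_ne_zero (by simp) (coeff_zero_lay_ne (by simp)
      ((isUnit_iff_elemDiv _).1 (by simp [Matrix.isUnit_iff_isUnit_det])))
    obtain ⟨u, hu⟩ := h.isUnit
    exact ⟨⟨u, trivial⟩, hu.symm⟩
  · obtain ⟨B, h4, h5⟩ := exists_commute_det_lay _ h1 h2 h3 (a.1 : F)
    refine Subgroup.mem_subgroupOf.2 ⟨Matrix.GeneralLinearGroup.mkOfDetNeZero B (by simp [h5]),
      Subgroup.mem_centralizer_singleton_iff.2 (Units.ext h4), Units.ext ?_⟩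
    simpa using h5
  · rw [card_SL_classes_in_GL_class, ← Subgroup.relIndex, Subgroup.relIndex_top_right]

theorem card_monic_sc [Finite F] (m : ℕ) (a : F) :
    Nat.card {f : F[X] // f.Monic ∧ f.natDegree = m + 1 ∧ sc f = a} = Nat.card F ^ m := by
  have h := card_monic_coeff_zero m (fun b : F => b = (-1) ^ (m + 1) * a)
  rw [Nat.card_unique (α := {a : F // _}), one_mul] at h
  rw [← h]
  refine Nat.card_congr (Equiv.subtypeEquivRight fun f => and_congr_right fun _ => and_congr_right fun h => ?_)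
  rw [sc, h]
  exact ⟨by rintro rfl; simp [← mul_assoc, ← mul_pow], fun h => by simp [h, ← mul_assoc, ← mul_pow]⟩

theorem card_classes_SL_le [Finite F] {n : ℕ} (hn : n ≠ 0) :
    (Nat.card F - 1 : ℝ) * Nat.card (ConjClasses (Matrix.SpecialLinearGroup (Fin n) F)) ≤
      Sb (glw (Nat.card F)) (Nat.card F - 1) n := by
  rw [← Nat.card_congr (Equiv.subtypeUnivEquiv
    (p := fun _ : ConjClasses (Matrix.SpecialLinearGroup (Fin n) F) => True) fun _ => trivial)]
  refine sl_count hn _ (fun _ => True) _ rfl (fun m hm a => ?_) fun _ _ _ => trivial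
  obtain ⟨m, rfl⟩ := Nat.exists_eq_succ_of_ne_zero hm
  simp only [and_true]
  rw [card_monic_sc, glw]
  push_cast
  rfl

theorem lt_card_classes_SL [Finite F] (m : ℕ) :
    Nat.card F ^ (m + 1) < Nat.card (ConjClasses (Matrix.SpecialLinearGroup (Fin (m + 2)) F)) := by
  obtain ⟨p, hp⟩ := CharP.exists F
  have : Fact p.Prime := ⟨CharP.char_is_prime F p⟩
  have h := card_conjClasses_semisimple_SL (n := Fin (m + 2)) (F := F) p (fun _ => True) (fun _ => True) (by simp)
  simp only [and_true, Fintype.card_fin] at h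
  rw [card_monic_coeff_zero (m + 1) (· = (-1) ^ (m + 2)), Nat.card_unique (α := {a : F // _}), one_mul] at h
  rw [← h]
  have hP : IsPrimaryPoly ((X - C 1 : F[X]) ^ (m + 2)) := ⟨_, _, monic_X_sub_C _, irreducible_X_sub_C _, by simp, rfl⟩
  obtain ⟨A, hA⟩ := exists_elemDiv_eq (n := Fin (m + 2)) {(X - C 1 : F[X]) ^ (m + 2)} (by simpa using hP)
    (by simp [(monic_X_sub_C (1 : F)).natDegree_pow, -map_one])
  have hd : A.det = 1 := by
    rw [Matrix.det_eq_sign_charpoly_coeff, ← prod_elemDiv, hA]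
    simp [coeff_zero_eq_eval_zero, ← mul_pow]
  refine Finite.card_subtype_lt (x := ConjClasses.mk ⟨A, hd⟩) ?_
  rintro ⟨g, h1, h2⟩
  rw [← orderOf_toGL, GL_orderOf_coprime_iff] at h2
  have h3 := isConj_GL_iff_elemDiv.1 (Matrix.SpecialLinearGroup.toGL.map_isConj (ConjClasses.mk_eq_mk_iff_isConj.1 h1))
  exact not_irreducible_pow (by omega) (h2 _ (h3 ▸ (hA ▸ Multiset.mem_singleton_self _ : _ ∈ elemDiv A)))

end CL.ClassNo
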