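/-
Class numbers of classical groups, part 6: elementary divisors of isometries; determinants on centralisers in
unitary groups.
-/
import Cfsg.Agent.Known.ClassNo4
import Cfsg.Agent.Known.SemiClass
import Cfsg.Agent.Known.UniClass3

set_option autoImplicit false

open Finset Polynomial Matrix

namespace CL.ClassNo

open CL.GLn CL.Known CL.Uni

variable {K : Type*} [Field K] {σ : K →+* K}

theorem aeval_reflect_mul_pow {R : Type*} [Ring R] [Algebra K R] {x y : R} (h : y * x = 1) (N : ℕ) (f : K[X])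
    (hf : f.natDegree ≤ N) (hc : Commute y x) : aeval y (reflect N f) * x ^ N = aeval x f := by
  refine induction_with_natDegree_le (fun f => aeval y (reflect N f) * x ^ N = aeval x f) _ (by simp) ?_ ?_ f hf
  · intro n r _ hnN
    simp only [revAt_le hnN, reflect_C_mul_X_pow, aeval_X_pow, aeval_C, map_mul]
    conv in x ^ N => rw [← Nat.sub_add_cancel hnN]
    rw [pow_add, ← mul_assoc, mul_assoc (algebraMap K R r), ← hc.mul_pow, h, one_pow, mul_one]
  · intros
    simp [*, add_mul]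

theorem commute_aeval {R : Type*} [Ring R] [Algebra K R] {x y : R} (h : Commute x y) (p : K[X]) :
    Commute (aeval x p) y := by
  rw [aeval_eq_sum_range]
  exact Commute.sum_left _ _ _ fun i _ => (h.pow_left i).smul_left _

section Matrix

variable {ι : Type*} [Fintype ι] [DecidableEq ι]

theorem rank_aeval_star (hσ : ∀ a, σ (σ a) = a) {A : Matrix ι ι K} (hA : IsUnit A) {P : K[X]} (h0 : P.coeff 0 ≠ 0) :
    (aeval ((A.map σ)ᵀ)⁻¹ P).rank = (aeval A (recip σ P)).rank := by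
  have hd := (isUnit_iff_isUnit_det A).1 hA
  have h1 := aeval_reflect_mul_pow (mul_nonsing_inv A hd) _ (P.map σ) le_rfl
    ((mul_nonsing_inv A hd).trans (nonsing_inv_mul A hd).symm)
  have h2 : (A.map σ)⁻¹.map σ = A⁻¹ := by
    refine (inv_eq_left_inv ?_).symm
    have h3 : (A.map σ).map σ = A := by ext; simp [hσ]
    nth_rewrite 2 [← h3]
    rw [← Matrix.map_mul, nonsing_inv_mul _ ((RingHom.map_det σ A) ▸ hd.map σ), Matrix.map_one _ (map_zero σ) (map_one σ)]
  rw [← transpose_nonsing_inv, aeval_transpose, rank_transpose, ← rank_map_ringHom σ, ← aeval_map_ringHom, h2, ← h1,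
    rank_mul_eq_left_of_isUnit_det _ _ (by rw [det_pow]; exact (isUnit_nonsing_inv_det _ hd).pow _), recip, map_mul, aeval_C,
    rank_mul_eq_right_of_isUnit_det _ _ (by simp [Algebra.algebraMap_eq_smul_one, h0]), reverse]

open Classical in
theorem HasED.eq_map_recip (hσ : ∀ a, σ (σ a) = a) {V W : Type*} [AddCommGroup V] [Module K V] [AddCommGroup W]
    [Module K W] {f : Module.End K V} {g : Module.End K W} {s t : Multiset K[X]} (hf : HasED f s) (hg : HasED g t)
    (hs : ∀ P ∈ s, ¬ X ∣ P) (ht : ∀ P ∈ t, ¬ X ∣ P) (h : ∀ P : K[X], P.coeff 0 ≠ 0 → kd g P = kd f (recip σ P)) :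
    t = s.map (recip σ) := by
  have h0 : ∀ {p : K[X]} {a : ℕ}, 1 ≤ a → ¬ X ∣ p ^ a → p.coeff 0 ≠ 0 := fun ha h h' =>
    h (dvd_pow (X_dvd_iff.2 h') (by omega))
  have key : ∀ π : K[X], π.Monic → Irreducible π → π.coeff 0 ≠ 0 → ∀ a, 1 ≤ a →
      t.count (π ^ a) = (s.map (recip σ)).count (π ^ a) := fun π h1 h2 h3 a ha => by
    obtain ⟨k, rfl⟩ := Nat.exists_eq_add_of_le' ha
    have c1 := hg.count_eq h1 h2 k
    have c2 := hf.count_eq (monic_recip h3) (irreducible_recip hσ h1 h2 h3) k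
    have h4 : ∀ j, (π ^ j).coeff 0 ≠ 0 := fun j => by simpa [coeff_zero_eq_eval_zero] using fun h => absurd h (by
      rwa [← coeff_zero_eq_eval_zero])
    rw [h _ (h4 _), h _ (h4 _), h _ (h4 _)] at c1
    simp only [recip_pow] at c1
    rw [natDegree_recip h3, ← c1] at c2
    rw [← Nat.eq_of_mul_eq_mul_right h2.natDegree_pos (Nat.add_left_cancel c2), Multiset.count_map,
      Multiset.count_eq_card_filter_eq]
    refine congrArg _ (Multiset.filter_congr fun P hP => ?_)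
    rw [← recip_pow]
    exact ⟨fun e => by rw [← e, recip_recip hσ (h1.pow _) (h4 _)],
      fun e => by rw [e, recip_recip hσ (hf.primary P hP).monic (mt X_dvd_iff.2 (hs P hP))]⟩
  ext y
  by_cases h1 : y ∈ t
  · obtain ⟨p, a, h2, h3, h4, rfl⟩ := hg.primary y h1
    exact key p h2 h3 (h0 h4 (ht _ h1)) a h4
  by_cases h2 : y ∈ s.map (recip σ)
  · obtain ⟨P, hP, rfl⟩ := Multiset.mem_map.1 h2
    obtain ⟨p, a, h6, h3, h4, rfl⟩ := hf.primary P hP
    have h5 := h0 h4 (hs _ hP)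
    rw [recip_pow]
    exact key _ (monic_recip h5) (irreducible_recip hσ h6 h3 h5) (by simpa [coeff_zero_recip h6] using h5) a h4
  rw [Multiset.count_eq_zero_of_notMem h1, Multiset.count_eq_zero_of_notMem h2]

theorem elemDiv_star (hσ : ∀ a, σ (σ a) = a) {A : Matrix ι ι K} (hA : IsUnit A) :
    elemDiv ((A.map σ)ᵀ)⁻¹ = (elemDiv A).map (recip σ) := by
  refine HasED.eq_map_recip hσ (hasED_elemDiv _) (hasED_elemDiv _) ((isUnit_iff_elemDiv _).1 hA)
    ((isUnit_iff_elemDiv _).1 ?_) fun P hP => ?_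
  · rw [isUnit_nonsing_inv_iff, isUnit_iff_isUnit_det, det_transpose, ← RingHom.mapMatrix_apply, ← RingHom.map_det]
    exact ((isUnit_iff_isUnit_det A).1 hA).map σ
  · have h1 := kd_add_rank ((A.map σ)ᵀ)⁻¹ P
    rw [rank_aeval_star hσ hA hP, ← kd_add_rank A (recip σ P)] at h1
    exact Nat.add_right_cancel h1

theorem recip_lay (hσ : ∀ a, σ (σ a) = a) {s : Multiset K[X]} (hs : ∀ P ∈ s, IsPrimaryPoly P) (hX : ∀ P ∈ s, ¬ X ∣ P)
    (h : s.map (recip σ) = s) (e : ℕ) : (bs (e + 1) s).map (recip σ) = bs (e + 1) s := by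
  suffices H : ∀ t : Multiset K[X], (∀ P ∈ t, IsPrimaryPoly P) → (∀ P ∈ t, ¬ X ∣ P) →
      bs (e + 1) (t.map (recip σ)) = (bs (e + 1) t).map (recip σ) by rw [← H s hs hX, h]
  intro t h1 h2
  induction t using Multiset.induction_on with
  | empty => simp [bs_zero]
  | cons P t ih =>
    obtain ⟨p, a, h3, h4, h5, rfl⟩ := h1 P (Multiset.mem_cons_self _ _)
    have h6 : p.coeff 0 ≠ 0 := fun h => h2 _ (Multiset.mem_cons_self _ _) (dvd_pow (X_dvd_iff.2 h) (by omega))
    rw [Multiset.map_cons, recip_pow, bs_cons h3 h4 h5, bs_cons (monic_recip h6) (irreducible_recip hσ h3 h4 h6) h5,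
      ih (fun Q hQ => h1 Q (Multiset.mem_cons_of_mem hQ)) fun Q hQ => h2 Q (Multiset.mem_cons_of_mem hQ)]
    split_ifs <;> simp

theorem elemDiv_fromBlocks {κ μ : Type*} [Fintype κ] [DecidableEq κ] [Fintype μ] [DecidableEq μ] (e : μ ≃ ι ⊕ κ)
    (A : Matrix ι ι K) (B : Matrix κ κ K) : elemDiv ((fromBlocks A 0 0 B).submatrix e e) = elemDiv A + elemDiv B := by
  refine (hasED_elemDiv _).unique (HasED.of_sim ?_ (Elu.hasED_prodMap (hasED_elemDiv A) (hasED_elemDiv B)))
  refine ⟨(LinearEquiv.funCongrLeft K K e.symm).trans (LinearEquiv.sumArrowLequivProdArrow ι κ K K), fun v => ?_⟩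
  ext i <;> simp [fromBlocks_mulVec, LinearMap.funLeft_apply] <;> rfl

theorem HasED.det_aeval {V : Type*} [AddCommGroup V] [Module K V] {f : Module.End K V} {s : Multiset K[X]}
    (h : HasED f s) (Q : K[X]) :
    LinearMap.det (aeval f Q) = (s.map fun P => Algebra.norm K (AdjoinRoot.mk P Q)).prod := by
  obtain ⟨m, P, hP, rfl, hs⟩ := h.exists_model
  have := fun i => finite_adjoinRoot (hP i).ne_zero
  rw [(hs.aeval Q).det, det_pi_of_apply (fun j => Algebra.lmul K _ (AdjoinRoot.mk (P j) Q)) _ (aeval_model_apply P Q),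
    Multiset.map_map]
  rfl

end Matrix

section Unitary

variable {q n : ℕ}

theorem map_recip_elemDiv_GU (h : IsBar σ q) (A : Cfsg.GU n K q) :
    (elemDiv A.1.1).map (recip σ) = elemDiv A.1.1 := by
  rw [← elemDiv_star h.bar_bar A.1.isUnit, inv_eq_right_inv ((mem_GU_iff_mul h _).1 A.2)]

theorem exists_GU_of_map_recip (h : IsBar σ q) {s : Multiset K[X]} (hs : ∀ P ∈ s, IsPrimaryPoly P)
    (hX : ∀ P ∈ s, ¬ X ∣ P) (hρ : s.map (recip σ) = s) (hn : (s.map natDegree).sum = n) :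
    ∃ A : Cfsg.GU n K q, elemDiv A.1.1 = s := by
  obtain ⟨A, hA⟩ := exists_GL_elemDiv_eq (n := Fin n) s hs hX (by simpa)
  obtain ⟨B, hB⟩ := (exists_GU_isConj_iff h A).2 (isConj_iff_elemDiv.2 (by rw [elemDiv_star h.bar_bar A.isUnit, hA, hρ]))
  exact ⟨B, (isConj_GL_iff_elemDiv.1 hB).symm.trans hA⟩

theorem exists_GU_commute_of_aeval (h : IsBar σ q) (A : Cfsg.GU n K q) (p : K[X]) (hp : (aeval A.1.1 p).det ≠ 0) :
    ∃ c : Matrix (Fin n) (Fin n) K, (c.map σ)ᵀ * c = 1 ∧ c * A.1.1 = A.1.1 * c ∧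
      c.det * σ (aeval A.1.1 p).det = (aeval A.1.1 p).det := by
  have h1 : (A.1.1.map σ)ᵀ = (A.1⁻¹).1 := by
    rw [GeneralLinearGroup.coe_inv]; exact (inv_eq_left_inv ((mem_GU_iff_mul h _).1 A.2)).symm
  set a := aeval A.1.1 p
  set b := (a.map σ)ᵀ with hb
  have hbd : b.det = σ a.det := by rw [hb, det_transpose, RingHom.map_det]; rfl
  have hu : IsUnit b.det := by simpa [hbd] using hp
  have h2 : Commute A.1.1 b := by
    rw [hb, ← aeval_map_ringHom, ← aeval_transpose, h1]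
    exact (commute_aeval (Commute.refl A.1).inv_right.units_val.symm _).symm
  have h3 : Commute a b := commute_aeval h2 _
  have h4 : ∀ x, Commute x b → Commute x b⁻¹ := fun x hx => by
    obtain ⟨u, hu⟩ := (isUnit_iff_isUnit_det b).2 hu
    rw [← hu, ← Matrix.coe_units_inv]
    exact (hu ▸ hx).units_inv_right
  have h5 : (b.map σ)ᵀ = a := by ext; simp [hb, h.bar_bar]
  have h6 : (b⁻¹.map σ)ᵀ * a = 1 := by
    rw [← h5, ← transpose_mul, ← Matrix.map_mul, mul_nonsing_inv _ hu]; simp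
  refine ⟨a * b⁻¹, ?_, ((commute_aeval (Commute.refl _) p).mul_left (h4 _ h2).symm).eq, ?_⟩
  · rw [Matrix.map_mul, transpose_mul, ← hb, mul_assoc, ← mul_assoc b, ← h3.eq, mul_assoc, mul_nonsing_inv _ hu, mul_one,
      h6]
  · rw [det_mul, det_nonsing_inv, ← hbd, mul_assoc, Ring.inverse_mul_cancel _ hu, mul_one]

theorem exists_GU_commute_det (h : IsBar σ q) (A : Cfsg.GU n K q) {π : K[X]} (hπ : π.Monic) (hi : Irreducible π) {e : ℕ}
    (he : π ^ e ∈ elemDiv A.1.1) {u : K} (hu : u * σ u = 1) :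
    ∃ c : Cfsg.GU n K q, c * A = A * c ∧ c.1.1.det = u ^ e := by
  classical
  have := h.finite
  have hX := (isUnit_iff_elemDiv _).1 A.1.isUnit
  have hρ := map_recip_elemDiv_GU h A
  have hn := sum_natDegree_elemDiv A.1.1
  have he0 : e ≠ 0 := by rintro rfl; simpa using (elemDiv_primary _ _ he).natDegree_pos
  have h0 : π.coeff 0 ≠ 0 := fun h => hX _ he (dvd_pow (X_dvd_iff.2 h) he0)
  obtain ⟨y, hy0, hy⟩ := h.exists_div_bar_eq hu
  have := finite_adjoinRoot hi.ne_zero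
  have : Fact (Irreducible π) := ⟨hi⟩
  have : Finite (AdjoinRoot π) := Module.finite_of_finite K
  obtain ⟨z, hz⟩ := FiniteField.norm_surjective K (AdjoinRoot π) y
  obtain ⟨p₀, rfl⟩ := AdjoinRoot.mk_surjective z
  obtain ⟨t, p, ht, htρ, hp⟩ : ∃ (t : Multiset K[X]) (p : K[X]), t ≤ elemDiv A.1.1 ∧ t.map (recip σ) = t ∧
      (t.map fun P => Algebra.norm K (AdjoinRoot.mk P p)).prod = y ^ e := by
    by_cases h1 : recip σ π = π
    · exact ⟨{π ^ e}, p₀, Multiset.singleton_le.2 he, by simp [recip_pow, h1], by simp [norm_mk_pow hπ, hz]⟩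
    obtain ⟨a, b, hab⟩ := isCoprime_of_monic_irreducible_ne (monic_recip h0) (irreducible_recip h.bar_bar hπ hi h0) hπ hi h1
    refine ⟨{π ^ e, recip σ π ^ e}, p₀ * a * recip σ π + b * π, ?_, ?_, ?_⟩
    · refine (Multiset.le_iff_subset (by simpa using fun h2 => h1 (pow_inj_of_monic_irreducible hπ hi (monic_recip h0)
        (irreducible_recip h.bar_bar hπ hi h0) (by omega) h2).1.symm)).2 fun P hP => ?_
      simp only [Multiset.insert_eq_cons, Multiset.mem_cons, Multiset.mem_singleton] at hP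
      rcases hP with rfl | rfl
      · exact he
      · rw [← hρ, ← recip_pow]; exact Multiset.mem_map_of_mem _ he
    · simp [recip_pow, recip_recip h.bar_bar hπ h0, Multiset.cons_swap, ← Multiset.cons_zero]
    · have e1 : AdjoinRoot.mk π (p₀ * a * recip σ π + b * π) = AdjoinRoot.mk π p₀ :=
        AdjoinRoot.mk_eq_mk.2 ⟨b - p₀ * b, by linear_combination p₀ * hab⟩
      have e2 : AdjoinRoot.mk (recip σ π) (p₀ * a * recip σ π + b * π) = AdjoinRoot.mk _ 1 :=
        AdjoinRoot.mk_eq_mk.2 ⟨p₀ * a - a, by linear_combination hab⟩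
      simp [norm_mk_pow hπ, norm_mk_pow (monic_recip h0), e1, e2, hz, -map_add, -map_mul]
  obtain ⟨r, hr⟩ := Multiset.le_iff_exists_add.1 ht
  rw [hr] at hX hρ hn
  rw [Multiset.map_add, htρ, add_right_inj] at hρ
  obtain ⟨A₁, h1⟩ := exists_GU_of_map_recip h (fun P hP => elemDiv_primary _ P (Multiset.mem_of_le ht hP))
    (fun P hP => hX P (Multiset.mem_add.2 (.inl hP))) htρ rfl
  obtain ⟨A₂, h2⟩ := exists_GU_of_map_recip h (fun P hP => elemDiv_primary A.1.1 P (hr ▸ Multiset.mem_add.2 (.inr hP)))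
    (fun P hP => hX P (Multiset.mem_add.2 (.inr hP))) hρ rfl
  have h3 : (aeval A₁.1.1 p).det = y ^ e := by
    rw [← LinearMap.det_toLin', ← aeval_toLin', HasED.det_aeval (hasED_elemDiv _), h1, hp]
  obtain ⟨c, c1, c2, c3⟩ := exists_GU_commute_of_aeval h A₁ p (by simp [h3, hy0])
  have c4 : c.det = u ^ e := by
    rw [h3, map_pow] at c3
    exact mul_right_cancel₀ (pow_ne_zero e (by simpa using hy0)) (c3.trans (by rw [← mul_pow, ← hy]))
  let ε : Fin n ≃ Fin (t.map natDegree).sum ⊕ Fin (r.map natDegree).sum := Fintype.equivOfCardEq (by simpa using hn.symm)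
  have key : ∀ (x : Matrix _ _ K) (y : Matrix _ _ K), (x.map σ)ᵀ * x = 1 → (y.map σ)ᵀ * y = 1 →
      ∃ B : Cfsg.GU n K q, B.1.1 = (fromBlocks x 0 0 y).submatrix ε ε := fun x y hx hy => by
    have h4 : (((fromBlocks x 0 0 y).submatrix ε ε).map σ)ᵀ * (fromBlocks x 0 0 y).submatrix ε ε = 1 := by
      rw [← submatrix_map, transpose_submatrix, submatrix_mul_equiv, fromBlocks_map, fromBlocks_transpose,
        fromBlocks_multiply]
      simp [hx, hy]
    exact ⟨⟨⟨_, _, mul_eq_one_comm.1 h4, h4⟩, (mem_GU_iff_mul h _).2 h4⟩, rfl⟩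
  obtain ⟨B, hB⟩ := key _ _ ((mem_GU_iff_mul h _).1 A₁.2) ((mem_GU_iff_mul h _).1 A₂.2)
  obtain ⟨d, hd⟩ := key c 1 c1 (by simp)
  obtain ⟨w, rfl⟩ := isConj_iff.1 ((isConj_GU_iff h B A).2 (isConj_GL_iff_elemDiv.2
    (by rw [hB, elemDiv_fromBlocks, h1, h2, hr])))
  have h5 : d * B = B * d := Subtype.ext (Units.ext (by
    change d.1.1 * B.1.1 = B.1.1 * d.1.1
    simp [hB, hd, submatrix_mul_equiv, fromBlocks_multiply, c2]))
  refine ⟨w * d * w⁻¹, by simp [mul_assoc, ← mul_assoc d, h5], ?_⟩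
  change (w.1.1 * d.1.1 * (w.1⁻¹).1).det = _
  rw [det_units_conj, hd, det_submatrix_equiv_self, det_fromBlocks_zero₁₂, det_one, mul_one, c4]

end Unitary

end CL.ClassNo
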