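/-
Class numbers of classical groups, part 7: Euler products; special unitary groups.
-/
import Cfsg.Agent.Known.ClassNo6

set_option autoImplicit false

open Finset

namespace CL.ClassNo

section Euler

theorem prod_head_tail {B B₀ : ℕ → ℝ} (h0 : ∀ i, 0 ≤ B i) (h1 : ∀ i, 1 ≤ B₀ i) (h : ∀ i, B i ≤ B₀ i) (j : ℕ) {s ρ D : ℝ}
    (hρ : 0 ≤ ρ) (hρ1 : ρ ≤ 1) (hs : 0 ≤ s) (hD : s ≤ D * (1 - ρ)) (hD0 : 0 ≤ D) (hD1 : D < 1)
    (ht : ∀ i, B₀ (j + i) ≤ 1 + s * ρ ^ i) (k : ℕ) : ∏ i ∈ range k, B i ≤ (∏ i ∈ range j, B₀ i) * (1 / (1 - D)) := by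
  have h2 := fun i => zero_le_one.trans (h1 i)
  refine (prod_le_prod (fun i _ => h0 i) fun i _ => h i).trans ((prod_le_prod_of_subset_of_one_le
    (range_subset_range.2 (Nat.le_add_left k j)) (fun i _ => h2 i) fun i _ _ => h1 i).trans ?_)
  rw [prod_range_add]
  exact mul_le_mul_of_nonneg_left (prod_tail_le hρ hρ1 hs hD hD0 hD1 (fun i => h2 _) ht k) (prod_nonneg fun i _ => h2 i)

variable {z z₀ : ℝ} (hz : 0 ≤ z) (hzz : z ≤ z₀) (hz1 : z₀ < 1)
include hz hzz hz1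

theorem euler_inv_le (j : ℕ) {D : ℝ} (hD : z₀ ^ (j + 1) / (1 - z₀ ^ (j + 1)) ≤ D * (1 - z₀)) (hD0 : 0 ≤ D) (hD1 : D < 1)
    (k : ℕ) : ∏ i ∈ range k, (1 - z ^ (i + 1))⁻¹ ≤ (∏ i ∈ range j, (1 - z₀ ^ (i + 1))⁻¹) * (1 / (1 - D)) := by
  have h0 := hz.trans hzz
  have h1 : ∀ i, 0 < 1 - z₀ ^ (i + 1) := fun i => sub_pos.2 (pow_lt_one₀ h0 hz1 i.succ_ne_zero)
  have h2 : ∀ i, 1 - z₀ ^ (i + 1) ≤ 1 - z ^ (i + 1) := fun i => by gcongr
  refine prod_head_tail (fun i => inv_nonneg.2 ((h1 i).le.trans (h2 i))) (fun i => (one_le_inv₀ (h1 i)).2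
    (sub_le_self _ (pow_nonneg h0 _))) (fun i => inv_anti₀ (h1 i) (h2 i)) j h0 hz1.le
    (div_nonneg (pow_nonneg h0 _) (h1 _).le) hD hD0 hD1 (fun i => ?_) k
  have h3 : (1 - z₀ ^ (j + i + 1))⁻¹ = 1 + z₀ ^ (j + 1) * z₀ ^ i / (1 - z₀ ^ (j + i + 1)) := by
    field_simp [(h1 _).ne']; ring
  rw [h3, div_mul_eq_mul_div]
  exact add_le_add_right (div_le_div_of_nonneg_left (by positivity) (h1 _)
    (sub_le_sub_left (pow_le_pow_of_le_one h0 hz1.le (by omega)) _)) _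

theorem euler_add_le (j : ℕ) {D : ℝ} (hD : z₀ ^ (j + 1) ≤ D * (1 - z₀)) (hD0 : 0 ≤ D) (hD1 : D < 1)
    (k : ℕ) : ∏ i ∈ range k, (1 + z ^ (i + 1)) ≤ (∏ i ∈ range j, (1 + z₀ ^ (i + 1))) * (1 / (1 - D)) := by
  have h0 := hz.trans hzz
  exact prod_head_tail (fun i => by positivity) (fun i => le_add_of_nonneg_right (by positivity)) (fun i => by gcongr) j
    h0 hz1.le (by positivity) hD hD0 hD1 (fun i => le_of_eq (by ring)) k

end Euler

theorem euler_inv_third {z : ℝ} (hz : 0 ≤ z) (h : z ≤ 1 / 3) (k : ℕ) : ∏ i ∈ range k, (1 - z ^ (i + 1))⁻¹ ≤ 1.786 :=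
  (euler_inv_le hz h (by norm_num) 3 (D := 3 / 160) (by norm_num) (by norm_num) (by norm_num) k).trans
    (by norm_num [prod_range_succ])

theorem euler_add_third {z : ℝ} (hz : 0 ≤ z) (h : z ≤ 1 / 3) (k : ℕ) : ∏ i ∈ range k, (1 + z ^ (i + 1)) ≤ 1.566 :=
  (euler_add_le hz h (by norm_num) 3 (D := 1 / 54) (by norm_num) (by norm_num) (by norm_num) k).trans
    (by norm_num [prod_range_succ])

theorem euler_inv_half {z : ℝ} (hz : 0 ≤ z) (h : z ≤ 1 / 2) (k : ℕ) : ∏ i ∈ range k, (1 - z ^ (i + 1))⁻¹ ≤ 3.47 :=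
  (euler_inv_le hz h (by norm_num) 5 (D := 2 / 63) (by norm_num) (by norm_num) (by norm_num) k).trans
    (by norm_num [prod_range_succ])

theorem euler_add_half {z : ℝ} (hz : 0 ≤ z) (h : z ≤ 1 / 2) (k : ℕ) : ∏ i ∈ range k, (1 + z ^ (i + 1)) ≤ 2.39 :=
  (euler_add_le hz h (by norm_num) 5 (D := 1 / 32) (by norm_num) (by norm_num) (by norm_num) k).trans
    (by norm_num [prod_range_succ])

open PowerSeries in
theorem coeff_prod_le {β : ℕ → ℕ → ℝ} (hβ : ∀ e m, 0 ≤ β e m) {x c : ℝ} (hx : 0 ≤ x) {n : ℕ}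
    (h0 : ∀ m ≤ n, β 0 m * x ^ m ≤ c) {B : ℕ → ℝ}
    (hB : ∀ e, ∑ m ∈ range (n + 1), β (e + 1) m * (x ^ (e + 2)) ^ m ≤ B e) (k : ℕ) :
    coeff n (∏ e ∈ range (k + 1), ser (e + 1) (β e)) * x ^ n ≤ c * ∏ e ∈ range k, B e := by
  rw [prod_range_succ', mul_comm _ (ser _ _)]
  refine (coeff_mul_le hx (nn_prod fun e _ => nn_ser _ (hβ _)) fun m hm => by simpa [coeff_ser_one] using h0 m hm).trans
    (mul_le_mul_of_nonneg_left (ev_prod_le hx (fun e _ => nn_ser _ (hβ _)) fun e _ =>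
      (ev_ser_le (by omega) hx (hβ _)).trans (hB e)) ((mul_nonneg (hβ 0 0) (by simp)).trans (h0 0 n.zero_le)))

/-- The weights for unitary groups. -/
noncomputable def guw (q : ℝ) : ℕ → ℝ
  | 0 => 1
  | m + 1 => (q + 1) * q ^ m

theorem Kc_guw_le {q a b : ℝ} (hq : 2 ≤ q) (ha : ∀ k, ∏ i ∈ range k, (1 - (1 / q) ^ (i + 1))⁻¹ ≤ a)
    (hb : ∀ k, ∏ i ∈ range k, (1 + (1 / q) ^ (i + 1)) ≤ b) (n : ℕ) : Kc (guw q) n ≤ a * b * q ^ n := by
  set x := 1 / q with hx
  have hx0 : 0 < x := by positivity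
  have hx1 : x < 1 := by rw [hx, div_lt_one] <;> linarith
  have hqx : q * x = 1 := by rw [hx]; field_simp
  have hp : ∀ e, 0 < 1 - x ^ (e + 1) := fun e => sub_pos.2 (pow_lt_one₀ hx0.le hx1 e.succ_ne_zero)
  have h0 : ∀ m, 0 ≤ guw q m := fun m => by cases m <;> simp only [guw] <;> positivity
  have h := coeff_prod_le (β := fun _ => guw q) (fun _ => h0) hx0.le (n := n) (c := 1 + x) (fun m _ => ?_)
    (B := fun e => (1 - x ^ (e + 1))⁻¹ * (1 + x ^ (e + 2))) (fun e => ?_) n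
  · rw [Kc_eq rfl n.le_succ, prod_mul_distrib, mul_left_comm, mul_comm (1 + x)] at h
    have h1 := hb (n + 1)
    rw [prod_range_succ', zero_add, pow_one] at h1
    have h2 := h.trans (mul_le_mul (ha n) h1 (by positivity) (zero_le_one.trans (by simpa using ha 0)))
    have h3 : x ^ n * q ^ n = 1 := by rw [← mul_pow, mul_comm, hqx, one_pow]
    calc Kc (guw q) n = Kc (guw q) n * x ^ n * q ^ n := by rw [mul_assoc, h3, mul_one]
      _ ≤ _ := by gcongr
  · rcases m with _ | m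
    · simp [guw, hx0.le]
    · have : q ^ m * x ^ m = 1 := by rw [← mul_pow, hqx, one_pow]
      refine le_of_eq ?_
      rw [guw]
      linear_combination (q + 1) * x * this + hqx
  · have e1 : q * x ^ (e + 2) = x ^ (e + 1) := by linear_combination x ^ (e + 1) * hqx
    refine (sum_geom_le (c := q + 1) (r := q) (by positivity) (by linarith) (by linarith)
      (by rw [e1]; linarith [hp e]) le_rfl (fun _ => le_rfl) _).trans_eq ?_
    rw [e1]; field_simp [(hp e).ne']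
    linear_combination x ^ (e + 1) * hqx

theorem Sb_guw_le {q : ℕ} (hq : 2 ≤ q) (m : ℕ) : 100 * Sb (guw q) (q + 1) (m + 2) ≤ (q + 1) * (826 * q ^ (m + 1)) := by
  have hq' : (2 : ℝ) ≤ q := by exact_mod_cast hq
  rcases m with _ | _ | m
  · rw [Sb_two, Kc_two rfl]
    simp only [guw, zero_add]
    split_ifs <;> nlinarith
  · rw [Sb_three, Kc_three rfl]
    simp only [guw, zero_add, Nat.reduceAdd]
    split_ifs <;> nlinarith [mul_nonneg (sub_nonneg.2 hq') (sub_nonneg.2 hq'), pow_pos (zero_lt_two.trans_le hq') 3]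
  rcases hq.eq_or_lt with rfl | hq3
  · have hK := Kc_guw_le hq' (euler_inv_half (by norm_num) (by norm_num)) (euler_add_half (by norm_num) (by norm_num))
    have h1 : Sb (guw (2 : ℕ)) (2 + 1) (m + 1 + 1 + 2) ≤ Kc (guw (2 : ℕ)) (m + 4) +
        if 3 ∣ m + 4 then 8 * Kc (guw (2 : ℕ)) ((m + 4) / 3) else 0 := by
      rw [Sb]
      split_ifs with h
      · rw [show (Icc 2 (m + 1 + 1 + 2)).filter (fun d => d ∣ m + 1 + 1 + 2 ∧ d ∣ 2 + 1) = {3} from ?_]
        · norm_num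
        ext d
        simp only [mem_filter, mem_Icc, mem_singleton, (Nat.dvd_prime Nat.prime_three)]
        exact ⟨by omega, by rintro rfl; exact ⟨by omega, h, .inr rfl⟩⟩
      · rw [sum_eq_zero]
        simp only [mem_filter, mem_Icc, (Nat.dvd_prime Nat.prime_three)]
        rintro d ⟨h1, h2, rfl | rfl⟩
        · omega
        · exact absurd h2 h
    have h2 := hK (m + 4)
    have h3 : (0 : ℝ) < 2 ^ m := by positivity
    push_cast at *
    split_ifs at h1 with h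
    · by_cases hm : m = 2
      · subst hm
        rw [show (2 + 4) / 3 = 2 from rfl, Kc_two rfl] at h1
        norm_num [guw] at *
        linarith
      · have h4 := (hK _).trans (mul_le_mul_of_nonneg_left (pow_le_pow_right₀ one_le_two
          (show (m + 4) / 3 ≤ m - 1 by omega)) (by norm_num))
        obtain ⟨k, rfl⟩ : ∃ k, m = k + 1 := ⟨m - 1, by omega⟩
        simp only [pow_succ, Nat.add_sub_cancel] at *
        linarith
    · simp only [pow_succ] at *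
      linarith
  · have hq3' : (3 : ℝ) ≤ q := by exact_mod_cast hq3
    have hx : 1 / (q : ℝ) ≤ 1 / 3 := by gcongr
    have hK := Kc_guw_le hq' (euler_inv_third (by positivity) hx) (euler_add_third (by positivity) hx)
    have h1 := Sb_le (by linarith) (by norm_num) hK q.succ_ne_zero (m + 4)
    have h2 := hK (m + 4)
    have h3 : (q : ℝ) ^ ((m + 4) / 2) ≤ q ^ (m + 1) * q := by
      rw [← pow_succ]; exact pow_le_pow_right₀ (by linarith) (by omega)
    have h4 : (q : ℝ) ^ ((m + 4) / 3) ≤ q ^ (m + 1) := pow_le_pow_right₀ (by linarith) (by omega)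
    have h5 : (0 : ℝ) < q ^ (m + 1) := by positivity
    have h6 : 9 * (q : ℝ) + (q + 2) ^ 3 ≤ 5 * q ^ 3 + 8 * q ^ 2 := by nlinarith [mul_nonneg (sub_nonneg.2 hq3') (sq_nonneg (q : ℝ))]
    have h7 : ((q : ℝ) + 1 + 1) ^ 3 / 3 * q ^ ((m + 4) / 3) ≤ (q + 2) ^ 3 / 3 * q ^ (m + 1) := by
      rw [add_assoc, one_add_one_eq_two]; gcongr
    rw [show (q : ℝ) ^ (m + 4) = q ^ (m + 1) * q ^ 3 by ring] at h2
    rw [show (q : ℝ) ^ (m + 1 + 1 + 1) = q ^ (m + 1) * q ^ 2 by ring]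
    push_cast at h1
    nlinarith [mul_le_mul_of_nonneg_left h6 h5.le, mul_pos h5 (pow_pos (zero_lt_two.trans_le hq') 3),
      mul_pos h5 (pow_pos (zero_lt_two.trans_le hq') 2), mul_pos h5 (pow_pos (add_pos (zero_lt_two.trans_le hq') two_pos) 3)]

open Polynomial Matrix CL.GLn CL.Known CL.Uni

variable {K : Type*} [Field K] {σ : K →+* K} {q : ℕ}

theorem card_selfRecip_bar (h : IsBar σ q) {c : K} (hc : c * σ c = 1) (N : ℕ) :
    Nat.card {f : K[X] // f.Monic ∧ f.natDegree = N + 1 ∧ f.coeff 0 = c ∧ recip σ f = f} = q ^ N := by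
  have := h.finite
  obtain ⟨t, ht⟩ := h.exists_ne
  let τ : (Fin N → K) →ₛₗ[σ] (Fin N → K) :=
    { toFun := fun a i => c * σ (a i.rev)
      map_add' := fun a b => by ext; simp [mul_add]
      map_smul' := fun r a => by ext; simp [mul_left_comm] }
  have h1 := card_fixed_semilinear τ (fun v => by ext; simp [τ, h.bar_bar, ← mul_assoc, hc]) h.bar_bar ht
  have := Fintype.ofFinite K
  rw [Nat.card_fun, Nat.card_eq_fintype_card (α := K), h.fintype_card, Nat.card_fin, ← pow_mul, mul_comm, pow_mul,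
    Nat.pow_left_inj two_ne_zero] at h1
  rw [card_selfRecip hc, ← h1]
  exact Nat.card_congr (Equiv.subtypeEquivRight fun a => funext_iff.symm)

theorem norm_coeff_zero_of_recip {f : K[X]} (hf : f.Monic) (h0 : f.coeff 0 ≠ 0) (h : recip σ f = f) :
    f.coeff 0 * σ (f.coeff 0) = 1 := by
  rw [← mul_inv_eq_iff_eq_mul₀ (by simpa using h0) |>.1 ((one_mul _).trans ((coeff_zero_recip hf).symm.trans
    (congrArg (coeff · 0) h)))]

theorem card_classes_SU_le (h : IsBar σ q) {n : ℕ} (hn : n ≠ 0) :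
    (q + 1 : ℝ) * Nat.card (ConjClasses (Cfsg.SU n K q)) ≤ Sb (guw q) (q + 1) n := by
  have := h.finite
  have h1 : Nat.card (powMonoidHom (q + 1) : Kˣ →* Kˣ).ker = q + 1 := h.card_units_pow_eq_one (dvd_mul_left _ _)
  have h2 : ∀ a : Kˣ, a ∈ (powMonoidHom (q + 1) : Kˣ →* Kˣ).ker ↔ a.1 * σ a = 1 := fun a => by
    rw [h.norm_eq_pow, MonoidHom.mem_ker, powMonoidHom_apply, Units.ext_iff]; simp
  have h3 : ∀ m : ℕ, σ ((-1) ^ m) = (-1) ^ m := by simp
  have h4 : ∀ m : ℕ, ((-1) ^ m * (-1) ^ m : K) = 1 := fun m => by simp [← mul_pow]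
  rw [← Nat.cast_add_one, ← h1, ← Nat.card_congr (Equiv.subtypeUnivEquiv
    (p := fun _ : ConjClasses (Cfsg.SU n K q) => True) fun _ => trivial)]
  refine special_count hn (fun g : Cfsg.SU n K q => g.1.1) _ _ (fun f => recip σ f = f) _ rfl (fun m hm a => ?_)
    (fun g => g.1.2) (fun g _ e => ?_) fun g => ⟨((Subgroup.centralizer {suToGU n K q g}).map (guDet n K q)).subgroupOf _,
      fun π e h5 h6 h7 a => ?_, (card_SU_classes_in_class h (Nat.pos_of_ne_zero hn) g).le⟩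
  · obtain ⟨m, rfl⟩ := Nat.exists_eq_succ_of_ne_zero hm
    have h5 := card_selfRecip_bar h (c := (-1) ^ (m + 1) * a.1.1)
      (by rw [map_mul, h3]; linear_combination (a.1.1 * σ a.1.1) * h4 (m + 1) + (h2 _).1 a.2) m
    rw [h1, guw, ← Nat.cast_pow, ← h5, Nat.cast_add_one]
    refine le_of_eq (congrArg _ (congrArg _ (Nat.card_congr (Equiv.subtypeEquivRight fun f => and_congr_right fun _ =>
      and_congr_right fun h => and_congr_left fun _ => ?_))))
    rw [sc, h]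
    exact ⟨fun h => by rw [← h, ← mul_assoc, h4, one_mul], fun h => by rw [h, ← mul_assoc, h4, one_mul]⟩
  · have hX := (isUnit_iff_elemDiv _).1 (suToGU n K q g).1.isUnit
    have h5 : recip σ (lay (e + 1) (elemDiv g.1.1)) = lay (e + 1) (elemDiv g.1.1) := by
      rw [lay, recip_prod]
      exact congrArg _ (recip_lay h.bar_bar (elemDiv_primary _) hX (map_recip_elemDiv_GU h (suToGU n K q g)) e)
    have h6 := coeff_zero_lay_ne e.succ_ne_zero hX
    have h7 := norm_coeff_zero_of_recip (monic_lay _ _) h6 h5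
    obtain ⟨u, hu⟩ := (show sc (lay (e + 1) (elemDiv g.1.1)) ≠ 0 from mul_ne_zero (by simp) h6).isUnit
    refine ⟨h5, ⟨u, (h2 u).2 ?_⟩, hu.symm⟩
    rw [hu, sc, map_mul, h3, mul_mul_mul_comm, h4, one_mul]
    exact h7
  · obtain ⟨c, h8, h9⟩ := exists_GU_commute_det h (suToGU n K q g) h5 h6 h7 ((h2 _).1 a.2)
    exact Subgroup.mem_subgroupOf.2 ⟨c, Subgroup.mem_centralizer_singleton_iff.2 h8, Units.ext (by simpa [coe_guDet] using h9)⟩

theorem le_card_classes_SU (h : IsBar σ q) (m : ℕ) : q ^ m ≤ Nat.card (ConjClasses (Cfsg.SU (m + 1) K q)) := by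
  have := h.finite
  rw [← card_selfRecip_bar h (c := (-1) ^ (m + 1)) (by simp [← mul_pow]) m]
  have key : ∀ f : {f : K[X] // f.Monic ∧ f.natDegree = m + 1 ∧ f.coeff 0 = (-1) ^ (m + 1) ∧ recip σ f = f},
      ∃ g : Cfsg.SU (m + 1) K q, g.1.1.charpoly = f.1 := fun ⟨f, h1, h2, h3, h4⟩ => by
    obtain ⟨s, hs, rfl⟩ := exists_multiset_prod_eq h1
    obtain ⟨A, hA⟩ := exists_GU_elemDiv (n := m + 1) h (fun P hP => ⟨(hs P hP).1, (hs P hP).2, fun h0 => by
      simpa [h3] using X_dvd_iff.1 ((X_dvd_iff.2 h0).trans (Multiset.dvd_prod hP))⟩) h4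
      (by rw [← h2, natDegree_multiset_prod_of_monic _ fun P hP => (hs P hP).1])
    obtain ⟨g, rfl⟩ : A ∈ (suToGU (m + 1) K q).range := by
      rw [range_suToGU, MonoidHom.mem_ker, Units.ext_iff, coe_guDet, det_eq_sign_charpoly_coeff, ← prod_elemDiv, hA, h3]
      simp [← mul_pow]
    exact ⟨g, by rw [← prod_elemDiv, ← coe_suToGU, hA]⟩
  choose g hg using key
  refine Nat.card_le_card_of_injective (fun f => ConjClasses.mk (g f)) fun a b hab => Subtype.ext ?_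
  rw [← hg, ← hg]
  exact IsConj.charpoly_eq (isConj_GL_iff.1 ((isConj_GU_iff h _ _).1
    ((suToGU _ K q).map_isConj (ConjClasses.mk_eq_mk_iff_isConj.1 hab))))

end CL.ClassNo
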