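/-
Class numbers of classical groups, part 8: sums of formed spaces with an isometry; primary decomposition at `±1`;
the two discriminants occur equally often among the unipotent orthogonal classes of a type with an odd part.
-/
import Cfsg.Agent.Known.ClassNo7
import Cfsg.Agent.Known.UnipCount

set_option autoImplicit false

open Module Polynomial

namespace CL.ClassNo

open CL.GLn CL.Known CL.Known.Trip

universe u

variable {K : Type u} [Field K] {ε : K}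

/-- Orthogonal sum. -/
def tsum (T S : Trip K) : Trip K := ⟨T.V × S.V, prodForm T.B S.B, T.g.prodCongr S.g⟩

/-- The negative of the isometry. -/
def tneg (T : Trip K) : Trip K := ⟨T.V, T.B, T.g.trans (LinearEquiv.neg K)⟩

/-- Scaling of the form. -/
def tsc (c : K) (T : Trip K) : Trip K := ⟨T.V, c • T.B, T.g⟩

/-- Restriction to an invariant subspace. -/
noncomputable def tres (T : Trip K) (W : Submodule K T.V) (hW : ∀ w ∈ W, T.g w ∈ W) : Trip K :=
  ⟨W, T.B.domRestrict₁₂ W W, LinearEquiv.ofInjectiveEndo ((T.g : End K T.V).restrict hW)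
    fun _ _ h => Subtype.ext (T.g.injective (congrArg Subtype.val h))⟩

theorem tsum_end (T S : Trip K) : ((tsum T S).g : End K (tsum T S).V) = (T.g : End K T.V).prodMap (S.g : End K S.V) :=
  rfl

theorem tneg_end (T : Trip K) : ((tneg T).g : End K (tneg T).V) = -(T.g : End K T.V) := rfl

theorem iso_tsum {T T' S S' : Trip K} (h : iso K T T') (h' : iso K S S') : iso K (tsum T S) (tsum T' S') := by
  obtain ⟨e, h1, h2⟩ := h
  obtain ⟨f, h3, h4⟩ := h'
  exact ⟨e.prodCongr f, fun v => Prod.ext (h1 _) (h3 _), fun u v => congrArg₂ (· + ·) (h2 _ _) (h4 _ _)⟩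

theorem iso_tsum_comm (T S : Trip K) : iso K (tsum T S) (tsum S T) :=
  ⟨LinearEquiv.prodComm K _ _, fun _ => rfl, fun _ _ => add_comm _ _⟩

theorem iso_tneg {T T' : Trip K} (h : iso K T T') : iso K (tneg T) (tneg T') := by
  obtain ⟨e, h1, h2⟩ := h
  exact ⟨e, fun v => (map_neg e _).trans (congrArg _ (h1 v)), h2⟩

theorem iso_tneg_tneg (T : Trip K) : iso K (tneg (tneg T)) T := ⟨.refl K _, fun _ => neg_neg _, fun _ _ => rfl⟩

theorem iso_tneg_tsum (T S : Trip K) : iso K (tsum (tneg T) (tneg S)) (tneg (tsum T S)) :=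
  ⟨.refl K _, fun _ => rfl, fun _ _ => rfl⟩

theorem iso_sim {T T' : Trip K} (h : iso K T T') : Sim (T.g : End K T.V) (T'.g : End K T'.V) :=
  let ⟨e, h1, _⟩ := h; ⟨e, h1⟩

theorem iso_disc {T T' : Trip K} (h : iso K T T') : sqDisc T.B ↔ sqDisc T'.B :=
  let ⟨e, _, h2⟩ := h; sqDisc_iff _ e h2 _

theorem ok_tsum {T S : Trip K} (h : T.OK ε) (h' : S.OK ε) : (tsum T S).OK ε :=
  ⟨prodForm_nondeg h.nondeg h'.nondeg, fun _ _ => (congrArg₂ (· + ·) (h.symm _ _) (h'.symm _ _)).trans (mul_add _ _ _).symm,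
    fun _ _ => congrArg₂ (· + ·) (h.isom _ _) (h'.isom _ _)⟩

theorem ok_tneg {T : Trip K} (h : T.OK ε) : (tneg T).OK ε :=
  ⟨h.nondeg, h.symm, fun u v => (h.isom u v) ▸ by
    change T.B (-T.g u) (-T.g v) = _
    simp⟩

theorem ok_tsc {T : Trip K} (h : T.OK ε) {c : K} (hc : c ≠ 0) : (tsc c T).OK ε :=
  ⟨fun x hx => h.nondeg x fun y => (mul_eq_zero.1 (hx y)).resolve_left hc,
    fun x y => (congrArg (c * ·) (h.symm x y)).trans (mul_left_comm _ _ _), fun u v => congrArg (c * ·) (h.isom u v)⟩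

theorem valid_tsum {T S : Trip K} {s t : Multiset ℕ} (h : Valid ε s T) (h' : Valid ε t S) : Valid ε (s + t) (tsum T S) :=
  ⟨ok_tsum h.1 h'.1, fun k => by rw [tsum_end, prk_add, ← h.2, ← h'.2]; exact rk_prodMap _ _ k⟩

theorem iso_of_isCompl {T : Trip K} (h : T.OK ε) {U W : Submodule K T.V} (hc : IsCompl U W) (hU : ∀ w ∈ U, T.g w ∈ U)
    (hW : ∀ w ∈ W, T.g w ∈ W) (ho : ∀ u ∈ U, ∀ w ∈ W, T.B u w = 0) :
    (tres T U hU).OK ε ∧ (tres T W hW).OK ε ∧ iso K (tsum (tres T U hU) (tres T W hW)) T := by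
  have ho' : ∀ w ∈ W, ∀ u ∈ U, T.B w u = 0 := fun w hw u hu => by rw [h.symm, ho u hu w hw, mul_zero]
  refine ⟨⟨nondeg_of_isCompl h.nondeg hc ho, fun _ _ => h.symm _ _, fun _ _ => h.isom _ _⟩,
    ⟨nondeg_of_isCompl h.nondeg hc.symm ho', fun _ _ => h.symm _ _, fun _ _ => h.isom _ _⟩,
    Submodule.prodEquivOfIsCompl U W hc, fun v => (map_add T.g _ _).symm, fun u v => ?_⟩
  change T.B (u.1.1 + u.2.1) (v.1.1 + v.2.1) = T.B u.1.1 v.1.1 + T.B u.2.1 v.2.1
  simp [ho _ u.1.2 _ v.2.2, ho' _ u.2.2 _ v.1.2]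

theorem exists_split {T : Trip K} (h : T.OK ε) : ∃ A S : Trip K, A.OK ε ∧ S.OK ε ∧ iso K (tsum A S) T ∧
    IsNilpotent ((A.g : End K A.V) - 1) ∧ ∀ v, S.g v = v → v = 0 := by
  obtain ⟨N, hN, h1⟩ := (((T.g : End K T.V) - 1).eventually_isCompl_ker_pow_range_pow.and
    (Filter.eventually_ge_atTop 1)).exists
  have hc : Commute (T.g : End K T.V) (((T.g : End K T.V) - 1) ^ N) :=
    ((Commute.refl _).sub_right (Commute.one_right _)).pow_right N
  have hU : ∀ w ∈ LinearMap.ker (((T.g : End K T.V) - 1) ^ N), T.g w ∈ LinearMap.ker (((T.g : End K T.V) - 1) ^ N) :=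
    fun w hw => (LinearMap.congr_fun hc.eq w).symm.trans (by simp [LinearMap.mem_ker.1 hw])
  have hW : ∀ w ∈ LinearMap.range (((T.g : End K T.V) - 1) ^ N),
      T.g w ∈ LinearMap.range (((T.g : End K T.V) - 1) ^ N) := by
    rintro _ ⟨w, rfl⟩
    exact ⟨T.g w, (LinearMap.congr_fun hc.eq w).symm⟩
  obtain ⟨a1, a2, a3⟩ := iso_of_isCompl h hN hU hW (by
    rintro u hu _ ⟨w, rfl⟩
    rw [form_sub_one_pow h.isom, LinearMap.mem_ker.1 hu]; simp)
  refine ⟨_, _, a1, a2, a3, ⟨N, LinearMap.ext fun w => Subtype.ext ?_⟩, fun v hv => Subtype.ext ?_⟩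
  · exact (sub_one_pow_intertwine (g := (T.g : End K T.V)) (Submodule.subtype _) (fun _ => rfl) N w).trans w.2
  · refine Submodule.disjoint_def.1 hN.disjoint _ ?_ v.2
    obtain ⟨M, rfl⟩ := Nat.exists_eq_add_of_le' h1
    have : T.g v.1 = v.1 := congrArg Subtype.val hv
    simp [pow_succ, this]

theorem exists_decomp {T : Trip K} (h : T.OK ε) : ∃ A C S : Trip K, A.OK ε ∧ C.OK ε ∧ S.OK ε ∧
    iso K (tsum A (tsum (tneg C) S)) T ∧ IsNilpotent ((A.g : End K A.V) - 1) ∧ IsNilpotent ((C.g : End K C.V) - 1) ∧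
    (∀ v, (tsum (tneg C) S).g v = v → v = 0) ∧ ∀ v, S.g v = -v → v = 0 := by
  obtain ⟨A, S₁, a1, a2, a3, a4, a5⟩ := exists_split h
  obtain ⟨C, S, b1, b2, b3, b4, b5⟩ := exists_split (ok_tneg a2)
  have h1 : iso K (tsum (tneg C) (tneg S)) S₁ :=
    (iso K).trans (iso_tneg_tsum _ _) ((iso K).trans (iso_tneg b3) (iso_tneg_tneg _))
  refine ⟨A, C, tneg S, a1, b1, ok_tneg b2, (iso K).trans (iso_tsum ((iso K).refl _) h1) a3, a4, b4, fun v hv => ?_,
    fun v hv => b5 v (neg_injective hv)⟩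
  obtain ⟨e, h2, -⟩ := h1
  exact e.map_eq_zero_iff.1 (a5 _ (by rw [← h2, hv]))

section Linear

variable {V W : Type*} [AddCommGroup V] [Module K V] [AddCommGroup W] [Module K W]

theorem kd_eq_zero_of_coprime {f : End K V} {P Q : K[X]} (h : IsCoprime P Q) (hQ : aeval f Q = 0) : kd f P = 0 := by
  obtain ⟨a, b, hab⟩ := h
  have h1 := congrArg (aeval f) hab
  rw [map_add, map_mul, map_mul, hQ, mul_zero, add_zero, map_one] at h1
  rw [kd, LinearMap.ker_eq_bot.2 (Function.LeftInverse.injective (g := aeval f a) (LinearMap.congr_fun h1)), finrank_bot]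

theorem kd_eq_zero_of_inj {f : End K V} {c : K} (h : ∀ v, f v = c • v → v = 0) (k : ℕ) : kd f ((X - C c) ^ k) = 0 := by
  have h1 : Function.Injective (f - algebraMap K (End K V) c) :=
    LinearMap.ker_eq_bot.1 (LinearMap.ker_eq_bot'.2 fun v hv => h v (sub_eq_zero.1 hv))
  rw [kd, map_pow, map_sub, aeval_X, aeval_C, LinearMap.ker_eq_bot.2 (by rw [End.coe_pow]; exact h1.iterate k), finrank_bot]

theorem rk_of_hasED {f : End K V} {t : Multiset ℕ} (h : HasED f (t.map fun e => (X - 1 : K[X]) ^ e)) (k : ℕ) :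
    rk f k = prk t k := by
  have := h.finiteDimensional
  have h1 := rk_add_ker f k
  have h2 := sum_min_add_prk t k
  rw [← aeval_X_sub_one_pow (K := K), ← kd, h.kd_eq, h.finrank_eq] at h1
  simp only [Multiset.map_map, Function.comp_def, kdc_pow_pow monic_X_sub_one.ne_zero, natDegree_X_sub_one', mul_one,
    natDegree_pow, Multiset.map_id'] at h1
  omega

theorem sim_of_rk [FiniteDimensional K V] [FiniteDimensional K W] {f : End K V} {g : End K W} {t : Multiset ℕ}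
    (hf : ∀ k, rk f k = prk t k) (hg : ∀ k, rk g k = prk t k) : Sim f g := by
  refine sim_of_kd_pow fun π h1 h2 k => ?_
  by_cases h : π = X - 1
  · have h3 := rk_add_ker f k
    have h4 := rk_add_ker g k
    rw [← rk_zero f, hf, hf] at h3
    rw [← rk_zero g, hg, hg] at h4
    rw [h, kd, kd, aeval_X_sub_one_pow, aeval_X_sub_one_pow]
    omega
  · have h3 := isCoprime_of_monic_irreducible_ne h1 h2 monic_X_sub_one irreducible_X_sub_one h
    obtain ⟨a, ha⟩ := isNilpotent_of_rk_eq_prk hf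
    obtain ⟨b, hb⟩ := isNilpotent_of_rk_eq_prk hg
    rw [kd_eq_zero_of_coprime h3.pow (by rwa [aeval_X_sub_one_pow]),
      kd_eq_zero_of_coprime h3.pow (by rwa [aeval_X_sub_one_pow])]

theorem hasED_of_rk [FiniteDimensional K V] {f : End K V} {t : Multiset ℕ} (ht : ∀ a ∈ t, 0 < a)
    (hf : ∀ k, rk f k = prk t k) : HasED f (t.map fun e => (X - 1 : K[X]) ^ e) := by
  obtain ⟨g, hg⟩ := exists_end_hasED (V := V) (t.map fun e => (X - 1 : K[X]) ^ e) (fun P hP => by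
    obtain ⟨a, ha, rfl⟩ := Multiset.mem_map.1 hP
    exact isPrimaryPoly_pow monic_X_sub_one irreducible_X_sub_one (ht a ha))
    (by rw [← rk_zero f, hf, prk_zero]; simp [natDegree_X_sub_one'])
  exact .of_sim (sim_of_rk hf (rk_of_hasED hg)) hg

end Linear

/-- The Jordan blocks of largest size split off orthogonally. -/
theorem exists_top_split {T : Trip K} {a M : ℕ} {t : Multiset ℕ} (h : Valid ε (Multiset.replicate a (M + 1) + t) T)
    (ht : ∀ j ∈ t, 0 < j ∧ j ≤ M) :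
    ∃ A S : Trip K, Valid ε (Multiset.replicate a (M + 1)) A ∧ Valid ε t S ∧ iso K (tsum A S) T := by
  have h1 := hasED_of_rk (fun j hj => (Multiset.mem_add.1 hj).elim
    (fun hj => Multiset.eq_of_mem_replicate hj ▸ M.succ_pos) fun hj => (ht j hj).1) h.2
  rw [Multiset.map_add] at h1
  obtain ⟨U, W, hc, ⟨hU, h2⟩, ⟨hW, h3⟩⟩ := Elu.exists_isCompl_of_hasED h1
  have h4 := rk_of_hasED h2
  have h5 : ∀ w ∈ W, (((T.g : End K T.V) - 1) ^ M) w = 0 := fun w hw => by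
    rw [← show _ = (((T.g : End K T.V) - 1) ^ M) w from
      sub_one_pow_intertwine (a := (T.g : End K T.V).restrict hW) W.subtype (fun _ => rfl) M ⟨w, hw⟩,
      rk_eq_zero_iff.1 ((rk_of_hasED h3 M).trans (prk_eq_zero fun j hj => (ht j hj).2))]
    rfl
  set f := (T.g : End K T.V).restrict hU
  have h6 : LinearMap.range ((f - 1) ^ M) = LinearMap.ker (f - 1) := by
    refine Submodule.eq_of_le_of_finrank_eq ?_ ?_
    · rintro _ ⟨u, rfl⟩
      rw [LinearMap.mem_ker, ← End.mul_apply, ← pow_succ', rk_eq_zero_iff.1 ((h4 _).trans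
        (prk_eq_zero fun j hj => (Multiset.eq_of_mem_replicate hj).le))]
      rfl
    · have h7 := rk_add_ker f 1
      rw [← rk_zero f, h4, h4, pow_one] at h7
      rw [← rk, h4]
      simp only [prk, Multiset.map_replicate, Multiset.sum_replicate, smul_eq_mul] at h7 ⊢
      simp only [Nat.succ_eq_add_one, Nat.add_sub_cancel, tsub_zero, mul_add, Nat.add_sub_cancel_left] at h7 ⊢
      omega
  have hn : IsNilpotent (f - 1) := isNilpotent_of_rk_eq_prk h4
  have hp := orthogonal_invariant T.B T.g h.1.isom U hU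
  have hd : Disjoint U (U.orthogonalBilin T.B) := by
    by_contra hd
    obtain ⟨x, x1, x2, x3⟩ : ∃ x : U, x.1 ∈ U.orthogonalBilin T.B ∧ x ≠ 0 ∧ (f - 1) x = 0 := by
      obtain ⟨y, y1, y2⟩ := (Submodule.ne_bot_iff _).1 (mt disjoint_iff.2 hd)
      classical
      have hex : ∃ k : ℕ, ((f - 1) ^ k : End K U) ⟨y, y1.1⟩ = 0 := let ⟨k, hk⟩ := hn; ⟨k, by rw [hk]; rfl⟩
      obtain ⟨k, hk⟩ := Nat.exists_eq_succ_of_ne_zero (n := Nat.find hex) fun h0 =>
        y2 (by simpa [h0] using Nat.find_spec hex)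
      refine ⟨((f - 1) ^ k) ⟨y, y1.1⟩, ?_, Nat.find_min hex (by omega), by
        rw [← End.mul_apply, ← pow_succ', ← Nat.succ_eq_add_one, ← hk]; exact Nat.find_spec hex⟩
      clear hk
      induction k with
      | zero => exact y1.2
      | succ k ih => rw [pow_succ']; exact sub_mem (hp _ ih) ih
    obtain ⟨u, rfl⟩ : x ∈ LinearMap.range ((f - 1) ^ M) := h6 ▸ x3
    refine x2 (Subtype.ext (h.1.nondeg _ fun y => ?_))
    obtain ⟨y1, h7, y2, h8, rfl⟩ := Submodule.mem_sup.1 (hc.sup_eq_top ▸ Submodule.mem_top (x := y))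
    rw [h.1.symm, map_add, LinearMap.add_apply, x1 _ h7,
      show (((f - 1) ^ M) u).1 = (((T.g : End K T.V) - 1) ^ M) u from
        sub_one_pow_intertwine (a := f) U.subtype (fun _ => rfl) M u,
      form_sub_one_pow h.1.isom, h5 _ h8]
    simp
  have hr : T.B.IsRefl := fun x y e => by rw [h.1.symm, e, mul_zero]
  have hc' : IsCompl U (U.orthogonalBilin T.B) := LinearMap.BilinForm.isCompl_orthogonal_iff_disjoint hr |>.2 hd
  obtain ⟨a1, a2, a3⟩ := iso_of_isCompl h.1 hc' hU hp fun u hu w hw => hw u hu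
  refine ⟨_, _, ⟨a1, h4⟩, ⟨a2, fun k => ?_⟩, a3⟩
  have h7 := rk_of_iso a3 k
  rw [h.2, prk_add, ← h4, tsum_end] at h7
  exact Nat.add_left_cancel ((rk_prodMap _ _ k).symm.trans h7)

/-- The number of isomorphism classes with a property. -/
noncomputable def nc (P : Trip K → Prop) : ℕ := Nat.card {c : Quotient (iso K) // ∃ T, Quotient.mk (iso K) T = c ∧ P T}

/-- Properties of bounded dimension. -/
def Bd (P : Trip K → Prop) : Prop := ∃ N, ∀ T, P T → finrank K T.V = N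

theorem Bd.mono {P Q : Trip K → Prop} (h : Bd Q) (h' : ∀ T, P T → Q T) : Bd P := h.imp fun _ h T hT => h T (h' T hT)

theorem bd_valid (s : Multiset ℕ) : Bd (Valid ε s) := ⟨_, fun _ h => h.finrank_eq⟩

variable [Finite K]

theorem Bd.finite {P : Trip K → Prop} (h : Bd P) :
    Finite {c : Quotient (iso K) // ∃ T, Quotient.mk (iso K) T = c ∧ P T} := by
  obtain ⟨N, hN⟩ := h
  have : Finite (LinearMap.BilinForm K (Fin N → K)) := Module.finite_of_finite K
  have : Finite ((Fin N → K) ≃ₗ[K] (Fin N → K)) := DFunLike.finite _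
  refine Set.Finite.subset (Set.finite_range fun x : LinearMap.BilinForm K (Fin N → K) × ((Fin N → K) ≃ₗ[K] (Fin N → K)) =>
    Quotient.mk (iso K) ⟨_, x.1, x.2⟩) ?_
  rintro _ ⟨T, rfl, hT⟩
  let e : (Fin N → K) ≃ₗ[K] T.V := LinearEquiv.ofFinrankEq _ _ (by simp [hN T hT])
  exact ⟨(T.B.compl₁₂ e.toLinearMap e.toLinearMap, e.trans (T.g.trans e.symm)),
    Quotient.sound ⟨e, fun v => by simp, fun _ _ => rfl⟩⟩

theorem nc_mono {P Q : Trip K → Prop} (h : Bd Q) (h' : ∀ T, P T → ∃ S, Q S ∧ iso K S T) : nc P ≤ nc Q := by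
  have := h.finite
  refine Nat.card_le_card_of_injective (Subtype.map id ?_) (Subtype.map_injective _ Function.injective_id)
  rintro _ ⟨T, rfl, hT⟩
  obtain ⟨S, h1, h2⟩ := h' T hT
  exact ⟨S, Quotient.sound h2, h1⟩

theorem nc_le_mul {P P₁ P₂ : Trip K → Prop} (h₁ : Bd P₁) (h₂ : Bd P₂)
    (h : ∀ T, P T → ∃ A S, P₁ A ∧ P₂ S ∧ iso K (tsum A S) T) : nc P ≤ nc P₁ * nc P₂ := by
  have := h₁.finite
  have := h₂.finite
  have key : ∀ c : {c : Quotient (iso K) // ∃ T, Quotient.mk (iso K) T = c ∧ P T},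
      ∃ A S, P₁ A ∧ P₂ S ∧ Quotient.mk (iso K) (tsum A S) = c.1 := by
    rintro ⟨_, T, rfl, hT⟩
    obtain ⟨A, S, h1, h2, h3⟩ := h T hT
    exact ⟨A, S, h1, h2, Quotient.sound h3⟩
  choose A S h1 h2 h3 using key
  rw [nc, nc, nc, ← Nat.card_prod]
  refine Nat.card_le_card_of_injective (fun c => (⟨_, A c, rfl, h1 c⟩, ⟨_, S c, rfl, h2 c⟩)) fun c c' e => ?_
  simp only [Prod.mk.injEq, Subtype.mk.injEq, Quotient.eq] at e
  exact Subtype.ext (by rw [← h3, ← h3]; exact Quotient.sound (iso_tsum e.1 e.2))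

theorem nc_disc {P : Trip K → Prop} (h : Bd P) (τ : Prop) :
    nc (fun T => P T ∧ (sqDisc T.B ↔ τ)) + nc (fun T => P T ∧ (sqDisc T.B ↔ ¬ τ)) = nc P := by
  have := h.finite
  refine (Set.ncard_union_eq (s := {c | _}) (t := {c | _}) (Set.disjoint_left.2 ?_) (Set.Finite.subset this ?_)
    (Set.Finite.subset this ?_)).symm.trans (congrArg Set.ncard (Set.ext fun c => ⟨?_, ?_⟩))
  · rintro _ ⟨T, rfl, -, h1⟩ ⟨S, h2, -, h3⟩
    exact iff_not_self (h1.symm.trans ((iso_disc (Quotient.exact h2)).symm.trans h3))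
  · exact fun c ⟨T, h1, h2, _⟩ => ⟨T, h1, h2⟩
  · exact fun c ⟨T, h1, h2, _⟩ => ⟨T, h1, h2⟩
  · rintro (⟨T, h1, h2, -⟩ | ⟨T, h1, h2, -⟩) <;> exact ⟨T, h1, h2⟩
  · rintro ⟨T, h1, h2⟩
    by_cases h3 : sqDisc T.B ↔ τ
    exacts [.inl ⟨T, h1, h2, h3⟩, .inr ⟨T, h1, h2, by tauto⟩]

/-- Each discriminant carries at most half of `w`. -/
def Bal (P : Trip K → Prop) (w : ℕ) : Prop := ∀ τ : Prop, 2 * nc (fun T => P T ∧ (sqDisc T.B ↔ τ)) ≤ w

theorem Bal.sum_left {P P₁ P₂ : Trip K → Prop} {w₁ w₂ : ℕ} (h₁ : Bd P₁) (h₂ : Bd P₂) (hP : Bd P)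
    (h : ∀ T, P T → ∃ A S, P₁ A ∧ P₂ S ∧ A.OK ε ∧ S.OK ε ∧ iso K (tsum A S) T) (hb : Bal P₁ w₁) (hw : nc P₂ ≤ w₂) :
    Bal P (w₁ * w₂) := fun τ => by
  have key : ∀ ρ : Prop, nc (fun T => (P T ∧ (sqDisc T.B ↔ τ)) ∧ ∃ A S, P₁ A ∧ P₂ S ∧ A.OK ε ∧ S.OK ε ∧
      iso K (tsum A S) T ∧ (sqDisc S.B ↔ ρ)) ≤ nc (fun A => P₁ A ∧ (sqDisc A.B ↔ (ρ ↔ τ))) *
      nc (fun S => P₂ S ∧ (sqDisc S.B ↔ ρ)) := fun ρ =>
    nc_le_mul (h₁.mono fun _ h => h.1) (h₂.mono fun _ h => h.1) fun T ⟨h1, A, S, h2, h3, h4, h5, h6, h7⟩ =>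
      ⟨A, S, ⟨h2, (by tauto : ∀ a s : Prop, ((a ↔ s) ↔ τ) → (s ↔ ρ) → (a ↔ (ρ ↔ τ))) _ _
        ((sqDisc_prodForm h4.nondeg h5.nondeg).symm.trans ((iso_disc h6).trans h1.2)) h7⟩, ⟨h3, h7⟩, h6⟩
  have h1 : nc (fun T => P T ∧ (sqDisc T.B ↔ τ)) ≤ _ + _ := le_trans ?_ (add_le_add (key True) (key ¬ True))
  · have h2 := nc_disc h₂ True
    nlinarith [Nat.mul_le_mul_right (nc fun S => P₂ S ∧ (sqDisc S.B ↔ True)) (hb (True ↔ τ)),
      Nat.mul_le_mul_right (nc fun S => P₂ S ∧ (sqDisc S.B ↔ ¬ True)) (hb (¬ True ↔ τ)), Nat.mul_le_mul_left w₁ hw]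
  refine le_trans (Set.ncard_le_ncard (s := {c | _}) ?_ (Set.Finite.union (s := {c | _}) (t := {c | _})
    (hP.mono fun _ h => h.1.1).finite (hP.mono fun _ h => h.1.1).finite)) (Set.ncard_union_le _ _)
  rintro _ ⟨T, rfl, h1⟩
  obtain ⟨A, S, h2, h3, h4, h5, h6⟩ := h T h1.1
  by_cases h7 : sqDisc S.B
  exacts [.inl ⟨T, rfl, h1, A, S, h2, h3, h4, h5, h6, by simpa⟩, .inr ⟨T, rfl, h1, A, S, h2, h3, h4, h5, h6, by simpa⟩]

theorem sqDisc_smul {V : Type*} [AddCommGroup V] [Module K V] [FiniteDimensional K V] {B : LinearMap.BilinForm K V}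
    (hB : ∀ x, (∀ y, B x y = 0) → x = 0) (hV : Odd (finrank K V)) {c : K} (hc : ¬ IsSquare c) :
    sqDisc (c • B) ↔ ¬ sqDisc B := by
  have h0 : c ≠ 0 := fun h => hc (h ▸ IsSquare.zero)
  obtain ⟨k, hk⟩ := hV
  rw [sqDisc, sqDisc, map_smul, Matrix.det_smul, Fintype.card_fin, isSquare_mul_iff (pow_ne_zero _ h0)
    (det_ne_zero_of_nondeg hB _), show c ^ finrank K V = c ^ (2 * k) * c by rw [hk, pow_succ],
    isSquare_mul_iff (pow_ne_zero _ h0) h0]
  simp [hc, show IsSquare (c ^ (2 * k)) from ⟨c ^ k, by ring⟩]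

variable (h2 : (2 : K) ≠ 0)
include h2

theorem cnt_add (i : ℕ) {s t : Multiset ℕ} (h : ∀ a ∈ s, a ∉ t) :
    cnt ((-1 : K) ^ i) (s + t) = cnt ((-1 : K) ^ i) s * cnt ((-1 : K) ^ i) t := by
  have h1 : ∀ a ∈ s + t, a ≤ (s + t).sum := fun a ha => Multiset.single_le_sum (fun _ _ => Nat.zero_le _) a ha
  rw [cnt_eq h2 _ i _ h1, cnt_eq h2 _ i s fun a ha => h1 a (Multiset.mem_add.2 (.inl ha)),
    cnt_eq h2 _ i t fun a ha => h1 a (Multiset.mem_add.2 (.inr ha)), ← Finset.prod_mul_distrib]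
  refine Finset.prod_congr rfl fun k _ => ?_
  rw [Multiset.count_add]
  by_cases h3 : k + 1 ∈ s
  · simp [Multiset.count_eq_zero_of_notMem (h _ h3), wt]
  · simp [Multiset.count_eq_zero_of_notMem h3, wt]

theorem bal_replicate (a : ℕ) {M : ℕ} (hM : Odd M) :
    Bal (Valid (1 : K) (Multiset.replicate (a + 1) M)) (cnt (1 : K) (Multiset.replicate (a + 1) M)) := by
  have h0 : ∀ b, ∃ T, Valid (1 : K) (Multiset.replicate b M) T := fun b => by
    obtain ⟨⟨_, T, -, hT⟩⟩ := (Nat.card_ne_zero.1 (cnt_one_ne_zero h2 (s := Multiset.replicate b M) fun j hj _ => by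
      rw [Multiset.count_replicate, if_neg]; exacts [Even.zero, fun e => (Nat.not_even_iff_odd.2 hM) (e ▸ hj)])).1
    exact ⟨T, hT⟩
  obtain ⟨T, hT⟩ := h0 a
  obtain ⟨J, hJ⟩ := h0 1
  obtain ⟨c, hc⟩ := FiniteField.exists_nonsquare (Cls.ringChar_ne_two_of_two_ne_zero h2)
  have hJ' : Valid (1 : K) (Multiset.replicate 1 M) (tsc c J) := ⟨ok_tsc hJ.1 fun h => hc (h ▸ IsSquare.zero), hJ.2⟩
  have h1 : ∀ τ : Prop, nc (fun S => Valid (1 : K) (Multiset.replicate (a + 1) M) S ∧ (sqDisc S.B ↔ τ)) ≠ 0 := fun τ => by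
    refine Nat.card_ne_zero.2 ⟨?_, ((bd_valid _).mono fun _ h => h.1).finite⟩
    have e1 : sqDisc (tsum T J).B ↔ _ := sqDisc_prodForm hT.1.nondeg hJ.1.nondeg
    have e2 : sqDisc (tsum T (tsc c J)).B ↔ _ := sqDisc_prodForm hT.1.nondeg hJ'.1.nondeg
    have e3 : sqDisc (tsc c J).B ↔ ¬ sqDisc J.B := sqDisc_smul hJ.1.nondeg (by simpa [hJ.finrank_eq] using hM) hc
    by_cases h : sqDisc (tsum T J).B ↔ τ
    · exact ⟨_, _, rfl, Multiset.replicate_add a 1 M ▸ valid_tsum hT hJ, h⟩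
    · have e4 := (by grind : ∀ a b c d e : Prop,
        (a ↔ (b ↔ c)) → (d ↔ (b ↔ e)) → (e ↔ ¬ c) → ¬ (a ↔ τ) → (d ↔ τ)) _ _ _ _ _ e1 e2 e3 h
      exact ⟨_, tsum T (tsc c J), rfl, Multiset.replicate_add a 1 M ▸ valid_tsum hT hJ', e4⟩
  have h3 : cnt (1 : K) (Multiset.replicate (a + 1) M) = 2 := by
    obtain ⟨k, rfl⟩ := hM
    rw [← pow_zero (-1 : K), cnt_eq h2 (2 * k + 1) 0 _ fun j hj => (Multiset.eq_of_mem_replicate hj).le,
      Finset.prod_range_succ, Finset.prod_eq_one fun j hj => ?_]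
    · simp [wt]
    · rw [Multiset.count_replicate, if_neg (by have := Finset.mem_range.1 hj; omega)]
      simp [wt]
  intro τ
  have h4 : _ = cnt (1 : K) _ := nc_disc (bd_valid (ε := (1 : K)) (Multiset.replicate (a + 1) M)) τ
  have := h1 ¬ τ
  omega

theorem bal_valid (n : ℕ) : ∀ s : Multiset ℕ, s.card ≤ n → (∀ a ∈ s, 0 < a) → (∃ a ∈ s, Odd a) →
    Bal (Valid (1 : K) s) (cnt (1 : K) s) := by
  induction n with
  | zero => rintro s h - ⟨a, ha, -⟩; simp [Multiset.card_eq_zero.1 (Nat.le_zero.1 h)] at ha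
  | succ n ih =>
    rintro s h hs ⟨j, hj, hj'⟩
    obtain ⟨M, h3, h4⟩ := s.toFinset.exists_max_image id ⟨j, Multiset.mem_toFinset.2 hj⟩
    simp only [Multiset.mem_toFinset, id] at h3 h4
    obtain ⟨M, rfl⟩ := Nat.exists_eq_add_of_le' (hs M h3)
    obtain ⟨a, ha⟩ := Nat.exists_eq_succ_of_ne_zero (Multiset.count_ne_zero.2 h3)
    have h5 : s = Multiset.replicate (a + 1) (M + 1) + s.filter (· ≠ M + 1) := by
      conv_lhs => rw [← Multiset.filter_add_not (· = M + 1) s, Multiset.filter_eq', ha]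
    have h6 : ∀ b ∈ s.filter (· ≠ M + 1), 0 < b ∧ b ≤ M := fun b hb => by
      rw [Multiset.mem_filter] at hb
      exact ⟨hs b hb.1, by have := h4 b hb.1; omega⟩
    have h7 := cnt_add h2 0 (s := Multiset.replicate (a + 1) (M + 1)) (t := s.filter (· ≠ M + 1))
      fun b hb hb' => (Multiset.mem_filter.1 hb').2 (Multiset.eq_of_mem_replicate hb)
    generalize s.filter (· ≠ M + 1) = t at *
    subst h5
    rw [pow_zero] at h7
    rw [h7]
    by_cases hM : Odd (M + 1)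
    · refine Bal.sum_left (ε := 1) (bd_valid _) (bd_valid t) (bd_valid _) (fun T hT => ?_) (bal_replicate h2 a hM) le_rfl
      obtain ⟨A, S, h9, h10, h11⟩ := exists_top_split hT h6
      exact ⟨A, S, h9, h10, h9.1, h10.1, h11⟩
    · rw [mul_comm]
      refine Bal.sum_left (ε := 1) (bd_valid t) (bd_valid _) (bd_valid _) (fun T hT => ?_) (ih t (by simp at h; omega)
        (fun b hb => (h6 b hb).1) ⟨j, (Multiset.mem_add.1 hj).resolve_left fun e =>
          hM (Multiset.eq_of_mem_replicate e ▸ hj'), hj'⟩) le_rfl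
      obtain ⟨A, S, h9, h10, h11⟩ := exists_top_split hT h6
      exact ⟨S, A, h10, h9, h10.1, h9.1, (iso K).trans (iso_tsum_comm _ _) h11⟩

end CL.ClassNo
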