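/-
Class numbers of classical groups, part 9: counting formed spaces with an isometry through layers.
-/
import Cfsg.Agent.Known.ClassNo8

set_option autoImplicit false

open Module Polynomial Finset

namespace CL.ClassNo

open CL.GLn CL.Known CL.Known.Trip

universe u

theorem weighted_count₂ {α C : Type*} [Finite C] {n k : ℕ} (dg : α → ℕ) (T : ℕ → Finset α) (ω ω' : ℕ → α → ℝ)
    (β β' : ℕ → ℕ → ℝ) (hω : ∀ e f, 0 ≤ ω e f) (hω' : ∀ e f, 0 ≤ ω' e f) (hβ : ∀ e m, ∑ f ∈ T m, ω e f ≤ β e m)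
    (hβ' : ∀ e m, ∑ f ∈ T m, ω' e f ≤ β' e m) (Φ : C → Fin k → α)
    (hT : ∀ c (e : Fin k), Φ c e ∈ T (dg (Φ c e))) (hdeg : ∀ c, ∑ e : Fin k, (e + 1) * dg (Φ c e) = n) {r : ℝ}
    (hr : 0 < r) (hfib : ∀ c, r * Nat.card {c' // Φ c' = Φ c} ≤ ∏ e : Fin k, ω e (Φ c e) + ∏ e : Fin k, ω' e (Φ c e)) :
    r * Nat.card C ≤ PowerSeries.coeff n (∏ e ∈ range k, ser (e + 1) (β e)) +
      PowerSeries.coeff n (∏ e ∈ range k, ser (e + 1) (β' e)) := by
  classical
  rw [coeff_prod_ser, coeff_prod_ser, ← sum_add_distrib, ← le_div_iff₀' hr, sum_div,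
    ← Nat.card_congr (Equiv.subtypeUnivEquiv (p := fun _ : C => True) fun _ => trivial)]
  refine card_le_sum_fib _ _ (fun c e => dg (Φ c e)) (fun c _ => mem_typ.2 (hdeg c)) _ fun m _ => ?_
  refine le_trans ?_ (div_le_div_of_nonneg_right (add_le_add
    (prod_le_prod (fun e _ => sum_nonneg fun f _ => hω e f) fun e _ => hβ e (m e))
    (prod_le_prod (fun e _ => sum_nonneg fun f _ => hω' e f) fun e _ => hβ' e (m e))) hr.le)
  rw [prod_univ_sum, prod_univ_sum, ← sum_add_distrib, sum_div]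
  refine card_le_sum_fib _ _ Φ (fun c hc => Fintype.mem_piFinset.2 fun e => ?_) _ fun u _ => ?_
  · rw [← hc.2]; exact hT c e
  · exact card_fib_le (f := Φ) (div_nonneg (add_nonneg (prod_nonneg fun e _ => hω _ _) (prod_nonneg fun e _ => hω' _ _))
      hr.le) (fun c hc => hc.2 ▸ (le_div_iff₀' hr).2 (hfib c)) fun c c' hc hc' => hc'.2.trans hc.2.symm

variable {K : Type u} [Field K] {ε : K}

open Classical in
/-- The Jordan type at the eigenvalue `c`. -/
noncomputable def jt (c : K) (s : Multiset K[X]) : Multiset ℕ := (s.filter fun P => ∃ j, P = (X - C c) ^ (j + 1)).map natDegree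

theorem jt_pos {c : K} {s : Multiset K[X]} : ∀ a ∈ jt c s, 0 < a := fun a ha => by
  classical
  obtain ⟨P, hP, rfl⟩ := Multiset.mem_map.1 ha
  obtain ⟨j, rfl⟩ := (Multiset.mem_filter.1 hP).2
  simp

open Classical in
theorem count_jt (c : K) (s : Multiset K[X]) (k : ℕ) : (jt c s).count (k + 1) = s.count ((X - C c) ^ (k + 1)) := by
  rw [jt, Multiset.count_map, Multiset.filter_filter, Multiset.count_eq_card_filter_eq]
  refine congrArg _ (Multiset.filter_congr fun P _ => ⟨?_, ?_⟩)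
  · rintro ⟨h, j, rfl⟩
    obtain rfl : k = j := by simpa using h
    rfl
  · rintro rfl
    exact ⟨by simp, k, rfl⟩

theorem rk_eq_jt {V W : Type*} [AddCommGroup V] [Module K V] [AddCommGroup W] [Module K W] [FiniteDimensional K W]
    {f : End K V} {s : Multiset K[X]} (hf : HasED f s) {a : End K W} (ha : IsNilpotent (a - 1)) {c : K}
    (h : ∀ k, finrank K (LinearMap.ker ((a - 1) ^ k)) = kd f ((X - C c) ^ k)) (k : ℕ) : rk a k = prk (jt c s) k := by
  classical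
  obtain ⟨μ, hμ⟩ := exists_rk_eq_prk ha
  rw [hμ]
  congr 1
  ext j
  rcases j with _ | j
  · rw [Multiset.count_eq_zero.2 fun h => (μ.parts_pos h).false, Multiset.count_eq_zero.2 fun h => (jt_pos _ h).false]
  have h1 := prk_second μ.parts j
  have h2 := hf.count_eq (monic_X_sub_C c) (irreducible_X_sub_C c) j
  have h3 := fun k => rk_add_ker a k
  simp only [h, hμ] at h3
  rw [count_jt]
  simp only [natDegree_X_sub_C, mul_one] at h2
  have := h3 j
  have := h3 (j + 1)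
  have := h3 (j + 2)
  omega

theorem kd_tsum (T S : Trip K) (P : K[X]) :
    kd ((tsum T S).g : End K (tsum T S).V) P = kd (T.g : End K T.V) P + kd (S.g : End K S.V) P :=
  Elu.kd_prodMap (T.g : End K T.V) (S.g : End K S.V) P

theorem ok_recip {T : Trip K} (h : T.OK ε) {s : Multiset K[X]} (hs : HasED (T.g : End K T.V) s) :
    (∀ P ∈ s, ¬ X ∣ P) ∧ s.map (recip (RingHom.id K)) = s := by
  let b := finBasis K T.V
  set A := LinearMap.toMatrix b b (T.g : End K T.V)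
  have hA : IsUnit A := (Matrix.isUnit_iff_isUnit_det _).2 (T.g.isUnit_det b b)
  obtain rfl : elemDiv A = s := (hasED_elemDiv A).eq_of_sim hs (sim_toLin'_toMatrix b _).symm
  refine ⟨(isUnit_iff_elemDiv _).1 hA, ?_⟩
  obtain ⟨G, hG⟩ := (Matrix.isUnit_iff_isUnit_det _).2 (det_ne_zero_of_nondeg h.nondeg b).isUnit
  have h1 := LinearMap.BilinForm.toMatrix_comp b b T.B (T.g : End K T.V) (T.g : End K T.V)
  rw [show T.B.comp (T.g : End K T.V) (T.g : End K T.V) = T.B from LinearMap.ext₂ h.isom, ← hG] at h1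
  rw [← elemDiv_star (fun _ => rfl) hA, eq_comm, ← isConj_iff_elemDiv, isConj_matrix_iff]
  refine ⟨G, (Matrix.inv_eq_right_inv ?_).symm⟩
  change A.transpose * _ = 1
  rw [← mul_assoc, ← mul_assoc, ← h1, Units.mul_inv]

theorem coeff_zero_mul_pow_of_recip {f : K[X]} (h : recip (RingHom.id K) f = f) {c : K} (hc : c * c = 1)
    (h1 : f.eval c ≠ 0) : f.coeff 0 * c ^ f.natDegree = 1 := by
  let _ : Invertible c := ⟨c, hc, hc⟩
  have h2 : eval c f.reverse * c ^ f.natDegree = eval c f := eval₂_reverse_mul_pow (RingHom.id K) c f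
  have h3 := congrArg (eval c) h
  rw [recip, Polynomial.map_id, eval_mul, eval_C, RingHom.id_apply] at h3
  have h4 : f.coeff 0 ≠ 0 := fun e => h1 (by rw [← h3, e]; simp)
  rw [inv_mul_eq_iff_eq_mul₀ h4] at h3
  rw [h3] at h2
  exact mul_left_cancel₀ h1 (by linear_combination h2)

open Classical in
/-- The weight of a layer without odd multiplicities. -/
noncomputable def omS (f : K[X]) : ℝ := if f.coeff 0 = 1 ∧ Even f.natDegree then 1 else 0

open Classical in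
/-- The weight of a layer carrying quadratic forms. -/
noncomputable def omB (f : K[X]) : ℝ := (if f.eval 1 = 0 then 2 else 1) * if f.eval (-1) = 0 then 2 else 1

theorem omS_nonneg (f : K[X]) : 0 ≤ omS f := by unfold omS; positivity

theorem omB_nonneg (f : K[X]) : 0 ≤ omB f := by unfold omB; positivity

theorem X_sub_C_one_ne (h2 : (2 : K) ≠ 0) : (X - C 1 : K[X]) ≠ X - C (-1) := fun e =>
  h2 (by linear_combination C_injective (sub_right_injective e))

open Classical in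
theorem omS_lay (h2 : (2 : K) ≠ 0) {u : Multiset K[X]} (hρ : u.map (recip (RingHom.id K)) = u)
    (hu : ∀ P ∈ u, P.Monic ∧ Irreducible P) (h : Even (u.count (X - C 1))) (h' : Even (u.count (X - C (-1)))) :
    omS u.prod = 1 := by
  set t := (u.filter (· ≠ X - C 1)).filter (· ≠ X - C (-1))
  have h3 : u.prod = t.prod * ((X - C 1) ^ u.count (X - C 1) * (X - C (-1)) ^ u.count (X - C (-1))) := by
    rw [← Multiset.prod_filter_mul_prod_filter_not (s := u) (· ≠ X - C 1), ← Multiset.prod_filter_mul_prod_filter_not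
      (s := u.filter (· ≠ X - C 1)) (· ≠ X - C (-1))]
    simp only [not_not, Multiset.filter_eq', Multiset.prod_replicate]
    rw [Multiset.count_filter_of_pos (p := (· ≠ X - C 1)) (X_sub_C_one_ne h2).symm]
    ring
  have h4 : ∀ c : K, X - C c ∉ t → t.prod.eval c ≠ 0 := fun c hc e => by
    obtain ⟨P, hP, hd⟩ := (prime_X_sub_C c).exists_mem_multiset_dvd (dvd_iff_isRoot.2 e)
    have := hu P (Multiset.mem_of_mem_filter (Multiset.mem_of_mem_filter hP))
    exact hc (eq_of_monic_of_associated (monic_X_sub_C c) this.1 ((irreducible_X_sub_C c).associated_of_dvd this.2 hd) ▸ hP)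
  have h5 : recip (RingHom.id K) t.prod = t.prod := by
    have h6 := recip_prod (σ := RingHom.id K) u
    rw [hρ, h3, recip_mul, recip_mul, recip_pow, recip_pow, recip_X_sub_C one_ne_zero, recip_X_sub_C (by simp)] at h6
    simp only [RingHom.id_apply, inv_one, inv_neg] at h6
    exact mul_right_cancel₀ (((monic_X_sub_C _).pow _).mul ((monic_X_sub_C _).pow _)).ne_zero h6
  have h6 := coeff_zero_mul_pow_of_recip h5 (one_mul 1) (h4 1 (by simp [t]))
  have h7 := coeff_zero_mul_pow_of_recip h5 (c := -1) (by simp) (h4 _ (by simp [t]))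
  rw [one_pow, mul_one] at h6
  rw [h6, one_mul, neg_one_pow_eq_one_iff_even fun e => h2 (by linear_combination -e)] at h7
  have h8 : t.prod.Monic := by
    simpa using monic_multiset_prod_of_monic t id fun P hP => (hu P (Multiset.mem_of_mem_filter
      (Multiset.mem_of_mem_filter hP))).1
  rw [omS, if_pos]
  rw [h3, h8.natDegree_mul (((monic_X_sub_C _).pow _).mul ((monic_X_sub_C _).pow _)),
    ((monic_X_sub_C _).pow _).natDegree_mul ((monic_X_sub_C _).pow _)]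
  refine ⟨?_, by simpa [-map_one, -map_neg] using h7.add (h.add h')⟩
  rw [mul_coeff_zero, h6, coeff_zero_eq_eval_zero]
  simp [h.neg_one_pow, -map_one, -map_neg]

variable [Finite K]

/-- Monic self-reciprocal polynomials of degree `m`. -/
noncomputable def srp (K : Type u) [Field K] [Finite K] (m : ℕ) : Finset K[X] :=
  mon m fun f => f.coeff 0 ≠ 0 ∧ recip (RingHom.id K) f = f

theorem trip_count {N : ℕ} {P : Trip K → Prop} (hP : ∀ T, P T → T.OK ε ∧ finrank K T.V = N) (ω ω' : ℕ → K[X] → ℝ)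
    (β β' : ℕ → ℕ → ℝ) (hω : ∀ e f, 0 ≤ ω e f) (hω' : ∀ e f, 0 ≤ ω' e f) (hβ : ∀ e m, ∑ f ∈ srp K m, ω e f ≤ β e m)
    (hβ' : ∀ e m, ∑ f ∈ srp K m, ω' e f ≤ β' e m) {r : ℝ} (hr : 0 < r)
    (hfib : ∀ T s, P T → HasED (T.g : End K T.V) s → r * nc (fun S => P S ∧ HasED (S.g : End K S.V) s) ≤
      ∏ e : Fin N, ω e (lay (e + 1) s) + ∏ e : Fin N, ω' e (lay (e + 1) s)) :
    r * nc P ≤ PowerSeries.coeff N (∏ e ∈ range N, ser (e + 1) (β e)) +
      PowerSeries.coeff N (∏ e ∈ range N, ser (e + 1) (β' e)) := by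
  have hb : Bd P := ⟨N, fun T h => (hP T h).2⟩
  have := hb.finite
  choose T h1 h2 using fun c : {c : Quotient (iso K) // ∃ T, Quotient.mk (iso K) T = c ∧ P T} => c.2
  have h3 := fun c => hasED_ed ((T c).g : End K (T c).V)
  have h4 : ∀ c, ∀ Q ∈ ed ((T c).g : End K (T c).V), IsPrimaryPoly Q ∧ Q.natDegree ≤ N := fun c Q hQ =>
    ⟨(h3 c).primary Q hQ, by
      rw [← (hP _ (h2 c)).2, (h3 c).finrank_eq]
      exact Multiset.single_le_sum (fun _ _ => Nat.zero_le _) _ (Multiset.mem_map_of_mem _ hQ)⟩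
  refine weighted_count₂ natDegree (srp K) ω ω' β β' hω hω' hβ hβ' (fun c e => lay (e + 1) (ed ((T c).g : End K (T c).V)))
    (fun c e => ?_) (fun c => ?_) hr fun c => le_trans ?_ (hfib _ _ (h2 c) (h3 c))
  · obtain ⟨h5, h6⟩ := ok_recip (hP _ (h2 c)).1 (h3 c)
    refine mem_mon.2 ⟨monic_lay _ _, rfl, coeff_zero_lay_ne (by simp) h5, ?_⟩
    rw [lay, recip_prod, recip_lay (fun _ => rfl) (h3 c).primary h5 h6]
  · rw [sum_natDegree_lay (h4 c), ← (h3 c).finrank_eq, (hP _ (h2 c)).2]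
  · have := (hb.mono (P := fun S => P S ∧ HasED (S.g : End K S.V) (ed ((T c).g : End K (T c).V))) fun _ h => h.1).finite
    refine mul_le_mul_of_nonneg_left (Nat.cast_le.2 (Nat.card_le_card_of_injective (fun c' => ⟨c'.1.1, T c'.1, h1 _, h2 _,
      (congrArg (HasED _) (eq_of_lay_eq (h4 _) (h4 _) (congrFun c'.2))).mp (h3 _)⟩) fun a b h => ?_)) hr.le
    exact Subtype.ext (Subtype.ext (Subtype.mk.inj h))

theorem nc_tneg_le {P : Trip K → Prop} (h : Bd P) : nc (fun T => P (tneg T)) ≤ nc P := by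
  have := h.finite
  refine Nat.card_le_card_of_injective (fun c => ⟨Quotient.map tneg (fun _ _ => iso_tneg) c.1, by
    obtain ⟨_, T, rfl, hT⟩ := c
    exact ⟨_, rfl, hT⟩⟩) ?_
  rintro ⟨_, T, rfl, hT⟩ ⟨_, S, rfl, hS⟩ e
  exact Subtype.ext (Quotient.sound ((iso K).trans ((iso K).symm (iso_tneg_tneg T))
    ((iso K).trans (iso_tneg (Quotient.exact (Subtype.mk.inj e))) (iso_tneg_tneg S))))

theorem fib_decomp (h2 : (2 : K) ≠ 0) (ε : K) (s : Multiset K[X]) : ∃ R Q : Trip K → Prop, Bd R ∧ Bd Q ∧ nc R ≤ 1 ∧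
    (∀ T, Q T → ∃ C S, Valid ε (jt (-1) s) (tneg C) ∧ R S ∧ C.OK ε ∧ S.OK ε ∧ iso K (tsum C S) T) ∧
    ∀ T : Trip K, T.OK ε ∧ HasED (T.g : End K T.V) s → ∃ A S, Valid ε (jt 1 s) A ∧ Q S ∧ A.OK ε ∧ S.OK ε ∧
      iso K (tsum A S) T := by
  let R : Trip K → Prop := fun S => S.OK ε ∧ (∀ v, S.g v = v → v = 0) ∧ (∀ v, S.g v = -v → v = 0) ∧
    ∀ π : K[X], π.Monic → Irreducible π → π ≠ X - C 1 → π ≠ X - C (-1) → ∀ k,
      kd (S.g : End K S.V) (π ^ k) = (s.map fun P => kdc P (π ^ k)).sum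
  have h1 : ∀ S S', R S → R S' → iso K S S' := fun S S' ⟨a1, a2, a3, a4⟩ ⟨b1, b2, b3, b4⟩ => by
    obtain ⟨x, hx⟩ : Sim (S.g : End K S.V) (S'.g : End K S'.V) := sim_of_kd_pow fun π h3 h4 k => by
      by_cases h5 : π = X - C 1
      · rw [h5, kd_eq_zero_of_inj (by simpa using a2), kd_eq_zero_of_inj (by simpa using b2)]
      by_cases h6 : π = X - C (-1)
      · rw [h6, kd_eq_zero_of_inj (by simpa using a3), kd_eq_zero_of_inj (by simpa using b3)]
      rw [a4 π h3 h4 h5 h6, b4 π h3 h4 h5 h6]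
    refine wall_conj (σ := RingHom.id K) (fun _ => rfl) S.B a1.nondeg a1.symm S'.B b1.nondeg b1.symm S.g a1.isom S'.g
      b1.isom (.inr fun v hv => a3 v (eq_neg_of_add_eq_zero_left (a2 _ (by rw [map_add, hv, add_comm])))) x hx
  have h3 : Bd R := by
    by_cases h : ∃ S, R S
    · exact let ⟨S, hS⟩ := h; ⟨_, fun T hT => (iso_sim (h1 T S hT hS)).finrank_eq⟩
    · exact ⟨0, fun T hT => absurd ⟨T, hT⟩ h⟩
  refine ⟨R, fun T => ∃ C S, Valid ε (jt (-1) s) (tneg C) ∧ R S ∧ C.OK ε ∧ S.OK ε ∧ iso K (tsum C S) T, h3, ?_, ?_,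
    fun _ h => h, fun T ⟨h4, h5⟩ => ?_⟩
  · obtain ⟨N, hN⟩ := h3
    refine ⟨(jt (-1) s).sum + N, fun T ⟨C, S, a1, a2, _, _, a3⟩ => ?_⟩
    rw [← (iso_sim a3).finrank_eq, ← a1.finrank_eq, ← hN S a2]
    exact finrank_prod
  · have := h3.finite
    refine Finite.card_le_one_iff_subsingleton.2 ⟨?_⟩
    rintro ⟨_, S, rfl, hS⟩ ⟨_, S', rfl, hS'⟩
    exact Subtype.ext (Quotient.sound (h1 _ _ hS hS'))
  obtain ⟨A, D, S, a1, a2, a3, a4, a5, a6, a7, a8⟩ := exists_decomp h4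
  have h6 : ∀ P, kd (T.g : End K T.V) P = kd (A.g : End K A.V) P +
      kd ((tsum (tneg D) S).g : End K (tsum (tneg D) S).V) P := fun P => ((iso_sim a4).kd P).symm.trans (kd_tsum _ _ _)
  have h7 : ∀ P, kd ((tsum (tneg D) S).g : End K (tsum (tneg D) S).V) P =
      kd (-(D.g : End K D.V)) P + kd (S.g : End K S.V) P := kd_tsum _ _
  obtain ⟨a, ha⟩ := id a5
  obtain ⟨d, hd⟩ := id a6
  have h8 : ∀ k, aeval (-(D.g : End K D.V)) ((X - C (-1 : K)) ^ k) = (-1 : K) ^ k • ((D.g : End K D.V) - 1) ^ k := by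
    simp [← _root_.smul_pow, neg_add_eq_sub]
  have h9 : ∀ {π : K[X]} {c : K}, π.Monic → Irreducible π → π ≠ X - C c → ∀ k l, IsCoprime (π ^ k) ((X - C c) ^ l) :=
    fun h h' h'' k l => (isCoprime_of_monic_irreducible_ne h h' (monic_X_sub_C _) (irreducible_X_sub_C _) h'').pow
  have h10 : aeval (A.g : End K A.V) ((X - C (1 : K)) ^ a) = 0 := by simpa using ha
  refine ⟨A, _, ⟨a1, rk_eq_jt h5 a5 fun k => ?_⟩, ⟨tneg D, S, ⟨ok_tneg (ok_tneg a2), fun k => ?_⟩, ⟨a3, fun v hv => ?_,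
    a8, fun π b1 b2 b3 b4 k => ?_⟩, ok_tneg a2, a3, (iso K).refl _⟩, a1, ok_tsum (ok_tneg a2) a3, a4⟩
  · rw [h6, kd_eq_zero_of_inj (f := ((tsum (tneg D) S).g : End K (tsum (tneg D) S).V)) (by simpa using a7), kd,
      map_pow, map_sub, aeval_X, aeval_C, map_one, add_zero]
  · rw [rk_of_iso (iso_tneg_tneg D)]
    refine rk_eq_jt h5 a6 (fun k => ?_) k
    rw [h6, h7, kd_eq_zero_of_inj (f := (S.g : End K S.V)) (by simpa using a8), kd_eq_zero_of_coprime (h9 (monic_X_sub_C _)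
      (irreducible_X_sub_C _) (X_sub_C_one_ne h2).symm k a) h10, kd, h8,
      LinearMap.ker_smul _ _ (by simp), zero_add, add_zero]
  · exact congrArg Prod.snd (a7 (0, v) (Prod.ext (map_zero (tneg D).g) hv))
  · rw [← h5.kd_eq, h6, h7, kd_eq_zero_of_coprime (h9 b1 b2 b3 k a) h10,
      kd_eq_zero_of_coprime (f := -(D.g : End K D.V)) (h9 b1 b2 b4 k d) (by rw [h8, hd, smul_zero]), zero_add, zero_add]

omit [Finite K] in
theorem bd_ed (s : Multiset K[X]) : Bd fun T : Trip K => T.OK ε ∧ HasED (T.g : End K T.V) s :=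
  ⟨_, fun _ h => h.2.finrank_eq⟩

variable (h2 : (2 : K) ≠ 0)
include h2

theorem fib_le (s : Multiset K[X]) :
    nc (fun T : Trip K => T.OK ε ∧ HasED (T.g : End K T.V) s) ≤ cnt ε (jt 1 s) * cnt ε (jt (-1) s) := by
  obtain ⟨R, Q, h1, h3, h4, h5, h6⟩ := fib_decomp h2 ε s
  have h7 : Bd fun T => Valid ε (jt (-1) s) (tneg T) := ⟨_, fun _ h => h.finrank_eq⟩
  refine (nc_le_mul (bd_valid _) h3 fun T hT => let ⟨A, S, a1, a2, _, _, a3⟩ := h6 T hT; ⟨A, S, a1, a2, a3⟩).trans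
    (Nat.mul_le_mul_left _ ((nc_le_mul h7 h1 fun T hT => let ⟨A, S, a1, a2, _, _, a3⟩ := h5 T hT; ⟨A, S, a1, a2, a3⟩).trans
      ((Nat.mul_le_mul (nc_tneg_le (bd_valid _)) h4).trans (mul_one _).le)))

theorem fib_bal {s : Multiset K[X]} (h : (∃ a ∈ jt 1 s, Odd a) ∨ ∃ a ∈ jt (-1) s, Odd a) :
    Bal (fun T : Trip K => T.OK 1 ∧ HasED (T.g : End K T.V) s) (cnt (1 : K) (jt 1 s) * cnt (1 : K) (jt (-1) s)) := by
  obtain ⟨R, Q, h1, h3, h4, h5, h6⟩ := fib_decomp h2 1 s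
  have h7 : Bd fun T => Valid (1 : K) (jt (-1) s) (tneg T) := ⟨_, fun _ h => h.finrank_eq⟩
  rcases h with h | h
  · refine Bal.sum_left (bd_valid _) h3 (bd_ed s) h6 (bal_valid h2 _ _ le_rfl jt_pos h)
      ((nc_le_mul h7 h1 fun T hT => let ⟨A, S, a1, a2, _, _, a3⟩ := h5 T hT; ⟨A, S, a1, a2, a3⟩).trans
      ((Nat.mul_le_mul (nc_tneg_le (bd_valid _)) h4).trans (mul_one _).le))
  · rw [mul_comm, ← mul_one (cnt _ (jt (-1) s))]
    refine Bal.sum_left (ε := 1) h3 (bd_valid _) (bd_ed s) (fun T hT => let ⟨A, S, a1, a2, a3, a4, a5⟩ := h6 T hT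
      ⟨S, A, a2, a1, a4, a3, (iso K).trans (iso_tsum_comm _ _) a5⟩) (Bal.sum_left h7 h1 h3 h5 (fun τ => le_trans ?_
        (bal_valid h2 _ _ le_rfl jt_pos h τ)) h4) le_rfl
    exact Nat.mul_le_mul_left _ (nc_tneg_le (P := fun T => Valid (1 : K) (jt (-1) s) T ∧ (sqDisc T.B ↔ τ))
      ((bd_valid _).mono fun _ h => h.1))

open Classical in
theorem cnt_mul_eq (i : ℕ) {s : Multiset K[X]} {N : ℕ} (hs : ∀ P ∈ s, IsPrimaryPoly P ∧ P.natDegree ≤ N) :
    cnt ((-1 : K) ^ i) (jt 1 s) * cnt ((-1 : K) ^ i) (jt (-1) s) = ∏ e : Fin N,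
      wt (i + e) ((bs (e + 1) s).count (X - C 1)) * wt (i + e) ((bs (e + 1) s).count (X - C (-1))) := by
  have h1 : ∀ c : K, ∀ a ∈ jt c s, a ≤ N := fun c a ha => by
    obtain ⟨P, hP, rfl⟩ := Multiset.mem_map.1 ha
    exact (hs P (Multiset.mem_of_mem_filter hP)).2
  rw [cnt_eq h2 N i _ (h1 _), cnt_eq h2 N i _ (h1 _), ← prod_mul_distrib, prod_range]
  refine prod_congr rfl fun e _ => ?_
  rw [count_jt, count_jt, count_bs (fun P hP => (hs P hP).1) (monic_X_sub_C _) (irreducible_X_sub_C _),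
    count_bs (fun P hP => (hs P hP).1) (monic_X_sub_C _) (irreducible_X_sub_C _)]

omit [Finite K] in
open Classical in
theorem wt_mul_le {s : Multiset K[X]} (hs : ∀ P ∈ s, IsPrimaryPoly P) (hX : ∀ P ∈ s, ¬ X ∣ P)
    (hρ : s.map (recip (RingHom.id K)) = s) (j e : ℕ) :
    ((wt j ((bs (e + 1) s).count (X - C 1)) * wt j ((bs (e + 1) s).count (X - C (-1))) : ℕ) : ℝ) ≤
      if Even j then omB (lay (e + 1) s) else omS (lay (e + 1) s) := by
  have h1 : ∀ c : K, (lay (e + 1) s).eval c = 0 ↔ ¬ (bs (e + 1) s).count (X - C c) = 0 := fun c => by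
    rw [Multiset.count_eq_zero, not_not, ← dvd_lay_iff (monic_X_sub_C c) (irreducible_X_sub_C c), dvd_iff_isRoot, IsRoot]
  unfold wt
  by_cases h3 : Even j
  · simp only [h3, if_true, omB, h1, ite_not]
    push_cast
    rfl
  simp only [h3, if_false]
  split_ifs with h4 h5
  · simpa [lay] using (omS_lay h2 (recip_lay (fun _ => rfl) hs hX hρ e)
      (fun P hP => ⟨(of_mem_bs hP).1, (of_mem_bs hP).2.1⟩) h4 h5).ge
  all_goals simpa using omS_nonneg _

end CL.ClassNo
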