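/-
Class numbers of classical groups, part 10: counting self-reciprocal polynomials; estimates; symplectic groups in odd
characteristic.
-/
import Cfsg.Agent.Known.ClassNo9

set_option autoImplicit false

open Module Polynomial Finset

namespace CL.ClassNo

open CL.GLn CL.Known CL.Known.Trip

universe u

section Count

variable {K : Type*} [Field K]

theorem card_palin {N M : ℕ} (hM : M ≤ N) {c : K} (hc : c * c = 1) (h1 : ∀ i : Fin N, i < M → i.rev < M → i.rev = i ∧ c = 1)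
    (h2 : ∀ i : Fin N, ¬ i < M → ¬ i.rev < M → i.rev = i ∧ c ≠ 1) :
    Nat.card {a : Fin N → K // ∀ i, c * a i.rev = a i} = Nat.card K ^ M := by
  rw [show Nat.card K ^ M = Nat.card (Fin M → K) by rw [Nat.card_fun, Nat.card_fin]]
  refine Nat.card_congr (Equiv.ofBijective (fun a i => a.1 (i.castLE hM)) ⟨fun a b h => Subtype.ext (funext fun i => ?_),
    fun b => ⟨⟨fun i => if h : i < M then b ⟨i, h⟩ else if h : i.rev < M then c * b ⟨i.rev, h⟩ else 0, fun i => ?_⟩,
      funext fun i => by simp⟩⟩)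
  · by_cases h3 : i < M
    · exact congrFun h ⟨i, h3⟩
    by_cases h4 : i.rev < M
    · rw [← a.2, ← b.2 i]; exact congrArg _ (congrFun h ⟨i.rev, h4⟩)
    obtain ⟨h5, h6⟩ := h2 i h3 h4
    have h7 := a.2 i
    have h8 := b.2 i
    rw [h5, mul_left_eq_self₀, or_iff_right h6] at h7 h8
    rw [h7, h8]
  · by_cases h3 : i < M <;> by_cases h4 : i.rev < M
    · obtain ⟨h5, rfl⟩ := h1 i h3 h4
      simp [h5]
    · simp only [Fin.rev_rev, dif_pos h3, dif_neg h4, ← mul_assoc, hc, one_mul]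
    · simp only [Fin.rev_rev, dif_neg h3, dif_pos h4]
    · simp only [Fin.rev_rev, dif_neg h3, dif_neg h4, mul_zero]

theorem card_recip_one (m : ℕ) :
    Nat.card {f : K[X] // f.Monic ∧ f.natDegree = m ∧ f.coeff 0 = 1 ∧ recip (RingHom.id K) f = f} = Nat.card K ^ (m / 2) := by
  rcases m with _ | m
  · rw [Nat.zero_div, pow_zero, Nat.card_eq_one_iff_exists]
    exact ⟨⟨1, monic_one, natDegree_one, coeff_one_zero, recip_one⟩, fun f => Subtype.ext (f.2.1.natDegree_eq_zero.1 f.2.2.1)⟩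
  rw [card_selfRecip (by simp)]
  exact card_palin (by omega) (one_mul 1) (fun i h1 h2 => ⟨Fin.ext (by simp at *; omega), rfl⟩)
    fun i h1 h2 => absurd i.2 (by simp at *; omega)

theorem card_recip_neg_one (h2 : (2 : K) ≠ 0) (m : ℕ) : Nat.card {f : K[X] // f.Monic ∧ f.natDegree = m + 1 ∧
    f.coeff 0 = -1 ∧ recip (RingHom.id K) f = f} = Nat.card K ^ (m / 2) := by
  rw [card_selfRecip (by simp)]
  exact card_palin (by omega) (by simp) (fun i h1 h2 => absurd i.2 (by simp at *; omega))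
    fun i h1 h3 => ⟨Fin.ext (by have := i.2; simp at *; omega), fun e => h2 (by linear_combination -e)⟩

end Count

/-- The number of self-reciprocal polynomials. -/
noncomputable def rr (q : ℝ) : ℕ → ℝ
  | 0 => 1
  | m + 1 => q ^ ((m + 1) / 2) + q ^ (m / 2)

/-- The coefficients of `(1 + X) ^ 4 / (1 - q X ^ 2)`. -/
noncomputable def big (q : ℝ) : ℕ → ℝ
  | 0 => 1
  | 1 => 4
  | m + 2 => Nat.choose 4 (m + 2) + q * big q m

/-- The coefficients of `1 / (1 - q X ^ 2)`. -/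
noncomputable def sml (q : ℝ) (m : ℕ) : ℝ := if Even m then q ^ (m / 2) else 0

theorem rr_eq_big (q : ℝ) : ∀ m, rr q (m + 2) + 2 * rr q (m + 1) + rr q m = big q (m + 2)
  | 0 => by simp [rr, big, Nat.choose]; ring
  | 1 => by simp [rr, big, Nat.choose]; ring
  | 2 => by simp [rr, big, Nat.choose]; ring
  | m + 3 => by
    rw [big, ← rr_eq_big q (m + 1), Nat.choose_eq_zero_of_lt (by omega)]
    simp only [rr, show ∀ k, (k + 1 + 1) / 2 = k / 2 + 1 from fun k => Nat.add_div_right k two_pos, pow_succ]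
    ring

section Weights

variable {K : Type u} [Field K] [Finite K]

theorem mem_srp {m : ℕ} {f : K[X]} :
    f ∈ srp K m ↔ f.Monic ∧ f.natDegree = m ∧ f.coeff 0 ≠ 0 ∧ recip (RingHom.id K) f = f := mem_mon

theorem card_srp (h2 : (2 : K) ≠ 0) (m : ℕ) : ((srp K m).card : ℝ) = rr (Nat.card K) m := by
  classical
  rcases m with _ | m
  · rw [show srp K 0 = {1} from ?_, rr, card_singleton, Nat.cast_one]
    ext f
    rw [mem_srp, mem_singleton]
    exact ⟨fun h => h.1.natDegree_eq_zero.1 h.2.1, by rintro rfl; simp [recip_one]⟩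
  rw [rr, ← Nat.cast_pow, ← Nat.cast_pow, ← card_recip_one, ← card_recip_neg_one h2, ← card_mon, ← card_mon,
    ← Nat.cast_add, ← card_union_of_disjoint (disjoint_left.2 fun f h h' => h2 (by
      linear_combination (mem_mon.1 h').2.2.1 - (mem_mon.1 h).2.2.1))]
  congr 2
  ext f
  simp only [mem_srp, mem_union, mem_mon]
  refine ⟨fun ⟨h1, h3, h4, h5⟩ => ?_, by rintro (h | h) <;> simp [h]⟩
  simpa [h1, h3, h5] using mul_self_eq_one_iff.1 (norm_coeff_zero_of_recip h1 h4 h5)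

open Classical in
theorem card_srp_dvd {P : K[X]} (hP : P.Monic) (hρ : recip (RingHom.id K) P = P) (m : ℕ) :
    ((srp K m).filter (P ∣ ·)).card ≤ if P.natDegree ≤ m then (srp K (m - P.natDegree)).card else 0 := by
  have key : ∀ g, P * g ∈ srp K m → P.natDegree ≤ m ∧ g ∈ srp K (m - P.natDegree) := fun g h => by
    obtain ⟨h1, h3, h4, h5⟩ := mem_srp.1 h
    have h6 := hP.of_mul_monic_left h1
    rw [hP.natDegree_mul h6] at h3
    rw [recip_mul, hρ] at h5
    exact ⟨by omega, mem_srp.2 ⟨h6, by omega, fun e => h4 (by simp [e]), mul_left_cancel₀ hP.ne_zero h5⟩⟩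
  split_ifs with h
  · refine le_trans (card_le_card fun f hf => ?_) (card_image_le (f := (P * ·)))
    obtain ⟨h1, g, rfl⟩ := mem_filter.1 hf
    exact mem_image_of_mem _ (key g h1).2
  · refine (card_eq_zero.2 (filter_eq_empty_iff.2 ?_)).le
    rintro _ h1 ⟨g, rfl⟩
    exact h (key g h1).1

theorem sum_omB_le (h2 : (2 : K) ≠ 0) (m : ℕ) : ∑ f ∈ srp K m, omB f ≤ big (Nat.card K) m := by
  classical
  have h1 : ∀ f : K[X], omB f = 1 + (if X - C 1 ∣ f then 1 else 0) + (if X - C (-1) ∣ f then 1 else 0) +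
      if (X - C 1) * (X - C (-1)) ∣ f then 1 else 0 := fun f => by
    have : (X - C 1) * (X - C (-1)) ∣ f ↔ X - C 1 ∣ f ∧ X - C (-1) ∣ f :=
      ⟨fun h => ⟨(dvd_mul_right _ _).trans h, (dvd_mul_left _ _).trans h⟩, fun h => (isCoprime_of_monic_irreducible_ne
        (monic_X_sub_C _) (irreducible_X_sub_C _) (monic_X_sub_C _) (irreducible_X_sub_C _) (X_sub_C_one_ne h2)).mul_dvd
        h.1 h.2⟩
    simp only [omB, this, dvd_iff_isRoot, IsRoot]
    split_ifs <;> simp_all <;> norm_num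
  have e1 : recip (RingHom.id K) (X - C 1) = X - C 1 := by simpa using recip_X_sub_C (σ := RingHom.id K) one_ne_zero
  have e2 : recip (RingHom.id K) (X - C (-1)) = X - C (-1) := by
    simpa using recip_X_sub_C (σ := RingHom.id K) (c := -1) (by simp)
  have h3 := card_srp_dvd (monic_X_sub_C _) e1 m
  have h4 := card_srp_dvd (monic_X_sub_C _) e2 m
  have h5 := card_srp_dvd ((monic_X_sub_C (1 : K)).mul (monic_X_sub_C (-1))) (by rw [recip_mul, e1, e2]) m
  rw [(monic_X_sub_C _).natDegree_mul (monic_X_sub_C _)] at h5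
  simp only [natDegree_X_sub_C] at h3 h4 h5
  simp only [h1, sum_add_distrib, sum_boole, sum_const, nsmul_eq_mul, mul_one]
  rw [← Nat.cast_le (α := ℝ)] at h3 h4 h5
  push_cast at h3 h4 h5
  simp only [card_srp h2] at h3 h4 h5 ⊢
  rcases m with _ | _ | m
  · rw [if_neg (by omega)] at h3 h4 h5
    simp only [rr, big]
    linarith
  · rw [if_pos (by omega)] at h3 h4
    rw [if_neg (by omega)] at h5
    simp only [rr, big, zero_add, Nat.sub_self, Nat.reduceDiv, pow_zero] at h3 h4 ⊢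
    linarith
  · rw [← rr_eq_big]
    rw [if_pos (by omega)] at h3 h4 h5
    exact (add_le_add (add_le_add (add_le_add le_rfl h3) h4) h5).trans_eq (by simp; ring)

theorem sum_omS_le (m : ℕ) : ∑ f ∈ srp K m, omS f ≤ sml (Nat.card K) m := by
  classical
  simp only [omS, sum_boole, sml]
  split_ifs with h
  · rw [← Nat.cast_pow, ← card_recip_one, ← card_mon, Nat.cast_le]
    exact card_le_card fun f hf => let ⟨h1, h3⟩ := mem_filter.1 hf; let ⟨a, b, _, c⟩ := mem_srp.1 h1
      mem_mon.2 ⟨a, b, h3.1, c⟩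
  · simpa using fun (f : K[X]) (hf : f ∈ srp K m) (_ : f.coeff 0 = 1) => Nat.not_even_iff_odd.1 fun h' =>
      h (by rwa [← (mem_srp.1 hf).2.1])

end Weights

section Estimates

variable {q x y : ℝ}

theorem big_nonneg (hq : 0 ≤ q) : ∀ m, 0 ≤ big q m
  | 0 => zero_le_one
  | 1 => by simp [big]
  | m + 2 => add_nonneg (Nat.cast_nonneg _) (mul_nonneg hq (big_nonneg hq m))

theorem sml_nonneg (hq : 0 ≤ q) (m : ℕ) : 0 ≤ sml q m := by unfold sml; positivity

theorem sum_le_of_rec {β γ : ℕ → ℝ} (hβ : ∀ m, 0 ≤ β m) (h0 : β 0 ≤ γ 0) (h1 : β 1 ≤ γ 1)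
    (h : ∀ m, β (m + 2) ≤ γ (m + 2) + q * β m) (hy : 0 ≤ y) (hqy : q * y ^ 2 < 1) {G : ℝ}
    (hG : ∀ N, ∑ m ∈ range N, γ m * y ^ m ≤ G) (N : ℕ) : ∑ m ∈ range N, β m * y ^ m ≤ (1 - q * y ^ 2)⁻¹ * G := by
  have h2 : ∑ m ∈ range N, β m * y ^ m ≤ ∑ m ∈ range (N + 2), β m * y ^ m :=
    sum_le_sum_of_subset_of_nonneg (range_subset_range.2 (by omega)) fun m _ _ => mul_nonneg (hβ m) (by positivity)
  have h3 := hG (N + 2)
  rw [sum_range_succ', sum_range_succ'] at h2 h3
  have h4 : ∑ m ∈ range N, β (m + 1 + 1) * y ^ (m + 1 + 1) ≤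
      ∑ m ∈ range N, γ (m + 1 + 1) * y ^ (m + 1 + 1) + q * y ^ 2 * ∑ m ∈ range N, β m * y ^ m := by
    rw [mul_sum, ← sum_add_distrib]
    exact sum_le_sum fun m _ => (mul_le_mul_of_nonneg_right (h m) (by positivity)).trans_eq (by ring)
  rw [le_inv_mul_iff₀ (by linarith)]
  simp only [zero_add, pow_zero, pow_one, mul_one] at h2 h3
  nlinarith [mul_le_mul_of_nonneg_right h1 hy]

theorem sum_big_le (hq : 0 ≤ q) (hy : 0 ≤ y) (hqy : q * y ^ 2 < 1) (N : ℕ) :
    ∑ m ∈ range N, big q m * y ^ m ≤ (1 - q * y ^ 2)⁻¹ * (1 + y) ^ 4 := by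
  refine sum_le_of_rec (γ := fun m => Nat.choose 4 m) (big_nonneg hq) (by simp [big]) (by simp [big]) (fun _ => le_rfl)
    hy hqy (fun N => ?_) N
  refine (sum_le_sum_of_subset_of_nonneg (range_subset_range.2 (Nat.le_add_left N 5)) fun m _ _ => by positivity).trans ?_
  rw [sum_range_add, sum_eq_zero (s := range N) fun m _ => by simp [Nat.choose_eq_zero_of_lt (by omega : 4 < 5 + m)]]
  simp [sum_range_succ, Nat.choose]
  exact le_of_eq (by ring)

theorem sum_sml_le (hq : 0 ≤ q) (hy : 0 ≤ y) (hqy : q * y ^ 2 < 1) (N : ℕ) :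
    ∑ m ∈ range N, sml q m * y ^ m ≤ (1 - q * y ^ 2)⁻¹ * 1 := by
  refine sum_le_of_rec (γ := fun m => if m = 0 then 1 else 0) (sml_nonneg hq) (by simp [sml]) (by simp [sml])
    (fun m => ?_) hy hqy (fun N => ?_) N
  · simp [sml, Nat.even_add, pow_succ']
  · simp only [ite_mul, one_mul, zero_mul, sum_ite_eq']
    split_ifs <;> simp

theorem sml_mul_le (h : q * x ^ 2 = 1) (m : ℕ) : sml q m * x ^ m ≤ 1 := by
  unfold sml
  split_ifs with hm
  · obtain ⟨k, rfl⟩ := hm
    rw [← two_mul, Nat.mul_div_cancel_left _ two_pos, pow_mul, ← mul_pow, h, one_pow]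
  · simp

theorem big_mul_le (hx : 0 ≤ x) (h : q * x ^ 2 = 1) :
    ∀ m, big q m * x ^ m ≤ if Even m then 1 + 6 * x ^ 2 + x ^ 4 else 4 * x + 4 * x ^ 3
  | 0 => by simp [big]; nlinarith [sq_nonneg x, pow_nonneg hx 4]
  | 1 => by simp [big]; positivity
  | 2 => by simp [big, Nat.choose]; nlinarith [pow_nonneg hx 4]
  | 3 => by simp [big, Nat.choose, show ¬ Even 3 by decide]; nlinarith [congrArg (· * x) h]
  | 4 => by simp [big, Nat.choose, show Even 4 by decide]; nlinarith [congrArg (· * x ^ 2) h, congrArg (· * (q * x ^ 2)) h]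
  | m + 5 => by
    have := big_mul_le hx h (m + 3)
    rw [big, Nat.choose_eq_zero_of_lt (by omega)]
    simp only [show Even (m + 3 + 2) ↔ Even (m + 3) by simp [parity_simps]]
    refine le_of_eq_of_le ?_ this
    linear_combination big q (m + 3) * x ^ (m + 3) * h

theorem big_mul_le' (hx : 0 ≤ x) (h : q * x ^ 2 = 1) (m : ℕ) : big q m * x ^ m ≤ 1 + 6 * x ^ 2 + x ^ 4 := by
  refine (big_mul_le hx h m).trans ?_
  split_ifs
  · rfl
  · nlinarith [sq_nonneg ((1 - x) ^ 2)]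

theorem prod_ite_even_le {F : ℕ → ℝ} (hF : ∀ e, 1 ≤ F e) {i : ℕ} (hi : i ≤ 1) (k : ℕ) :
    ∏ e ∈ range k, (if Even (i + e) then F e else 1) ≤ ∏ j ∈ range k, F (2 * j + i) := by
  refine (prod_le_prod_of_subset_of_one_le (range_subset_range.2 (show k ≤ 2 * k by omega))
    (fun e _ => by split_ifs; exacts [zero_le_one.trans (hF e), zero_le_one])
    fun e _ _ => by split_ifs; exacts [hF e, le_rfl]).trans_eq ?_
  induction k with
  | zero => simp
  | succ k ih =>
    rw [mul_add, mul_one, prod_range_succ, prod_range_succ, ih, prod_range_succ]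
    interval_cases i <;> simp [Nat.even_add, parity_simps]

/-- The product of the factors after the first one. -/
theorem prod_rest_le (hx : 0 ≤ x) {i : ℕ} (hi : i ≤ 1) {a b : ℝ}
    (ha : ∀ k, ∏ e ∈ range k, (1 - (x ^ 2) ^ (e + 1))⁻¹ ≤ a) (hb : ∀ k, ∏ j ∈ range k, (1 + x ^ (2 * j + i + 2)) ≤ b)
    (k : ℕ) : ∏ e ∈ range k, (1 - (x ^ 2) ^ (e + 1))⁻¹ * (if Even (i + e) then (1 + x ^ (e + 2)) ^ 4 else 1) ≤
      a * b ^ 4 := by
  rw [prod_mul_distrib]
  refine mul_le_mul (ha k) ((prod_ite_even_le (fun e => one_le_pow₀ (le_add_of_nonneg_right (by positivity))) hi k).trans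
    ?_) (prod_nonneg fun e _ => by split_ifs <;> positivity) (zero_le_one.trans (by simpa using ha 0))
  rw [prod_pow]
  exact pow_le_pow_left₀ (prod_nonneg fun e _ => by positivity) (hb k) 4

theorem sum_rest_le (hx : 0 ≤ x) (hx1 : x ^ 2 < 1) (h : q * x ^ 2 = 1) (p : Prop) [Decidable p] (e N : ℕ) :
    ∑ m ∈ range N, (if p then big q else sml q) m * (x ^ (e + 2)) ^ m ≤
      (1 - (x ^ 2) ^ (e + 1))⁻¹ * (if p then (1 + x ^ (e + 2)) ^ 4 else 1) := by
  have hq : 0 ≤ q := by by_contra h'; nlinarith [sq_nonneg x]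
  have h1 : q * (x ^ (e + 2)) ^ 2 = (x ^ 2) ^ (e + 1) := by linear_combination (x ^ 2) ^ (e + 1) * h
  have h2 := h1.trans_lt (pow_lt_one₀ (sq_nonneg x) hx1 e.succ_ne_zero)
  rw [← h1]
  split_ifs
  exacts [sum_big_le hq (by positivity) h2 N, sum_sml_le hq (by positivity) h2 N]

theorem exists_sqrt_inv (hq : 0 < q) : ∃ x : ℝ, 0 < x ∧ q * x ^ 2 = 1 :=
  ⟨√q⁻¹, by positivity, by rw [Real.sq_sqrt (by positivity), mul_inv_cancel₀ hq.ne']⟩

theorem le_of_mul_pow_le (h : q * x ^ 2 = 1) {a c : ℝ} {n : ℕ} (hq : 0 ≤ q) (h1 : a * x ^ (2 * n) ≤ c) : a ≤ c * q ^ n := by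
  have h2 : x ^ (2 * n) * q ^ n = 1 := by rw [pow_mul, ← mul_pow, mul_comm, h, one_pow]
  calc a = a * x ^ (2 * n) * q ^ n := by rw [mul_assoc, h2, mul_one]
    _ ≤ _ := by gcongr

theorem coeff_sp_le (hq : 3 ≤ q) (n : ℕ) : PowerSeries.coeff (2 * (n + 1)) (∏ e ∈ range (2 * (n + 1)),
    ser (e + 1) (if Even (1 + e) then big q else sml q)) ≤ 10.8 * q ^ (n + 1) := by
  obtain ⟨x, hx, h⟩ := exists_sqrt_inv (zero_lt_three.trans_le hq)
  have hz : x ^ 2 ≤ 1 / 3 := by nlinarith [sq_nonneg x]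
  refine le_of_mul_pow_le h (by linarith) ((coeff_prod_le (β := fun e => if Even (1 + e) then big q else sml q) (c := 1)
    (fun e m => by split_ifs; exacts [big_nonneg (by linarith) m, sml_nonneg (by linarith) m]) hx.le
    (fun m _ => by simpa using sml_mul_le h m) (fun e => sum_rest_le hx.le (by linarith) h _ e _) (2 * n + 1)).trans ?_)
  simp only [show ∀ e, Even (1 + (e + 1)) ↔ Even (0 + e) from fun e => by simp [parity_simps]]
  refine (one_mul _).trans_le ((prod_rest_le hx.le zero_le_one (euler_inv_third (sq_nonneg x) hz)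
    (b := 1.566) (fun k => ?_) _).trans (by norm_num))
  simpa [← pow_mul, mul_add] using euler_add_third (sq_nonneg x) hz k

theorem coeff_sml_le (hq : 3 ≤ q) (n : ℕ) :
    PowerSeries.coeff (2 * (n + 1)) (∏ e ∈ range (2 * (n + 1)), ser (e + 1) (sml q)) ≤ 1.786 * q ^ (n + 1) := by
  obtain ⟨x, hx, h⟩ := exists_sqrt_inv (zero_lt_three.trans_le hq)
  have hz : x ^ 2 ≤ 1 / 3 := by nlinarith [sq_nonneg x]
  refine le_of_mul_pow_le h (by linarith) ((coeff_prod_le (β := fun _ => sml q) (c := 1)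
    (fun e m => sml_nonneg (by linarith) m) hx.le (fun m _ => sml_mul_le h m)
    (fun e => sum_rest_le hx.le (by linarith) h False e _) (2 * n + 1)).trans ?_)
  simpa using euler_inv_third (sq_nonneg x) hz _

end Estimates

variable {K : Type u} [Field K] [Finite K]

theorem card_conj_le_nc {G : Type*} [Group G] {V : Type u} [AddCommGroup V] [Module K V] [FiniteDimensional K V]
    (B : LinearMap.BilinForm K V) (φ : G →* (V ≃ₗ[K] V)) (hφ : Function.Injective φ)
    (hs : ∀ e : V ≃ₗ[K] V, (∀ u v, B (e u) (e v) = B u v) → ∃ g, φ g = e) {p : ConjClasses G → Prop} {P : Trip K → Prop}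
    (hP : Bd P) (h : ∀ g, p (ConjClasses.mk g) → P ⟨V, B, φ g⟩) : Nat.card {c // p c} ≤ nc P := by
  have := hP.finite
  refine Nat.card_le_card_of_injective (fun c => ⟨_, _, rfl, h (Quotient.out c.1) ((mk_out c.1).symm ▸ c.2)⟩)
    fun a b e => Subtype.ext ?_
  obtain ⟨y, h1, h2⟩ := Quotient.exact (Subtype.mk.inj e)
  obtain ⟨c, rfl⟩ := hs y h2
  rw [← mk_out a.1, ← mk_out b.1, ConjClasses.mk_eq_mk_iff_isConj, isConj_iff]
  exact ⟨c, mul_inv_eq_iff_eq_mul.2 (hφ (by rw [map_mul, map_mul]; exact LinearEquiv.ext h1))⟩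

omit [Finite K] in
theorem hasED_good {V : Type*} [AddCommGroup V] [Module K V] {f : End K V} {s : Multiset K[X]} (h : HasED f s) :
    ∀ P ∈ s, IsPrimaryPoly P ∧ P.natDegree ≤ finrank K V := fun P hP => ⟨h.primary P hP, by
  rw [h.finrank_eq]
  exact Multiset.single_le_sum (fun _ _ => Nat.zero_le _) _ (Multiset.mem_map_of_mem _ hP)⟩

theorem three_le_card (h2 : (2 : K) ≠ 0) : 3 ≤ Nat.card K := by
  have := Fintype.ofFinite K
  have h := FiniteField.odd_card_of_char_ne_two (Cls.ringChar_ne_two_of_two_ne_zero h2)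
  have := Fintype.one_lt_card (α := K)
  rw [Nat.card_eq_fintype_card]
  omega

theorem cnt_mul_le (h2 : (2 : K) ≠ 0) (i : ℕ) {ε : K} {T : Trip K} (hT : T.OK ε) {s : Multiset K[X]}
    (hs : HasED (T.g : End K T.V) s) : ((cnt ((-1 : K) ^ i) (jt 1 s) * cnt ((-1 : K) ^ i) (jt (-1) s) : ℕ) : ℝ) ≤
      ∏ e : Fin (finrank K T.V), if Even (i + e) then omB (lay (e + 1) s) else omS (lay (e + 1) s) := by
  rw [cnt_mul_eq h2 i (hasED_good hs), Nat.cast_prod]
  exact prod_le_prod (fun _ _ => Nat.cast_nonneg _) fun e _ => wt_mul_le h2 hs.primary (ok_recip hT hs).1 (ok_recip hT hs).2 _ _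

theorem card_classes_sp_le (h2 : (2 : K) ≠ 0) (n : ℕ) :
    (Nat.card (ConjClasses (Matrix.symplecticGroup (Fin (n + 1)) K)) : ℝ) ≤ 10.8 * Nat.card K ^ (n + 1) := by
  have h1 := card_conj_le_nc (Sp.stdForm (Fin (n + 1)) K) (Sp.spLin _ K) Sp.spLin_injective (fun e he => Sp.exists_spLin_eq he)
    (p := fun _ => True) (P := fun T => T.OK (-1) ∧ finrank K T.V = 2 * (n + 1)) ⟨_, fun _ h => h.2⟩ fun g _ =>
    ⟨⟨(Sp.stdForm_nondegenerate _ K).1, fun x y => by
      rw [neg_one_mul]; exact (LinearMap.IsAlt.neg (Sp.stdForm_isAlt _ K) x y).symm, Sp.spLin_mem g⟩, by simp [two_mul]⟩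
  rw [Nat.card_congr (Equiv.subtypeUnivEquiv fun _ => trivial)] at h1
  have h3 := trip_count (K := K) (P := fun T => T.OK (-1) ∧ finrank K T.V = 2 * (n + 1)) (fun _ h => h)
    (fun e f => if Even (1 + e) then omB f else omS f) (fun _ _ => 0)
    (fun e => if Even (1 + e) then big (Nat.card K) else sml (Nat.card K)) (fun _ _ => 0)
    (fun e f => by split_ifs; exacts [omB_nonneg f, omS_nonneg f]) (fun _ _ => le_rfl)
    (fun e m => by split_ifs; exacts [sum_omB_le h2 m, sum_omS_le m]) (by simp) one_pos fun T s hT hs => by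
      refine le_add_of_le_of_nonneg ?_ (by simp)
      rw [one_mul, ← hT.2]
      refine le_trans (Nat.cast_le.2 ((nc_mono (bd_ed s) fun S h => ⟨S, ⟨h.1.1, h.2⟩, (iso K).refl _⟩).trans ?_))
        (cnt_mul_le h2 1 hT.1 hs)
      simpa using fib_le h2 s
  rw [prod_eq_zero (s := range _) (f := fun e => ser (e + 1) fun _ => 0) (i := 0) (by simp) (by ext; simp [coeff_ser]),
    map_zero, add_zero, one_mul] at h3
  exact ((Nat.cast_le.2 h1).trans h3).trans (coeff_sp_le (by exact_mod_cast three_le_card h2) n)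

end CL.ClassNo
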