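/-
Class numbers of classical groups, part 11: orthogonal groups in odd characteristic.
-/
import Cfsg.Agent.Known.ClassNo10
import Cfsg.Agent.Cls.OSpec1

set_option autoImplicit false

open Module Polynomial Finset QuadraticMap

namespace CL.ClassNo

open CL.GLn CL.Known CL.Known.Trip CL.Cls

universe u

section Estimates

variable {q x : ℝ}

/-- The bound for the number of classes of both orthogonal groups. -/
noncomputable def allc (β : ℕ → ℝ) (q : ℝ) (N : ℕ) : ℝ :=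
  PowerSeries.coeff N (∏ e ∈ range N, ser (e + 1) (if Even e then β else sml q))

theorem allc_big_le (hx : 0 ≤ x) (hx1 : x ^ 2 < 1) (h : q * x ^ 2 = 1) {a b : ℝ}
    (ha : ∀ k, ∏ e ∈ range k, (1 - (x ^ 2) ^ (e + 1))⁻¹ ≤ a) (hb : ∀ k, ∏ j ∈ range k, (1 + x * (x ^ 2) ^ (j + 1)) ≤ b)
    (N : ℕ) : allc (big q) q (N + 1) * x ^ (N + 1) ≤ (1 + 6 * x ^ 2 + x ^ 4) * (a * b ^ 4) := by
  have hq : 0 ≤ q := by by_contra h'; nlinarith [sq_nonneg x]
  refine (coeff_prod_le (β := fun e => if Even e then big q else sml q)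
    (fun e m => by split_ifs; exacts [big_nonneg hq m, sml_nonneg hq m]) hx
    (fun m _ => by simpa using big_mul_le' hx h m) (fun e => sum_rest_le hx hx1 h _ e _) N).trans ?_
  simp only [add_comm _ 1]
  refine mul_le_mul_of_nonneg_left ?_ (by positivity)
  simp only [add_comm 1]
  simp only [show ∀ e, Even (e + 1) ↔ Even (1 + e) from fun e => by rw [add_comm]]
  exact prod_rest_le hx le_rfl ha (fun k => (prod_congr rfl fun j _ => by ring).trans_le (hb k)) N

theorem odd_third (hx : 0 ≤ x) (h : x ^ 2 ≤ 1 / 3) (k : ℕ) : ∏ j ∈ range k, (1 + x * (x ^ 2) ^ (j + 1)) ≤ 1.3102 := by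
  have h1 : x ≤ 0.57736 := by nlinarith
  refine (prod_head_tail (B₀ := fun j => 1 + 0.57736 * (1 / 3) ^ (j + 1)) (fun i => by positivity)
    (fun i => le_add_of_nonneg_right (by positivity)) (fun i => by gcongr) 4 (ρ := 1 / 3) (s := 0.57736 / 243) (D := 0.003565)
    (by norm_num) (by norm_num) (by norm_num) (by norm_num) (by norm_num) (by norm_num)
    (fun i => le_of_eq (by ring)) k).trans ?_
  norm_num [prod_range_succ]

theorem allc_third (hx : 0 ≤ x) (hz : x ^ 2 ≤ 1 / 3) (h : q * x ^ 2 = 1) (N : ℕ) :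
    allc (big q) q (N + 1) * x ^ (N + 1) ≤ 16.374 := by
  refine (allc_big_le hx (by linarith) h (euler_inv_third (sq_nonneg x) hz) (odd_third hx hz) N).trans ?_
  have : x ^ 4 ≤ 1 / 9 := by nlinarith [sq_nonneg x]
  exact (mul_le_mul_of_nonneg_right (show _ ≤ (28 / 9 : ℝ) by linarith) (by norm_num)).trans (by norm_num)

theorem coeff_sml_odd (n : ℕ) :
    PowerSeries.coeff (2 * n + 1) (∏ e ∈ range (2 * n + 1), ser (e + 1) (sml q)) = 0 := by
  rw [coeff_prod_ser]
  refine sum_eq_zero fun m hm => ?_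
  by_contra h
  have : Even (∑ e : Fin (2 * n + 1), (e + 1) * m e) := even_sum _ fun e _ => Even.mul_left (by
    by_contra h'
    exact h (prod_eq_zero (mem_univ e) (if_neg h'))) _
  rw [mem_typ.1 hm] at this
  simp [parity_simps] at this

end Estimates

variable {K : Type u} [Field K]

theorem mem_OG_of_polar (h2 : (2 : K) ≠ 0) {V : Type*} [AddCommGroup V] [Module K V] {Q : QuadraticForm K V}
    {e : V ≃ₗ[K] V} (he : ∀ u v, polarBilin Q (e u) (e v) = polarBilin Q u v) : e ∈ OG Q := fun v =>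
  mul_left_cancel₀ h2 (by simpa using he v v)

theorem ok_OG {V : Type u} [AddCommGroup V] [Module K V] [FiniteDimensional K V] {Q : QuadraticForm K V}
    (hQ : (polarBilin Q).Nondegenerate) (g : OG Q) : (⟨V, polarBilin Q, g.1⟩ : Trip K).OK 1 :=
  ⟨hQ.1, fun _ _ => (polar_comm _ _ _).trans (one_mul _).symm, OG.polar_app g⟩

theorem ok_nondeg {T : Trip K} {ε : K} (h : T.OK ε) : T.B.Nondegenerate :=
  ⟨h.nondeg, sesq_right_nondeg (σ := RingHom.id K) (fun _ => rfl) _ h.nondeg⟩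

theorem tame_of_hasED {V : Type*} [AddCommGroup V] [Module K V] {f : End K V} {s : Multiset K[X]} (h : HasED f s) {c : K}
    (hc : ∀ P ∈ s, P.eval c ≠ 0) (v : V) (hv : f v = c • v) : v = 0 := by
  have := h.finiteDimensional
  by_contra h0
  have h1 := (End.hasEigenvalue_iff_isRoot_charpoly f c).1 (End.hasEigenvalue_of_hasEigenvector
    ⟨End.mem_eigenspace_iff.2 hv, h0⟩)
  rw [h.charpoly_eq, ← dvd_iff_isRoot] at h1
  obtain ⟨P, hP, hd⟩ := (prime_X_sub_C c).exists_mem_multiset_dvd h1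
  exact hc P hP (dvd_iff_isRoot.1 hd)

theorem wallTame_of {V : Type*} [AddCommGroup V] [Module K V] {g : V ≃ₗ[K] V} (h : ∀ v, g v = v → v = 0)
    (h' : ∀ v, g v = -v → v = 0) : WallTame (RingHom.id K) g :=
  .inr fun v hv => h' v (eq_neg_of_add_eq_zero_left (h _ (by rw [map_add, hv, add_comm])))

variable [Finite K]

theorem exists_trip_tame {ε : K} (hε : ε * ε = 1) {s : Multiset K[X]} (hs : ∀ P ∈ s, IsPrimaryPoly P)
    (hX : ∀ P ∈ s, ¬ X ∣ P) (hρ : s.map (recip (RingHom.id K)) = s) (h1 : ∀ P ∈ s, P.eval 1 ≠ 0)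
    (h1' : ∀ P ∈ s, P.eval (-1) ≠ 0) : ∃ T : Trip K, T.OK ε ∧ HasED (T.g : End K T.V) s := by
  obtain ⟨A, hA⟩ := exists_GL_elemDiv_eq (n := Fin (s.map natDegree).sum) s hs hX (by simp)
  have h3 : HasED (Sp.glEquiv _ K A : End K (Fin (s.map natDegree).sum → K)) s := by
    rw [Sp.glEquiv_toLinearMap]; exact (congrArg (HasED _) hA).mp (hasED_elemDiv _)
  obtain ⟨C, C1, C2⟩ := exists_invariant_form (σ := RingHom.id K) A
    (isConj_iff_elemDiv.2 (by rw [elemDiv_star (fun _ => rfl) A.isUnit, hA, hρ]))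
  obtain ⟨B, B1, B2, B3⟩ := wall_exists_form (fun _ => rfl) C C1 (Sp.glEquiv _ K A) C2 (wallTame_of
    (fun v hv => tame_of_hasED h3 h1 v (by simpa using hv)) fun v hv => tame_of_hasED h3 h1' v (by simpa using hv)) hε
  exact ⟨⟨_, B, _⟩, ⟨B1, B2, B3⟩, h3⟩

variable (h2 : (2 : K) ≠ 0)
include h2

theorem exists_trip_nontame {f : K[X]} {c : K} (hc : c * c = 1)
    (h : ∃ T : Trip K, T.OK 1 ∧ (T.g : End K T.V).charpoly = f) (τ : Prop) :
    ∃ T : Trip K, T.OK 1 ∧ (T.g : End K T.V).charpoly = (X - C c) * f ∧ (sqDisc T.B ↔ τ) := by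
  obtain ⟨T, h1, rfl⟩ := h
  obtain ⟨B, B1, B2, B3⟩ := exists_symm_sqDisc (V := K) h2 (by simp) (sqDisc T.B ↔ τ)
  let S : Trip K := ⟨K, B, LinearEquiv.smulOfUnit ⟨c, c, hc, hc⟩⟩
  have hS : S.OK 1 := ⟨B1, fun x y => (B2 x y).trans (one_mul _).symm, fun u v => by
    change B (c • u) (c • v) = B u v
    rw [LinearMap.map_smul₂, map_smul, smul_smul, hc, one_smul]⟩
  refine ⟨tsum S T, ok_tsum hS h1, ?_, (sqDisc_prodForm B1 h1.nondeg).trans (by tauto)⟩
  refine (LinearMap.charpoly_prodMap (S.g : End K S.V) (T.g : End K T.V)).trans (congrArg (· * _) ?_)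
  refine (LinearMap.charpoly_toMatrix (S.g : End K K) (Basis.singleton Unit K)).symm.trans ?_
  simp [Matrix.charpoly, LinearMap.toMatrix_apply, S, LinearEquiv.smulOfUnit]

theorem exists_trip_charpoly (n : ℕ) : ∀ f : K[X], f.Monic → f.natDegree = n → f.coeff 0 ≠ 0 →
    recip (RingHom.id K) f = f → ∃ T : Trip K, T.OK 1 ∧ (T.g : End K T.V).charpoly = f := by
  induction n using Nat.strong_induction_on with
  | h n ih =>
  intro f f1 f2 f3 f4
  by_cases h : ∃ c : K, c * c = 1 ∧ f.eval c = 0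
  · obtain ⟨c, hc, h⟩ := h
    obtain ⟨g, rfl⟩ := dvd_iff_isRoot.2 h
    have h3 := (monic_X_sub_C c).of_mul_monic_left f1
    rw [(monic_X_sub_C c).natDegree_mul h3, natDegree_X_sub_C] at f2
    rw [recip_mul, recip_X_sub_C (left_ne_zero_of_mul_eq_one hc), RingHom.id_apply, inv_eq_of_mul_eq_one_right hc] at f4
    exact (exists_trip_nontame h2 hc (ih _ (by omega) g h3 rfl (fun e => f3 (by simp [e]))
      (mul_left_cancel₀ (X_sub_C_ne_zero c) f4)) True).imp fun _ h => ⟨h.1, h.2.1⟩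
  obtain ⟨s, s1, rfl⟩ := exists_multiset_prod_eq f1
  have h3 : ∀ c, s.prod.eval c ≠ 0 → ∀ P ∈ s, P.eval c ≠ 0 := fun c hc P hP e =>
    hc (dvd_iff_isRoot.1 ((dvd_iff_isRoot.2 e).trans (Multiset.dvd_prod hP)))
  have h4 : ∀ P ∈ s, P.coeff 0 ≠ 0 := by simpa only [coeff_zero_eq_eval_zero] using h3 0 (by rwa [← coeff_zero_eq_eval_zero])
  obtain ⟨T, h5, h6⟩ := exists_trip_tame (one_mul (1 : K)) (fun P hP => isPrimaryPoly_of_irreducible (s1 P hP).1 (s1 P hP).2)
    (fun P hP => mt X_dvd_iff.1 (h4 P hP)) ((map_recip_eq_iff (fun _ => rfl) fun P hP => ⟨(s1 P hP).1, (s1 P hP).2, h4 P hP⟩).2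
      f4) (h3 _ fun e => h ⟨1, one_mul 1, e⟩) (h3 _ fun e => h ⟨-1, by simp, e⟩)
  exact ⟨T, h5, h6.charpoly_eq⟩

theorem exists_trip_root {f : K[X]} (f1 : f.Monic) (f3 : f.coeff 0 ≠ 0) (f4 : recip (RingHom.id K) f = f) {c : K}
    (hc : c * c = 1) (h : f.eval c = 0) (τ : Prop) :
    ∃ T : Trip K, T.OK 1 ∧ (T.g : End K T.V).charpoly = f ∧ (sqDisc T.B ↔ τ) := by
  obtain ⟨g, rfl⟩ := dvd_iff_isRoot.2 h
  rw [recip_mul, recip_X_sub_C (left_ne_zero_of_mul_eq_one hc), RingHom.id_apply, inv_eq_of_mul_eq_one_right hc] at f4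
  exact exists_trip_nontame h2 hc (exists_trip_charpoly h2 _ g ((monic_X_sub_C c).of_mul_monic_left f1) rfl
    (fun e => f3 (by simp [e])) (mul_left_cancel₀ (X_sub_C_ne_zero c) f4)) τ

theorem sqDisc_tame {T : Trip K} (h : T.OK 1) {f : K[X]} (hf : (T.g : End K T.V).charpoly = f) (h1 : f.eval 1 ≠ 0)
    (h1' : f.eval (-1) ≠ 0) : sqDisc T.B ↔ (IsSquare (f.eval 1) ↔ IsSquare ((-2) ^ f.natDegree * f.eval (-1))) := by
  have e0 : f.natDegree = finrank K T.V := by rw [← hf, LinearMap.charpoly_natDegree]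
  have e1 : LinearMap.det (1 - (T.g : End K T.V)) = f.eval 1 := by rw [← hf, LinearMap.eval_charpoly, map_one]
  have e2 : LinearMap.det (1 + (T.g : End K T.V)) = (-1) ^ finrank K T.V * f.eval (-1) := by
    rw [← hf, LinearMap.eval_charpoly, ← LinearMap.det_smul]; congr 1; simp [add_comm]
  obtain ⟨Q, hQ, hg⟩ := exists_quad_of_symm h.symm h.isom fun v hv =>
    tame_of_hasED (hasED_ed (T.g : End K T.V)) (c := 1) (fun P hP e => h1 (by
      rw [← hf, (hasED_ed _).charpoly_eq]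
      exact dvd_iff_isRoot.1 ((dvd_iff_isRoot.2 e).trans (Multiset.dvd_prod hP)))) v (by simpa using hv)
  have h4 : (polarBilin Q).Nondegenerate := by rw [hQ]; exact ok_nondeg h
  have h3 := spinor_eq_one_iff_of_fpf h4 h2 ⟨T.g, hg⟩ (e1.trans_ne h1)
  rw [spinor_eq_one_iff_det _ h2 _ (e2.trans_ne (by simpa using h1')), e1, e2, ← mul_assoc, ← mul_pow, hQ, mul_neg_one] at h3
  rw [e0]
  exact (show ∀ a b c : Prop, (a ↔ (b ↔ c)) → (b ↔ (c ↔ a)) by tauto) _ _ _ h3

open Classical in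
theorem orth_count {N : ℕ} {τ : Prop} (D : K[X] → Prop) {P : Trip K → Prop}
    (hP : ∀ T, P T → (T.OK 1 ∧ finrank K T.V = N) ∧ (sqDisc T.B ↔ τ) ∧
      ∀ s, HasED (T.g : End K T.V) s → ∀ e, Even e → D (lay (e + 1) s)) {β : ℕ → ℝ}
    (hβ : ∀ m, ∑ f ∈ srp K m, (if D f then omB f else 0) ≤ β m) : 2 * (nc P : ℝ) ≤ allc β (Nat.card K) N +
      PowerSeries.coeff N (∏ e ∈ range N, ser (e + 1) (sml (Nat.card K))) := by
  refine trip_count (fun T h => (hP T h).1) (fun e f => if Even e then if D f then omB f else 0 else omS f)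
    (fun _ => omS) (fun e => if Even e then β else sml (Nat.card K)) (fun _ => sml (Nat.card K))
    (fun e f => by split_ifs; exacts [omB_nonneg f, le_rfl, omS_nonneg f]) (fun _ => omS_nonneg)
    (fun e m => by split_ifs; exacts [hβ m, sum_omS_le m]) (fun _ => sum_omS_le) two_pos fun T s hT hs => ?_
  obtain ⟨⟨h1, rfl⟩, -, h3⟩ := hP T hT
  have h4 := cnt_mul_le h2 0 h1 hs
  simp only [zero_add, pow_zero] at h4
  rw [prod_congr rfl fun (e : Fin _) _ => if_ctx_congr Iff.rfl (fun he => if_pos (h3 s hs e he)) fun _ => rfl]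
  have h5 : nc (fun S => P S ∧ HasED (S.g : End K S.V) s) ≤
      nc fun S : Trip K => (S.OK 1 ∧ HasED (S.g : End K S.V) s) ∧ (sqDisc S.B ↔ τ) :=
    nc_mono ((bd_ed s).mono fun _ h => h.1) fun S h => ⟨S, ⟨⟨(hP S h.1).1.1, h.2⟩, (hP S h.1).2.1⟩, (iso K).refl _⟩
  by_cases h : (∃ a ∈ jt 1 s, Odd a) ∨ ∃ a ∈ jt (-1) s, Odd a
  · refine le_add_of_le_of_nonneg (le_trans ?_ h4) (prod_nonneg fun _ _ => omS_nonneg _)
    exact_mod_cast (Nat.mul_le_mul_left 2 h5).trans (fib_bal h2 h τ)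
  have h6 := Nat.cast_le (α := ℝ).2 (h5.trans ((nc_mono (bd_ed s) fun S h => ⟨S, h.1, (iso K).refl _⟩).trans (fib_le h2 s)))
  refine (two_mul _).trans_le (add_le_add (h6.trans h4) ((h6.trans h4).trans (prod_le_prod
    (fun e _ => by split_ifs; exacts [omB_nonneg _, omS_nonneg _]) fun e _ => ?_)))
  split_ifs with he
  · have h7 : ∀ c : K, (¬ ∃ a ∈ jt c s, Odd a) → X - C c ∉ bs (e + 1) s := fun c hc h' => hc ⟨e + 1, by
      rw [← Multiset.count_ne_zero, count_jt, Multiset.count_ne_zero]; exact (of_mem_bs h').2.2, he.add_one⟩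
    have h8 : ∀ c : K, (¬ ∃ a ∈ jt c s, Odd a) → ¬ (lay (e + 1) s).eval c = 0 := fun c hc h' =>
      h7 c hc ((dvd_lay_iff (monic_X_sub_C c) (irreducible_X_sub_C c)).1 (dvd_iff_isRoot.2 h'))
    rw [not_or] at h
    rw [omB, if_neg (h8 _ h.1), if_neg (h8 _ h.2), one_mul]
    exact (omS_lay h2 (recip_lay (fun _ => rfl) hs.primary (ok_recip h1 hs).1 (ok_recip h1 hs).2 e)
      (fun P hP => ⟨(of_mem_bs hP).1, (of_mem_bs hP).2.1⟩) (by rw [Multiset.count_eq_zero.2 (h7 _ h.1)]; simp)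
      (by rw [Multiset.count_eq_zero.2 (h7 _ h.2)]; simp)).ge
  · rfl

omit h2 [Finite K] in
theorem recip_eq_iff_reflect {f : K[X]} (h : f.coeff 0 = 1) : recip (RingHom.id K) f = f ↔ f.reflect f.natDegree = f := by
  simp [recip, h, reverse]

/-- At least half of the palindromic polynomials belong to a given type. -/
theorem card_good_ge (n : ℕ) (a : K) (τ : Prop) : Nat.card K ^ (n + 2) ≤ 2 * Nat.card {f : K[X] //
    (f.Monic ∧ f.natDegree = 2 * (n + 2) ∧ f.coeff 0 = 1 ∧ recip (RingHom.id K) f = f) ∧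
      (f.eval 1 = 0 ∨ f.eval (-1) = 0 ∨ ((IsSquare (f.eval 1) ↔ IsSquare (a * f.eval (-1))) ↔ τ))} := by
  classical
  obtain ⟨δ, hδ⟩ := FiniteField.exists_nonsquare (ringChar_ne_two_of_two_ne_zero h2)
  have hδ0 : δ ≠ 0 := by rintro rfl; exact hδ IsSquare.zero
  have h4 : (4 : K) ≠ 0 := by simpa only [show (2 : K) * 2 = 4 by norm_num] using mul_ne_zero h2 h2
  let p : K[X] → Prop := fun f => f.eval 1 = 0 ∨ f.eval (-1) = 0 ∨ ((IsSquare (f.eval 1) ↔ IsSquare (a * f.eval (-1))) ↔ τ)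
  let w : K[X] := X ^ (n + 1) + C 2 * X ^ (n + 2) + X ^ (n + 3)
  let s := mon (2 * (n + 2)) fun f : K[X] => f.coeff 0 = 1 ∧ recip (RingHom.id K) f = f
  have h1 : ∀ f : K[X], (f + C ((δ - 1) * f.eval 1 / 4) * w).eval 1 = δ * f.eval 1 := fun f => by
    simp [w]; field_simp; ring
  have h9 : w.eval (-1) = 0 := by simp [w, pow_succ]; ring
  have h3 : (s.filter (¬ p ·)).card ≤ (s.filter p).card := by
    refine card_le_card_of_injOn (fun f => f + C ((δ - 1) * f.eval 1 / 4) * w) (fun f hf => ?_) fun f _ g _ e => ?_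
    · obtain ⟨hf, h5⟩ := mem_filter.1 (mem_coe.1 hf)
      obtain ⟨f1, f2, f3, f4⟩ := mem_mon.1 hf
      have h6 : (C ((δ - 1) * f.eval 1 / 4) * w).degree < f.degree := by
        refine degree_lt_degree (lt_of_le_of_lt (b := n + 3) ?_ (by omega))
        unfold w
        compute_degree!
      have h7 := natDegree_eq_of_degree_eq (degree_add_eq_left_of_degree_lt h6)
      have h8 : (f + C ((δ - 1) * f.eval 1 / 4) * w).coeff 0 = 1 := by simp [w, f3, -map_mul, -map_div₀]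
      refine mem_coe.2 (mem_filter.2 ⟨mem_mon.2 ⟨f1.add_of_left h6, h7.trans f2, h8, ?_⟩, .inr (.inr ?_)⟩)
      · rw [recip_eq_iff_reflect f3] at f4
        rw [recip_eq_iff_reflect h8, h7, reflect_add, f4, reflect_C_mul, f2]
        simp only [w, reflect_add, reflect_C_mul, reflect_monomial]
        rw [revAt_le (by omega), revAt_le (by omega), revAt_le (by omega), show 2 * (n + 2) - (n + 1) = n + 3 by omega,
          show 2 * (n + 2) - (n + 2) = n + 2 by omega, show 2 * (n + 2) - (n + 3) = n + 1 by omega]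
        ring
      · rw [h1, show (f + C ((δ - 1) * f.eval 1 / 4) * w).eval (-1) = f.eval (-1) by rw [eval_add, eval_mul, h9, mul_zero, add_zero]]
        simp only [p, not_or] at h5
        rw [isSquare_mul_iff hδ0 h5.1]
        exact (show ∀ a b c d : Prop, ¬ a → ¬ ((b ↔ c) ↔ d) → (((a ↔ b) ↔ c) ↔ d) by tauto) _ _ _ _ hδ h5.2.2
    · have h5 := congrArg (eval 1) e
      simp only [h1, mul_right_inj' hδ0] at h5
      simpa only [h5, add_left_inj] using e
  have h5 := card_filter_add_card_filter_not (s := s) p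
  rw [card_mon, card_recip_one, Nat.mul_div_cancel_left _ two_pos] at h5
  rw [Nat.subtype_card (s.filter p) fun f => by rw [mem_filter, mem_mon]]
  omega

variable {V : Type u} [AddCommGroup V] [Module K V] [FiniteDimensional K V] {Q : QuadraticForm K V}
  (hQ : (polarBilin Q).Nondegenerate) {G : Type*} [Group G] (φ : G ≃* OG Q)
include hQ φ

theorem le_card_OG [Finite G] (S : K[X] → Prop) (h : ∀ f, S f → f.natDegree = finrank K V ∧ ∃ T : Trip K, T.OK 1 ∧
    (T.g : End K T.V).charpoly = f ∧ (sqDisc T.B ↔ sqDisc (polarBilin Q))) :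
    Nat.card {f // S f} ≤ Nat.card (ConjClasses G) := by
  have key : ∀ f, S f → ∃ g : G, ((φ g).1 : End K V).charpoly = f := fun f hf => by
    obtain ⟨h1, T, h3, rfl, h4⟩ := h f hf
    obtain ⟨e, he⟩ := exists_equiv_of_sqDisc h2 ⟨fun x y => by simpa using h3.symm y x⟩ ⟨fun _ _ => polar_comm _ _ _⟩ (ok_nondeg h3)
      hQ (by rwa [LinearMap.charpoly_natDegree] at h1) h4
    obtain ⟨g, hg⟩ := φ.surjective ⟨e.symm.trans (T.g.trans e), mem_OG_of_polar h2 fun u v => by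
      simp only [LinearEquiv.trans_apply, he, h3.isom]
      rw [← he, e.apply_symm_apply, e.apply_symm_apply]⟩
    exact ⟨g, (Sim.charpoly ⟨e, fun v => by simp [hg]⟩).symm⟩
  choose g hg using key
  refine Nat.card_le_card_of_injective (fun f => ConjClasses.mk (g f.1 f.2)) fun a b e => Subtype.ext ?_
  obtain ⟨c, hc⟩ := isConj_iff.1 (ConjClasses.mk_eq_mk_iff_isConj.1 e)
  rw [← hg a.1 a.2, ← hg b.1 b.2, ← hc]
  exact Sim.charpoly ⟨(φ c).1, fun v => by simp⟩

open Classical in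
theorem card_OG_le (p : ConjClasses G → Prop) (D : K[X] → Prop) (h : ∀ g, p (ConjClasses.mk g) →
    ∀ s, HasED ((φ g).1 : End K V) s → ∀ e, Even e → D (lay (e + 1) s)) {β : ℕ → ℝ}
    (hβ : ∀ m, ∑ f ∈ srp K m, (if D f then omB f else 0) ≤ β m) : 2 * (Nat.card {c // p c} : ℝ) ≤
      allc β (Nat.card K) (finrank K V) +
        PowerSeries.coeff (finrank K V) (∏ e ∈ range (finrank K V), ser (e + 1) (sml (Nat.card K))) := by
  refine le_trans ?_ (orth_count h2 D (fun _ h => h) hβ (τ := sqDisc (polarBilin Q)))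
  refine mul_le_mul_of_nonneg_left (Nat.cast_le.2 (card_conj_le_nc (polarBilin Q) ((OG Q).subtype.comp φ.toMonoidHom)
    (Subtype.val_injective.comp φ.injective) (fun e he => ?_) ⟨_, fun _ h => h.1.2⟩
    fun g hg => ⟨⟨ok_OG hQ _, rfl⟩, Iff.rfl, h g hg⟩)) zero_le_two
  exact (φ.surjective ⟨e, mem_OG_of_polar h2 he⟩).imp fun _ h => congrArg Subtype.val h

theorem card_OG_le_all : 2 * (Nat.card (ConjClasses G) : ℝ) ≤ allc (big (Nat.card K)) (Nat.card K) (finrank K V) +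
    PowerSeries.coeff (finrank K V) (∏ e ∈ range (finrank K V), ser (e + 1) (sml (Nat.card K))) := by
  rw [← Nat.card_congr (Equiv.subtypeUnivEquiv (p := fun _ : ConjClasses G => True) fun _ => trivial)]
  exact card_OG_le h2 hQ φ _ (fun _ => True) (by simp) (by simpa using sum_omB_le h2)

theorem orth_even_bounds [Finite G] {n : ℕ} (hn : finrank K V = 2 * (n + 2)) :
    Nat.card K ^ (n + 2) ≤ 2 * Nat.card (ConjClasses G) ∧ 2 * Nat.card (ConjClasses G) ≤ 19 * Nat.card K ^ (n + 2) := by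
  refine ⟨(card_good_ge h2 n ((-2) ^ (2 * (n + 2))) (sqDisc (polarBilin Q))).trans (Nat.mul_le_mul_left _
    (le_card_OG h2 hQ φ _ fun f ⟨⟨f1, f2, f3, f4⟩, h⟩ => ⟨f2.trans hn.symm, ?_⟩)), ?_⟩
  · by_cases h1 : f.eval 1 = 0
    · exact exists_trip_root h2 f1 (by simp [f3]) f4 (one_mul 1) h1 _
    by_cases h1' : f.eval (-1) = 0
    · exact exists_trip_root h2 f1 (by simp [f3]) f4 (by simp) h1' _
    obtain ⟨T, h3, h4⟩ := exists_trip_charpoly h2 _ f f1 rfl (by simp [f3]) f4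
    exact ⟨T, h3, h4, (sqDisc_tame h2 h3 h4 h1 h1').trans (f2 ▸ (h.resolve_left h1).resolve_left h1')⟩
  have hq : (3 : ℝ) ≤ Nat.card K := by exact_mod_cast three_le_card h2
  obtain ⟨x, hx, h⟩ := exists_sqrt_inv (zero_lt_three.trans_le hq)
  have h1 := card_OG_le_all h2 hQ φ
  have h3 := le_of_mul_pow_le h (n := n + 2) (by positivity)
    (allc_third hx.le (by nlinarith [sq_nonneg x]) h (2 * (n + 1) + 1))
  have h4 := coeff_sml_le hq (n + 1)
  rw [hn] at h1
  rw [← Nat.cast_le (α := ℝ)]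
  push_cast
  exact (h1.trans (add_le_add h3 h4)).trans (by nlinarith [pow_nonneg (Nat.cast_nonneg (α := ℝ) (Nat.card K)) (n + 2)])

end CL.ClassNo
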