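/-
Class numbers of symplectic and orthogonal groups in characteristic two, part A: quadratic spaces with an isometry,
weighted counts of their isomorphism classes, Gauss sums.
-/
import Cfsg.Agent.Known.ClassNo11

set_option autoImplicit false

open Module QuadraticMap Finset

namespace CL.Cl2

universe u

/-- A quadratic space with an automorphism. -/
structure Quad (K : Type u) [Field K] where
  V : Type u
  [acg : AddCommGroup V]
  [mod : Module K V]
  [fd : FiniteDimensional K V]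
  Q : QuadraticForm K V
  g : V ≃ₗ[K] V

attribute [instance] Quad.acg Quad.mod Quad.fd

variable {K : Type u} [Field K]

/-- Isomorphisms preserve the polar form, and the quadratic form if `ρ` holds. -/
def iso (K : Type u) [Field K] (ρ : Prop) : Setoid (Quad K) where
  r T T' := ∃ e : T.V ≃ₗ[K] T'.V, (∀ v, e (T.g v) = T'.g (e v)) ∧ (∀ u v, polar T'.Q (e u) (e v) = polar T.Q u v) ∧
    (ρ → ∀ v, T'.Q (e v) = T.Q v)
  iseqv := ⟨fun T => ⟨LinearEquiv.refl K _, fun _ => rfl, fun _ _ => rfl, fun _ _ => rfl⟩,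
    fun ⟨e, h1, h2, h3⟩ => ⟨e.symm, fun v => e.injective (by rw [h1, e.apply_symm_apply, e.apply_symm_apply]),
      fun u v => by rw [← h2, e.apply_symm_apply, e.apply_symm_apply], fun h v => by rw [← h3 h, e.apply_symm_apply]⟩,
    fun ⟨e, h1, h2, h3⟩ ⟨f, h4, h5, h6⟩ => ⟨e.trans f, fun v => (congrArg f (h1 v)).trans (h4 _),
      fun u v => (h5 _ _).trans (h2 u v), fun h v => (h6 h _).trans (h3 h v)⟩⟩

/-- A non-degenerate form with an isometry. -/
structure Quad.OK (T : Quad K) : Prop where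
  nondeg : ∀ x, (∀ y, polar T.Q x y = 0) → x = 0
  isom : ∀ v, T.Q (T.g v) = T.Q v

/-- Orthogonal sum. -/
def qsum (T S : Quad K) : Quad K := ⟨T.V × S.V, T.Q.prod S.Q, T.g.prodCongr S.g⟩

/-- Restriction to an invariant subspace. -/
noncomputable def qres (T : Quad K) (W : Submodule K T.V) (hW : ∀ w ∈ W, T.g w ∈ W) : Quad K :=
  ⟨W, T.Q.comp W.subtype, LinearEquiv.ofInjectiveEndo ((T.g : End K T.V).restrict hW)
    fun _ _ h => Subtype.ext (T.g.injective (congrArg Subtype.val h))⟩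

variable {ρ : Prop}

theorem iso_of_true {T T' : Quad K} (h : iso K True T T') : iso K ρ T T' :=
  let ⟨e, h1, h2, h3⟩ := h; ⟨e, h1, h2, fun _ => h3 trivial⟩

theorem iso_qsum {T T' S S' : Quad K} (h : iso K ρ T T') (h' : iso K ρ S S') : iso K ρ (qsum T S) (qsum T' S') := by
  obtain ⟨e, h1, h2, h3⟩ := h
  obtain ⟨f, h4, h5, h6⟩ := h'
  exact ⟨e.prodCongr f, fun v => Prod.ext (h1 _) (h4 _), fun u v => (polar_prod _ _ _ _).trans
    ((congrArg₂ (· + ·) (h2 _ _) (h5 _ _)).trans (polar_prod _ _ _ _).symm),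
    fun h v => congrArg₂ (· + ·) (h3 h _) (h6 h _)⟩

theorem iso_finrank {T T' : Quad K} (h : iso K ρ T T') : finrank K T.V = finrank K T'.V :=
  let ⟨e, _⟩ := h; e.finrank_eq

theorem finrank_qsum (T S : Quad K) : finrank K (qsum T S).V = finrank K T.V + finrank K S.V := finrank_prod

theorem polar_qres (T : Quad K) (W : Submodule K T.V) (hW : ∀ w ∈ W, T.g w ∈ W) (x y : W) :
    polar (qres T W hW).Q x y = polar T.Q x y := rfl

theorem iso_of_isCompl {T : Quad K} (h : T.OK) {U W : Submodule K T.V} (hc : IsCompl U W) (hU : ∀ w ∈ U, T.g w ∈ U)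
    (hW : ∀ w ∈ W, T.g w ∈ W) (ho : ∀ u ∈ U, ∀ w ∈ W, polar T.Q u w = 0) :
    (qres T U hU).OK ∧ (qres T W hW).OK ∧ iso K True (qsum (qres T U hU) (qres T W hW)) T := by
  have nd : ∀ {U W : Submodule K T.V}, IsCompl U W → (∀ u ∈ U, ∀ w ∈ W, polar T.Q u w = 0) → ∀ x : U,
      (∀ y : U, polar T.Q x y = 0) → x = 0 := fun hc ho x hx => Subtype.ext (h.nondeg _ fun y => by
    obtain ⟨a, ha, b, hb, rfl⟩ := Submodule.mem_sup.1 (hc.sup_eq_top ▸ Submodule.mem_top (x := y))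
    rw [polar_add_right, hx ⟨a, ha⟩, ho _ x.2 _ hb, add_zero])
  have hQ : ∀ v : U × W, T.Q (v.1 + v.2) = T.Q v.1 + T.Q v.2 := fun v => by
    rw [CL.Cls.map_add', ho _ v.1.2 _ v.2.2, add_zero]
  refine ⟨⟨nd hc ho, fun _ => h.isom _⟩, ⟨nd hc.symm fun u hu w hw => (polar_comm _ _ _).trans (ho w hw u hu),
    fun _ => h.isom _⟩, Submodule.prodEquivOfIsCompl U W hc, fun v => (map_add T.g _ _).symm, fun u v => ?_,
    fun _ => hQ⟩
  exact congrArg₂ (· - ·) (congrArg₂ (· - ·) ((congrArg T.Q (map_add (Submodule.prodEquivOfIsCompl U W hc) u v).symm).trans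
    (hQ (u + v))) (hQ u)) (hQ v)

section Count

variable [Finite K]

theorem finite_cls (ρ : Prop) (N : ℕ) (P : Quad K → Prop) :
    {c : Quotient (iso K ρ) | ∃ T, Quotient.mk _ T = c ∧ finrank K T.V < N ∧ P T}.Finite := by
  have : ∀ n, Finite (QuadraticForm K (Fin n → K)) := fun n => DFunLike.finite _
  have : ∀ n, Finite ((Fin n → K) ≃ₗ[K] (Fin n → K)) := fun n => DFunLike.finite _
  refine (Set.finite_range fun x : (n : Fin N) × (QuadraticForm K (Fin n → K) × ((Fin n → K) ≃ₗ[K] (Fin n → K))) =>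
    Quotient.mk (iso K ρ) ⟨_, x.2.1, x.2.2⟩).subset ?_
  rintro _ ⟨T, rfl, hT, -⟩
  let e : (Fin (finrank K T.V) → K) ≃ₗ[K] T.V := LinearEquiv.ofFinrankEq _ _ (by simp)
  exact ⟨⟨⟨_, hT⟩, T.Q.comp e.toLinearMap, e.trans (T.g.trans e.symm)⟩,
    Quotient.sound ⟨e, fun v => by simp, fun _ _ => by simp [polar], fun _ _ => rfl⟩⟩

/-- The classes of dimension less than `N` with a property. -/
noncomputable def cls (ρ : Prop) (N : ℕ) (P : Quad K → Prop) : Finset (Quotient (iso K ρ)) := (finite_cls ρ N P).toFinset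

theorem mem_cls {N : ℕ} {P : Quad K → Prop} {c : Quotient (iso K ρ)} :
    c ∈ cls ρ N P ↔ ∃ T, Quotient.mk _ T = c ∧ finrank K T.V < N ∧ P T := Set.Finite.mem_toFinset _

/-- The dimension of a class. -/
noncomputable def dim (c : Quotient (iso K ρ)) : ℕ := c.lift (fun T => finrank K T.V) fun _ _ => iso_finrank

/-- The weighted number of classes. -/
noncomputable def Z (ρ : Prop) (x : ℝ) (N : ℕ) (P : Quad K → Prop) : ℝ := ∑ c ∈ cls ρ N P, x ^ dim c

variable {x : ℝ} (hx : 0 ≤ x) {N : ℕ} {P P₁ P₂ : Quad K → Prop}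

theorem Z_zero : Z ρ x 0 P = 0 := sum_eq_zero fun _ hc => let ⟨_, _, h, _⟩ := mem_cls.1 hc; absurd h (Nat.not_lt_zero _)

theorem Z_false (h : ∀ T, ¬ P T) : Z ρ x N P = 0 := sum_eq_zero fun _ hc => let ⟨T, _, _, h'⟩ := mem_cls.1 hc; absurd h' (h T)

include hx

theorem Z_nonneg : 0 ≤ Z ρ x N P := sum_nonneg fun _ _ => pow_nonneg hx _

theorem Z_union (h : ∀ T, P T → P₁ T ∨ P₂ T) : Z ρ x N P ≤ Z ρ x N P₁ + Z ρ x N P₂ := by
  classical
  refine (sum_le_sum_of_subset_of_nonneg (t := cls ρ N P₁ ∪ cls ρ N P₂) (fun c hc => ?_)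
    fun _ _ _ => pow_nonneg hx _).trans (le_of_le_of_eq (le_add_of_nonneg_right (sum_nonneg fun _ _ => pow_nonneg hx _))
      sum_union_inter)
  obtain ⟨T, h1, h2, h3⟩ := mem_cls.1 hc
  exact mem_union.2 ((h T h3).imp (fun h => mem_cls.2 ⟨T, h1, h2, h⟩) fun h => mem_cls.2 ⟨T, h1, h2, h⟩)

theorem Z_succ_le : Z ρ x N P ≤ Z ρ x (N + 1) P :=
  sum_le_sum_of_subset_of_nonneg (fun _ hc => let ⟨T, h1, h2, h3⟩ := mem_cls.1 hc; mem_cls.2 ⟨T, h1, by omega, h3⟩)
    fun _ _ _ => pow_nonneg hx _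

theorem Z_split {M : Quad K → Prop} {d : ℕ} (hd : 0 < d) (h1 : ∀ X X', M X → M X' → iso K ρ X X')
    (h2 : ∀ X, M X → finrank K X.V = d) (h : ∀ T, P T → ∃ X Y, M X ∧ P₁ Y ∧ iso K ρ (qsum X Y) T) :
    Z ρ x (N + 1) P ≤ x ^ d * Z ρ x N P₁ := by
  classical
  by_cases hM : ∃ X, M X
  swap
  · rw [Z_false fun T hT => let ⟨X, _, h, _⟩ := h T hT; hM ⟨X, h⟩]
    exact mul_nonneg (pow_nonneg hx _) (Z_nonneg hx)
  obtain ⟨X, hX⟩ := hM
  let φ : Quotient (iso K ρ) → Quotient (iso K ρ) := Quotient.map (qsum X) fun _ _ => iso_qsum ((iso K ρ).refl X)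
  refine (sum_le_sum_of_subset_of_nonneg (t := (cls ρ N P₁).image φ) (fun c hc => ?_)
    fun _ _ _ => pow_nonneg hx _).trans ((sum_image_le_of_nonneg fun _ _ => pow_nonneg hx _).trans ?_)
  · obtain ⟨T, rfl, h3, h4⟩ := mem_cls.1 hc
    obtain ⟨X', Y, h5, h6, h7⟩ := h T h4
    have := iso_finrank h7
    rw [finrank_qsum, h2 _ h5] at this
    exact mem_image.2 ⟨_, mem_cls.2 ⟨Y, rfl, by omega, h6⟩,
      Quotient.sound ((iso K ρ).trans (iso_qsum (h1 _ _ hX h5) ((iso K ρ).refl Y)) h7)⟩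
  · rw [Z, mul_sum]
    refine sum_le_sum fun c _ => ?_
    obtain ⟨Y, rfl⟩ := c.exists_rep
    rw [← pow_add, ← h2 X hX, ← show _ = _ + dim (Quotient.mk (iso K ρ) Y) from finrank_qsum X Y]
    rfl

omit hx in
theorem Z_le_one (h : ∀ T, P T → Subsingleton T.V) : Z ρ x N P ≤ 1 := by
  refine (sum_le_card_nsmul _ _ 1 fun c hc => ?_).trans ?_
  · obtain ⟨T, rfl, -, h1⟩ := mem_cls.1 hc
    have := h T h1
    rw [show dim (Quotient.mk (iso K ρ) T) = 0 from finrank_zero_of_subsingleton, pow_zero]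
  · rw [nsmul_one, Nat.cast_le_one, card_le_one]
    intro c hc c' hc'
    obtain ⟨T, rfl, -, h1⟩ := mem_cls.1 hc
    obtain ⟨T', rfl, -, h2⟩ := mem_cls.1 hc'
    have := h T h1
    have := h T' h2
    exact Quotient.sound ⟨LinearEquiv.ofSubsingleton _ _, fun _ => Subsingleton.elim _ _, fun u v => by
      rw [Subsingleton.elim u 0, map_zero, polar_zero_left, polar_zero_left], fun _ v => by
      rw [Subsingleton.elim v 0, map_zero, map_zero, map_zero]⟩

end Count

section Gauss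

open Classical in
/-- The additive character with kernel `{y² + y}`. -/
noncomputable def ψ (x : K) : ℤ := if ∃ y, y ^ 2 + y = x then 1 else -1

theorem ψ_wp (y : K) : ψ (y ^ 2 + y) = 1 := if_pos ⟨y, rfl⟩

theorem ψ_zero : ψ (0 : K) = 1 := if_pos ⟨0, by simp⟩

theorem ψ_mul_self (x : K) : ψ x * ψ x = 1 := by unfold ψ; split_ifs <;> rfl

variable [Finite K]

theorem exists_ψ_neg (h2 : (2 : K) = 0) : ∃ α : K, ψ α = -1 := by
  by_contra! h
  have : Function.Surjective fun y : K => y ^ 2 + y := fun x => by_contra fun hx => h x (if_neg hx)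
  exact zero_ne_one (Finite.injective_iff_surjective.2 this (show (0 : K) ^ 2 + 0 = 1 ^ 2 + 1 by linear_combination -h2))

variable (h2 : (2 : K) = 0)
include h2

theorem ψ_add (a b : K) : ψ (a + b) = ψ a * ψ b := by
  classical
  have k : ∀ a b : K, (∃ y, y ^ 2 + y = a) → ((∃ y, y ^ 2 + y = a + b) ↔ ∃ y, y ^ 2 + y = b) := fun a b ⟨y, hy⟩ =>
    ⟨fun ⟨z, hz⟩ => ⟨y + z, by linear_combination hy + hz + (y * z + a) * h2⟩,
      fun ⟨z, hz⟩ => ⟨y + z, by linear_combination hy + hz + y * z * h2⟩⟩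
  unfold ψ
  by_cases ha : ∃ y, y ^ 2 + y = a
  · rw [if_pos ha, one_mul]; exact if_congr (k a b ha) rfl rfl
  by_cases hb : ∃ y, y ^ 2 + y = b
  · rw [if_pos hb, mul_one, add_comm]; exact if_congr (k b a hb) rfl rfl
  obtain ⟨c, hc⟩ := CL.Cls.exists_sq_add_of_char_two h2 (fun x h => ha ⟨x, by linear_combination h - a * h2⟩)
    fun x h => hb ⟨x, by linear_combination h - b * h2⟩
  rw [if_neg ha, if_neg hb, if_pos ⟨c, by linear_combination -hc - a * h2⟩]; rfl

theorem ψ_sq (a : K) : ψ (a ^ 2) = ψ a := by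
  rw [← mul_one (ψ _), ← ψ_mul_self a, ← mul_assoc, ← ψ_add h2, ψ_wp, one_mul]

theorem exists_wp {α : K} (hα : ψ α = -1) (a : K) : ∃ b, a + b ^ 2 + b = 0 ∨ a + b ^ 2 + b = α := by
  by_cases h : ∃ y, y ^ 2 + y = a
  · exact h.imp fun y hy => .inl (by linear_combination hy + a * h2)
  have : ψ (a + α) = 1 := by rw [ψ_add h2, hα, show ψ a = -1 from if_neg h]; rfl
  obtain ⟨y, hy⟩ : ∃ y, y ^ 2 + y = a + α := by_contra fun h => by simp [ψ, h] at this
  exact ⟨y, .inr (by linear_combination hy + a * h2)⟩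

theorem exists_sqrt (a : K) : ∃ b, b ^ 2 = a :=
  (FiniteField.isSquare_of_char_two (CL.Cls.ringChar_eq_two_of_two_eq_zero h2) a).imp fun b hb => by rw [hb, pow_two]

variable {V : Type*} [AddCommGroup V] [Module K V]

theorem sum_ψ_lin [Fintype V] {φ : V →ₗ[K] K} (hφ : φ ≠ 0) : ∑ v, ψ (φ v) = 0 := by
  obtain ⟨α, hα⟩ := exists_ψ_neg h2
  obtain ⟨v, hv⟩ := φ.surjective hφ α
  have := Equiv.sum_comp (Equiv.addLeft v) fun v => ψ (φ v)
  simp only [Equiv.coe_addLeft, map_add, ψ_add h2, hv, hα, neg_mul, one_mul, sum_neg_distrib] at this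
  omega

omit h2 in
/-- The Gauss sum of a quadratic form. -/
noncomputable def gs (Q : QuadraticForm K V) : ℤ := ∑ᶠ v, ψ (Q v)

theorem gs_eq [FiniteDimensional K V] {Q : QuadraticForm K V} (L : Submodule K V) (c : V)
    (h1 : ∀ l ∈ L, polar Q c l ^ 2 = Q l) (h3 : ∀ x, (∀ l ∈ L, polar Q x l = 0) → x ∈ L) :
    gs Q = Nat.card L * ψ (Q c) := by
  classical
  have : Finite V := Module.finite_of_finite K
  have := Fintype.ofFinite V
  have k : ∀ x, ∀ l ∈ L, ψ (Q (x + c + l)) = ψ (Q (x + c)) * ψ (polar Q x l) := fun x l hl => by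
    rw [CL.Cls.map_add' Q _ l, polar_add_left, ← h1 l hl, ψ_add h2, ψ_add h2, ψ_add h2, ψ_sq h2, mul_comm (ψ (polar Q x l)),
      ← mul_assoc, mul_assoc _ _ (ψ (polar Q c l)), ψ_mul_self, mul_one]
  have iso : ∀ x ∈ L, ∀ l ∈ L, polar Q x l = 0 := fun x hx l hl => by
    rw [polar, ← h1 _ hx, ← h1 _ hl, ← h1 _ (L.add_mem hx hl), polar_add_right]
    linear_combination polar Q c x * polar Q c l * h2
  have e : ∑ l : L, ∑ x, ψ (Q (x + c + l)) = Nat.card L * gs Q := by
    rw [gs, finsum_eq_sum_of_fintype, Nat.card_eq_fintype_card, ← nsmul_eq_mul, ← card_univ, ← sum_const]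
    exact sum_congr rfl fun l _ => by simpa only [add_assoc, Equiv.coe_addRight] using Equiv.sum_comp (Equiv.addRight (c + l)) fun v => ψ (Q v)
  rw [sum_comm, sum_congr rfl (g := fun x => if x ∈ L then Nat.card L * ψ (Q c) else 0) fun x _ => ?_, ← sum_filter,
    sum_const, nsmul_eq_mul, ← Fintype.card_subtype, ← Nat.card_eq_fintype_card] at e
  · exact (mul_left_cancel₀ (Nat.cast_ne_zero.2 Nat.card_pos.ne') e).symm
  simp only [k _ _ (Subtype.prop _), ← mul_sum]
  split_ifs with h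
  · have := k 0 x h
    rw [zero_add, polar_zero_left, ψ_zero, mul_one, add_comm] at this
    simp [iso x h _ (Subtype.prop _), ψ_zero, this, mul_comm]
  · rw [show ∑ l : L, ψ (polar Q x l) = 0 from sum_ψ_lin h2 (φ := (polarBilin Q x).comp L.subtype) fun e =>
      h (h3 x fun l hl => LinearMap.congr_fun e ⟨l, hl⟩), mul_zero]

omit h2 [Finite K] in
theorem gs_congr {V' : Type*} [AddCommGroup V'] [Module K V'] {Q : QuadraticForm K V} {Q' : QuadraticForm K V'}
    (e : V ≃ₗ[K] V') (h : ∀ v, Q' (e v) = Q v) : gs Q = gs Q' := by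
  rw [gs, gs, ← finsum_comp_equiv e.toEquiv]; simp [h]

theorem gs_prod {V' : Type*} [AddCommGroup V'] [Module K V'] [FiniteDimensional K V] [FiniteDimensional K V']
    (Q : QuadraticForm K V) (Q' : QuadraticForm K V') : gs (Q.prod Q') = gs Q * gs Q' := by
  have : Finite V := Module.finite_of_finite K
  have : Finite V' := Module.finite_of_finite K
  have := Fintype.ofFinite V
  have := Fintype.ofFinite V'
  simp only [gs, finsum_eq_sum_of_fintype, Fintype.sum_prod_type, QuadraticMap.prod_apply, ψ_add h2, sum_mul_sum]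

theorem gs_ne_zero [FiniteDimensional K V] {Q : QuadraticForm K V} (h : ∀ x, (∀ y, polar Q x y = 0) → x = 0) :
    gs Q ≠ 0 := fun e => by
  have : Finite V := Module.finite_of_finite K
  have := gs_eq h2 (Q := Q.prod Q) (LinearMap.range (LinearMap.id.prod LinearMap.id)) 0 (by
    rintro _ ⟨v, rfl⟩
    simp [← two_mul, h2]) fun x hx => ⟨x.1, Prod.ext rfl (sub_eq_zero.1 (h _ fun y => by
      have := hx _ ⟨y, rfl⟩
      rw [polar_prod] at this
      change polar Q x.1 y + polar Q x.2 y = 0 at this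
      change polar Q (x.1 - x.2) y = 0
      rw [polar_sub_left]
      linear_combination this - polar Q x.2 y * h2))⟩
  rw [gs_prod h2, e, map_zero, ψ_zero, mul_one, mul_zero] at this
  exact Nat.card_pos.ne (by exact_mod_cast this)

omit h2 in
/-- A condition on the sign of the Gauss sum. -/
def Sg (ρ : Prop) (s : ℕ → ℤ) (T : Quad K) : Prop := ρ → 0 < s (finrank K T.V) * gs T.Q

theorem gs_of_iso {X Y T : Quad K} (h : iso K ρ (qsum X Y) T) (hρ : ρ) : gs T.Q = gs X.Q * gs Y.Q :=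
  let ⟨e, _, _, h3⟩ := h; (gs_congr e (h3 hρ)).symm.trans (gs_prod h2 _ _)

theorem Sg.of_pos {X Y T : Quad K} {s : ℕ → ℤ} {d : ℕ} (hT : Sg ρ s T) (h : iso K ρ (qsum X Y) T)
    (hd : finrank K X.V = d) (hX : ρ → 0 < gs X.Q) : Sg ρ (fun n => s (d + n)) Y := fun hρ => by
  have := hT hρ
  rw [gs_of_iso h2 h hρ, ← iso_finrank h, finrank_qsum, hd, mul_left_comm] at this
  exact (pos_iff_pos_of_mul_pos this).1 (hX hρ)

theorem Sg.of_neg {X Y T : Quad K} {s : ℕ → ℤ} {d : ℕ} (hT : Sg ρ s T) (h : iso K ρ (qsum X Y) T)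
    (hd : finrank K X.V = d) (hX : ρ → gs X.Q < 0) : Sg ρ (-fun n => s (d + n)) Y := fun hρ => by
  have := hT hρ
  rw [gs_of_iso h2 h hρ, ← iso_finrank h, finrank_qsum, hd, mul_left_comm] at this
  simpa using (neg_iff_neg_of_mul_pos this).1 (hX hρ)

/-- A quadratic form with zero polar form is the square of a linear form. -/
theorem exists_lin_sq {Q : QuadraticForm K V} (h : ∀ x y, polar Q x y = 0) : ∃ φ : V →ₗ[K] K, ∀ v, φ v ^ 2 = Q v := by
  choose f hf using fun v => exists_sqrt h2 (Q v)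
  have inj : ∀ a b : K, a ^ 2 = b ^ 2 → a = b := fun a b e =>
    sub_eq_zero.1 (pow_eq_zero_iff two_ne_zero |>.1 (by linear_combination e + (b ^ 2 - a * b) * h2))
  exact ⟨⟨⟨f, fun x y => inj _ _ (by rw [hf, CL.Cls.map_add', h, ← hf, ← hf]; linear_combination -f x * f y * h2)⟩,
    fun a x => inj _ _ (by rw [hf, CL.Cls.map_smul', ← hf, RingHom.id_apply, smul_eq_mul, mul_pow])⟩, hf⟩

end Gauss

end CL.Cl2
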