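/-
Class numbers of symplectic and orthogonal groups in characteristic two, part B: unipotent isometries, splitting off
homogeneous pieces, uniqueness of the pieces.
-/
import Cfsg.Agent.Known.Cl2A

set_option autoImplicit false

open Module QuadraticMap

namespace CL.Cl2

universe u

variable {K : Type u} [Field K]

theorem rec_zero {f : ℕ → ℕ → K} (h : ∀ a b, f (a + 1) (b + 1) + f (a + 1) b + f a (b + 1) = 0) {M n : ℕ}
    (hM : ∀ a b, M ≤ a → f a b = 0) (h0 : ∀ a, n ≤ a → f a 0 = 0) (a b : ℕ) (hab : n ≤ a + b) : f a b = 0 := by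
  have k : ∀ d a b, M ≤ a + d → n ≤ a + b → f a b = 0 := fun d => by
    induction d with
    | zero => exact fun a b h1 _ => hM a b h1
    | succ d ih =>
      rintro a (_ | b) h1 h2
      · exact h0 a h2
      · have := h a b
        rwa [ih (a + 1) (b + 1) (by omega) (by omega), ih (a + 1) b (by omega) (by omega), zero_add, zero_add] at this
  exact k M a b (by omega) hab

theorem rec_diag {f : ℕ → ℕ → K} (h : ∀ a b, f (a + 1) (b + 1) + f (a + 1) b + f a (b + 1) = 0)
    (hs : ∀ a b, f a b = f b a) (h0 : ∀ a, f a a = 0) (h1 : ∀ a, f (a + 1) a = 0) (a b : ℕ) : f a b = 0 := by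
  have k : ∀ d b, f (b + d) b = 0 ∧ f (b + d + 1) b = 0 := fun d => by
    induction d with
    | zero => exact fun b => ⟨h0 b, h1 b⟩
    | succ d ih =>
      refine fun b => ⟨(ih b).2, ?_⟩
      have := h (b + d + 1) b
      rwa [show b + d + 1 + 1 = b + 1 + d + 1 by omega, (ih (b + 1)).2, show b + d + 1 = b + 1 + d by omega,
        (ih (b + 1)).1, zero_add, add_zero, show b + 1 + d + 1 = b + (d + 1) + 1 by omega] at this
  rcases le_total a b with hab | hab
  · obtain ⟨d, rfl⟩ := Nat.exists_eq_add_of_le hab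
    rw [hs, (k d a).1]
  · obtain ⟨d, rfl⟩ := Nat.exists_eq_add_of_le hab
    exact (k d b).1

namespace Quad

/-- The endomorphism `g - 1`. -/
def e (T : Quad K) : End K T.V := (T.g : End K T.V) - 1

/-- The quadratic forms `Q (e ^ j x)`. -/
def q (T : Quad K) (j : ℕ) : QuadraticForm K T.V := T.Q.comp (T.e ^ j)

/-- The bilinear forms `β (e ^ a x, e ^ b y)`. -/
def f (T : Quad K) (a b : ℕ) : T.V →ₗ[K] T.V →ₗ[K] K := (polarBilin T.Q).compl₁₂ (T.e ^ a) (T.e ^ b)

variable {T : Quad K}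

theorem g_eq (x : T.V) : T.g x = T.e x + x := (sub_add_cancel _ _).symm

theorem q_def (j : ℕ) (x : T.V) : T.q j x = T.Q ((T.e ^ j) x) := rfl

theorem f_def (a b : ℕ) (x y : T.V) : T.f a b x y = polar T.Q ((T.e ^ a) x) ((T.e ^ b) y) := rfl

theorem pow_e (a l : ℕ) (x : T.V) : (T.e ^ a) ((T.e ^ l) x) = (T.e ^ (a + l)) x := by rw [pow_add]; rfl

theorem e_pow (a : ℕ) (x : T.V) : T.e ((T.e ^ a) x) = (T.e ^ (a + 1)) x := by rw [pow_succ']; rfl

theorem pow_e1 (a : ℕ) (x : T.V) : (T.e ^ a) (T.e x) = (T.e ^ (a + 1)) x := by rw [pow_succ]; rfl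

theorem f_comm (a b : ℕ) (x y : T.V) : T.f a b x y = T.f b a y x := polar_comm _ _ _

theorem f_pow_left (a b l : ℕ) (x y : T.V) : T.f a b ((T.e ^ l) x) y = T.f (a + l) b x y := by rw [f_def, pow_e, f_def]

theorem f_pow_right (a b l : ℕ) (x y : T.V) : T.f a b x ((T.e ^ l) y) = T.f a (b + l) x y := by rw [f_def, pow_e, f_def]

theorem f_e_left (a b : ℕ) (x y : T.V) : T.f a b (T.e x) y = T.f (a + 1) b x y := by rw [f_def, pow_e1, f_def]

theorem f_e_right (a b : ℕ) (x y : T.V) : T.f a b x (T.e y) = T.f a (b + 1) x y := by rw [f_def, pow_e1, f_def]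

theorem q_pow (j l : ℕ) (x : T.V) : T.q j ((T.e ^ l) x) = T.q (j + l) x := by rw [q_def, pow_e, q_def]

theorem q_add (j : ℕ) (x y : T.V) : T.q j (x + y) = T.q j x + T.q j y + T.f j j x y := by
  rw [q_def, map_add, CL.Cls.map_add']; rfl

theorem q_smul (j : ℕ) (c : K) (x : T.V) : T.q j (c • x) = c ^ 2 * T.q j x := CL.Cls.map_smul' _ _ _

theorem f_self (h2 : (2 : K) = 0) (a : ℕ) (x : T.V) : T.f a a x x = 0 := by
  rw [f_def, polar_self, two_smul, ← two_mul, h2, zero_mul]

theorem OK.polar_g (h : T.OK) (x y : T.V) : polar T.Q (T.g x) (T.g y) = polar T.Q x y := by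
  rw [polar, ← map_add, h.isom, h.isom, h.isom, polar]

theorem OK.f_rec (h : T.OK) (x y : T.V) (a b : ℕ) :
    T.f (a + 1) (b + 1) x y + T.f (a + 1) b x y + T.f a (b + 1) x y = 0 := by
  have := h.polar_g ((T.e ^ a) x) ((T.e ^ b) y)
  rw [g_eq, g_eq, polar_add_left, polar_add_right, polar_add_right, e_pow, e_pow] at this
  simp only [f_def]
  linear_combination this

theorem OK.q_succ (h : T.OK) (h2 : (2 : K) = 0) (j : ℕ) (x : T.V) : T.q (j + 1) x = T.f (j + 1) j x x := by
  have := h.isom ((T.e ^ j) x)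
  rw [g_eq, CL.Cls.map_add', e_pow] at this
  rw [q_def, f_def]
  linear_combination this - polar T.Q ((T.e ^ (j + 1)) x) ((T.e ^ j) x) * h2

theorem pow_of_le {n a : ℕ} {x : T.V} (hx : (T.e ^ n) x = 0) (h : n ≤ a) : (T.e ^ a) x = 0 := by
  rw [← Nat.sub_add_cancel h, ← pow_e, hx, map_zero]

theorem OK.f_zero (h : T.OK) {n : ℕ} {x : T.V} (hx : (T.e ^ n) x = 0) (y : T.V) {a b : ℕ} (hab : n ≤ a + b) :
    T.f a b x y = 0 :=
  have k : ∀ a b, n ≤ a → T.f a b x y = 0 := fun a b ha => by rw [f_def, pow_of_le hx ha, polar_zero_left]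
  rec_zero (h.f_rec x y) k (fun a => k a 0) a b hab

theorem OK.f_top (h : T.OK) (h2 : (2 : K) = 0) {m : ℕ} {x : T.V} (hx : (T.e ^ (m + 1)) x = 0) (y : T.V) {a b : ℕ}
    (hab : a + b = m) : T.f a b x y = T.f m 0 x y := by
  induction b generalizing a with
  | zero => rw [← hab, add_zero]
  | succ b ih =>
    have := h.f_rec x y a b
    rw [h.f_zero hx y (by omega), ih (by omega)] at this
    linear_combination this - T.f m 0 x y * h2

end Quad

open Quad

/-- `g - 1` is nilpotent of the given exponent. -/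
def Nil (m : ℕ) (T : Quad K) : Prop := T.OK ∧ ∀ x, (T.e ^ m) x = 0

variable {T : Quad K} {m : ℕ}

theorem Nil.f_zero (h : Nil m T) (x y : T.V) {a b : ℕ} (hab : m ≤ a + b) : T.f a b x y = 0 := h.1.f_zero (h.2 x) y hab

theorem Nil.f_zero' (h : Nil m T) {n : ℕ} {x y : T.V} (h0 : ∀ a, n ≤ a → T.f a 0 x y = 0) {a b : ℕ} (hab : n ≤ a + b) :
    T.f a b x y = 0 := rec_zero (f := fun a b => T.f a b x y) (M := m) (h.1.f_rec x y) (fun _ _ ha => h.f_zero x y (le_add_right ha)) h0 a b hab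

theorem Nil.adj (h : Nil m T) {n : ℕ} {x : T.V} (hx : ∀ y, T.f n 0 y x = 0) : (T.e ^ n) x = 0 :=
  h.1.nondeg _ fun y => (f_comm n 0 x y).trans (h.f_zero' (fun a ha => by
    rw [← Nat.add_sub_cancel' ha, ← f_pow_left, hx]) (zero_add n).ge)

theorem Nil.exists_γ (h : Nil m T) {n : ℕ} {x : T.V} (hx : (T.e ^ n) x ≠ 0) : ∃ y, T.f n 0 y x = 1 := by
  obtain ⟨y, hy⟩ : ∃ y, T.f n 0 y x ≠ 0 := not_forall.1 fun k => hx (h.adj k)
  exact ⟨(T.f n 0 y x)⁻¹ • y, by rw [map_smul, LinearMap.smul_apply, smul_eq_mul, inv_mul_cancel₀ hy]⟩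

section res

variable {W : Submodule K T.V} {hW : ∀ w ∈ W, T.g w ∈ W}

theorem qres_pow (j : ℕ) (x : W) : W.subtype (((qres T W hW).e ^ j) x) = (T.e ^ j) x := by
  induction j with
  | zero => rfl
  | succ j ih => rw [← e_pow, ← ih]; exact congrArg _ (e_pow (T := qres T W hW) j x).symm

theorem qres_q (j : ℕ) (x : W) : (qres T W hW).q j x = T.q j x := congrArg T.Q (qres_pow j x)

theorem qres_f (a b : ℕ) (x y : W) : (qres T W hW).f a b x y = T.f a b x y :=
  congrArg₂ (polar T.Q) (qres_pow a x) (qres_pow b y)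

theorem qres_nil (h : (qres T W hW).OK) : Nil m (qres T W hW) ↔ ∀ x ∈ W, (T.e ^ m) x = 0 :=
  ⟨fun k x hx => (qres_pow (hW := hW) m ⟨x, hx⟩).symm.trans ((congrArg _ (k.2 _)).trans (map_zero _)),
    fun k => ⟨h, fun x => Subtype.ext ((qres_pow m x).trans (k _ (Subtype.prop _)))⟩⟩

end res

/-- All Jordan blocks have size `m + 1`, and `v` is a family of generators. -/
structure Gen (T : Quad K) (m : ℕ) {r : ℕ} (v : Fin r → T.V) : Prop where
  nil : Nil (m + 1) T
  span : ∀ x, ∃ c y, x = Fintype.linearCombination K v c + T.e y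
  inj : ∀ c, (T.e ^ m) (Fintype.linearCombination K v c) = 0 → c = 0

variable {r : ℕ} {v : Fin r → T.V}

theorem Gen.mem_range (h : Gen T m v) {i j : ℕ} {x : T.V} (hx : (T.e ^ i) x = 0) (hj : i + j ≤ m + 1) :
    ∃ y, (T.e ^ j) y = x := by
  induction j with
  | zero => exact ⟨x, rfl⟩
  | succ j ih =>
    obtain ⟨y, rfl⟩ := ih (by omega)
    obtain ⟨c, z, rfl⟩ := h.span y
    rw [pow_e] at hx
    have := pow_of_le hx (show i + j ≤ m by omega)
    rw [map_add, pow_e1, h.nil.2, add_zero] at this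
    exact ⟨z, by rw [h.inj c this, map_zero, zero_add, pow_e1]⟩

theorem Gen.finrank (h : Gen T m v) : finrank K T.V = (m + 1) * r := by
  have k : ∀ d j, j + d = m + 1 → Module.finrank K (LinearMap.range (T.e ^ j)) = d * r := fun d => by
    induction d with
    | zero =>
      intro j hj
      rw [add_zero] at hj
      rw [hj, show T.e ^ (m + 1) = 0 from LinearMap.ext h.nil.2, LinearMap.range_zero, finrank_bot, zero_mul]
    | succ d ih =>
      intro j hj
      have inj : ∀ c y, (T.e ^ j) (Fintype.linearCombination K v c) = (T.e ^ (j + 1)) y → c = 0 := fun c y e => h.inj c (by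
        rw [show m = d + j by omega, ← pow_e, e, pow_e, show d + (j + 1) = m + 1 by omega, h.nil.2])
      have := Submodule.finrank_sup_add_finrank_inf_eq (LinearMap.range ((T.e ^ j) ∘ₗ Fintype.linearCombination K v))
        (LinearMap.range (T.e ^ (j + 1)))
      rw [ih _ (by omega), LinearMap.finrank_range_of_inj (LinearMap.ker_eq_bot.1 (LinearMap.ker_eq_bot'.2 fun c hc =>
        inj c 0 (hc.trans (map_zero _).symm))), finrank_fin_fun, (Submodule.eq_bot_iff (_ ⊓ _)).2, finrank_bot] at this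
      · rw [add_mul, one_mul, add_comm, ← this, add_zero]
        refine congrArg (fun S : Submodule K T.V => Module.finrank K S) ?_
        refine le_antisymm ?_ (sup_le (LinearMap.range_comp_le_range _ _) ?_)
        · rintro _ ⟨x, rfl⟩
          obtain ⟨c, y, rfl⟩ := h.span x
          rw [map_add, pow_e1]
          exact Submodule.add_mem_sup ⟨c, rfl⟩ ⟨y, rfl⟩
        · rintro _ ⟨x, rfl⟩
          exact ⟨_, pow_e1 j x⟩
      · rintro _ ⟨⟨c, rfl⟩, y, hy⟩
        rw [inj c y hy.symm, map_zero]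
  rw [← k (m + 1) 0 (zero_add _), pow_zero, Module.End.one_eq_id, LinearMap.range_id, finrank_top]

theorem Gen.span_top (h : Gen T m v) : Submodule.span K (Set.range fun p : ℕ × Fin r => (T.e ^ p.1) (v p.2)) = ⊤ := by
  have k : ∀ d j, j + d = m + 1 → ∀ x, (T.e ^ j) x ∈
      Submodule.span K (Set.range fun p : ℕ × Fin r => (T.e ^ p.1) (v p.2)) := fun d => by
    induction d with
    | zero => exact fun j hj x => by rw [← add_zero j, hj, h.nil.2]; exact Submodule.zero_mem _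
    | succ d ih =>
      intro j hj x
      obtain ⟨c, y, rfl⟩ := h.span x
      rw [map_add, pow_e1, Fintype.linearCombination_apply, map_sum]
      exact add_mem (sum_mem fun i _ => by
        rw [map_smul]; exact Submodule.smul_mem _ _ (Submodule.subset_span ⟨(j, i), rfl⟩)) (ih _ (by omega) y)
  exact eq_top_iff.2 fun x _ => k (m + 1) 0 (zero_add _) x

theorem Gen.iso {ρ : Prop} {T' : Quad K} {v' : Fin r → T'.V} (h : Gen T m v) (h' : Gen T' m v')
    (hf : ∀ a b i j, T.f a b (v i) (v j) = T'.f a b (v' i) (v' j))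
    (hq : ρ → ∀ a i, T.q a (v i) = T'.q a (v' i)) : iso K ρ T T' := by
  let G : Submodule K (T.V × T'.V) :=
    Submodule.span K (Set.range fun p : ℕ × Fin r => ((T.e ^ p.1) (v p.2), (T'.e ^ p.1) (v' p.2)))
  have g1 : ∀ p ∈ G, ∀ p' ∈ G, polar T'.Q p.2 p'.2 = polar T.Q p.1 p'.1 := fun p hp p' hp' => by
    induction hp, hp' using Submodule.span_induction₂ with
    | mem_mem x y hx hy =>
      obtain ⟨a, rfl⟩ := hx
      obtain ⟨b, rfl⟩ := hy
      exact (hf _ _ _ _).symm
    | zero_left => simp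
    | zero_right => simp
    | add_left _ _ _ _ _ _ k1 k2 => simp [k1, k2]
    | add_right _ _ _ _ _ _ k1 k2 => simp [k1, k2]
    | smul_left _ _ _ _ _ k => simp [k]
    | smul_right _ _ _ _ _ k => simp [k]
  have g2 : ρ → ∀ p ∈ G, T'.Q p.2 = T.Q p.1 := fun hρ p hp => by
    induction hp using Submodule.span_induction with
    | mem x hx => obtain ⟨a, rfl⟩ := hx; exact (hq hρ _ _).symm
    | zero => simp
    | add x y hx hy k1 k2 => rw [Prod.fst_add, Prod.snd_add, CL.Cls.map_add', CL.Cls.map_add', k1, k2, g1 _ hx _ hy]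
    | smul c x _ k => rw [Prod.smul_fst, Prod.smul_snd, CL.Cls.map_smul', CL.Cls.map_smul', k]
  have g3 : ∀ p ∈ G, (T.e p.1, T'.e p.2) ∈ G := fun p hp => by
    induction hp using Submodule.span_induction with
    | mem x hx => obtain ⟨a, rfl⟩ := hx; exact Submodule.subset_span ⟨(a.1 + 1, a.2), Prod.ext (e_pow _ _).symm (e_pow _ _).symm⟩
    | zero => rw [Prod.fst_zero, Prod.snd_zero, map_zero, map_zero]; exact G.zero_mem
    | add x y _ _ k1 k2 => simpa using G.add_mem k1 k2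
    | smul c x _ k => simpa using G.smul_mem c k
  have s1 : ∀ x, ∃ x', (x, x') ∈ G := fun x => by
    have : x ∈ G.map (LinearMap.fst K _ _) := by
      rw [Submodule.map_span, ← Set.range_comp]
      exact h.span_top.ge Submodule.mem_top
    obtain ⟨p, hp, rfl⟩ := this
    exact ⟨p.2, hp⟩
  have s2 : ∀ x', ∃ x, (x, x') ∈ G := fun x => by
    have : x ∈ G.map (LinearMap.snd K _ _) := by
      rw [Submodule.map_span, ← Set.range_comp]
      exact h'.span_top.ge Submodule.mem_top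
    obtain ⟨p, hp, rfl⟩ := this
    exact ⟨p.1, hp⟩
  obtain ⟨φ, hφ⟩ := Submodule.exists_equiv_eq_graph (G := G)
    ⟨((LinearMap.fst K _ _).comp G.subtype).ker_eq_bot.1 (LinearMap.ker_eq_bot'.2 fun p hp =>
      Subtype.ext (Prod.ext hp (h'.nil.1.nondeg _ fun y => let ⟨x, hx⟩ := s2 y
        (g1 _ p.2 _ hx).trans (by rw [show p.1.1 = 0 from hp, polar_zero_left])))),
      fun x => let ⟨x', hx⟩ := s1 x; ⟨⟨_, hx⟩, rfl⟩⟩
    ⟨((LinearMap.snd K _ _).comp G.subtype).ker_eq_bot.1 (LinearMap.ker_eq_bot'.2 fun p hp =>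
      Subtype.ext (Prod.ext (h.nil.1.nondeg _ fun y => let ⟨x, hx⟩ := s1 y
        (g1 _ p.2 _ hx).symm.trans (by rw [show p.1.2 = 0 from hp, polar_zero_left])) hp)),
      fun x => let ⟨x', hx⟩ := s2 x; ⟨⟨_, hx⟩, rfl⟩⟩
  have m1 : ∀ x, (x, φ x) ∈ G := fun x => hφ ▸ rfl
  refine ⟨φ, fun x => ?_, fun x y => g1 _ (m1 x) _ (m1 y), fun hρ x => g2 hρ _ (m1 x)⟩
  have := g3 _ (m1 x)
  rw [hφ] at this
  rw [g_eq, g_eq, map_add]
  exact congrArg (· + φ x) (Eq.symm this)

theorem Nil.split (hT : Nil (m + 1) T) (h2 : (2 : K) = 0) (v : Fin r → T.V)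
    (hv : ∀ c, (∀ i, T.f m 0 (Fintype.linearCombination K v c) (v i) = 0) → c = 0) :
    ∃ (U W : Submodule K T.V) (hU : ∀ w ∈ U, T.g w ∈ U) (hW : ∀ w ∈ W, T.g w ∈ W) (hv : ∀ i, v i ∈ U),
      Gen (qres T U hU) m (fun i => (⟨v i, hv i⟩ : U)) ∧ Nil (m + 1) (qres T W hW) ∧
      iso K True (qsum (qres T U hU) (qres T W hW)) T ∧ (∀ a b i, ∀ w ∈ W, T.f a b (v i) w = 0) ∧
      ∀ z, ∃ c y, ∃ w ∈ W, z = Fintype.linearCombination K v c + T.e y + w := by
  let U := Submodule.span K (Set.range fun p : ℕ × Fin r => (T.e ^ p.1) (v p.2))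
  have mem : ∀ j i, (T.e ^ j) (v i) ∈ U := fun j i => Submodule.subset_span ⟨(j, i), rfl⟩
  have eU : ∀ w ∈ U, T.e w ∈ U := fun w hw => by
    induction hw using Submodule.span_induction with
    | mem x hx => obtain ⟨a, rfl⟩ := hx; exact e_pow a.1 (v a.2) ▸ mem _ _
    | zero => simp
    | add x y _ _ k1 k2 => simpa using U.add_mem k1 k2
    | smul c x _ k => simpa using U.smul_mem c k
  have pU : ∀ j, ∀ w ∈ U, (T.e ^ j) w ∈ U := fun j w hw => by
    induction j with
    | zero => exact hw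
    | succ j ih => exact e_pow j w ▸ eU _ ih
  have sp : ∀ x ∈ U, ∃ c, ∃ y ∈ U, x = Fintype.linearCombination K v c + T.e y := fun x hx => by
    induction hx using Submodule.span_induction with
    | mem x hx =>
      obtain ⟨⟨_ | j, i⟩, rfl⟩ := hx
      · exact ⟨Pi.single i 1, 0, U.zero_mem, by simp⟩
      · exact ⟨0, _, mem j i, by rw [map_zero, zero_add, e_pow]⟩
    | zero => exact ⟨0, 0, U.zero_mem, by simp⟩
    | add x y _ _ k1 k2 =>
      obtain ⟨c, z, hz, rfl⟩ := k1
      obtain ⟨c', z', hz', rfl⟩ := k2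
      exact ⟨c + c', z + z', U.add_mem hz hz', by simp only [map_add]; abel⟩
    | smul a x _ k =>
      obtain ⟨c, z, hz, rfl⟩ := k
      exact ⟨a • c, a • z, U.smul_mem a hz, by simp only [map_smul, smul_add]⟩
  let W := LinearMap.BilinForm.orthogonal (polarBilin T.Q) U
  have o : ∀ a b, ∀ u ∈ U, ∀ w ∈ W, T.f a b u w = 0 := fun a b u hu w hw =>
    hT.f_zero' (n := 0) (fun a _ => hw _ (pU a u hu)) (Nat.zero_le _)
  have hU : ∀ w ∈ U, T.g w ∈ U := fun w hw => g_eq w ▸ U.add_mem (eU w hw) hw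
  have hW : ∀ w ∈ W, T.g w ∈ W := fun w hw => g_eq w ▸ W.add_mem (fun u hu => o 0 1 u hu w hw) hw
  have hc : IsCompl U W := (LinearMap.BilinForm.isCompl_orthogonal_iff_disjoint fun x y h => (polar_comm _ _ _).trans h).2
    (Submodule.disjoint_def.2 fun x hx hx' => by
      have k : ∀ i ≤ m + 1, ∃ u ∈ U, (T.e ^ i) u = x := fun i hi => by
        induction i with
        | zero => exact ⟨x, hx, rfl⟩
        | succ i ih =>
          obtain ⟨u, hu, rfl⟩ := ih (by omega)
          obtain ⟨c, y, hy, rfl⟩ := sp u hu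
          refine ⟨y, hy, by rw [hv c fun j => by
            have := o (m - i) 0 _ (mem 0 j) _ hx'
            rwa [f_comm, f_pow_left, map_add, LinearMap.add_apply, f_e_left, hT.f_zero y _ (by omega), add_zero,
              hT.1.f_top h2 (hT.2 _) _ (by omega)] at this, map_zero, zero_add, pow_e1]⟩
      obtain ⟨u, -, rfl⟩ := k _ le_rfl
      exact hT.2 u)
  obtain ⟨k1, k2, k3⟩ := iso_of_isCompl hT.1 hc hU hW (o 0 0)
  have lc : ∀ c, U.subtype (Fintype.linearCombination K (fun i => (⟨v i, mem 0 i⟩ : U)) c) =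
      Fintype.linearCombination K v c := fun c => by simp [Fintype.linearCombination_apply]
  refine ⟨U, W, hU, hW, mem 0, ⟨(qres_nil k1).2 fun x _ => hT.2 x, fun x => ?_, fun c hc => hv c fun i => ?_⟩,
    (qres_nil k2).2 fun x _ => hT.2 x, k3, fun a b i => o a b _ (mem 0 i), fun z => ?_⟩
  · obtain ⟨c, y, hy, e⟩ := sp _ (Subtype.prop x)
    exact ⟨c, ⟨y, hy⟩, Subtype.ext (e.trans (congrArg (· + T.e y) (lc c).symm))⟩
  · have := (qres_pow (hW := hU) m _).symm.trans ((congrArg _ hc).trans (map_zero _))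
    rw [f_def, ← lc, ← polar_zero_left T.Q ((T.e ^ 0) (v i)), ← this]; rfl
  · obtain ⟨u, hu, w, hw, rfl⟩ := Submodule.mem_sup.1 (hc.sup_eq_top ▸ Submodule.mem_top (x := z))
    obtain ⟨c, y, -, rfl⟩ := sp u hu
    exact ⟨c, y, w, hw, rfl⟩

end CL.Cl2
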