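/-
Class numbers of symplectic and orthogonal groups in characteristic two, part C: normal forms of the pieces of a
unipotent isometry and the three splitting theorems.
-/
import Cfsg.Agent.Known.Cl2B

set_option autoImplicit false

open Module QuadraticMap

namespace CL.Cl2

open Quad

universe u

variable {K : Type u} [Field K] {T : Quad K} {ρ : Prop} {k m : ℕ}

/-- A single Jordan block of size `2k + 2` in normal form. -/
def Vp (ρ : Prop) (k : ℕ) (a : K) (X : Quad K) : Prop :=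
  ∃ v : X.V, Gen X (2 * k + 1) ![v] ∧ ∀ j, (j = 0 → ρ) → X.q j v = if j = k + 1 then 1 else if j = k then a else 0

/-- A pair of Jordan blocks of size `m + 1` in normal form. -/
def Wp (ρ : Prop) (m : ℕ) (a : K) (X : Quad K) : Prop :=
  ∃ v w : X.V, Gen X m ![v, w] ∧ (∀ i, X.f i 0 v w = if i = m then 1 else 0) ∧
    ∀ j, (j = 0 → ρ) → X.q j v = (if 2 * j = m then a else 0) ∧ X.q j w = if 2 * j = m then 1 else 0

theorem f_eq_cross {T' : Quad K} (h : Nil m T) (h' : Nil m T') {x y : T.V} {x' y' : T'.V}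
    (h0 : ∀ i, T.f i 0 x y = T'.f i 0 x' y') (a b : ℕ) : T.f a b x y = T'.f a b x' y' :=
  sub_eq_zero.1 (rec_zero (f := fun a b => T.f a b x y - T'.f a b x' y') (M := m) (n := 0)
    (fun a b => by linear_combination h.1.f_rec x y a b - h'.1.f_rec x' y' a b)
    (fun a b ha => by rw [h.f_zero _ _ (le_add_right ha), h'.f_zero _ _ (le_add_right ha), sub_zero])
    (fun a _ => sub_eq_zero.2 (h0 a)) a b (Nat.zero_le _))

theorem Vp.finrank {a : K} {X : Quad K} (h : Vp ρ k a X) : finrank K X.V = 2 * k + 2 :=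
  let ⟨_, h, _⟩ := h; h.finrank.trans (mul_one _)

theorem Wp.finrank {a : K} {X : Quad K} (h : Wp ρ m a X) : finrank K X.V = 2 * m + 2 :=
  let ⟨_, _, h, _⟩ := h; h.finrank.trans (by ring)

theorem lc_one (v : T.V) (c : Fin 1 → K) : Fintype.linearCombination K ![v] c = c 0 • v := by
  simp [Fintype.linearCombination_apply]

theorem lc_two (v w : T.V) (c : Fin 2 → K) : Fintype.linearCombination K ![v, w] c = c 0 • v + c 1 • w := by
  simp [Fintype.linearCombination_apply]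

variable (h2 : (2 : K) = 0)
include h2

theorem f_eq_diag {T' : Quad K} (h : T.OK) (h' : T'.OK) {x : T.V} {x' : T'.V}
    (h1 : ∀ j, T.q (j + 1) x = T'.q (j + 1) x') (a b : ℕ) : T.f a b x x = T'.f a b x' x' :=
  sub_eq_zero.1 (rec_diag (f := fun a b => T.f a b x x - T'.f a b x' x')
    (fun a b => by linear_combination h.f_rec x x a b - h'.f_rec x' x' a b)
    (fun a b => by rw [f_comm a b x, f_comm a b x']) (fun a => by rw [f_self h2, f_self h2, sub_zero])
    (fun a => by rw [← h.q_succ h2, ← h'.q_succ h2, h1, sub_self]) a b)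

theorem Vp.iso {a : K} (X X' : Quad K) (h : Vp ρ k a X) (h' : Vp ρ k a X') : iso K ρ X X' := by
  obtain ⟨v, g, h⟩ := h
  obtain ⟨v', g', h'⟩ := h'
  refine g.iso g' (fun a b i j => ?_) fun hρ a i => ?_
  · rw [Subsingleton.elim i 0, Subsingleton.elim j 0]
    exact f_eq_diag h2 g.nil.1 g'.nil.1 (fun j => (h _ (by simp)).trans (h' _ (by simp)).symm) a b
  · rw [Subsingleton.elim i 0]
    exact (h _ fun _ => hρ).trans (h' _ fun _ => hρ).symm

theorem Wp.iso {a : K} (X X' : Quad K) (h : Wp ρ m a X) (h' : Wp ρ m a X') : iso K ρ X X' := by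
  obtain ⟨v, w, g, f, h⟩ := h
  obtain ⟨v', w', g', f', h'⟩ := h'
  have c := f_eq_cross g.nil g'.nil fun i => (f i).trans (f' i).symm
  refine g.iso g' (fun a b => Fin.forall_fin_two.2 ⟨Fin.forall_fin_two.2 ⟨?_, c a b⟩, Fin.forall_fin_two.2 ⟨?_, ?_⟩⟩)
    fun hρ a => Fin.forall_fin_two.2 ⟨(h _ fun _ => hρ).1.trans (h' _ fun _ => hρ).1.symm,
      (h _ fun _ => hρ).2.trans (h' _ fun _ => hρ).2.symm⟩
  · exact f_eq_diag h2 g.nil.1 g'.nil.1 (fun j => (h _ (by simp)).1.trans (h' _ (by simp)).1.symm) a b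
  · exact (f_comm _ _ _ _).trans ((c b a).trans (f_comm _ _ _ _))
  · exact f_eq_diag h2 g.nil.1 g'.nil.1 (fun j => (h _ (by simp)).2.trans (h' _ (by simp)).2.symm) a b

theorem Nil.q_zero (h : Nil m T) (x : T.V) {j : ℕ} (hj : m + 1 ≤ 2 * j) : T.q j x = 0 := by
  obtain ⟨j, rfl⟩ : ∃ i, j = i + 1 := ⟨j - 1, by omega⟩
  rw [h.1.q_succ h2, h.f_zero _ _ (by omega)]

theorem Nil.f_top (h : Nil (m + 1) T) (x y : T.V) {a b : ℕ} (hab : a + b = m) : T.f a b x y = T.f m 0 x y :=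
  h.1.f_top h2 (h.2 x) y hab

theorem Nil.γ_comm (h : Nil (m + 1) T) (x y : T.V) : T.f m 0 x y = T.f m 0 y x :=
  (f_comm _ _ _ _).trans (h.f_top h2 y x (zero_add m))

theorem Nil.q_top (h : Nil (2 * k + 1 + 1) T) (x : T.V) : T.q (k + 1) x = T.f (2 * k + 1) 0 x x := by
  rw [h.1.q_succ h2, h.f_top h2 _ _ (by omega)]

theorem Nil.γ_even (h : Nil (2 * k + 1) T) (x : T.V) : T.f (2 * k) 0 x x = 0 := by
  rw [← h.f_top h2 x x (two_mul k).symm, f_self h2]

theorem Nil.of_q (h : Nil (2 * k + 1) T) (hq : ∀ x, T.q k x = 0) : Nil (2 * k) T :=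
  ⟨h.1, fun x => h.adj fun y => by
    have := q_add k y x
    rwa [hq, hq, hq, add_zero, zero_add, eq_comm, h.f_top h2 _ _ (two_mul k).symm] at this⟩

theorem Nil.single_norm (h : Nil (2 * k + 1 + 1) T) {v : T.V} (hv : T.q (k + 1) v = 1) :
    ∃ v', (T.e ^ (2 * k + 1)) v' = (T.e ^ (2 * k + 1)) v ∧
      ∀ j, T.q j v' = if j = k + 1 then 1 else if j = k then T.q k v else 0 := by
  have c : ∀ d ≤ k, ∃ v', (T.e ^ (2 * k + 1)) v' = (T.e ^ (2 * k + 1)) v ∧
      ∀ j, k ≤ j + d → T.q j v' = if j = k + 1 then 1 else if j = k then T.q k v else 0 := fun d hd => by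
    induction d with
    | zero =>
      refine ⟨v, rfl, fun j hj => ?_⟩
      split_ifs with h3 h4
      · rw [h3, hv]
      · rw [h4]
      · exact h.q_zero h2 _ (by omega)
    | succ d ih =>
      obtain ⟨v', h3, h4⟩ := ih (by omega)
      refine ⟨v' + T.q (k - (d + 1)) v' • (T.e ^ (2 * d + 3)) v', by
        rw [map_add, map_smul, pow_e, pow_of_le (a := _ + _ + _) (h.2 _) (by omega), smul_zero, add_zero, h3], fun j hj => ?_⟩
      rw [q_add, q_smul, q_pow, h.q_zero h2 v' (j := j + (2 * d + 3)) (by omega), map_smul, f_pow_right, smul_eq_mul]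
      by_cases hj' : k ≤ j + d
      · rw [h.f_zero _ _ (by omega), h4 j hj']; ring
      · rw [h.f_top h2 _ _ (by omega), ← h.q_top h2, h4 (k + 1) (by omega), if_pos rfl, if_neg (by omega),
          if_neg (by omega), show k - (d + 1) = j by omega]
        linear_combination T.q j v' * h2
  exact (c k le_rfl).imp fun v' hv' => ⟨hv'.1, fun j => hv'.2 j (by omega)⟩

theorem Nil.pair_norm (h : Nil (m + 1) T) (hγ : ∀ x, T.f m 0 x x = 0) {v w : T.V} (hv : T.f m 0 v w = 1) :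
    ∃ v' w', (∀ i, T.f i 0 v' w' = if i = m then 1 else 0) ∧
      ∀ j, T.q j v' = (if 2 * j = m then T.q j v else 0) ∧ T.q j w' = if 2 * j = m then T.q j w else 0 := by
  have q0 : ∀ x j, m < 2 * j → T.q j x = 0 := fun x j hj => by
    obtain ⟨j, rfl⟩ : ∃ i, j = i + 1 := ⟨j - 1, by omega⟩
    rw [h.1.q_succ h2]
    by_cases e : j + 1 + j = m
    · rw [h.f_top h2 _ _ e, hγ]
    · exact h.f_zero _ _ (by omega)
  have c : ∀ l, ∃ v' w', (∀ i, m ≤ i + l → T.f i 0 v' w' = if i = m then 1 else 0) ∧ ∀ j, m ≤ 2 * j + l →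
      T.q j v' = (if 2 * j = m then T.q j v else 0) ∧ T.q j w' = if 2 * j = m then T.q j w else 0 := fun l => by
    induction l with
    | zero =>
      refine ⟨v, w, fun i hi => ?_, fun j hj => ?_⟩
      · split_ifs with e
        · rw [e, hv]
        · exact h.f_zero _ _ (by omega)
      · split_ifs with e
        · exact ⟨rfl, rfl⟩
        · exact ⟨q0 _ _ (by omega), q0 _ _ (by omega)⟩
    | succ l ih =>
      obtain ⟨v', w', h3, h4⟩ := ih
      have h5 : T.f m 0 v' w' = 1 := (h3 m (by omega)).trans (if_pos rfl)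
      have h6 : T.f m 0 w' v' = 1 := (h.γ_comm h2 _ _).trans h5
      refine ⟨v' + (T.e ^ (l + 1)) (T.f (m - (l + 1)) 0 v' w' • v' + T.q ((m - (l + 1)) / 2) v' • w'),
        w' + (T.e ^ (l + 1)) (T.q ((m - (l + 1)) / 2) w' • v'), fun i hi => ?_, fun j hj => ?_⟩
      · rw [map_add (T.f i 0), LinearMap.add_apply, map_add (T.f i 0 _), map_add (T.f i 0 _), f_pow_left, f_pow_left,
          f_pow_right, f_pow_right, h.f_zero _ _ (a := i + (l + 1)) (b := 0 + (l + 1)) (by omega)]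
        by_cases hi' : m ≤ i + l
        · rw [h.f_zero _ _ (a := i) (b := 0 + (l + 1)) (by omega), h.f_zero _ _ (a := i + (l + 1)) (by omega), h3 i hi']
          ring
        · rw [h.f_top h2 _ _ (a := i) (b := 0 + (l + 1)) (by omega), h.f_top h2 _ _ (a := i + (l + 1)) (by omega),
            if_neg (by omega), show m - (l + 1) = i by omega]
          simp only [map_add, map_smul, LinearMap.add_apply, LinearMap.smul_apply, smul_eq_mul, hγ, h5]
          linear_combination T.f i 0 v' w' * h2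
      · rw [q_add, q_add j w', q_pow, q_pow, q0 _ (j + (l + 1)) (by omega), q0 _ (j + (l + 1)) (by omega), f_pow_right,
          f_pow_right]
        by_cases hj' : m ≤ 2 * j + l
        · rw [h.f_zero _ _ (by omega), h.f_zero _ _ (by omega)]
          simpa only [add_zero] using h4 j hj'
        · rw [h.f_top h2 _ _ (a := j) (by omega), h.f_top h2 _ _ (a := j) (by omega), if_neg (by omega), if_neg (by omega),
            show (m - (l + 1)) / 2 = j by omega]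
          simp only [map_add, map_smul, smul_eq_mul, hγ, h5, h6]
          exact ⟨by linear_combination T.q j v' * h2, by linear_combination T.q j w' * h2⟩
  exact (c m).imp fun v' => Exists.imp fun w' hv' => ⟨fun i => hv'.1 i (by omega), fun j => hv'.2 j (by omega)⟩

theorem Nil.split_V (h : Nil (2 * k + 1 + 1) T) {v : T.V} (hv : T.q (k + 1) v = 1) {a : K}
    (ha : (k = 0 → ρ) → T.q k v = a) : ∃ X W hW v', Vp ρ k a X ∧ Nil (2 * k + 1 + 1) (qres T W hW) ∧
      iso K ρ (qsum X (qres T W hW)) T ∧ (T.e ^ (2 * k + 1)) v' = (T.e ^ (2 * k + 1)) v ∧ T.q (k + 1) v' = 1 ∧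
      (∀ a b, ∀ w ∈ W, T.f a b v' w = 0) ∧ ∀ z, ∃ (c : K) (y : T.V), ∃ w ∈ W, z = c • v' + T.e y + w := by
  obtain ⟨v', h3, h4⟩ := h.single_norm h2 hv
  have h5 := (h4 _).trans (if_pos rfl)
  obtain ⟨U, W, hU, hW, hv', g1, g2, g3, g4, g5⟩ := h.split h2 ![v'] fun c hc => by
    have := hc 0
    rw [lc_one, map_smul, LinearMap.smul_apply, Matrix.cons_val_zero, ← h.q_top h2, h5, smul_eq_mul, mul_one] at this
    exact funext fun i => (Subsingleton.elim i 0) ▸ this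
  refine ⟨_, W, hW, v', ⟨(⟨v', hv' 0⟩ : U), ?_, fun j hj => (qres_q j _).trans ((h4 j).trans ?_)⟩, g2, iso_of_true g3,
    h3, h5, fun a b => g4 a b 0, fun z => ?_⟩
  · refine (congrArg (Gen (qres T U hU) _) (funext ?_)).mp g1
    exact Fin.forall_fin_one.2 rfl
  · split_ifs with e e'
    exacts [rfl, ha (e' ▸ hj), rfl]
  · obtain ⟨c, y, w, hw, e⟩ := g5 z
    exact ⟨c 0, y, w, hw, lc_one v' c ▸ e⟩

theorem Nil.split_W (h : Nil (m + 1) T) (hγ : ∀ x, T.f m 0 x x = 0) {v w : T.V} (hv : T.f m 0 v w = 1) {a : K}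
    (ha : ∀ j, 2 * j = m → ((j = 0 → ρ) → T.q j v = a) ∧ T.q j w = 1) :
    ∃ X W hW v' w', Wp ρ m a X ∧ Nil (m + 1) (qres T W hW) ∧ iso K ρ (qsum X (qres T W hW)) T ∧ T.f m 0 v' w' = 1 ∧
      (∀ j, 2 * j = m → T.q j w' = 1) ∧ ∀ a b, ∀ y ∈ W, T.f a b v' y = 0 ∧ T.f a b w' y = 0 := by
  obtain ⟨v', w', h3, h4⟩ := h.pair_norm h2 hγ hv
  have h5 := (h3 _).trans (if_pos rfl)
  obtain ⟨U, W, hU, hW, hv', g1, g2, g3, g4, -⟩ := h.split h2 ![v', w'] fun c hc => by
    have e0 := hc 0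
    have e1 := hc 1
    simp only [lc_two, map_add, map_smul, LinearMap.add_apply, LinearMap.smul_apply, Matrix.cons_val_zero,
      Matrix.cons_val_one, hγ, h5, h.γ_comm h2 w' v', smul_eq_mul, mul_zero, mul_one, zero_add, add_zero] at e0 e1
    exact funext (Fin.forall_fin_two.2 ⟨e1, e0⟩)
  refine ⟨_, W, hW, v', w', ⟨(⟨v', hv' 0⟩ : U), (⟨w', hv' 1⟩ : U), ?_, fun i => (qres_f i 0 _ _).trans (h3 i),
    fun j hj => ⟨(qres_q j _).trans ((h4 j).1.trans ?_), (qres_q j _).trans ((h4 j).2.trans ?_)⟩⟩, g2, iso_of_true g3,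
    h5, fun j hj => (h4 j).2.trans ((if_pos hj).trans (ha j hj).2), fun a b y hy => ⟨g4 a b 0 y hy, g4 a b 1 y hy⟩⟩
  · refine (congrArg (Gen (qres T U hU) _) (funext ?_)).mp g1
    exact Fin.forall_fin_two.2 ⟨rfl, rfl⟩
  · split_ifs with e
    exacts [(ha j e).1 hj, rfl]
  · split_ifs with e
    exacts [(ha j e).2, rfl]

omit h2 in
/-- The form `q k` does not vanish; for symplectic groups level zero counts as active. -/
def Act (ρ : Prop) (k : ℕ) (T : Quad K) : Prop := (∃ x, T.q k x ≠ 0) ∨ ¬ (k = 0 → ρ)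

omit h2 in
/-- Active of level `2k`. -/
def A (ρ : Prop) (k : ℕ) (T : Quad K) : Prop := Nil (2 * k) T ∧ Act ρ k T

omit h2 in
/-- Inactive of level `2k`. -/
def B (ρ : Prop) (k : ℕ) (T : Quad K) : Prop := Nil (2 * k) T ∧ ¬ Act ρ k T

omit h2 in
/-- The largest Jordan block has size `2k + 1`. -/
def O (k : ℕ) (T : Quad K) : Prop := Nil (2 * k + 1) T ∧ ¬ Nil (2 * k) T

omit h2 in
/-- `T` is the sum of a piece with property `M` and a rest with property `P`. -/
def Dec (ρ : Prop) (M P : Quad K → Prop) (T : Quad K) : Prop := ∃ X Y, M X ∧ P Y ∧ iso K ρ (qsum X Y) T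

theorem B.split (h : B ρ (k + 1) T) : Nil (2 * k + 1) T ∨ Dec ρ (Wp ρ (2 * k + 1) 0) (B ρ (k + 1)) T := by
  have hT : Nil (2 * k + 1 + 1) T := h.1
  have q0 : ∀ x, T.q (k + 1) x = 0 := fun x => by_contra fun e => h.2 (.inl ⟨x, e⟩)
  refine or_iff_not_imp_left.2 fun hn => ?_
  obtain ⟨w, hw⟩ : ∃ w, (T.e ^ (2 * k + 1)) w ≠ 0 := not_forall.1 fun e => hn ⟨hT.1, e⟩
  obtain ⟨v, hv⟩ := hT.exists_γ hw
  obtain ⟨X, W, hW, -, -, g1, g2, g3, -⟩ := hT.split_W h2 (ρ := ρ) (a := 0) (fun x => (hT.q_top h2 x).symm.trans (q0 x)) hv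
    fun j hj => by omega
  exact ⟨X, _, g1, ⟨g2, fun e => e.elim (fun ⟨x, hx⟩ => hx ((qres_q _ x).trans (q0 _))) fun e => e (by simp)⟩, g3⟩

variable [Finite K] {α : K} (hα : ψ α = -1)

theorem exists_q_smul {j : ℕ} {x : T.V} (hx : T.q j x ≠ 0) (a : K) : ∃ b : K, T.q j (b • x) = a :=
  (exists_sqrt h2 (a / T.q j x)).imp fun b hb => by rw [q_smul, hb, div_mul_cancel₀ _ hx]

include hα

theorem O.split (h : O k T) :
    Dec ρ (Wp ρ (2 * k) 0) (Nil (2 * k + 1)) T ∨ Dec ρ (Wp ρ (2 * k) α) (B ρ k) T := by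
  have hT := h.1
  by_cases hc : ∃ v w, T.f (2 * k) 0 v w = 1 ∧ ((k = 0 → ρ) → T.q k v = 0) ∧ T.q k w = 1
  · obtain ⟨v, w, h3, h4, h5⟩ := hc
    obtain ⟨X, W, hW, -, -, g1, g2, g3, -⟩ := hT.split_W h2 (ρ := ρ) (a := 0) (hT.γ_even h2) h3 fun j hj => by
      obtain rfl : j = k := by omega
      exact ⟨h4, h5⟩
    exact .inl ⟨X, _, g1, g2, g3⟩
  obtain ⟨w, hw, hq⟩ : ∃ w, (T.e ^ (2 * k)) w ≠ 0 ∧ T.q k w ≠ 0 := by
    obtain ⟨w, hw⟩ : ∃ w, (T.e ^ (2 * k)) w ≠ 0 := not_forall.1 fun e => h.2 ⟨hT.1, e⟩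
    obtain ⟨z, hz⟩ : ∃ z, T.q k z ≠ 0 := not_forall.1 fun e => h.2 (hT.of_q h2 e)
    by_contra! c
    have e : (T.e ^ (2 * k)) z = 0 := by_contra fun e => hz (c z e)
    have := c (z + w) (by rwa [map_add, e, zero_add])
    rw [q_add, c w hw, hT.1.f_zero e _ (by omega), add_zero, add_zero] at this
    exact hz this
  obtain ⟨b, hb⟩ := exists_q_smul h2 hq 1
  obtain ⟨v, hv⟩ := hT.exists_γ (x := b • w) (n := 2 * k) (by
    rw [map_smul]
    exact smul_ne_zero (by rintro rfl; simp at hb) hw)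
  obtain ⟨c, hc'⟩ := exists_wp h2 hα (T.q k v)
  have h3 : T.f (2 * k) 0 (v + c • b • w) (b • w) = 1 := by
    rw [map_add, map_smul _ c, LinearMap.add_apply, LinearMap.smul_apply, hv, hT.γ_even h2, smul_zero, add_zero]
  have h4 : T.q k (v + c • b • w) = T.q k v + c ^ 2 + c := by
    rw [q_add, q_smul, hb, map_smul _ c, hT.f_top h2 _ _ (two_mul k).symm, hv, smul_eq_mul, mul_one, mul_one]
  have h5 := hc'.resolve_left fun e => hc ⟨_, _, h3, fun _ => h4.trans e, hb⟩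
  obtain ⟨X, W, hW, v', w', g1, g2, g3, g4, g5, g6⟩ := hT.split_W h2 (ρ := ρ) (a := α) (hT.γ_even h2) h3 fun j hj => by
    obtain rfl : j = k := by omega
    exact ⟨fun _ => h4.trans h5, hb⟩
  have q0 : ∀ y : W, (qres T W hW).q k y = 0 := fun y => (qres_q k y).trans (by_contra fun e => by
    obtain ⟨d, hd⟩ := exists_q_smul h2 e (T.q k v')
    refine hc ⟨v' + d • (y : T.V), w', ?_, fun _ => ?_, g5 k rfl⟩
    · rw [map_add, map_smul, LinearMap.add_apply, LinearMap.smul_apply, g4, f_comm, (g6 _ _ _ y.2).2, smul_zero, add_zero]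
    · rw [q_add, hd, map_smul, (g6 _ _ _ y.2).1, smul_zero]
      linear_combination T.q k v' * h2)
  exact .inr ⟨X, _, g1, ⟨g2.of_q h2 q0, fun e => e.elim (fun ⟨x, hx⟩ => hx (q0 x))
    fun e => hc ⟨_, _, h3, fun e' => absurd e' e, hb⟩⟩, g3⟩

theorem A.split (h : A ρ (k + 1) T) :
    Dec ρ (Vp ρ k 0) (fun Y => A ρ (k + 1) Y ∨ Nil (2 * k + 1) Y) T ∨ Dec ρ (Vp ρ k α) (B ρ k) T := by
  have hT : Nil (2 * k + 1 + 1) T := h.1
  let P : T.V → Prop := fun v => (∃ w, T.f (2 * k + 1) 0 v w = 0 ∧ T.q (k + 1) w ≠ 0) ∨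
    ∀ w, T.f (2 * k + 1) 0 v w = 0 → (T.e ^ (2 * k + 1)) w = 0
  have hP : ∀ v v', (T.e ^ (2 * k + 1)) v' = (T.e ^ (2 * k + 1)) v → P v → P v' := fun v v' e h => by
    simpa only [P, f_def, e] using h
  have C : ∀ v a, T.q (k + 1) v = 1 → P v → ((k = 0 → ρ) → T.q k v = a) → ∃ X W hW v', Vp ρ k a X ∧
      (A ρ (k + 1) (qres T W hW) ∨ Nil (2 * k + 1) (qres T W hW)) ∧ iso K ρ (qsum X (qres T W hW)) T ∧ P v' ∧
      T.q (k + 1) v' = 1 ∧ ∀ a b, ∀ w ∈ W, T.f a b v' w = 0 := fun v a h3 h4 h5 => by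
    obtain ⟨X, W, hW, v', g1, g2, g3, g4, g5, g6, g7⟩ := hT.split_V h2 h3 h5
    have h6 := hP _ _ g4 h4
    refine ⟨X, W, hW, v', g1, h6.imp (fun ⟨w, e1, e2⟩ => ⟨g2, .inl ?_⟩)
      (fun e => (qres_nil g2.1).2 fun w hw => e w (g6 _ _ w hw)), g3, h6, g5, g6⟩
    obtain ⟨c, y, z, hz, rfl⟩ := g7 w
    rw [map_add, map_add, map_smul, ← hT.q_top h2, g5, f_e_right, hT.f_zero _ _ (by omega), g6 _ _ z hz, smul_eq_mul,
      mul_one, add_zero, add_zero] at e1
    rw [e1, zero_smul, zero_add, q_add, f_e_left, hT.f_zero _ _ (by omega), hT.q_top h2, f_e_left,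
      hT.f_zero _ _ (by omega), zero_add, add_zero] at e2
    exact ⟨(⟨z, hz⟩ : W), fun e => e2 ((qres_q (hW := hW) _ ⟨z, hz⟩).symm.trans e)⟩
  by_cases hc : ∃ v, T.q (k + 1) v = 1 ∧ P v ∧ ((k = 0 → ρ) → T.q k v = 0)
  · obtain ⟨v, h3, h4, h5⟩ := hc
    obtain ⟨X, W, hW, -, g1, g2, g3, -⟩ := C v 0 h3 h4 h5
    exact .inl ⟨X, _, g1, g2, g3⟩
  obtain ⟨v, h3, h4⟩ : ∃ v, T.q (k + 1) v = 1 ∧ P v := by
    obtain ⟨x, hx⟩ := h.2.resolve_right fun e => e (by simp)
    obtain ⟨b, hb⟩ := exists_q_smul h2 hx 1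
    by_cases e : P (b • x)
    · exact ⟨_, hb, e⟩
    generalize b • x = v at hb e
    simp only [P, not_or, not_exists, not_and, not_not, not_forall] at e
    obtain ⟨e1, w, e2, e3⟩ := e
    obtain ⟨z, hz⟩ := hT.exists_γ e3
    have hv := (hT.q_top h2 v).symm.trans hb
    have e4 : T.f (2 * k + 1) 0 v (z + T.f (2 * k + 1) 0 v z • v) = 0 := by
      rw [map_add, map_smul, hv, smul_eq_mul]; linear_combination T.f (2 * k + 1) 0 v z * h2
    have e5 : T.f (2 * k + 1) 0 w (z + T.f (2 * k + 1) 0 v z • v) = 1 := by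
      rw [map_add, map_smul, hT.γ_comm h2 w, hT.γ_comm h2 w, hz, e2, smul_zero, add_zero]
    generalize z + T.f (2 * k + 1) 0 v z • v = u at e4 e5
    refine ⟨v + w, ?_, .inl ⟨v + u, ?_, ?_⟩⟩
    · rw [q_add, hb, e1 w e2, hT.f_zero _ _ (by omega), add_zero, add_zero]
    · simp only [map_add, LinearMap.add_apply, hv, e4, e5, hT.γ_comm h2 w v, e2]
      linear_combination h2
    · rw [q_add, hb, e1 u e4, hT.f_zero _ _ (by omega), add_zero, add_zero]
      exact one_ne_zero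
  obtain ⟨c, hc'⟩ := exists_wp h2 hα (T.q k v)
  have h5 : T.q (k + 1) (v + c • (T.e ^ 1) v) = 1 := by
    rw [q_add, h3, q_smul, q_pow, hT.q_zero h2 _ (by omega), hT.f_zero _ _ (by omega), mul_zero, add_zero, add_zero]
  have h6 : T.q k (v + c • (T.e ^ 1) v) = T.q k v + c ^ 2 + c := by
    rw [q_add, q_smul, q_pow, h3, map_smul, f_pow_right, hT.f_top h2 _ _ (by omega), ← hT.q_top h2, h3, smul_eq_mul,
      mul_one, mul_one]
  have h7 : P (v + c • (T.e ^ 1) v) := hP v _ (by rw [map_add, map_smul, pow_e, hT.2, smul_zero, add_zero]) h4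
  obtain ⟨X, W, hW, v', g1, g2, g3, g4, g5, g6⟩ := C _ α h5 h7 fun _ =>
    h6.trans (hc'.resolve_left fun e => hc ⟨_, h5, h7, fun _ => h6.trans e⟩)
  have q0 : ∀ y ∈ W, (T.e ^ (2 * k + 1)) y = 0 → T.q k y = 0 := fun y hy e0 => by_contra fun e => by
    obtain ⟨d, hd⟩ := exists_q_smul h2 e (T.q k v')
    refine hc ⟨v' + d • y, ?_, hP v' _ (by rw [map_add, map_smul, e0, smul_zero, add_zero]) g4, fun _ => ?_⟩
    · rw [q_add, g5, q_smul, hT.q_top h2, hT.1.f_zero e0 _ (by omega), hT.f_zero _ _ (by omega), mul_zero, add_zero,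
        add_zero]
    · rw [q_add, hd, map_smul, g6 _ _ _ hy, smul_zero]
      linear_combination T.q k v' * h2
  have g7 : Nil (2 * k + 1) (qres T W hW) := g2.resolve_left fun e => by
    obtain ⟨y, hy⟩ := e.2.resolve_right fun e => e (by simp)
    refine hy ((qres_q _ y).trans ((q_pow k 1 _).symm.trans (q0 _ ?_ (by rw [pow_e, hT.2]))))
    exact qres_pow (hW := hW) 1 y ▸ Subtype.prop _
  have q1 : ∀ y : W, (qres T W hW).q k y = 0 := fun y => (qres_q k y).trans (q0 _ y.2 ((qres_nil g7.1).1 g7 _ y.2))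
  exact .inr ⟨X, _, g1, ⟨g7.of_q h2 q1, fun e => e.elim (fun ⟨x, hx⟩ => hx (q1 x))
    fun e => hc ⟨_, h3, h4, fun e' => absurd e' e⟩⟩, g3⟩

end CL.Cl2
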