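/-
Class numbers of classical groups, part 5: projective special linear groups.
-/
import Cfsg.Agent.Known.ClassNo4

set_option autoImplicit false

open Finset Polynomial

namespace CL.ClassNo

open CL.GLn

/-- Burnside's count of the classes of `G / Z(G)`. -/
theorem sum_center_fix {G : Type*} [Group G] [Finite G] [Fintype (Subgroup.center G)] :
    ∑ z : Subgroup.center G, Nat.card {c : ConjClasses G // ∃ g, ConjClasses.mk g = c ∧ IsConj (g * z) g} =
      Nat.card (Subgroup.center G) * Nat.card (ConjClasses (G ⧸ Subgroup.center G)) := by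
  classical
  have hc : ∀ (z : Subgroup.center G) {a b : G}, IsConj a b → IsConj (a * z) (b * z) := fun z a b h => by
    obtain ⟨c, rfl⟩ := isConj_iff.1 h
    exact isConj_iff.2 ⟨c, by simp only [mul_assoc, Subgroup.mem_center_iff.1 z.2 c⁻¹]⟩
  let _ : MulAction (Subgroup.center G) (ConjClasses G) :=
    { smul := fun z => Quotient.map (· * z.1) fun _ _ h => hc z h
      one_smul := fun c => by
        obtain ⟨a, rfl⟩ := ConjClasses.mk_surjective c
        exact congrArg ConjClasses.mk (mul_one a)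
      mul_smul := fun z w c => by
        obtain ⟨a, rfl⟩ := ConjClasses.mk_surjective c
        refine congrArg ConjClasses.mk ?_
        change a * (z.1 * w.1) = a * w.1 * z.1
        rw [mul_assoc, Subgroup.mem_center_iff.1 z.2] }
  have hs : ∀ (z : Subgroup.center G) (a : G), z • ConjClasses.mk a = ConjClasses.mk (a * z) := fun _ _ => rfl
  have := Fintype.ofFinite (ConjClasses G)
  have := Fintype.ofFinite (MulAction.orbitRel.Quotient (Subgroup.center G) (ConjClasses G))
  have h := MulAction.sum_card_fixedBy_eq_card_orbits_mul_card_group (Subgroup.center G) (ConjClasses G)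
  have h1 : MulAction.orbitRel (Subgroup.center G) (ConjClasses G) =
      Setoid.ker (ConjClasses.map (QuotientGroup.mk' (Subgroup.center G))) := by
    ext a b
    obtain ⟨a, rfl⟩ := ConjClasses.mk_surjective a
    obtain ⟨b, rfl⟩ := ConjClasses.mk_surjective b
    rw [MulAction.orbitRel_apply, Setoid.ker_def, eq_comm]
    refine Iff.trans ?_ (ConjClasses.mk_eq_mk_iff_isConj.trans Known.isConj_mk_center_iff).symm
    simp [MulAction.mem_orbit_iff, hs, ConjClasses.mk_eq_mk_iff_isConj]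
  simp only [← Nat.card_eq_fintype_card] at h
  rw [mul_comm, ← Nat.card_congr (Setoid.quotientKerEquivOfSurjective _
    (ConjClasses.map_surjective (QuotientGroup.mk'_surjective _))), ← h1, ← h]
  refine sum_congr rfl fun z _ => Nat.card_congr (Equiv.subtypeEquivRight fun c => ?_)
  obtain ⟨a, rfl⟩ := ConjClasses.mk_surjective c
  rw [MulAction.mem_fixedBy, hs, ConjClasses.mk_eq_mk_iff_isConj]
  refine ⟨fun ⟨g, h1, h2⟩ => ?_, fun h => ⟨a, rfl, h⟩⟩
  have h1 := ConjClasses.mk_eq_mk_iff_isConj.1 h1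
  exact ((hc z h1.symm).trans h2).trans h1

variable {F : Type*} [Field F]

/-- Scaling of the roots. -/
noncomputable def srE (r : Fˣ) : F[X] ≃* F[X] where
  toFun p := p.scaleRoots r
  invFun p := p.scaleRoots (r⁻¹ : Fˣ)
  left_inv p := by simp [← scaleRoots_mul]
  right_inv p := by simp [← scaleRoots_mul]
  map_mul' p q := mul_scaleRoots_of_noZeroDivisors p q _

theorem scaleRoots_lay {ι : Type*} [Fintype ι] [DecidableEq ι] {A : Matrix ι ι F} (hA : IsUnit A) (r : Fˣ)
    (h : IsConj (A * Matrix.scalar ι (r : F)) A) (e : ℕ) :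
    (lay (e + 1) (elemDiv A)).scaleRoots r = lay (e + 1) (elemDiv A) := by
  have h1 := map_bs_eq (hasED_elemDiv A) ((isUnit_iff_elemDiv A).1 hA) (srE r) (fun π h1 h2 _ =>
    ⟨(monic_scaleRoots_iff _).2 h1, (MulEquiv.irreducible_iff (srE r)).2 h2, natDegree_scaleRoots _ _, fun k => ?_⟩)
    (fun _ _ _ _ _ _ h => (srE r).injective h) e
  · rw [lay]
    conv_rhs => rw [← h1, ← map_multiset_prod]
    rfl
  · rw [← map_pow, ← (isConj_iff_sim.1 h).kd]
    have h3 : Matrix.toLin' (A * Matrix.scalar ι (r : F)) = algebraMap F _ r * Matrix.toLin' A := by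
      ext1; simp [Algebra.algebraMap_eq_smul_one, ← Matrix.smul_one_eq_diagonal]
    change kd _ (scaleRoots _ _) = _
    rw [h3, kd, aeval_def, scaleRoots_eval₂_mul_of_commute _ _ _ (Algebra.commutes _ _) fun _ _ => Algebra.commutes _ _,
      ← map_pow, ← Algebra.smul_def, LinearMap.ker_smul _ _ (by simp), kd, aeval_def]

theorem exists_expand_of_scaleRoots {f : F[X]} (hf : f.coeff 0 ≠ 0) {r : Fˣ} (h : f.scaleRoots r = f) :
    ∃ g, f = expand F (orderOf r) g := by
  have h1 : ∀ i, f.coeff i ≠ 0 → orderOf r ∣ f.natDegree - i := fun i hi => by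
    have := congrArg (coeff · i) h
    simp only [coeff_scaleRoots, mul_eq_left₀ hi] at this
    exact orderOf_dvd_of_pow_eq_one (Units.ext (by simpa using this))
  by_cases h0 : orderOf r = 0
  · exact ⟨f, by rw [h0, expand_zero, eq_C_of_natDegree_eq_zero (p := f) (by simpa [h0] using h1 0 hf)]; simp⟩
  refine ⟨contract (orderOf r) f, ?_⟩
  ext i
  rw [coeff_expand (Nat.pos_of_ne_zero h0), coeff_contract h0]
  split_ifs with h2
  · rw [Nat.div_mul_cancel h2]
  · by_contra h3
    exact h2 ((Nat.dvd_sub_iff_right (le_natDegree_of_ne_zero h3) (h1 0 hf)).1 (h1 i h3))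

theorem card_expand_le [Finite F] {t : ℕ} (ht : t ≠ 0) {m : ℕ} (hm : m ≠ 0) (a : F) :
    (Nat.card F - 1 : ℝ) * Nat.card {f : F[X] // f.Monic ∧ f.natDegree = m ∧ sc f = a ∧ ∃ g, f = expand F t g} ≤
      if t ∣ m then glw (Nat.card F) (m / t) else 0 := by
  have ht' := Nat.pos_of_ne_zero ht
  split_ifs with h
  · obtain ⟨_ | k, rfl⟩ := h
    · simp at hm
    rw [Nat.mul_div_cancel_left _ ht', glw]
    refine mul_le_mul_of_nonneg_left ?_ (by simpa using Nat.card_pos.nat_succ_le)
    have h := card_monic_coeff_zero k (fun b : F => b = (-1) ^ (t * (k + 1)) * a)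
    rw [Nat.card_unique (α := {a : F // _}), one_mul] at h
    rw [← Nat.cast_pow, Nat.cast_le, ← h, ← card_mon, ← card_mon]
    refine card_le_card_of_injOn (contract t) (fun f hf => ?_) fun f hf f' hf' h => ?_
    · obtain ⟨h1, h2, h3, g, rfl⟩ := mem_mon.1 hf
      rw [natDegree_expand, mul_comm] at h2
      rw [contract_expand _ ht]
      refine mem_mon.2 ⟨(monic_expand_iff ht').1 h1, Nat.eq_of_mul_eq_mul_left ht' h2, ?_⟩
      rw [← h3, sc, natDegree_expand, mul_comm _ t, h2]
      simp [← mul_assoc, ← mul_pow, coeff_expand ht']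
    · obtain ⟨-, -, -, g, rfl⟩ := mem_mon.1 hf
      obtain ⟨-, -, -, g', rfl⟩ := mem_mon.1 hf'
      rw [contract_expand _ ht, contract_expand _ ht] at h
      rw [h]
  · have : IsEmpty {f : F[X] // f.Monic ∧ f.natDegree = m ∧ sc f = a ∧ ∃ g, f = expand F t g} :=
      ⟨fun ⟨_, _, h2, _, g, h3⟩ => h (by rw [← h2, h3, natDegree_expand]; exact dvd_mul_left _ _)⟩
    simp

theorem card_fix_le [Finite F] {n : ℕ} (hn : n ≠ 0) (z : Subgroup.center (Matrix.SpecialLinearGroup (Fin n) F))
    (hz : z ≠ 1) : ∃ k, k + 1 ≤ n / 2 ∧ (Nat.card F - 1 : ℝ) * Nat.card {c : ConjClasses (Matrix.SpecialLinearGroup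
      (Fin n) F) // ∃ g, ConjClasses.mk g = c ∧ IsConj (g * z) g} ≤ Sb (glw (Nat.card F)) (Nat.card F - 1) (k + 1) := by
  obtain ⟨r, h1, h2⟩ := Matrix.SpecialLinearGroup.mem_center_iff.1 z.2
  rw [Fintype.card_fin] at h1
  obtain ⟨r, rfl⟩ := IsUnit.of_pow_eq_one h1 hn
  obtain ⟨k, hk⟩ : orderOf r ∣ n := orderOf_dvd_of_pow_eq_one (Units.ext (by simpa using h1))
  have h3 : orderOf r ≠ 1 := fun h => hz (Subtype.ext (Subtype.ext (by rw [← h2, orderOf_eq_one_iff.1 h]; simp)))
  have h4 := (orderOf_pos r).ne'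
  obtain _ | k := k
  · simp [hn] at hk
  refine ⟨k, (Nat.le_div_iff_mul_le two_pos).2 (by rw [hk, mul_comm]; gcongr; omega), ?_⟩
  rw [← Sb_sparse rfl h4 _ k.succ_ne_zero, ← hk]
  refine sl_count hn _ (fun f => ∃ g, f = expand F (orderOf r) g) _ (by simp [glw])
    (fun m hm a => card_expand_le h4 hm a) ?_
  rintro g ⟨g', h5, h6⟩ e
  have h7 := isConj_iff_elemDiv.1 (isConj_GL_iff.1
    (Matrix.SpecialLinearGroup.toGL.map_isConj (ConjClasses.mk_eq_mk_iff_isConj.1 h5)))
  have h8 : IsUnit g'.1 := by simp [Matrix.isUnit_iff_isUnit_det]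
  rw [← show elemDiv g'.1 = elemDiv g.1 from h7]
  refine exists_expand_of_scaleRoots (coeff_zero_lay_ne (by simp) ((isUnit_iff_elemDiv _).1 h8))
    (scaleRoots_lay h8 r ?_ e)
  rw [h2]
  exact isConj_GL_iff.1 (Matrix.SpecialLinearGroup.toGL.map_isConj h6)

theorem psl_class_bounds [Fintype F] {n : ℕ} (hn : 2 ≤ n) :
    Fintype.card F ^ (n - 1) ≤ Nat.gcd n (Fintype.card F - 1) *
      Nat.card (ConjClasses (Matrix.ProjectiveSpecialLinearGroup (Fin n) F)) ∧
    Nat.gcd n (Fintype.card F - 1) * Nat.card (ConjClasses (Matrix.ProjectiveSpecialLinearGroup (Fin n) F)) ≤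
      Fintype.card F ^ (n - 1) + 5 * Fintype.card F ^ (n - 2) := by
  classical
  obtain ⟨m, rfl⟩ := Nat.exists_eq_add_of_le' hn
  have := Fintype.ofFinite (Subgroup.center (Matrix.SpecialLinearGroup (Fin (m + 2)) F))
  have h1 := sum_center_fix (G := Matrix.SpecialLinearGroup (Fin (m + 2)) F)
  have h2 := SLn.card_center_SL (ι := Fin (m + 2)) (F := F)
  rw [Fintype.card_fin] at h2
  have h3 : Nat.card {c : ConjClasses (Matrix.SpecialLinearGroup (Fin (m + 2)) F) // ∃ g, ConjClasses.mk g = c ∧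
      IsConj (g * (1 : Subgroup.center (Matrix.SpecialLinearGroup (Fin (m + 2)) F))) g} =
      Nat.card (ConjClasses (Matrix.SpecialLinearGroup (Fin (m + 2)) F)) :=
    Nat.card_congr (Equiv.subtypeUnivEquiv fun c => ⟨_, mk_out c, by rw [OneMemClass.coe_one, mul_one]⟩)
  rw [← add_sum_erase _ _ (mem_univ 1), h3, h2] at h1
  rw [← h1]
  have h4 := lt_card_classes_SL (F := F) m
  have h5 := card_classes_SL_le (F := F) (n := m + 2) (by omega)
  have h6 := fun z : Subgroup.center (Matrix.SpecialLinearGroup (Fin (m + 2)) F) => card_fix_le (by omega) z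
  generalize Nat.card (ConjClasses (Matrix.SpecialLinearGroup (Fin (m + 2)) F)) = K at *
  obtain ⟨f, hf⟩ : ∃ f : Subgroup.center (Matrix.SpecialLinearGroup (Fin (m + 2)) F) → ℕ, ∀ z, Nat.card
    {c : ConjClasses (Matrix.SpecialLinearGroup (Fin (m + 2)) F) // ∃ g, ConjClasses.mk g = c ∧ IsConj (g * z.1) g} =
      f z := ⟨_, fun _ => rfl⟩
  simp only [hf] at h6 ⊢
  rw [Nat.card_eq_fintype_card (α := F)] at h4 h5 h6
  refine ⟨h4.le.trans (Nat.le_add_right _ _), ?_⟩
  obtain ⟨N, hN⟩ := Nat.exists_eq_add_of_le' (Fintype.card_pos (α := F)).nat_succ_le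
  have hN0 : N ≠ 0 := by have := Fintype.one_lt_card (α := F); omega
  have hN1 : (0 : ℝ) < N := by positivity
  have h7 : (univ.erase (1 : Subgroup.center (Matrix.SpecialLinearGroup (Fin (m + 2)) F))).card + 1 =
      (m + 2).gcd (Fintype.card F - 1) := by
    rw [card_erase_add_one (mem_univ _), card_univ, ← h2, Nat.card_eq_fintype_card]
  rw [hN] at h5 h6 h7 ⊢
  simp only [Nat.succ_eq_add_one, zero_add, Nat.cast_add, Nat.cast_one, add_sub_cancel_right,
    Nat.add_sub_cancel] at h5 h6 h7 ⊢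
  have h8 := Nat.gcd_le_left N (show 0 < m + 2 by omega)
  have h9 := Nat.gcd_le_right (m + 2) (Nat.pos_of_ne_zero hN0)
  rw [← h7] at h8 h9
  rcases m with _ | m
  · have h10 := le_of_mul_le_mul_left (h5.trans (Sb_glw_two hN0).1) hN1
    have h11 := sum_le_card_nsmul _ f 1 fun z (hz : z ∈ univ.erase 1) => by
      obtain ⟨k, h1, h2⟩ := h6 z (ne_of_mem_erase hz)
      obtain rfl : k = 0 := by omega
      rw [Sb_one, glw] at h2
      exact_mod_cast le_of_mul_le_mul_left (h2.trans_eq (by simp : _ = (N : ℝ) * (1 : ℕ))) hN1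
    norm_cast at h10
    simp only [smul_eq_mul, zero_add, Nat.reduceAdd, Nat.add_one_sub_one, pow_one, pow_zero] at h11 h10 h8 ⊢
    change _ + (univ.erase 1).sum f ≤ _
    omega
  · have h10 := le_of_mul_le_mul_left (h5.trans (Sb_glw_le hN0 m)) hN1
    have h11 := sum_le_card_nsmul _ (2 * f ·) (5 * (N + 1) ^ ((m + 1) / 2)) fun z (hz : z ∈ univ.erase 1) => by
      obtain ⟨k, h1, h2⟩ := h6 z (ne_of_mem_erase hz)
      have h3 := le_of_mul_le_mul_left (((mul_left_comm _ _ _).trans_le
        (mul_le_mul_of_nonneg_left h2 zero_le_two)).trans (two_mul_Sb_glw_le hN0 k)) hN1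
      norm_cast at h3
      exact h3.trans (Nat.mul_le_mul_left _ (Nat.pow_le_pow_right (by omega) (by omega)))
    norm_cast at h10
    rw [← mul_sum, smul_eq_mul] at h11
    generalize (univ.erase (1 : Subgroup.center (Matrix.SpecialLinearGroup (Fin (m + 1 + 2)) F))).card = e at *
    have h12 : e * (5 * (N + 1) ^ ((m + 1) / 2)) ≤ 4 * (N + 1) ^ (m + 1) := by
      by_cases hm : m ≤ 1
      · rw [show (m + 1) / 2 = m by omega, pow_succ, ← mul_assoc, mul_comm _ (N + 1), ← mul_assoc]
        exact Nat.mul_le_mul_right _ (by omega)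
      · refine le_trans ?_ (Nat.mul_le_mul_left _ (Nat.pow_le_pow_right (by omega)
          (show 2 + (m + 1) / 2 ≤ m + 1 by omega)))
        rw [pow_add, ← mul_assoc, ← mul_assoc]
        exact Nat.mul_le_mul_right _ (by nlinarith)
    change _ ≤ (N + 1) ^ (m + 2) + _
    omega

end CL.ClassNo
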