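/-
Pairs of `p`-elements generating a non-solvable group whose product is not a `p`-element: local criteria.
-/
import Cfsg.Agent.Grp.Primitive
import Cfsg.Agent.Grp.SZConj

set_option autoImplicit false

open Equiv Equiv.Perm
open scoped commutatorElement

namespace CL.Known.FreePair

section
variable {G G₀ : Type*} [Group G] [Group G₀] {p : ℕ}

/-- `u w` is not a `p`-element and `⟨u, w⟩` is not solvable. -/
def Good (p : ℕ) (u w : G) : Prop :=
  (∀ k : ℕ, (u * w) ^ p ^ k ≠ 1) ∧ ¬ Group.IsSolvable (Subgroup.closure ({u, w} : Set G))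

theorem Good.transport {u w : G} {u₀ w₀ : G₀} (h : Good p u₀ w₀) (D : Subgroup (G × G₀))
    (hD : ∀ y, ((1 : G), y) ∈ D → y = 1) (hu : (u, u₀) ∈ D) (hw : (w, w₀) ∈ D) : Good p u w := by
  refine ⟨fun k e => h.1 k (hD _ ?_), fun hs => h.2 ?_⟩
  · have := D.pow_mem (D.mul_mem hu hw) (p ^ k)
    rwa [Prod.mk_mul_mk, Prod.pow_mk, e] at this
  · set E := Subgroup.closure ({(u, u₀), (w, w₀)} : Set (G × G₀))
    have hE : E ≤ D := (Subgroup.closure_le _).2 (by rintro x (rfl | rfl) <;> assumption)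
    have h1 : E.map (MonoidHom.fst G G₀) = Subgroup.closure {u, w} := by
      rw [MonoidHom.map_closure, Set.image_pair]; rfl
    have h2 : E.map (MonoidHom.snd G G₀) = Subgroup.closure {u₀, w₀} := by
      rw [MonoidHom.map_closure, Set.image_pair]; rfl
    rw [← h1] at hs
    rw [← h2]
    have : Group.IsSolvable E := Group.isSolvable_of_isSolvable_injective (f := (MonoidHom.fst G G₀).subgroupMap E)
      ((injective_iff_map_eq_one _).2 fun x hx => by
        have e1 : x.1.1 = 1 := congrArg Subtype.val hx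
        have e2 : x.1.2 = 1 := hD _ (by rw [← e1]; exact hE x.2)
        exact Subtype.ext (Prod.ext e1 e2))
    exact Group.isSolvable_of_surjective ((MonoidHom.snd G G₀).subgroupMap_surjective E)

theorem Good.conj {u w : G} (h : Good p u w) (g : G) : Good p (g * u * g⁻¹) (g * w * g⁻¹) :=
  h.transport ((MulAut.conj g).toMonoidHom.prod (MonoidHom.id G)).range
    (fun y ⟨x, hx⟩ => by
      have e1 : g * x * g⁻¹ = 1 := congrArg Prod.fst hx
      have e2 : x = y := congrArg Prod.snd hx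
      rw [← e2]; simpa using e1) ⟨u, rfl⟩ ⟨w, rfl⟩

theorem Good.symm {u w : G} (h : Good p u w) : Good p w u :=
  ⟨fun k e => h.1 k (by
    have : u * w = u * (w * u) * u⁻¹ := by group
    rw [this, conj_pow, e]; group), by rw [Set.pair_comm]; exact h.2⟩

theorem not_solv {x a b : G} (hx : x ≠ 1) (h : x = ⁅a * x * a⁻¹, b * x * b⁻¹⁆) : ¬ Group.IsSolvable G := by
  refine not_isSolvable_of_mem_derivedSeries hx fun n => ?_
  induction n with
  | zero => exact Subgroup.mem_top _
  | succ n ih =>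
    rw [h, derivedSeries_succ]
    exact Subgroup.commutator_mem_commutator ((derivedSeries_normal _ n).conj_mem _ ih _)
      ((derivedSeries_normal _ n).conj_mem _ ih _)

theorem good_small {m : ℕ} (hc : m.Coprime p) {u w a b : G} (ha : a ∈ Subgroup.closure ({u, w} : Set G))
    (hb : b ∈ Subgroup.closure ({u, w} : Set G)) (hu : u ≠ 1) (h : u = ⁅a * u * a⁻¹, b * u * b⁻¹⁆)
    (h1 : (u * w) ^ m = 1) (h2 : u * w ≠ 1) : Good p u w := by
  refine ⟨fun k e => h2 ?_, ?_⟩
  · have := pow_gcd_eq_one.2 ⟨h1, e⟩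
    rwa [hc.pow_right k, pow_one] at this
  · exact not_solv (x := ⟨u, Subgroup.subset_closure (Set.mem_insert _ _)⟩) (a := ⟨a, ha⟩) (b := ⟨b, hb⟩)
      (fun e => hu (congrArg Subtype.val e)) (Subtype.ext h)

end

section
variable {α : Type*} [Fintype α] [DecidableEq α] {p : ℕ} {u w u' w' : Perm α}

/-- good conjugates exist for conjugating elements of both signs -/
def Both (p : ℕ) (u w : Perm α) : Prop := ∀ s : ℤˣ, ∃ τ : Perm α, sign τ = s ∧ Good p u (τ * w * τ⁻¹)

theorem Both.conj (h : Both p u w) (hu : IsConj u u') (hw : IsConj w w') : Both p u' w' := by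
  obtain ⟨a, rfl⟩ := isConj_iff.1 hu
  obtain ⟨b, rfl⟩ := isConj_iff.1 hw
  intro s
  obtain ⟨τ, h1, h2⟩ := h (s * sign a * sign b)
  refine ⟨a * τ * b⁻¹, ?_, ?_⟩
  · rw [Perm.sign_mul, Perm.sign_mul, sign_inv, h1]
    rcases Int.units_eq_one_or (sign a) with e | e <;> rcases Int.units_eq_one_or (sign b) with e' | e' <;> simp [e, e']
  · convert h2.conj a using 1
    group

theorem both_of_two {ρ : Perm α} (h1 : Good p u w) (h2 : Good p u (ρ * w * ρ⁻¹)) (hρ : sign ρ = -1) : Both p u w :=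
  fun s => by
    rcases Int.units_eq_one_or s with rfl | rfl
    · exact ⟨1, sign_one, by simpa using h1⟩
    · exact ⟨ρ, hρ, h2⟩

theorem both_of_pattern {k : ℕ} (c d : Fin k → α) (hc : Function.Injective c) (hd : Function.Injective d)
    (hk : k + 2 ≤ Fintype.card α)
    (h : ∀ v : Perm α, (∀ i j, w (c i) = c j → v (d i) = d j) → Good p u v) : Both p u w := by
  have key : ∀ τ : Perm α, (∀ i, τ (c i) = d i) → Good p u (τ * w * τ⁻¹) := fun τ hτ =>
    h _ fun i j e => by rw [← hτ, ← hτ, ← e]; simp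
  obtain ⟨τ, hτ⟩ := exists_extending_pair c d hc hd
  obtain ⟨x, hx, y, hy, hxy⟩ := Finset.one_lt_card.1 (show 1 < (Finset.univ.image d)ᶜ.card by
    rw [Finset.card_compl, Finset.card_image_of_injective _ hd, Finset.card_fin]; omega)
  simp only [Finset.mem_compl, Finset.mem_image, Finset.mem_univ, true_and, not_exists] at hx hy
  have := both_of_two (ρ := swap x y) (key τ hτ) (by
    convert key (swap x y * τ) fun i => by rw [Perm.mul_apply, hτ, swap_apply_of_ne_of_ne (hx i) (hy i)] using 1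
    group) (sign_swap hxy)
  exact this.conj (IsConj.refl _) (isConj_iff.2 ⟨τ, rfl⟩).symm

/-- transport along embeddings -/
theorem Both.embed {n : ℕ} {u₀ w₀ : Perm α} (h : Both p u₀ w₀) {u w : alternatingGroup (Fin n)} (e f : α ↪ Fin n)
    (he : ∀ y, u.1 (e y) = e (u₀ y)) (hf : ∀ y, w.1 (f y) = f (w₀ y)) : ∃ g, Good p u (g * w * g⁻¹) := by
  obtain ⟨g, hg⟩ := exists_extending_pair f e f.injective e.injective
  obtain ⟨τ, h1, h2⟩ := h (sign g)
  let D : Subgroup (alternatingGroup (Fin n) × Perm α) :=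
    { carrier := {x | ∀ y, x.1.1 (e y) = e (x.2 y)}
      mul_mem' := fun {a b} ha hb y => by simp [ha _, hb _]
      one_mem' := fun y => rfl
      inv_mem' := fun {a} ha y => by
        change (a.1.1)⁻¹ (e y) = e (a.2⁻¹ y)
        rw [Perm.inv_eq_iff_eq, ha]; simp }
  refine ⟨⟨g * τ.viaFintypeEmbedding f, by simp [viaFintypeEmbedding_sign, h1]⟩,
    h2.transport D (fun y hy => Equiv.ext fun z => e.injective (hy z).symm) he fun y => ?_⟩
  change (g * τ.viaFintypeEmbedding f) (w.1 ((g * τ.viaFintypeEmbedding f)⁻¹ (e y))) = e (τ (w₀ (τ⁻¹ y)))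
  have : (g * τ.viaFintypeEmbedding f)⁻¹ (e y) = f (τ⁻¹ y) := by
    rw [Perm.inv_eq_iff_eq, Perm.mul_apply, viaFintypeEmbedding_apply_image, hg]; simp
  rw [this, hf, Perm.mul_apply, viaFintypeEmbedding_apply_image, hg]

end

section
variable {p a P : ℕ} [NeZero P]

theorem addRight_pow (x : ZMod P) (m : ℕ) : (Equiv.addRight x : Perm (ZMod P)) ^ m = Equiv.addRight (m * x) := by
  induction m with
  | zero => ext; simp
  | succ m ih => rw [pow_succ, ih]; ext; simp; ring

theorem exists_mul_eq (hp : p.Prime) (hP : P = p ^ (a + 1)) {k t : ZMod P} (hk : k ≠ 0) (ht : (p : ZMod P) * t = 0) :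
    ∃ m : ℕ, t = m * k := by
  obtain ⟨i, r, hr, e⟩ := Nat.exists_eq_pow_mul_and_not_dvd ((ZMod.val_eq_zero k).not.2 hk) p hp.ne_one
  have hi : i ≤ a := by
    by_contra h
    have h1 : p ^ (a + 1) ∣ k.val := e ▸ (pow_dvd_pow p (by omega)).mul_right r
    exact (Nat.le_of_dvd (Nat.pos_of_ne_zero ((ZMod.val_eq_zero k).not.2 hk)) h1).not_gt (hP ▸ ZMod.val_lt k)
  obtain ⟨s, hs⟩ : p ^ a ∣ t.val := by
    have : P ∣ p * t.val := (ZMod.natCast_eq_zero_iff _ _).1 (by simpa using ht)
    exact Nat.dvd_of_mul_dvd_mul_left hp.pos (((pow_succ' p a).symm.trans hP.symm).dvd.trans this)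
  have hu : IsUnit (r : ZMod P) := (ZMod.isUnit_iff_coprime r P).2
    (hP ▸ (Nat.coprime_comm.1 ((Nat.Prime.coprime_iff_not_dvd hp).2 hr)).pow_right _)
  obtain ⟨r', hr'⟩ := hu.exists_right_inv
  refine ⟨((p : ZMod P) ^ (a - i) * s * r').val, ?_⟩
  rw [ZMod.natCast_zmod_val, ← ZMod.natCast_zmod_val t, ← ZMod.natCast_zmod_val k, hs, e]
  obtain ⟨j, rfl⟩ := Nat.exists_eq_add_of_le hi
  push_cast
  rw [Nat.add_sub_cancel_left]
  linear_combination (-(p : ZMod P) ^ (i + j) * s) * hr'

/-- In a solvable group containing a full cycle of prime power length the element of prime order in that cycle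
commutes with its conjugates. -/
theorem comm_of_solvable (hp : p.Prime) (hP : P = p ^ (a + 1)) {H : Subgroup (Perm (ZMod P))}
    (hH : Group.IsSolvable H) (hc : Equiv.addRight (1 : ZMod P) ∈ H) {w : Perm (ZMod P)} (hw : w ∈ H) {t y : ZMod P}
    (ht : (p : ZMod P) * t = 0) (h : w (y + t) = w y + t) : w (y + t + t) = w y + t + t := by
  haveI := Fact.mk hp
  have h1 : 1 < P := hP ▸ Nat.one_lt_pow (by omega) hp.one_lt
  haveI := Fact.mk h1
  have hall : ∀ x : ZMod P, Equiv.addRight x ∈ H := fun x => by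
    have := H.pow_mem hc x.val
    rwa [addRight_pow, ZMod.natCast_zmod_val, mul_one] at this
  obtain ⟨q, N, hq, hN, -, hne, hcomm, hqN⟩ := CL.Grp.exists_abelian_normal_pgroup_le_of_isSolvable (⊤ : Subgroup H)
    fun e => one_ne_zero (α := ZMod P) (by
      have : (⟨_, hc⟩ : H) = 1 := Subgroup.mem_bot.1 (e ▸ Subgroup.mem_top _)
      simpa using congr(($this).1 0))
  haveI := Fact.mk hq
  obtain rfl : q = p := by
    by_contra hqp
    obtain ⟨x, hx⟩ := hqN.nonempty_fixed_point_of_prime_not_dvd_card (ZMod P) (by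
      rw [Nat.card_zmod, hP]; exact fun h => hqp ((Nat.prime_dvd_prime_iff_eq hq hp).1 (hq.dvd_of_dvd_pow h)))
    refine hne ((Subgroup.eq_bot_iff_forall _).2 fun g hg => Subtype.ext (Equiv.ext fun z => ?_))
    have := hx ⟨_, hN.conj_mem g hg ⟨_, hall (x - z)⟩⟩
    change g.1 ((Equiv.addRight (x - z))⁻¹ x) + (x - z) = x at this
    simp at this
    simpa using (by linear_combination this : g.1 z = z)
  have hQ : IsPGroup q (Subgroup.zpowers (⟨_, hc⟩ : H)) := by
    rintro ⟨_, m, rfl⟩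
    refine ⟨a + 1, Subtype.ext ?_⟩
    have : (⟨_, hc⟩ : H) ^ q ^ (a + 1) = 1 := Subtype.ext (by
      rw [SubgroupClass.coe_pow, addRight_pow, ← hP]; ext; simp)
    simp only [SubgroupClass.coe_pow, OneMemClass.coe_one]
    rw [← zpow_natCast, ← zpow_mul, mul_comm, zpow_mul, zpow_natCast, this, one_zpow]
  obtain ⟨⟨b, hb, hb'⟩, hb1⟩ := Subgroup.ne_bot_iff_exists_ne_one.1 (CL.Grp.inf_centralizer_ne_bot_of_isPGroup hQ
    Subgroup.le_normalizer_of_normal (hqN.card_eq_or_dvd.resolve_left fun e => hne (Subgroup.eq_bot_of_card_eq _ e)))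
  have hb2 : ∀ x : ZMod P, b.1 x = x + b.1 0 := fun x => by
    have := hb' ((⟨_, hc⟩ : H) ^ x.val) (Subgroup.pow_mem _ (Subgroup.mem_zpowers _) _)
    have := congr(($this).1 0)
    simp only [Subgroup.coe_mul, SubgroupClass.coe_pow, addRight_pow, ZMod.natCast_zmod_val, mul_one, Perm.mul_apply,
      coe_addRight, zero_add] at this
    rw [← this, add_comm]
  obtain ⟨m, hm⟩ := exists_mul_eq hp hP (k := b.1 0) (fun e => hb1 (Subtype.ext (Subtype.ext (Equiv.ext fun x => by
    simpa [e] using hb2 x)))) ht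
  have hz : (⟨_, hall t⟩ : H) ∈ N := by
    convert N.pow_mem hb m
    rw [SubgroupClass.coe_pow, show b.1 = Equiv.addRight (b.1 0) from Equiv.ext hb2, addRight_pow, ← hm]
  have := congr((($(hcomm.is_comm.comm ⟨_, hz⟩ ⟨_, hN.conj_mem _ hz ⟨w, hw⟩⟩)).1.1) (w y))
  simp only [Subgroup.coe_mul, Perm.mul_apply, coe_addRight, InvMemClass.coe_inv, Perm.coe_inv, symm_apply_apply,
    ← h] at this
  rw [← this, h]

theorem good_of (hp : p.Prime) (hp2 : p ≠ 2) (hP : P = p ^ (a + 1)) {w : Perm (ZMod P)} {t y α γ : ZMod P}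
    (ht : (p : ZMod P) * t = 0) (h : w (y + t) = w y + t) (h' : w (y + t + t) ≠ w y + t + t) (hne : γ ≠ α)
    (h1 : w α + 1 = γ) (h2 : w γ + 1 = α) : Good p (Equiv.addRight (1 : ZMod P)) w := by
  refine ⟨fun k e => hne ?_, fun hs => h' (comm_of_solvable hp hP hs (Subgroup.subset_closure (Set.mem_insert _ _))
    (Subgroup.subset_closure (Set.mem_insert_of_mem _ rfl)) ht h)⟩
  have e1 : Function.IsPeriodicPt (Equiv.addRight (1 : ZMod P) * w : Perm _) 2 α := by
    simp [Function.IsPeriodicPt, Function.IsFixedPt, h1, h2]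
  have e2 : Function.IsPeriodicPt (Equiv.addRight (1 : ZMod P) * w : Perm _) (p ^ k) α := by
    rw [Function.IsPeriodicPt, Function.IsFixedPt, iterate_eq_pow, e]; rfl
  have := e1.gcd e2
  rw [((Nat.coprime_primes Nat.prime_two hp).2 hp2.symm).pow_right k] at this
  exact h1.symm.trans this

end

end CL.Known.FreePair
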