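/-
Pairs of `p`-elements generating a non-solvable group whose product is not a `p`-element: the patterns.
-/
import Cfsg.Agent.Known.FreePair1

set_option autoImplicit false

open Equiv Equiv.Perm
open scoped commutatorElement

namespace CL.Known.FreePair

section
variable {p a P : ℕ} [NeZero P]

theorem inj_cast {k : ℕ} (ν : Fin k → ℕ) (hν : (List.ofFn ν).Nodup) (hlt : ∀ i, ν i < P) :
    Function.Injective fun i => (ν i : ZMod P) := fun i j e => by
  have := congrArg ZMod.val e
  simp only [ZMod.val_cast_of_lt (hlt _)] at this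
  exact List.nodup_ofFn.1 hν this

theorem fix_of_pow {α : Type*} {w : Perm α} {m n : ℕ} {x : α} (hc : m.Coprime n) (h1 : (w ^ m) x = x)
    (h2 : (w ^ n) x = x) : w x = x := by
  have := Function.IsPeriodicPt.gcd (f := w) (m := m) (n := n) (x := x) h1 h2
  rwa [hc] at this

theorem both_long (hp : p.Prime) (hp2 : p ≠ 2) (hP : P = p ^ (a + 1)) (h7 : 7 ≤ P) {T : ℕ} (h1 : 1 ≤ T)
    (h2 : 2 * T + 3 < P) (hT : (p : ZMod P) * (T + 1 : ℕ) = 0) {w : Perm (ZMod P)} (hw : w ^ P = 1) {x : ZMod P}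
    (hx : w (w (w x)) ≠ x) : Both p (Equiv.addRight (1 : ZMod P)) w := by
  have hc : (2 : ℕ).Coprime P := hP ▸ ((Nat.coprime_primes Nat.prime_two hp).2 hp2.symm).pow_right _
  have e1 : w x ≠ x := fun e => hx (by rw [e, e, e])
  have e2 : w (w x) ≠ x := fun e => e1 (fix_of_pow hc (by simpa [sq] using e) (by rw [hw]; rfl))
  have e4 : w (w (w (w x))) ≠ x := fun e => e1 (fix_of_pow (hc.pow_left 2) (by simpa [pow_succ] using e)
    (by rw [hw]; rfl))
  have hd := inj_cast (P := P) ![0, T + 1, 2 * T + 2, 2 * T + 3, T] (by simp [List.ofFn_succ]; omega)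
    (by simp [Fin.forall_fin_succ]; omega)
  refine both_of_pattern ![x, w x, w (w x), w (w (w x)), w (w (w (w x)))] _ (List.nodup_ofFn.1 (by
    simp [List.ofFn_succ, e1.symm, e2.symm, hx.symm, e4.symm])) hd (by simpa using h7) fun v hv => ?_
  have v0 := hv 0 1 rfl
  have v1 := hv 1 2 rfl
  have v2 := hv 2 3 rfl
  have v3 := hv 3 4 rfl
  have n1 := hd.ne (show (3 : Fin 5) ≠ 1 by decide)
  have n2 := hd.ne (show (4 : Fin 5) ≠ 0 by decide)
  simp only [Matrix.cons_val, Nat.cast_zero] at v0 v1 v2 v3 n1 n2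
  refine good_of (y := 0) hp hp2 hP hT ?_ ?_ n1 ?_ ?_
  · rw [zero_add, v1, v0]; push_cast; ring
  · rw [v0, show (0 : ZMod P) + (T + 1 : ℕ) + (T + 1 : ℕ) = (2 * T + 2 : ℕ) by push_cast; ring, v2]
    exact fun e => n2 (by push_cast at e; linear_combination -e)
  · rw [v1]; push_cast; ring
  · rw [v3]; push_cast; ring

theorem both_three (hP : P = 3 ^ (a + 1)) (h7 : 7 ≤ P) {w : Perm (ZMod P)} (hw : ∀ x, w (w (w x)) = x) (h1 : w ≠ 1) :
    Both 3 (Equiv.addRight (1 : ZMod P)) w := by
  obtain ⟨T, h3, hT⟩ : ∃ T, 3 ≤ T ∧ P = 3 * T := by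
    refine ⟨3 ^ a, ?_, by rw [hP, pow_succ']⟩
    rcases a with _ | a
    · omega
    · exact Nat.le_self_pow (by omega) 3
  have ht : ((3 : ℕ) : ZMod P) * T = 0 := by rw [← Nat.cast_mul, ← hT, ZMod.natCast_self]
  obtain ⟨Q, hQ⟩ : ∃ Q, P = Q + 1 := ⟨P - 1, by omega⟩
  have hq : (Q : ZMod P) + 1 = 0 := by rw [← Nat.cast_add_one, ← hQ, ZMod.natCast_self]
  obtain ⟨x, hx⟩ : ∃ x, w x ≠ x := not_forall.1 fun h => h1 (Equiv.ext h)
  by_cases hf : ∃ y z, y ≠ z ∧ w y = y ∧ w z = z
  · obtain ⟨y, z, hyz, hy, hz⟩ := hf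
    have hd := inj_cast (P := P) ![0, T, 1, Q, 2 * T] (by simp [List.ofFn_succ]; omega)
      (by simp [Fin.forall_fin_succ]; omega)
    refine both_of_pattern ![y, z, x, w x, w (w x)] _ (List.nodup_ofFn.1 (by
      simp only [List.ofFn_succ, List.ofFn_zero, Matrix.cons_val_zero, Matrix.cons_val_succ, List.nodup_cons,
        List.mem_cons, List.not_mem_nil, List.nodup_nil]
      grind)) hd (by simpa using h7) fun v hv => ?_
    have v0 := hv 0 0 hy
    have v1 := hv 1 1 hz
    have v2 := hv 2 3 rfl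
    have v3 := hv 4 2 (hw x)
    have n1 := hd.ne (show (2 : Fin 5) ≠ 0 by decide)
    have n2 := hd.ne (show (2 : Fin 5) ≠ 4 by decide)
    simp only [Matrix.cons_val, Nat.cast_zero, Nat.cast_one] at v0 v1 v2 v3 n1 n2
    refine good_of (y := 0) Nat.prime_three (by norm_num) hP ht ?_ ?_ n1 ?_ ?_
    · rw [zero_add, v1, v0, zero_add]
    · rw [v0, show (0 : ZMod P) + T + T = (2 * T : ℕ) by push_cast; ring, v3]
      exact n2
    · rw [v0, zero_add]
    · rw [v2, hq]
  · have hs : 8 ≤ w.support.card := by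
      have : w.supportᶜ.card ≤ 1 := Finset.card_le_one.2 fun y hy z hz => by
        by_contra e
        exact hf ⟨y, z, e, by simpa using hy, by simpa using hz⟩
      rw [Finset.card_compl, ZMod.card] at this
      omega
    obtain ⟨y, hy, hy'⟩ := Finset.exists_mem_notMem_of_card_lt_card (s := {x, w x, w (w x)})
      (Finset.card_le_three.trans_lt (hs.trans_lt' (by norm_num)))
    obtain ⟨z, hz, hz'⟩ := Finset.exists_mem_notMem_of_card_lt_card (s := {x, w x, w (w x), y, w y, w (w y)})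
      (Finset.card_le_six.trans_lt (hs.trans_lt' (by norm_num)))
    simp only [mem_support, Finset.mem_insert, Finset.mem_singleton, not_or] at hy hy' hz hz'
    have hd := inj_cast (P := P) ![0, 1, 2 * T, T, T + 1, 2, Q] (by simp [List.ofFn_succ]; omega)
      (by simp [Fin.forall_fin_succ]; omega)
    refine both_of_pattern ![x, w x, w (w x), y, w y, z, w z] _ (List.nodup_ofFn.1 (by
      simp only [List.ofFn_succ, List.ofFn_zero, Matrix.cons_val_zero, Matrix.cons_val_succ, List.nodup_cons,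
        List.mem_cons, List.not_mem_nil, List.nodup_nil]
      grind)) hd (by rw [ZMod.card]; omega) fun v hv => ?_
    have v0 := hv 0 1 rfl
    have v1 := hv 3 4 rfl
    have v2 := hv 5 6 rfl
    have v3 := hv 2 0 (hw x)
    have n1 := hd.ne (show (5 : Fin 7) ≠ 0 by decide)
    have n2 := (inj_cast (P := P) ![0, 2 * T + 1] (by simp [List.ofFn_succ])
      (by simp [Fin.forall_fin_succ]; omega)).ne (show (0 : Fin 2) ≠ 1 by decide)
    simp only [Matrix.cons_val, Nat.cast_zero, Nat.cast_one] at v0 v1 v2 v3 n1 n2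
    refine good_of (y := 0) Nat.prime_three (by norm_num) hP ht ?_ ?_ n1 ?_ ?_
    · rw [zero_add, v1, v0]; push_cast; ring
    · rw [v0, show (0 : ZMod P) + T + T = (2 * T : ℕ) by push_cast; ring, v3]
      exact fun e => n2 (by push_cast; linear_combination e)
    · rw [v0]; norm_num
    · rw [v2, hq]

theorem both_big (hp : p.Prime) (hp2 : p ≠ 2) (hP : P = p ^ (a + 1)) (h7 : 7 ≤ P) {w : Perm (ZMod P)} (hw : w ^ P = 1)
    (h1 : w ≠ 1) : Both p (Equiv.addRight (1 : ZMod P)) w := by
  by_cases h : ∀ x, w (w (w x)) = x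
  · obtain rfl : p = 3 := by
      by_contra e
      exact h1 (Equiv.ext fun x => fix_of_pow (hP ▸ ((Nat.coprime_primes Nat.prime_three hp).2 (Ne.symm e)).pow_right _)
        (by simpa [pow_succ] using h x) (by rw [hw]; rfl))
    exact both_three hP h7 h h1
  obtain ⟨x, hx⟩ := not_forall.1 h
  have h3 : 3 ≤ p := hp.two_le.lt_of_ne' hp2
  rcases a with _ | a
  · refine both_long hp hp2 hP h7 le_rfl (by omega) ?_ hw hx
    rw [show p = P by simpa using hP.symm, ZMod.natCast_self, zero_mul]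
  · obtain ⟨T, hT⟩ : ∃ T, p ^ (a + 1) = T + 1 := ⟨_, (Nat.succ_pred_eq_of_pos (pow_pos hp.pos _)).symm⟩
    have h4 := Nat.le_self_pow (show a + 1 ≠ 0 by omega) p
    have h5 : P = p * (T + 1) := by rw [hP, pow_succ', hT]
    refine both_long (T := T) hp hp2 hP h7 (by omega) (by nlinarith) ?_ hw hx
    rw [← Nat.cast_mul, ← h5, ZMod.natCast_self]

end

section small
variable {G : Type*} [Group G] {u w : G}

theorem mu : u ∈ Subgroup.closure ({u, w} : Set G) := Subgroup.subset_closure (Set.mem_insert _ _)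
theorem mw : w ∈ Subgroup.closure ({u, w} : Set G) := Subgroup.subset_closure (Set.mem_insert_of_mem _ rfl)

theorem good_A (hu : u ≠ 1) (h : u = ⁅w * u * w⁻¹, u * w * w * u * w * u * (u * w * w * u * w)⁻¹⁆)
    (h1 : (u * w) ^ 5 = 1) (h2 : u * w ≠ 1) : Good 3 u w :=
  good_small (by norm_num) mw (mul_mem (mul_mem (mul_mem (mul_mem mu mw) mw) mu) mw) hu h h1 h2

theorem good_B (hu : u ≠ 1) (h : u = ⁅w * u * w * w * u * (w * u * w * w)⁻¹, w * u * w * u * (w * u * w)⁻¹⁆)
    (h1 : (u * w) ^ 5 = 1) (h2 : u * w ≠ 1) : Good 3 u w :=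
  good_small (by norm_num) (mul_mem (mul_mem (mul_mem mw mu) mw) mw) (mul_mem (mul_mem mw mu) mw) hu h h1 h2

theorem cyc_prime {α : Type*} [Fintype α] [DecidableEq α] {σ : Perm α} {p : ℕ} (hp : p.Prime) (h : σ ^ p = 1)
    (h1 : σ ≠ 1) : ∃ n, σ.cycleType = Multiset.replicate (n + 1) p ∧ (n + 1) * p ≤ Fintype.card α := by
  haveI := Fact.mk hp
  have ho := orderOf_eq_prime h h1
  obtain ⟨n, hn⟩ := cycleType_prime_order (ho ▸ hp)
  rw [ho] at hn
  exact ⟨n, hn, by simpa [hn, add_mul, add_comm] using σ.sum_cycleType_le⟩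

theorem both_five {w : Perm (ZMod 5)} (hw : w ^ 5 = 1) (h1 : w ≠ 1) : Both 5 (Equiv.addRight (1 : ZMod 5)) w := by
  obtain ⟨n, hn, hle⟩ := cyc_prime Nat.prime_five hw h1
  obtain rfl : n = 0 := by rw [ZMod.card] at hle; omega
  refine (both_of_two (w := List.formPerm [0, 1, 2, 4, 3]) (ρ := swap 1 3) ?_ ?_ (by decide +kernel)).conj (IsConj.refl _)
    (isConj_iff_cycleType_eq.2 (hn ▸ by decide +kernel))
  · exact good_small (m := 2) (by norm_num) (mul_mem (mul_mem mw mw) mw) mw (by decide +kernel) (by decide +kernel) (by decide +kernel)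
      (by decide +kernel)
  · exact good_small (m := 3) (by norm_num) mw (mul_mem mw mw) (by decide +kernel) (by decide +kernel) (by decide +kernel) (by decide +kernel)

theorem both_fin5 {u w : Perm (Fin 5)} (hu : u ^ 3 = 1) (hu1 : u ≠ 1) (hw : w ^ 3 = 1) (hw1 : w ≠ 1) : Both 3 u w := by
  obtain ⟨n, hn, hle⟩ := cyc_prime Nat.prime_three hu hu1
  obtain ⟨m, hm, hle'⟩ := cyc_prime Nat.prime_three hw hw1
  rw [Fintype.card_fin] at hle hle'
  obtain rfl : n = 0 := by omega
  obtain rfl : m = 0 := by omega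
  have h : Good 3 (List.formPerm [0, 1, 2] : Perm (Fin 5)) (List.formPerm [2, 3, 4]) :=
    good_A (by decide +kernel) (by decide +kernel) (by decide +kernel) (by decide +kernel)
  exact (both_of_two (ρ := swap 0 1) h (by convert h using 1; decide +kernel) (by decide +kernel)).conj
    (isConj_iff_cycleType_eq.2 (hn ▸ by decide +kernel)) (isConj_iff_cycleType_eq.2 (hm ▸ by decide +kernel))

theorem both_fin6 {u w : Perm (Fin 6)} (hu : u ^ 3 = 1) (hu1 : u ≠ 1) (hw : w ^ 3 = 1) (hw1 : w ≠ 1) : Both 3 u w := by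
  obtain ⟨n, hn, hle⟩ := cyc_prime Nat.prime_three hu hu1
  obtain ⟨m, hm, hle'⟩ := cyc_prime Nat.prime_three hw hw1
  rw [Fintype.card_fin] at hle hle'
  obtain rfl | rfl : n = 0 ∨ n = 1 := by omega
  all_goals obtain rfl | rfl : m = 0 ∨ m = 1 := by omega
  · have h : Good 3 (List.formPerm [0, 1, 2] : Perm (Fin 6)) (List.formPerm [2, 3, 4]) :=
      good_A (by decide +kernel) (by decide +kernel) (by decide +kernel) (by decide +kernel)
    exact (both_of_two (ρ := swap 0 1) h (by convert h using 1; decide +kernel) (by decide +kernel)).conj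
      (isConj_iff_cycleType_eq.2 (hn ▸ by decide +kernel)) (isConj_iff_cycleType_eq.2 (hm ▸ by decide +kernel))
  · have h : Good 3 (List.formPerm [0, 1, 2] : Perm (Fin 6)) (List.formPerm [0, 2, 4] * List.formPerm [1, 3, 5]) :=
      good_B (by decide +kernel) (by decide +kernel) (by decide +kernel) (by decide +kernel)
    exact (both_of_two (ρ := swap 0 1 * swap 2 3 * swap 4 5) h (by convert h using 1; decide +kernel) (by decide +kernel)).conj
      (isConj_iff_cycleType_eq.2 (hn ▸ by decide +kernel)) (isConj_iff_cycleType_eq.2 (hm ▸ by decide +kernel))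
  · have h : Good 3 (List.formPerm [0, 1, 2] * List.formPerm [3, 4, 5] : Perm (Fin 6)) (List.formPerm [2, 3, 5]) :=
      good_B (by decide +kernel) (by decide +kernel) (by decide +kernel) (by decide +kernel)
    exact (both_of_two (ρ := swap 0 1) h (by convert h using 1; decide +kernel) (by decide +kernel)).conj
      (isConj_iff_cycleType_eq.2 (hn ▸ by decide +kernel)) (isConj_iff_cycleType_eq.2 (hm ▸ by decide +kernel))
  · have h : Good 3 (List.formPerm [0, 1, 2] * List.formPerm [3, 4, 5] : Perm (Fin 6))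
        (List.formPerm [0, 1, 3] * List.formPerm [2, 5, 4]) := good_A (by decide +kernel) (by decide +kernel) (by decide +kernel) (by decide +kernel)
    exact (both_of_two (ρ := swap 0 2 * swap 1 5 * swap 3 4) h (by convert h using 1; decide +kernel) (by decide +kernel)).conj
      (isConj_iff_cycleType_eq.2 (hn ▸ by decide +kernel)) (isConj_iff_cycleType_eq.2 (hm ▸ by decide +kernel))

end small

end CL.Known.FreePair
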