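/-
Tables and a stabiliser chain for Co1 on the lattice modulo 2: checks (generated by tools/pc/gm.py).
-/
import Cfsg.Agent.Known.GCo1A

set_option autoImplicit false
set_option maxRecDepth 100000
set_option linter.all false

namespace CL.Pc.GCo1
open Cfsg CL.Spor

open scoped CL.Spor.Leech
theorem a1_pt_53 : allR (ptChk A 12 16777216 7 a1) 73564 1388 = true := by decide +kernel
theorem a1_pt_54 : allR (ptChk A 12 16777216 7 a1) 74952 1388 = true := by decide +kernel
theorem a1_pt_55 : allR (ptChk A 12 16777216 7 a1) 76340 1388 = true := by decide +kernel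
theorem a1_pt_56 : allR (ptChk A 12 16777216 7 a1) 77728 1388 = true := by decide +kernel
theorem a1_pt_57 : allR (ptChk A 12 16777216 7 a1) 79116 1388 = true := by decide +kernel
theorem a1_pt_58 : allR (ptChk A 12 16777216 7 a1) 80504 1388 = true := by decide +kernel
theorem a1_pt_59 : allR (ptChk A 12 16777216 7 a1) 81892 1388 = true := by decide +kernel
theorem a1_pt_60 : allR (ptChk A 12 16777216 7 a1) 83280 1388 = true := by decide +kernel
theorem a1_pt_61 : allR (ptChk A 12 16777216 7 a1) 84668 1388 = true := by decide +kernel
theorem a1_pt_62 : allR (ptChk A 12 16777216 7 a1) 86056 1388 = true := by decide +kernel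
theorem a1_pt_63 : allR (ptChk A 12 16777216 7 a1) 87444 1388 = true := by decide +kernel
theorem a1_pt_64 : allR (ptChk A 12 16777216 7 a1) 88832 1388 = true := by decide +kernel
theorem a1_pt_65 : allR (ptChk A 12 16777216 7 a1) 90220 1388 = true := by decide +kernel
theorem a1_pt_66 : allR (ptChk A 12 16777216 7 a1) 91608 1388 = true := by decide +kernel
theorem a1_pt_67 : allR (ptChk A 12 16777216 7 a1) 92996 1388 = true := by decide +kernel
theorem a1_pt_68 : allR (ptChk A 12 16777216 7 a1) 94384 1388 = true := by decide +kernel
theorem a1_pt_69 : allR (ptChk A 12 16777216 7 a1) 95772 1388 = true := by decide +kernel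
theorem a1_pt_70 : allR (ptChk A 12 16777216 7 a1) 97160 1120 = true := by decide +kernel
theorem a2_fix : fixChk (A) 30 16777216 [1676] a2 = true := by decide +kernel
theorem a2_pt_0 : allR (ptChk (A) 30 16777216 10 a2) 0 925 = true := by decide +kernel
theorem a2_pt_1 : allR (ptChk (A) 30 16777216 10 a2) 925 925 = true := by decide +kernel
theorem a2_pt_2 : allR (ptChk (A) 30 16777216 10 a2) 1850 925 = true := by decide +kernel
theorem a2_pt_3 : allR (ptChk (A) 30 16777216 10 a2) 2775 925 = true := by decide +kernel
theorem a2_pt_4 : allR (ptChk (A) 30 16777216 10 a2) 3700 900 = true := by decide +kernel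
theorem a3_fix : fixChk (A) 30 16777216 [12933350, 1676] a3 = true := by decide +kernel
theorem a3_pt_0 : allR (ptChk (A) 30 16777216 10 a3) 0 925 = true := by decide +kernel
theorem a3_pt_1 : allR (ptChk (A) 30 16777216 10 a3) 925 925 = true := by decide +kernel
theorem a3_pt_2 : allR (ptChk (A) 30 16777216 10 a3) 1850 925 = true := by decide +kernel
theorem a3_pt_3 : allR (ptChk (A) 30 16777216 10 a3) 2775 41 = true := by decide +kernel
theorem a4_fix : fixChk (A) 30 16777216 [14001150, 12933350, 1676] a4 = true := by decide +kernel
theorem a4_pt_0 : allR (ptChk (A) 30 16777216 10 a4) 0 1041 = true := by decide +kernel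
theorem a4_pt_1 : allR (ptChk (A) 30 16777216 10 a4) 1041 255 = true := by decide +kernel
theorem a5_fix : fixChk (A) 30 16777216 [1903959, 14001150, 12933350, 1676] a5 = true := by decide +kernel
theorem a5_pt_0 : allR (ptChk (A) 30 16777216 10 a5) 0 420 = true := by decide +kernel
theorem a6_fix : fixChk (A) 30 16777216 [2443164, 1903959, 14001150, 12933350, 1676] a6 = true := by decide +kernel
theorem a6_pt_0 : allR (ptChk (A) 30 16777216 10 a6) 0 6 = true := by decide +kernel
theorem a7_fix : fixChk (A) 30 16777216 [10257854, 2443164, 1903959, 14001150, 12933350, 1676] a7 = true := by decide +kernel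
theorem a7_pt_0 : allR (ptChk (A) 30 16777216 10 a7) 0 1 = true := by decide +kernel

end CL.Pc.GCo1
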