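/-
The 3-part of the multiplier of Co2 (generated by tools/pc/gm.py).
-/
import Cfsg.Agent.Known.GCo2

set_option autoImplicit false
set_option maxRecDepth 100000
set_option linter.all false

namespace CL.Pc.GCo2
open Cfsg CL.Spor

namespace P3
noncomputable def WT : ℕ := 0x2a9a681c79c71e49861851829041040820225534d239040e40e28b24b2cb28814820104304404110000002c99a79a79261861230c38a38a08618418418600005934d234f3cd30c30930a2082051c51021020830000008a699e79a81c61459249828a28e30c302182081349450d35040e3ca2cb2492082082080830c10c30c0000024a1c79e6a049861829040a4100820861841860000000000000000000000000000000000000000000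
def relT : ℕ := 0x180000030000006000000c00000180000000000000000c30a00006140030c28006185000000000000000000c20006144000030800000000000006185143000000600000000000c341030c2000000000000000000000000000
def dT : ℕ := 0x1ac688
def eT : ℕ := 0x1800000000207451040c3041000030c28a080000c2081040000000c18200000000000
def D : Data :=
  ⟨3, 6, 4096, 65, 3, 14, 35, 297, 16, fun i j => tget 27 0x7ffffff relT (tri i j), 28, 7, 1,
    fun k l => tget 3 7 dT (Nat.add (Nat.mul 7 k) l), fun k l => tget 45 0x1fffffffffff eT (Nat.add (Nat.mul 7 k) l)⟩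
def S : Fin2 :=
  ⟨29, 3, [0, 0x201, 0xb0700501, 0x901, 0x90800403, 0xb0300803, 0xb06],
    [0, 0, 0, 0, 0, 0, 0, 0x102000002000000010001020001, 0, 0, 0, 0, 0x202010202020000010002010002010201, 0x200010201000100020201000000, 0x20000010001000000, 0, 0x100020100000000010102020100, 0x101000001010100020202010200000102, 0x2020202000000000101020101, 0x1010101000200010202010001, 0x2020100020000, 0, 0x200020000, 2, 0x200010000, 0x20102020000, 0x2000000, 0x100],
    []⟩
def r0 : List RelC := [⟨0, 2, 0x2082, 0x1701⟩, ⟨0, 4, 0x1041, 0x1b02⟩, ⟨0, 4, 0x43, 0x180101602⟩, ⟨0, 6, 0x84, 0x1a01⟩, ⟨0, 5, 0x43, 0x180201602⟩, ⟨0, 5, 0xc4, 0x1a020190101801⟩, ⟨0, 0x104, 0x84, 0x1a010190201401⟩, ⟨0, 4, 0x83, 0x1b0201a020190101801017020130101201⟩, ⟨0, 2, 0x1041, 0x19010180100e0100901⟩, ⟨0, 4, 0x42, 0x1b0201a0101902017010160201302012020100200d02⟩, ⟨1, 0x45, 0x186141, 0x2201019020100200d0100b0100701⟩, ⟨1, 0x43, 0xc1, 0x1b0201a0101601012020100200701⟩, ⟨1, 0xc5, 0x6143, 0x220201b0101a0201902018010130100b0100701⟩, ⟨1, 0x44, 0x6101, 0x22020180101601012020100200d0200b01⟩,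 ⟨1, 0x85, 0x186142, 0x220101b0201a010190101801017020160101402013010110200d0100c0200b020080200702⟩, ⟨1, 0x83, 0x1861450c2, 0x22010210101a020190101602014010130201202011010100100e0100d0100c01009010070200401⟩, ⟨1, 0x84, 0x185102, 0x22020210201a0201901018020160201301011010100100d0100c020070100402⟩]
def rels : List RelC := (r0 ++ [])
noncomputable def W (i : ℕ) : ℕ := tget 173 0x1fffffffffffffffffffffffffffffffffffffffffff WT i
def ch : List (ℕ × ℕ × List ℕ) := [(0xa34, 4600, [2]), (1, 4600, [6, 5, 4]), (5, 4600, [1]), (0, 4600, [3])]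
theorem r0_ok : allL (chkRel D) r0 = true := by decide +kernel
theorem g1 : goalsChk D S (rels.map (·.s)) 1 6 = true := by decide +kernel
theorem w1 : rowsChk D (eqB (lazyA A 30 W) (D.n + D.NF) 10 [49, 2727, 1005, 4556, 2879, 3212, 3452]) 1 6 = true := by decide +kernel
theorem f0 : fusChk D (eqB (lazyA A 30 W) (D.n + D.NF) 10 [49, 2727, 1005, 4556, 2879, 3212, 3452]) 0 = true := by decide +kernel
theorem ch_ok : chainChk (lazyA A 30 W) D.n 10 2 ch [] (D.p ^ D.n) = true := by decide +kernel
theorem params : Params D S rels 0 :=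
  ⟨(by norm_num : Nat.Prime 3), by decide +kernel, by decide +kernel, by decide +kernel, by decide +kernel,
    by decide +kernel, by decide +kernel, by decide +kernel, by decide +kernel, by decide +kernel,
    by decide +kernel, by decide +kernel⟩
theorem checks : Checks D S rels :=
  ⟨by decide +kernel, allL_app r0_ok (allL_end), cover_step g1 (cover_end (by decide)), by decide +kernel⟩
universe u
variable {G : Type u} {X : Type*} [Group G] [MulAction G X] {pt : ℕ → X} {x : ℕ → G}
theorem bound (h : Ful pt x) : PBound G 3 0 :=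
  h.pbound params checks (cover_step w1 (cover_end (by decide))) (show ∀ k < 1, _ from below_step f0 (below_end)) ch_ok (by decide +kernel)
end P3

end CL.Pc.GCo2
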