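/-
The presentation of Fi22 (generated by tools/pc/gm.py).
-/
import Cfsg.Agent.Known.GFi22
import Cfsg.Agent.Known.PcCox
import Cfsg.Agent.Spor.Fi22Ub

set_option autoImplicit false
set_option maxRecDepth 100000
set_option linter.all false

namespace CL.Pc.GFi22
open Cfsg CL.Spor

noncomputable def rs0 : List (ℕ × ℕ) := [(0x618, 0), (0x658658658, 0), (0x698698, 0), (0x6d86d8, 0), (0x718718, 0), (0x7d87d8, 0), (0x758758, 0), (0x798798, 0), (0x818818, 0), (0x659, 0), (0x699699699, 0), (0x6d96d9, 0), (0x719719, 0), (0x7d97d9, 0), (0x759759, 0), (0x799799, 0), (0x819819, 0), (0x69a, 0), (0x6da6da6da, 0), (0x71a71a, 0), (0x7da7da, 0), (0x75a75a, 0), (0x79a79a, 0), (0x81a81a, 0), (0x6db, 0), (0x71b71b71b, 0), (0x7db7db7db, 0), (0x75b75b, 0), (0x79b79b, 0), (0x81b81b, 0), (0x71c, 0), (0x7dc7dc, 0), (0x75c75c75c, 0), (0x79c79c, 0), (0x81c81c, 0), (0x7df, 0), (0x75f75f, 0), (0x79f79f, 0), (0x81f81f81f, 0), (0x75d, 0), (0x79d79d79d,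 0), (0x81d81d, 0), (0x79e, 0), (0x81e81e, 0), (0x820, 0), (0x81f6dd71b65a6e07db75c6d969b81f6dd71b65a6e07db75c6d969b81f6dd71b65a6e07db75c6d969b81f6dd71b65a6e07db75c6d969b81f6dd71b65a6e07db75c6d969b, 0), (0x1f75c6da6587dd71b69961f75c6da6587dd71b69961f75c6da6587dd71b69961f75c6da6587dd71b69961f75c6da658, 0), (0x1f79d71b6997de75c6da65f79d71b6997de75c6da65f79d71b6997de75c6da65f79d71b6997de75c6da65f79d71b699, 0), (0x275a71d71b6a0, 0), (0x471e7597e061b, 0), (0x184083044084, 0), (0x2030c3083044, 0), (0xa1c5208208, 0), (0xc1862061871c7, 0), (0xe24930924c, 0), (0x1024924c24930a, 0), (0x48a28a2ca2c92ca, 0), (0x13391352, 0), (0x153513d248e, 0), (0x595555, 0), (0x5d3553553, 0), (0x81, 0), (0x103, 0), (0x185, 0), (0x207, 0), (0x289, 0), (0x30b, 0), (0x38d, 0), (0x40f, 0), (0x491, 0), (0x554, 0)]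
noncomputable def rs : List (ℕ × ℕ) := (rs0 ++ [])
def gens : List Spor.Fi22.Gen := [.a, .b, .c, .d, .e, .f, .g, .h, .i]
def ix : Spor.Fi22.Gen → ℕ := fun a => match a with | .a => 24 | .b => 25 | .c => 26 | .d => 27 | .e => 28 | .f => 29 | .g => 30 | .h => 31 | .i => 32
def jx : Spor.Fi22.Gen → ℕ := fun a => match a with | .a => 24 | .b => 25 | .c => 26 | .d => 27 | .e => 28 | .f => 29 | .g => 30 | .h => 31 | .i => 32
theorem rs0_ok : allL (fun p : ℕ × ℕ => eqB A 32 91 [21, 611, 1216, 367, 980, 1268, 231] p.1 p.2) rs0 = true := by decide +kernel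
theorem rs_ok : ∀ p ∈ rs, (fun p : ℕ × ℕ => eqB A 32 91 [21, 611, 1216, 367, 980, 1268, 231] p.1 p.2) p = true :=
  allL_app rs0_ok (allL_end)
theorem gens_all : ∀ a, a ∈ gens := fun a => by cases a <;> decide
universe u
theorem ub : CoxUb.{u} Spor.Fi22.edges Spor.Fi22.extra gens 64561751654400 := fun _ _ _ h => CL.Fi22P.cardA h
theorem pres : PresBound.{u} rs 32 64561751654400 :=
  ub.presBound (ix := ix) (jx := jx) (f := 91) (m := 8573157376) (defs := [(2, 0x75a71d71b6a0), (1, 2), (2, 1), (4, 0x71e7597e061b), (3, 4), (4, 3), (6, 0x4083044084), (5, 6), (6, 5), (8, 0x30c3083044), (7, 8), (8, 7), (10, 0x1c5208208), (9, 0xa), (10, 9), (12, 0x1862061871c7), (11, 0xc), (12, 0xb), (14, 0x24930924c), (13, 0xe), (14, 0xd), (16, 0x24924c24930a), (15, 0x10), (16, 0xf), (18, 0xa28a2ca2c92ca), (17, 0x12), (18, 0x11), (19, 0x391352), (21, 0x3513d248e), (20, 0x15), (21, 0x14), (22, 0x15555), (23, 0x13553553)]) gens_all (by decide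 +kernel)

end CL.Pc.GFi22
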