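/-
A cover of Fi24 from a labelled action on 306936 points: checks (generated by tools/pc/gm.py).
-/
import Cfsg.Agent.Known.GFi24C3A

set_option autoImplicit false
set_option maxRecDepth 100000
set_option linter.all false
set_option Elab.async false

namespace CL.Pc.GFi24
open Cfsg CL.Spor

namespace C3
theorem c0_0 : allL (netRel 920808 20 0 ns lm (25 + 1) 276 0) (PG.takeL 11 (RL)) = true := by decide +kernel
theorem c0_1 : allL (netRel 920808 20 0 ns lm (25 + 1) 276 0) (PG.takeL 11 (PG.dropL 11 (RL))) = true := by decide +kernel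
theorem c0_2 : allL (netRel 920808 20 0 ns lm (25 + 1) 276 0) (PG.takeL 12 (PG.dropL 11 (PG.dropL 11 (RL)))) = true := by decide +kernel
theorem c0_3 : allL (netRel 920808 20 0 ns lm (25 + 1) 276 0) (PG.takeL 11 (PG.dropL 12 (PG.dropL 11 (PG.dropL 11 (RL))))) = true := by decide +kernel
theorem c0_4 : allL (netRel 920808 20 0 ns lm (25 + 1) 276 0) (PG.takeL 11 (PG.dropL 11 (PG.dropL 12 (PG.dropL 11 (PG.dropL 11 (RL)))))) = true := by decide +kernel
theorem c0_5 : allL (netRel 920808 20 0 ns lm (25 + 1) 276 0) (PG.takeL 11 (PG.dropL 11 (PG.dropL 11 (PG.dropL 12 (PG.dropL 11 (PG.dropL 11 (RL))))))) = true := by decide +kernel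
theorem c0_6 : allL (netRel 920808 20 0 ns lm (25 + 1) 276 0) (PG.takeL 11 (PG.dropL 11 (PG.dropL 11 (PG.dropL 11 (PG.dropL 12 (PG.dropL 11 (PG.dropL 11 (RL)))))))) = true := by decide +kernel
theorem c0_7 : allL (netRel 920808 20 0 ns lm (25 + 1) 276 0) (PG.takeL 1 (PG.dropL 11 (PG.dropL 11 (PG.dropL 11 (PG.dropL 11 (PG.dropL 12 (PG.dropL 11 (PG.dropL 11 (RL))))))))) = true := by decide +kernel
theorem c0_8 : allL (netRel 920808 20 0 ns lm (25 + 1) 276 0) (PG.takeL 9 (PG.dropL 1 (PG.dropL 11 (PG.dropL 11 (PG.dropL 11 (PG.dropL 11 (PG.dropL 12 (PG.dropL 11 (PG.dropL 11 (RL)))))))))) = true := by decide +kernel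
theorem c0_9 : allL (netRel 920808 20 0 ns lm (25 + 1) 276 0) (PG.dropL 9 (PG.dropL 1 (PG.dropL 11 (PG.dropL 11 (PG.dropL 11 (PG.dropL 11 (PG.dropL 12 (PG.dropL 11 (PG.dropL 11 (RL)))))))))) = true := by decide +kernel
theorem c1_0 : allL (netRel 920808 20 0 ns lm (25 + 1) 276 1) (PG.takeL 11 (RL)) = true := by decide +kernel
theorem c1_1 : allL (netRel 920808 20 0 ns lm (25 + 1) 276 1) (PG.takeL 11 (PG.dropL 11 (RL))) = true := by decide +kernel
theorem c1_2 : allL (netRel 920808 20 0 ns lm (25 + 1) 276 1) (PG.takeL 12 (PG.dropL 11 (PG.dropL 11 (RL)))) = true := by decide +kernel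
theorem c1_3 : allL (netRel 920808 20 0 ns lm (25 + 1) 276 1) (PG.takeL 11 (PG.dropL 12 (PG.dropL 11 (PG.dropL 11 (RL))))) = true := by decide +kernel
theorem c1_4 : allL (netRel 920808 20 0 ns lm (25 + 1) 276 1) (PG.takeL 11 (PG.dropL 11 (PG.dropL 12 (PG.dropL 11 (PG.dropL 11 (RL)))))) = true := by decide +kernel
theorem c1_5 : allL (netRel 920808 20 0 ns lm (25 + 1) 276 1) (PG.takeL 11 (PG.dropL 11 (PG.dropL 11 (PG.dropL 12 (PG.dropL 11 (PG.dropL 11 (RL))))))) = true := by decide +kernel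
theorem c1_6 : allL (netRel 920808 20 0 ns lm (25 + 1) 276 1) (PG.takeL 11 (PG.dropL 11 (PG.dropL 11 (PG.dropL 11 (PG.dropL 12 (PG.dropL 11 (PG.dropL 11 (RL)))))))) = true := by decide +kernel
theorem c1_7 : allL (netRel 920808 20 0 ns lm (25 + 1) 276 1) (PG.takeL 1 (PG.dropL 11 (PG.dropL 11 (PG.dropL 11 (PG.dropL 11 (PG.dropL 12 (PG.dropL 11 (PG.dropL 11 (RL))))))))) = true := by decide +kernel
theorem c1_8 : allL (netRel 920808 20 0 ns lm (25 + 1) 276 1) (PG.takeL 9 (PG.dropL 1 (PG.dropL 11 (PG.dropL 11 (PG.dropL 11 (PG.dropL 11 (PG.dropL 12 (PG.dropL 11 (PG.dropL 11 (RL)))))))))) = true := by decide +kernel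
theorem c1_9 : allL (netRel 920808 20 0 ns lm (25 + 1) 276 1) (PG.dropL 9 (PG.dropL 1 (PG.dropL 11 (PG.dropL 11 (PG.dropL 11 (PG.dropL 11 (PG.dropL 12 (PG.dropL 11 (PG.dropL 11 (RL)))))))))) = true := by decide +kernel
theorem c2_0 : allL (netRel 920808 20 0 ns lm (25 + 1) 276 2) (PG.takeL 11 (RL)) = true := by decide +kernel
theorem c2_1 : allL (netRel 920808 20 0 ns lm (25 + 1) 276 2) (PG.takeL 11 (PG.dropL 11 (RL))) = true := by decide +kernel
theorem c2_2 : allL (netRel 920808 20 0 ns lm (25 + 1) 276 2) (PG.takeL 12 (PG.dropL 11 (PG.dropL 11 (RL)))) = true := by decide +kernel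
theorem c2_3 : allL (netRel 920808 20 0 ns lm (25 + 1) 276 2) (PG.takeL 11 (PG.dropL 12 (PG.dropL 11 (PG.dropL 11 (RL))))) = true := by decide +kernel
theorem c2_4 : allL (netRel 920808 20 0 ns lm (25 + 1) 276 2) (PG.takeL 11 (PG.dropL 11 (PG.dropL 12 (PG.dropL 11 (PG.dropL 11 (RL)))))) = true := by decide +kernel
theorem c2_5 : allL (netRel 920808 20 0 ns lm (25 + 1) 276 2) (PG.takeL 11 (PG.dropL 11 (PG.dropL 11 (PG.dropL 12 (PG.dropL 11 (PG.dropL 11 (RL))))))) = true := by decide +kernel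
theorem c2_6 : allL (netRel 920808 20 0 ns lm (25 + 1) 276 2) (PG.takeL 11 (PG.dropL 11 (PG.dropL 11 (PG.dropL 11 (PG.dropL 12 (PG.dropL 11 (PG.dropL 11 (RL)))))))) = true := by decide +kernel
theorem c2_7 : allL (netRel 920808 20 0 ns lm (25 + 1) 276 2) (PG.takeL 1 (PG.dropL 11 (PG.dropL 11 (PG.dropL 11 (PG.dropL 11 (PG.dropL 12 (PG.dropL 11 (PG.dropL 11 (RL))))))))) = true := by decide +kernel
theorem c2_8 : allL (netRel 920808 20 0 ns lm (25 + 1) 276 2) (PG.takeL 9 (PG.dropL 1 (PG.dropL 11 (PG.dropL 11 (PG.dropL 11 (PG.dropL 11 (PG.dropL 12 (PG.dropL 11 (PG.dropL 11 (RL)))))))))) = true := by decide +kernel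
theorem c2_9 : allL (netRel 920808 20 0 ns lm (25 + 1) 276 2) (PG.dropL 9 (PG.dropL 1 (PG.dropL 11 (PG.dropL 11 (PG.dropL 11 (PG.dropL 11 (PG.dropL 12 (PG.dropL 11 (PG.dropL 11 (RL)))))))))) = true := by decide +kernel
theorem c3_0 : allL (netRel 920808 20 0 ns lm (25 + 1) 276 3) (PG.takeL 11 (RL)) = true := by decide +kernel
theorem c3_1 : allL (netRel 920808 20 0 ns lm (25 + 1) 276 3) (PG.takeL 11 (PG.dropL 11 (RL))) = true := by decide +kernel
theorem c3_2 : allL (netRel 920808 20 0 ns lm (25 + 1) 276 3) (PG.takeL 12 (PG.dropL 11 (PG.dropL 11 (RL)))) = true := by decide +kernel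
theorem c3_3 : allL (netRel 920808 20 0 ns lm (25 + 1) 276 3) (PG.takeL 11 (PG.dropL 12 (PG.dropL 11 (PG.dropL 11 (RL))))) = true := by decide +kernel
theorem c3_4 : allL (netRel 920808 20 0 ns lm (25 + 1) 276 3) (PG.takeL 11 (PG.dropL 11 (PG.dropL 12 (PG.dropL 11 (PG.dropL 11 (RL)))))) = true := by decide +kernel
theorem c3_5 : allL (netRel 920808 20 0 ns lm (25 + 1) 276 3) (PG.takeL 11 (PG.dropL 11 (PG.dropL 11 (PG.dropL 12 (PG.dropL 11 (PG.dropL 11 (RL))))))) = true := by decide +kernel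
theorem c3_6 : allL (netRel 920808 20 0 ns lm (25 + 1) 276 3) (PG.takeL 11 (PG.dropL 11 (PG.dropL 11 (PG.dropL 11 (PG.dropL 12 (PG.dropL 11 (PG.dropL 11 (RL)))))))) = true := by decide +kernel
theorem c3_7 : allL (netRel 920808 20 0 ns lm (25 + 1) 276 3) (PG.takeL 1 (PG.dropL 11 (PG.dropL 11 (PG.dropL 11 (PG.dropL 11 (PG.dropL 12 (PG.dropL 11 (PG.dropL 11 (RL))))))))) = true := by decide +kernel
theorem c3_8 : allL (netRel 920808 20 0 ns lm (25 + 1) 276 3) (PG.takeL 9 (PG.dropL 1 (PG.dropL 11 (PG.dropL 11 (PG.dropL 11 (PG.dropL 11 (PG.dropL 12 (PG.dropL 11 (PG.dropL 11 (RL)))))))))) = true := by decide +kernel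
theorem c3_9 : allL (netRel 920808 20 0 ns lm (25 + 1) 276 3) (PG.dropL 9 (PG.dropL 1 (PG.dropL 11 (PG.dropL 11 (PG.dropL 11 (PG.dropL 11 (PG.dropL 12 (PG.dropL 11 (PG.dropL 11 (RL)))))))))) = true := by decide +kernel
theorem c4_0 : allL (netRel 920808 20 0 ns lm (25 + 1) 276 4) (PG.takeL 11 (RL)) = true := by decide +kernel
theorem c4_1 : allL (netRel 920808 20 0 ns lm (25 + 1) 276 4) (PG.takeL 11 (PG.dropL 11 (RL))) = true := by decide +kernel
theorem c4_2 : allL (netRel 920808 20 0 ns lm (25 + 1) 276 4) (PG.takeL 12 (PG.dropL 11 (PG.dropL 11 (RL)))) = true := by decide +kernel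
theorem c4_3 : allL (netRel 920808 20 0 ns lm (25 + 1) 276 4) (PG.takeL 11 (PG.dropL 12 (PG.dropL 11 (PG.dropL 11 (RL))))) = true := by decide +kernel
theorem c4_4 : allL (netRel 920808 20 0 ns lm (25 + 1) 276 4) (PG.takeL 11 (PG.dropL 11 (PG.dropL 12 (PG.dropL 11 (PG.dropL 11 (RL)))))) = true := by decide +kernel
theorem c4_5 : allL (netRel 920808 20 0 ns lm (25 + 1) 276 4) (PG.takeL 11 (PG.dropL 11 (PG.dropL 11 (PG.dropL 12 (PG.dropL 11 (PG.dropL 11 (RL))))))) = true := by decide +kernel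
theorem c4_6 : allL (netRel 920808 20 0 ns lm (25 + 1) 276 4) (PG.takeL 11 (PG.dropL 11 (PG.dropL 11 (PG.dropL 11 (PG.dropL 12 (PG.dropL 11 (PG.dropL 11 (RL)))))))) = true := by decide +kernel
theorem c4_7 : allL (netRel 920808 20 0 ns lm (25 + 1) 276 4) (PG.takeL 1 (PG.dropL 11 (PG.dropL 11 (PG.dropL 11 (PG.dropL 11 (PG.dropL 12 (PG.dropL 11 (PG.dropL 11 (RL))))))))) = true := by decide +kernel
theorem c4_8 : allL (netRel 920808 20 0 ns lm (25 + 1) 276 4) (PG.takeL 9 (PG.dropL 1 (PG.dropL 11 (PG.dropL 11 (PG.dropL 11 (PG.dropL 11 (PG.dropL 12 (PG.dropL 11 (PG.dropL 11 (RL)))))))))) = true := by decide +kernel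
theorem c4_9 : allL (netRel 920808 20 0 ns lm (25 + 1) 276 4) (PG.dropL 9 (PG.dropL 1 (PG.dropL 11 (PG.dropL 11 (PG.dropL 11 (PG.dropL 11 (PG.dropL 12 (PG.dropL 11 (PG.dropL 11 (RL)))))))))) = true := by decide +kernel
theorem c5_0 : allL (netRel 920808 20 0 ns lm (25 + 1) 276 5) (PG.takeL 11 (RL)) = true := by decide +kernel
theorem c5_1 : allL (netRel 920808 20 0 ns lm (25 + 1) 276 5) (PG.takeL 11 (PG.dropL 11 (RL))) = true := by decide +kernel
theorem c5_2 : allL (netRel 920808 20 0 ns lm (25 + 1) 276 5) (PG.takeL 12 (PG.dropL 11 (PG.dropL 11 (RL)))) = true := by decide +kernel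
theorem c5_3 : allL (netRel 920808 20 0 ns lm (25 + 1) 276 5) (PG.takeL 11 (PG.dropL 12 (PG.dropL 11 (PG.dropL 11 (RL))))) = true := by decide +kernel
theorem c5_4 : allL (netRel 920808 20 0 ns lm (25 + 1) 276 5) (PG.takeL 11 (PG.dropL 11 (PG.dropL 12 (PG.dropL 11 (PG.dropL 11 (RL)))))) = true := by decide +kernel
theorem c5_5 : allL (netRel 920808 20 0 ns lm (25 + 1) 276 5) (PG.takeL 11 (PG.dropL 11 (PG.dropL 11 (PG.dropL 12 (PG.dropL 11 (PG.dropL 11 (RL))))))) = true := by decide +kernel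
theorem c5_6 : allL (netRel 920808 20 0 ns lm (25 + 1) 276 5) (PG.takeL 11 (PG.dropL 11 (PG.dropL 11 (PG.dropL 11 (PG.dropL 12 (PG.dropL 11 (PG.dropL 11 (RL)))))))) = true := by decide +kernel
theorem c5_7 : allL (netRel 920808 20 0 ns lm (25 + 1) 276 5) (PG.takeL 1 (PG.dropL 11 (PG.dropL 11 (PG.dropL 11 (PG.dropL 11 (PG.dropL 12 (PG.dropL 11 (PG.dropL 11 (RL))))))))) = true := by decide +kernel
theorem c5_8 : allL (netRel 920808 20 0 ns lm (25 + 1) 276 5) (PG.takeL 9 (PG.dropL 1 (PG.dropL 11 (PG.dropL 11 (PG.dropL 11 (PG.dropL 11 (PG.dropL 12 (PG.dropL 11 (PG.dropL 11 (RL)))))))))) = true := by decide +kernel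
theorem c5_9 : allL (netRel 920808 20 0 ns lm (25 + 1) 276 5) (PG.dropL 9 (PG.dropL 1 (PG.dropL 11 (PG.dropL 11 (PG.dropL 11 (PG.dropL 11 (PG.dropL 12 (PG.dropL 11 (PG.dropL 11 (RL)))))))))) = true := by decide +kernel
theorem c6_0 : allL (netRel 920808 20 0 ns lm (25 + 1) 276 6) (PG.takeL 11 (RL)) = true := by decide +kernel
theorem c6_1 : allL (netRel 920808 20 0 ns lm (25 + 1) 276 6) (PG.takeL 11 (PG.dropL 11 (RL))) = true := by decide +kernel
theorem c6_2 : allL (netRel 920808 20 0 ns lm (25 + 1) 276 6) (PG.takeL 12 (PG.dropL 11 (PG.dropL 11 (RL)))) = true := by decide +kernel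
theorem c6_3 : allL (netRel 920808 20 0 ns lm (25 + 1) 276 6) (PG.takeL 11 (PG.dropL 12 (PG.dropL 11 (PG.dropL 11 (RL))))) = true := by decide +kernel
theorem c6_4 : allL (netRel 920808 20 0 ns lm (25 + 1) 276 6) (PG.takeL 11 (PG.dropL 11 (PG.dropL 12 (PG.dropL 11 (PG.dropL 11 (RL)))))) = true := by decide +kernel
theorem c6_5 : allL (netRel 920808 20 0 ns lm (25 + 1) 276 6) (PG.takeL 11 (PG.dropL 11 (PG.dropL 11 (PG.dropL 12 (PG.dropL 11 (PG.dropL 11 (RL))))))) = true := by decide +kernel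
theorem c6_6 : allL (netRel 920808 20 0 ns lm (25 + 1) 276 6) (PG.takeL 11 (PG.dropL 11 (PG.dropL 11 (PG.dropL 11 (PG.dropL 12 (PG.dropL 11 (PG.dropL 11 (RL)))))))) = true := by decide +kernel
theorem c6_7 : allL (netRel 920808 20 0 ns lm (25 + 1) 276 6) (PG.takeL 1 (PG.dropL 11 (PG.dropL 11 (PG.dropL 11 (PG.dropL 11 (PG.dropL 12 (PG.dropL 11 (PG.dropL 11 (RL))))))))) = true := by decide +kernel
theorem c6_8 : allL (netRel 920808 20 0 ns lm (25 + 1) 276 6) (PG.takeL 9 (PG.dropL 1 (PG.dropL 11 (PG.dropL 11 (PG.dropL 11 (PG.dropL 11 (PG.dropL 12 (PG.dropL 11 (PG.dropL 11 (RL)))))))))) = true := by decide +kernel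
theorem c6_9 : allL (netRel 920808 20 0 ns lm (25 + 1) 276 6) (PG.dropL 9 (PG.dropL 1 (PG.dropL 11 (PG.dropL 11 (PG.dropL 11 (PG.dropL 11 (PG.dropL 12 (PG.dropL 11 (PG.dropL 11 (RL)))))))))) = true := by decide +kernel
theorem c7_0 : allL (netRel 920808 20 0 ns lm (25 + 1) 276 7) (PG.takeL 11 (RL)) = true := by decide +kernel
theorem c7_1 : allL (netRel 920808 20 0 ns lm (25 + 1) 276 7) (PG.takeL 11 (PG.dropL 11 (RL))) = true := by decide +kernel
theorem c7_2 : allL (netRel 920808 20 0 ns lm (25 + 1) 276 7) (PG.takeL 12 (PG.dropL 11 (PG.dropL 11 (RL)))) = true := by decide +kernel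
theorem c7_3 : allL (netRel 920808 20 0 ns lm (25 + 1) 276 7) (PG.takeL 11 (PG.dropL 12 (PG.dropL 11 (PG.dropL 11 (RL))))) = true := by decide +kernel
theorem c7_4 : allL (netRel 920808 20 0 ns lm (25 + 1) 276 7) (PG.takeL 11 (PG.dropL 11 (PG.dropL 12 (PG.dropL 11 (PG.dropL 11 (RL)))))) = true := by decide +kernel
theorem c7_5 : allL (netRel 920808 20 0 ns lm (25 + 1) 276 7) (PG.takeL 11 (PG.dropL 11 (PG.dropL 11 (PG.dropL 12 (PG.dropL 11 (PG.dropL 11 (RL))))))) = true := by decide +kernel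
theorem c7_6 : allL (netRel 920808 20 0 ns lm (25 + 1) 276 7) (PG.takeL 11 (PG.dropL 11 (PG.dropL 11 (PG.dropL 11 (PG.dropL 12 (PG.dropL 11 (PG.dropL 11 (RL)))))))) = true := by decide +kernel
theorem c7_7 : allL (netRel 920808 20 0 ns lm (25 + 1) 276 7) (PG.takeL 1 (PG.dropL 11 (PG.dropL 11 (PG.dropL 11 (PG.dropL 11 (PG.dropL 12 (PG.dropL 11 (PG.dropL 11 (RL))))))))) = true := by decide +kernel
end C3

end CL.Pc.GFi24
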