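/-
A cover of Fi24 from a labelled action on 306936 points: checks (generated by tools/pc/gm.py).
-/
import Cfsg.Agent.Known.GFi24C3A

set_option autoImplicit false
set_option maxRecDepth 100000
set_option linter.all false
set_option Elab.async false

namespace CL.Pc.GFi24
open Cfsg CL.Spor

namespace C3
theorem c7_8 : allL (netRel 920808 20 0 ns lm (25 + 1) 276 7) (PG.takeL 9 (PG.dropL 1 (PG.dropL 11 (PG.dropL 11 (PG.dropL 11 (PG.dropL 11 (PG.dropL 12 (PG.dropL 11 (PG.dropL 11 (RL)))))))))) = true := by decide +kernel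
theorem c7_9 : allL (netRel 920808 20 0 ns lm (25 + 1) 276 7) (PG.dropL 9 (PG.dropL 1 (PG.dropL 11 (PG.dropL 11 (PG.dropL 11 (PG.dropL 11 (PG.dropL 12 (PG.dropL 11 (PG.dropL 11 (RL)))))))))) = true := by decide +kernel
theorem c8_0 : allL (netRel 920808 20 0 ns lm (25 + 1) 276 8) (PG.takeL 11 (RL)) = true := by decide +kernel
theorem c8_1 : allL (netRel 920808 20 0 ns lm (25 + 1) 276 8) (PG.takeL 11 (PG.dropL 11 (RL))) = true := by decide +kernel
theorem c8_2 : allL (netRel 920808 20 0 ns lm (25 + 1) 276 8) (PG.takeL 12 (PG.dropL 11 (PG.dropL 11 (RL)))) = true := by decide +kernel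
theorem c8_3 : allL (netRel 920808 20 0 ns lm (25 + 1) 276 8) (PG.takeL 11 (PG.dropL 12 (PG.dropL 11 (PG.dropL 11 (RL))))) = true := by decide +kernel
theorem c8_4 : allL (netRel 920808 20 0 ns lm (25 + 1) 276 8) (PG.takeL 11 (PG.dropL 11 (PG.dropL 12 (PG.dropL 11 (PG.dropL 11 (RL)))))) = true := by decide +kernel
theorem c8_5 : allL (netRel 920808 20 0 ns lm (25 + 1) 276 8) (PG.takeL 11 (PG.dropL 11 (PG.dropL 11 (PG.dropL 12 (PG.dropL 11 (PG.dropL 11 (RL))))))) = true := by decide +kernel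
theorem c8_6 : allL (netRel 920808 20 0 ns lm (25 + 1) 276 8) (PG.takeL 11 (PG.dropL 11 (PG.dropL 11 (PG.dropL 11 (PG.dropL 12 (PG.dropL 11 (PG.dropL 11 (RL)))))))) = true := by decide +kernel
theorem c8_7 : allL (netRel 920808 20 0 ns lm (25 + 1) 276 8) (PG.takeL 1 (PG.dropL 11 (PG.dropL 11 (PG.dropL 11 (PG.dropL 11 (PG.dropL 12 (PG.dropL 11 (PG.dropL 11 (RL))))))))) = true := by decide +kernel
theorem c8_8 : allL (netRel 920808 20 0 ns lm (25 + 1) 276 8) (PG.takeL 9 (PG.dropL 1 (PG.dropL 11 (PG.dropL 11 (PG.dropL 11 (PG.dropL 11 (PG.dropL 12 (PG.dropL 11 (PG.dropL 11 (RL)))))))))) = true := by decide +kernel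
theorem c8_9 : allL (netRel 920808 20 0 ns lm (25 + 1) 276 8) (PG.dropL 9 (PG.dropL 1 (PG.dropL 11 (PG.dropL 11 (PG.dropL 11 (PG.dropL 11 (PG.dropL 12 (PG.dropL 11 (PG.dropL 11 (RL)))))))))) = true := by decide +kernel
theorem c9_0 : allL (netRel 920808 20 0 ns lm (25 + 1) 276 9) (PG.takeL 11 (RL)) = true := by decide +kernel
theorem c9_1 : allL (netRel 920808 20 0 ns lm (25 + 1) 276 9) (PG.takeL 11 (PG.dropL 11 (RL))) = true := by decide +kernel
theorem c9_2 : allL (netRel 920808 20 0 ns lm (25 + 1) 276 9) (PG.takeL 12 (PG.dropL 11 (PG.dropL 11 (RL)))) = true := by decide +kernel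
theorem c9_3 : allL (netRel 920808 20 0 ns lm (25 + 1) 276 9) (PG.takeL 11 (PG.dropL 12 (PG.dropL 11 (PG.dropL 11 (RL))))) = true := by decide +kernel
theorem c9_4 : allL (netRel 920808 20 0 ns lm (25 + 1) 276 9) (PG.takeL 11 (PG.dropL 11 (PG.dropL 12 (PG.dropL 11 (PG.dropL 11 (RL)))))) = true := by decide +kernel
theorem c9_5 : allL (netRel 920808 20 0 ns lm (25 + 1) 276 9) (PG.takeL 11 (PG.dropL 11 (PG.dropL 11 (PG.dropL 12 (PG.dropL 11 (PG.dropL 11 (RL))))))) = true := by decide +kernel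
theorem c9_6 : allL (netRel 920808 20 0 ns lm (25 + 1) 276 9) (PG.takeL 11 (PG.dropL 11 (PG.dropL 11 (PG.dropL 11 (PG.dropL 12 (PG.dropL 11 (PG.dropL 11 (RL)))))))) = true := by decide +kernel
theorem c9_7 : allL (netRel 920808 20 0 ns lm (25 + 1) 276 9) (PG.takeL 1 (PG.dropL 11 (PG.dropL 11 (PG.dropL 11 (PG.dropL 11 (PG.dropL 12 (PG.dropL 11 (PG.dropL 11 (RL))))))))) = true := by decide +kernel
theorem c9_8 : allL (netRel 920808 20 0 ns lm (25 + 1) 276 9) (PG.takeL 9 (PG.dropL 1 (PG.dropL 11 (PG.dropL 11 (PG.dropL 11 (PG.dropL 11 (PG.dropL 12 (PG.dropL 11 (PG.dropL 11 (RL)))))))))) = true := by decide +kernel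
theorem c9_9 : allL (netRel 920808 20 0 ns lm (25 + 1) 276 9) (PG.dropL 9 (PG.dropL 1 (PG.dropL 11 (PG.dropL 11 (PG.dropL 11 (PG.dropL 11 (PG.dropL 12 (PG.dropL 11 (PG.dropL 11 (RL)))))))))) = true := by decide +kernel
theorem c10_0 : allL (netRel 920808 20 0 ns lm (25 + 1) 276 10) (PG.takeL 11 (RL)) = true := by decide +kernel
theorem c10_1 : allL (netRel 920808 20 0 ns lm (25 + 1) 276 10) (PG.takeL 11 (PG.dropL 11 (RL))) = true := by decide +kernel
theorem c10_2 : allL (netRel 920808 20 0 ns lm (25 + 1) 276 10) (PG.takeL 12 (PG.dropL 11 (PG.dropL 11 (RL)))) = true := by decide +kernel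
theorem c10_3 : allL (netRel 920808 20 0 ns lm (25 + 1) 276 10) (PG.takeL 11 (PG.dropL 12 (PG.dropL 11 (PG.dropL 11 (RL))))) = true := by decide +kernel
theorem c10_4 : allL (netRel 920808 20 0 ns lm (25 + 1) 276 10) (PG.takeL 11 (PG.dropL 11 (PG.dropL 12 (PG.dropL 11 (PG.dropL 11 (RL)))))) = true := by decide +kernel
theorem c10_5 : allL (netRel 920808 20 0 ns lm (25 + 1) 276 10) (PG.takeL 11 (PG.dropL 11 (PG.dropL 11 (PG.dropL 12 (PG.dropL 11 (PG.dropL 11 (RL))))))) = true := by decide +kernel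
theorem c10_6 : allL (netRel 920808 20 0 ns lm (25 + 1) 276 10) (PG.takeL 11 (PG.dropL 11 (PG.dropL 11 (PG.dropL 11 (PG.dropL 12 (PG.dropL 11 (PG.dropL 11 (RL)))))))) = true := by decide +kernel
theorem c10_7 : allL (netRel 920808 20 0 ns lm (25 + 1) 276 10) (PG.takeL 1 (PG.dropL 11 (PG.dropL 11 (PG.dropL 11 (PG.dropL 11 (PG.dropL 12 (PG.dropL 11 (PG.dropL 11 (RL))))))))) = true := by decide +kernel
theorem c10_8 : allL (netRel 920808 20 0 ns lm (25 + 1) 276 10) (PG.takeL 9 (PG.dropL 1 (PG.dropL 11 (PG.dropL 11 (PG.dropL 11 (PG.dropL 11 (PG.dropL 12 (PG.dropL 11 (PG.dropL 11 (RL)))))))))) = true := by decide +kernel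
theorem c10_9 : allL (netRel 920808 20 0 ns lm (25 + 1) 276 10) (PG.dropL 9 (PG.dropL 1 (PG.dropL 11 (PG.dropL 11 (PG.dropL 11 (PG.dropL 11 (PG.dropL 12 (PG.dropL 11 (PG.dropL 11 (RL)))))))))) = true := by decide +kernel
theorem c11_0 : allL (netRel 920808 20 0 ns lm (25 + 1) 276 11) (PG.takeL 11 (RL)) = true := by decide +kernel
theorem c11_1 : allL (netRel 920808 20 0 ns lm (25 + 1) 276 11) (PG.takeL 11 (PG.dropL 11 (RL))) = true := by decide +kernel
theorem c11_2 : allL (netRel 920808 20 0 ns lm (25 + 1) 276 11) (PG.takeL 12 (PG.dropL 11 (PG.dropL 11 (RL)))) = true := by decide +kernel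
theorem c11_3 : allL (netRel 920808 20 0 ns lm (25 + 1) 276 11) (PG.takeL 11 (PG.dropL 12 (PG.dropL 11 (PG.dropL 11 (RL))))) = true := by decide +kernel
theorem c11_4 : allL (netRel 920808 20 0 ns lm (25 + 1) 276 11) (PG.takeL 11 (PG.dropL 11 (PG.dropL 12 (PG.dropL 11 (PG.dropL 11 (RL)))))) = true := by decide +kernel
theorem c11_5 : allL (netRel 920808 20 0 ns lm (25 + 1) 276 11) (PG.takeL 11 (PG.dropL 11 (PG.dropL 11 (PG.dropL 12 (PG.dropL 11 (PG.dropL 11 (RL))))))) = true := by decide +kernel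
theorem c11_6 : allL (netRel 920808 20 0 ns lm (25 + 1) 276 11) (PG.takeL 11 (PG.dropL 11 (PG.dropL 11 (PG.dropL 11 (PG.dropL 12 (PG.dropL 11 (PG.dropL 11 (RL)))))))) = true := by decide +kernel
theorem c11_7 : allL (netRel 920808 20 0 ns lm (25 + 1) 276 11) (PG.takeL 1 (PG.dropL 11 (PG.dropL 11 (PG.dropL 11 (PG.dropL 11 (PG.dropL 12 (PG.dropL 11 (PG.dropL 11 (RL))))))))) = true := by decide +kernel
theorem c11_8 : allL (netRel 920808 20 0 ns lm (25 + 1) 276 11) (PG.takeL 9 (PG.dropL 1 (PG.dropL 11 (PG.dropL 11 (PG.dropL 11 (PG.dropL 11 (PG.dropL 12 (PG.dropL 11 (PG.dropL 11 (RL)))))))))) = true := by decide +kernel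
theorem c11_9 : allL (netRel 920808 20 0 ns lm (25 + 1) 276 11) (PG.dropL 9 (PG.dropL 1 (PG.dropL 11 (PG.dropL 11 (PG.dropL 11 (PG.dropL 11 (PG.dropL 12 (PG.dropL 11 (PG.dropL 11 (RL)))))))))) = true := by decide +kernel
theorem c12_0 : allL (netRel 920808 20 0 ns lm (25 + 1) 276 12) (PG.takeL 11 (RL)) = true := by decide +kernel
theorem c12_1 : allL (netRel 920808 20 0 ns lm (25 + 1) 276 12) (PG.takeL 11 (PG.dropL 11 (RL))) = true := by decide +kernel
theorem c12_2 : allL (netRel 920808 20 0 ns lm (25 + 1) 276 12) (PG.takeL 12 (PG.dropL 11 (PG.dropL 11 (RL)))) = true := by decide +kernel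
theorem c12_3 : allL (netRel 920808 20 0 ns lm (25 + 1) 276 12) (PG.takeL 11 (PG.dropL 12 (PG.dropL 11 (PG.dropL 11 (RL))))) = true := by decide +kernel
theorem c12_4 : allL (netRel 920808 20 0 ns lm (25 + 1) 276 12) (PG.takeL 11 (PG.dropL 11 (PG.dropL 12 (PG.dropL 11 (PG.dropL 11 (RL)))))) = true := by decide +kernel
theorem c12_5 : allL (netRel 920808 20 0 ns lm (25 + 1) 276 12) (PG.takeL 11 (PG.dropL 11 (PG.dropL 11 (PG.dropL 12 (PG.dropL 11 (PG.dropL 11 (RL))))))) = true := by decide +kernel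
theorem c12_6 : allL (netRel 920808 20 0 ns lm (25 + 1) 276 12) (PG.takeL 11 (PG.dropL 11 (PG.dropL 11 (PG.dropL 11 (PG.dropL 12 (PG.dropL 11 (PG.dropL 11 (RL)))))))) = true := by decide +kernel
theorem c12_7 : allL (netRel 920808 20 0 ns lm (25 + 1) 276 12) (PG.takeL 1 (PG.dropL 11 (PG.dropL 11 (PG.dropL 11 (PG.dropL 11 (PG.dropL 12 (PG.dropL 11 (PG.dropL 11 (RL))))))))) = true := by decide +kernel
theorem c12_8 : allL (netRel 920808 20 0 ns lm (25 + 1) 276 12) (PG.takeL 9 (PG.dropL 1 (PG.dropL 11 (PG.dropL 11 (PG.dropL 11 (PG.dropL 11 (PG.dropL 12 (PG.dropL 11 (PG.dropL 11 (RL)))))))))) = true := by decide +kernel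
theorem c12_9 : allL (netRel 920808 20 0 ns lm (25 + 1) 276 12) (PG.dropL 9 (PG.dropL 1 (PG.dropL 11 (PG.dropL 11 (PG.dropL 11 (PG.dropL 11 (PG.dropL 12 (PG.dropL 11 (PG.dropL 11 (RL)))))))))) = true := by decide +kernel
theorem c13_0 : allL (netRel 920808 20 0 ns lm (25 + 1) 276 13) (PG.takeL 11 (RL)) = true := by decide +kernel
theorem c13_1 : allL (netRel 920808 20 0 ns lm (25 + 1) 276 13) (PG.takeL 11 (PG.dropL 11 (RL))) = true := by decide +kernel
theorem c13_2 : allL (netRel 920808 20 0 ns lm (25 + 1) 276 13) (PG.takeL 12 (PG.dropL 11 (PG.dropL 11 (RL)))) = true := by decide +kernel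
theorem c13_3 : allL (netRel 920808 20 0 ns lm (25 + 1) 276 13) (PG.takeL 11 (PG.dropL 12 (PG.dropL 11 (PG.dropL 11 (RL))))) = true := by decide +kernel
theorem c13_4 : allL (netRel 920808 20 0 ns lm (25 + 1) 276 13) (PG.takeL 11 (PG.dropL 11 (PG.dropL 12 (PG.dropL 11 (PG.dropL 11 (RL)))))) = true := by decide +kernel
theorem c13_5 : allL (netRel 920808 20 0 ns lm (25 + 1) 276 13) (PG.takeL 11 (PG.dropL 11 (PG.dropL 11 (PG.dropL 12 (PG.dropL 11 (PG.dropL 11 (RL))))))) = true := by decide +kernel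
theorem c13_6 : allL (netRel 920808 20 0 ns lm (25 + 1) 276 13) (PG.takeL 11 (PG.dropL 11 (PG.dropL 11 (PG.dropL 11 (PG.dropL 12 (PG.dropL 11 (PG.dropL 11 (RL)))))))) = true := by decide +kernel
theorem c13_7 : allL (netRel 920808 20 0 ns lm (25 + 1) 276 13) (PG.takeL 1 (PG.dropL 11 (PG.dropL 11 (PG.dropL 11 (PG.dropL 11 (PG.dropL 12 (PG.dropL 11 (PG.dropL 11 (RL))))))))) = true := by decide +kernel
theorem c13_8 : allL (netRel 920808 20 0 ns lm (25 + 1) 276 13) (PG.takeL 9 (PG.dropL 1 (PG.dropL 11 (PG.dropL 11 (PG.dropL 11 (PG.dropL 11 (PG.dropL 12 (PG.dropL 11 (PG.dropL 11 (RL)))))))))) = true := by decide +kernel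
theorem c13_9 : allL (netRel 920808 20 0 ns lm (25 + 1) 276 13) (PG.dropL 9 (PG.dropL 1 (PG.dropL 11 (PG.dropL 11 (PG.dropL 11 (PG.dropL 11 (PG.dropL 12 (PG.dropL 11 (PG.dropL 11 (RL)))))))))) = true := by decide +kernel
theorem c14_0 : allL (netRel 920808 20 0 ns lm (25 + 1) 276 14) (PG.takeL 11 (RL)) = true := by decide +kernel
theorem c14_1 : allL (netRel 920808 20 0 ns lm (25 + 1) 276 14) (PG.takeL 11 (PG.dropL 11 (RL))) = true := by decide +kernel
theorem c14_2 : allL (netRel 920808 20 0 ns lm (25 + 1) 276 14) (PG.takeL 12 (PG.dropL 11 (PG.dropL 11 (RL)))) = true := by decide +kernel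
theorem c14_3 : allL (netRel 920808 20 0 ns lm (25 + 1) 276 14) (PG.takeL 11 (PG.dropL 12 (PG.dropL 11 (PG.dropL 11 (RL))))) = true := by decide +kernel
theorem c14_4 : allL (netRel 920808 20 0 ns lm (25 + 1) 276 14) (PG.takeL 11 (PG.dropL 11 (PG.dropL 12 (PG.dropL 11 (PG.dropL 11 (RL)))))) = true := by decide +kernel
theorem c14_5 : allL (netRel 920808 20 0 ns lm (25 + 1) 276 14) (PG.takeL 11 (PG.dropL 11 (PG.dropL 11 (PG.dropL 12 (PG.dropL 11 (PG.dropL 11 (RL))))))) = true := by decide +kernel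
theorem c14_6 : allL (netRel 920808 20 0 ns lm (25 + 1) 276 14) (PG.takeL 11 (PG.dropL 11 (PG.dropL 11 (PG.dropL 11 (PG.dropL 12 (PG.dropL 11 (PG.dropL 11 (RL)))))))) = true := by decide +kernel
theorem c14_7 : allL (netRel 920808 20 0 ns lm (25 + 1) 276 14) (PG.takeL 1 (PG.dropL 11 (PG.dropL 11 (PG.dropL 11 (PG.dropL 11 (PG.dropL 12 (PG.dropL 11 (PG.dropL 11 (RL))))))))) = true := by decide +kernel
theorem c14_8 : allL (netRel 920808 20 0 ns lm (25 + 1) 276 14) (PG.takeL 9 (PG.dropL 1 (PG.dropL 11 (PG.dropL 11 (PG.dropL 11 (PG.dropL 11 (PG.dropL 12 (PG.dropL 11 (PG.dropL 11 (RL)))))))))) = true := by decide +kernel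
theorem c14_9 : allL (netRel 920808 20 0 ns lm (25 + 1) 276 14) (PG.dropL 9 (PG.dropL 1 (PG.dropL 11 (PG.dropL 11 (PG.dropL 11 (PG.dropL 11 (PG.dropL 12 (PG.dropL 11 (PG.dropL 11 (RL)))))))))) = true := by decide +kernel
theorem c15_0 : allL (netRel 920808 20 0 ns lm (25 + 1) 276 15) (PG.takeL 11 (RL)) = true := by decide +kernel
theorem c15_1 : allL (netRel 920808 20 0 ns lm (25 + 1) 276 15) (PG.takeL 11 (PG.dropL 11 (RL))) = true := by decide +kernel
theorem c15_2 : allL (netRel 920808 20 0 ns lm (25 + 1) 276 15) (PG.takeL 12 (PG.dropL 11 (PG.dropL 11 (RL)))) = true := by decide +kernel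
theorem c15_3 : allL (netRel 920808 20 0 ns lm (25 + 1) 276 15) (PG.takeL 11 (PG.dropL 12 (PG.dropL 11 (PG.dropL 11 (RL))))) = true := by decide +kernel
theorem c15_4 : allL (netRel 920808 20 0 ns lm (25 + 1) 276 15) (PG.takeL 11 (PG.dropL 11 (PG.dropL 12 (PG.dropL 11 (PG.dropL 11 (RL)))))) = true := by decide +kernel
theorem c15_5 : allL (netRel 920808 20 0 ns lm (25 + 1) 276 15) (PG.takeL 11 (PG.dropL 11 (PG.dropL 11 (PG.dropL 12 (PG.dropL 11 (PG.dropL 11 (RL))))))) = true := by decide +kernel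
theorem c15_6 : allL (netRel 920808 20 0 ns lm (25 + 1) 276 15) (PG.takeL 11 (PG.dropL 11 (PG.dropL 11 (PG.dropL 11 (PG.dropL 12 (PG.dropL 11 (PG.dropL 11 (RL)))))))) = true := by decide +kernel
end C3

end CL.Pc.GFi24
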