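/-
A cover of Fi24 from a labelled action on 306936 points: checks (generated by tools/pc/gm.py).
-/
import Cfsg.Agent.Known.GFi24C3A

set_option autoImplicit false
set_option maxRecDepth 100000
set_option linter.all false
set_option Elab.async false

namespace CL.Pc.GFi24
open Cfsg CL.Spor

namespace C3
theorem c15_7 : allL (netRel 920808 20 0 ns lm (25 + 1) 276 15) (PG.takeL 1 (PG.dropL 11 (PG.dropL 11 (PG.dropL 11 (PG.dropL 11 (PG.dropL 12 (PG.dropL 11 (PG.dropL 11 (RL))))))))) = true := by decide +kernel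
theorem c15_8 : allL (netRel 920808 20 0 ns lm (25 + 1) 276 15) (PG.takeL 9 (PG.dropL 1 (PG.dropL 11 (PG.dropL 11 (PG.dropL 11 (PG.dropL 11 (PG.dropL 12 (PG.dropL 11 (PG.dropL 11 (RL)))))))))) = true := by decide +kernel
theorem c15_9 : allL (netRel 920808 20 0 ns lm (25 + 1) 276 15) (PG.dropL 9 (PG.dropL 1 (PG.dropL 11 (PG.dropL 11 (PG.dropL 11 (PG.dropL 11 (PG.dropL 12 (PG.dropL 11 (PG.dropL 11 (RL)))))))))) = true := by decide +kernel
theorem c16_0 : allL (netRel 920808 20 0 ns lm (25 + 1) 276 16) (PG.takeL 11 (RL)) = true := by decide +kernel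
theorem c16_1 : allL (netRel 920808 20 0 ns lm (25 + 1) 276 16) (PG.takeL 11 (PG.dropL 11 (RL))) = true := by decide +kernel
theorem c16_2 : allL (netRel 920808 20 0 ns lm (25 + 1) 276 16) (PG.takeL 12 (PG.dropL 11 (PG.dropL 11 (RL)))) = true := by decide +kernel
theorem c16_3 : allL (netRel 920808 20 0 ns lm (25 + 1) 276 16) (PG.takeL 11 (PG.dropL 12 (PG.dropL 11 (PG.dropL 11 (RL))))) = true := by decide +kernel
theorem c16_4 : allL (netRel 920808 20 0 ns lm (25 + 1) 276 16) (PG.takeL 11 (PG.dropL 11 (PG.dropL 12 (PG.dropL 11 (PG.dropL 11 (RL)))))) = true := by decide +kernel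
theorem c16_5 : allL (netRel 920808 20 0 ns lm (25 + 1) 276 16) (PG.takeL 11 (PG.dropL 11 (PG.dropL 11 (PG.dropL 12 (PG.dropL 11 (PG.dropL 11 (RL))))))) = true := by decide +kernel
theorem c16_6 : allL (netRel 920808 20 0 ns lm (25 + 1) 276 16) (PG.takeL 11 (PG.dropL 11 (PG.dropL 11 (PG.dropL 11 (PG.dropL 12 (PG.dropL 11 (PG.dropL 11 (RL)))))))) = true := by decide +kernel
theorem c16_7 : allL (netRel 920808 20 0 ns lm (25 + 1) 276 16) (PG.takeL 1 (PG.dropL 11 (PG.dropL 11 (PG.dropL 11 (PG.dropL 11 (PG.dropL 12 (PG.dropL 11 (PG.dropL 11 (RL))))))))) = true := by decide +kernel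
theorem c16_8 : allL (netRel 920808 20 0 ns lm (25 + 1) 276 16) (PG.takeL 9 (PG.dropL 1 (PG.dropL 11 (PG.dropL 11 (PG.dropL 11 (PG.dropL 11 (PG.dropL 12 (PG.dropL 11 (PG.dropL 11 (RL)))))))))) = true := by decide +kernel
theorem c16_9 : allL (netRel 920808 20 0 ns lm (25 + 1) 276 16) (PG.dropL 9 (PG.dropL 1 (PG.dropL 11 (PG.dropL 11 (PG.dropL 11 (PG.dropL 11 (PG.dropL 12 (PG.dropL 11 (PG.dropL 11 (RL)))))))))) = true := by decide +kernel
theorem c17_0 : allL (netRel 920808 20 0 ns lm (25 + 1) 276 17) (PG.takeL 11 (RL)) = true := by decide +kernel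
theorem c17_1 : allL (netRel 920808 20 0 ns lm (25 + 1) 276 17) (PG.takeL 11 (PG.dropL 11 (RL))) = true := by decide +kernel
theorem c17_2 : allL (netRel 920808 20 0 ns lm (25 + 1) 276 17) (PG.takeL 12 (PG.dropL 11 (PG.dropL 11 (RL)))) = true := by decide +kernel
theorem c17_3 : allL (netRel 920808 20 0 ns lm (25 + 1) 276 17) (PG.takeL 11 (PG.dropL 12 (PG.dropL 11 (PG.dropL 11 (RL))))) = true := by decide +kernel
theorem c17_4 : allL (netRel 920808 20 0 ns lm (25 + 1) 276 17) (PG.takeL 11 (PG.dropL 11 (PG.dropL 12 (PG.dropL 11 (PG.dropL 11 (RL)))))) = true := by decide +kernel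
theorem c17_5 : allL (netRel 920808 20 0 ns lm (25 + 1) 276 17) (PG.takeL 11 (PG.dropL 11 (PG.dropL 11 (PG.dropL 12 (PG.dropL 11 (PG.dropL 11 (RL))))))) = true := by decide +kernel
theorem c17_6 : allL (netRel 920808 20 0 ns lm (25 + 1) 276 17) (PG.takeL 11 (PG.dropL 11 (PG.dropL 11 (PG.dropL 11 (PG.dropL 12 (PG.dropL 11 (PG.dropL 11 (RL)))))))) = true := by decide +kernel
theorem c17_7 : allL (netRel 920808 20 0 ns lm (25 + 1) 276 17) (PG.takeL 1 (PG.dropL 11 (PG.dropL 11 (PG.dropL 11 (PG.dropL 11 (PG.dropL 12 (PG.dropL 11 (PG.dropL 11 (RL))))))))) = true := by decide +kernel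
theorem c17_8 : allL (netRel 920808 20 0 ns lm (25 + 1) 276 17) (PG.takeL 9 (PG.dropL 1 (PG.dropL 11 (PG.dropL 11 (PG.dropL 11 (PG.dropL 11 (PG.dropL 12 (PG.dropL 11 (PG.dropL 11 (RL)))))))))) = true := by decide +kernel
theorem c17_9 : allL (netRel 920808 20 0 ns lm (25 + 1) 276 17) (PG.dropL 9 (PG.dropL 1 (PG.dropL 11 (PG.dropL 11 (PG.dropL 11 (PG.dropL 11 (PG.dropL 12 (PG.dropL 11 (PG.dropL 11 (RL)))))))))) = true := by decide +kernel
theorem c18_0 : allL (netRel 920808 20 0 ns lm (25 + 1) 276 18) (PG.takeL 11 (RL)) = true := by decide +kernel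
theorem c18_1 : allL (netRel 920808 20 0 ns lm (25 + 1) 276 18) (PG.takeL 11 (PG.dropL 11 (RL))) = true := by decide +kernel
theorem c18_2 : allL (netRel 920808 20 0 ns lm (25 + 1) 276 18) (PG.takeL 12 (PG.dropL 11 (PG.dropL 11 (RL)))) = true := by decide +kernel
theorem c18_3 : allL (netRel 920808 20 0 ns lm (25 + 1) 276 18) (PG.takeL 11 (PG.dropL 12 (PG.dropL 11 (PG.dropL 11 (RL))))) = true := by decide +kernel
theorem c18_4 : allL (netRel 920808 20 0 ns lm (25 + 1) 276 18) (PG.takeL 11 (PG.dropL 11 (PG.dropL 12 (PG.dropL 11 (PG.dropL 11 (RL)))))) = true := by decide +kernel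
theorem c18_5 : allL (netRel 920808 20 0 ns lm (25 + 1) 276 18) (PG.takeL 11 (PG.dropL 11 (PG.dropL 11 (PG.dropL 12 (PG.dropL 11 (PG.dropL 11 (RL))))))) = true := by decide +kernel
theorem c18_6 : allL (netRel 920808 20 0 ns lm (25 + 1) 276 18) (PG.takeL 11 (PG.dropL 11 (PG.dropL 11 (PG.dropL 11 (PG.dropL 12 (PG.dropL 11 (PG.dropL 11 (RL)))))))) = true := by decide +kernel
theorem c18_7 : allL (netRel 920808 20 0 ns lm (25 + 1) 276 18) (PG.takeL 1 (PG.dropL 11 (PG.dropL 11 (PG.dropL 11 (PG.dropL 11 (PG.dropL 12 (PG.dropL 11 (PG.dropL 11 (RL))))))))) = true := by decide +kernel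
theorem c18_8 : allL (netRel 920808 20 0 ns lm (25 + 1) 276 18) (PG.takeL 9 (PG.dropL 1 (PG.dropL 11 (PG.dropL 11 (PG.dropL 11 (PG.dropL 11 (PG.dropL 12 (PG.dropL 11 (PG.dropL 11 (RL)))))))))) = true := by decide +kernel
theorem c18_9 : allL (netRel 920808 20 0 ns lm (25 + 1) 276 18) (PG.dropL 9 (PG.dropL 1 (PG.dropL 11 (PG.dropL 11 (PG.dropL 11 (PG.dropL 11 (PG.dropL 12 (PG.dropL 11 (PG.dropL 11 (RL)))))))))) = true := by decide +kernel
theorem c19_0 : allL (netRel 920808 20 0 ns lm (25 + 1) 276 19) (PG.takeL 11 (RL)) = true := by decide +kernel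
theorem c19_1 : allL (netRel 920808 20 0 ns lm (25 + 1) 276 19) (PG.takeL 11 (PG.dropL 11 (RL))) = true := by decide +kernel
theorem c19_2 : allL (netRel 920808 20 0 ns lm (25 + 1) 276 19) (PG.takeL 12 (PG.dropL 11 (PG.dropL 11 (RL)))) = true := by decide +kernel
theorem c19_3 : allL (netRel 920808 20 0 ns lm (25 + 1) 276 19) (PG.takeL 11 (PG.dropL 12 (PG.dropL 11 (PG.dropL 11 (RL))))) = true := by decide +kernel
theorem c19_4 : allL (netRel 920808 20 0 ns lm (25 + 1) 276 19) (PG.takeL 11 (PG.dropL 11 (PG.dropL 12 (PG.dropL 11 (PG.dropL 11 (RL)))))) = true := by decide +kernel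
theorem c19_5 : allL (netRel 920808 20 0 ns lm (25 + 1) 276 19) (PG.takeL 11 (PG.dropL 11 (PG.dropL 11 (PG.dropL 12 (PG.dropL 11 (PG.dropL 11 (RL))))))) = true := by decide +kernel
theorem c19_6 : allL (netRel 920808 20 0 ns lm (25 + 1) 276 19) (PG.takeL 11 (PG.dropL 11 (PG.dropL 11 (PG.dropL 11 (PG.dropL 12 (PG.dropL 11 (PG.dropL 11 (RL)))))))) = true := by decide +kernel
theorem c19_7 : allL (netRel 920808 20 0 ns lm (25 + 1) 276 19) (PG.takeL 1 (PG.dropL 11 (PG.dropL 11 (PG.dropL 11 (PG.dropL 11 (PG.dropL 12 (PG.dropL 11 (PG.dropL 11 (RL))))))))) = true := by decide +kernel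
theorem c19_8 : allL (netRel 920808 20 0 ns lm (25 + 1) 276 19) (PG.takeL 9 (PG.dropL 1 (PG.dropL 11 (PG.dropL 11 (PG.dropL 11 (PG.dropL 11 (PG.dropL 12 (PG.dropL 11 (PG.dropL 11 (RL)))))))))) = true := by decide +kernel
theorem c19_9 : allL (netRel 920808 20 0 ns lm (25 + 1) 276 19) (PG.dropL 9 (PG.dropL 1 (PG.dropL 11 (PG.dropL 11 (PG.dropL 11 (PG.dropL 11 (PG.dropL 12 (PG.dropL 11 (PG.dropL 11 (RL)))))))))) = true := by decide +kernel
theorem ok : PG.allL (PG.Net.okB 920808) ns = true := by decide +kernel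
theorem mov : netMov 920808 ns lm (25 + 1) 276 (encF ix jx w) 0 = true := by decide +kernel
end C3

end CL.Pc.GFi24
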