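/-
A cover of Fi24 from a labelled action on 306936 points (generated by tools/pc/gm.py).
-/
import Cfsg.Agent.Known.GFi24C3K0
import Cfsg.Agent.Known.GFi24C3K1
import Cfsg.Agent.Known.GFi24C3K2

set_option autoImplicit false
set_option maxRecDepth 100000
set_option linter.all false
set_option Elab.async false

namespace CL.Pc.GFi24
open Cfsg CL.Spor

namespace C3
theorem RL_ok : ∀ t < 20, ∀ p ∈ RL, netRel 920808 20 0 ns lm (25 + 1) 276 t p = true :=
  below_step (forall_take_drop 11 ((allL_iff _ _).1 c19_0) (forall_take_drop 11 ((allL_iff _ _).1 c19_1) (forall_take_drop 12 ((allL_iff _ _).1 c19_2) (forall_take_drop 11 ((allL_iff _ _).1 c19_3) (forall_take_drop 11 ((allL_iff _ _).1 c19_4) (forall_take_drop 11 ((allL_iff _ _).1 c19_5) (forall_take_drop 11 ((allL_iff _ _).1 c19_6) (forall_take_drop 1 ((allL_iff _ _).1 c19_7) (forall_take_drop 9 ((allL_iff _ _).1 c19_8) ((allL_iff _ _).1 c19_9)))))))))) (below_step (forall_take_drop 11 ((allL_iff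 _ _).1 c18_0) (forall_take_drop 11 ((allL_iff _ _).1 c18_1) (forall_take_drop 12 ((allL_iff _ _).1 c18_2) (forall_take_drop 11 ((allL_iff _ _).1 c18_3) (forall_take_drop 11 ((allL_iff _ _).1 c18_4) (forall_take_drop 11 ((allL_iff _ _).1 c18_5) (forall_take_drop 11 ((allL_iff _ _).1 c18_6) (forall_take_drop 1 ((allL_iff _ _).1 c18_7) (forall_take_drop 9 ((allL_iff _ _).1 c18_8) ((allL_iff _ _).1 c18_9)))))))))) (below_step (forall_take_drop 11 ((allL_iff _ _).1 c17_0) (forall_take_drop 11 ((allL_iff _ _).1 c17_1) (forall_take_drop 12 ((allL_iff _ _).1 c17_2) (forall_take_drop 11 ((allL_iff _ _).1 c17_3) (forall_take_drop 11 ((allL_iff _ _).1 c17_4) (forall_take_drop 11 ((allL_iff _ _).1 c17_5) (forall_take_drop 11 ((allL_iff _ _).1 c17_6) (forall_take_drop 1 ((allL_iff _ _).1 c17_7) (forall_take_drop 9 ((allL_iff _ _).1 c17_8) ((allL_iff _ _).1 c17_9)))))))))) (below_step (forall_take_drop 11 ((allL_iff _ _).1 c16_0) (forall_take_drop 11 ((allL_iff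 _ _).1 c16_1) (forall_take_drop 12 ((allL_iff _ _).1 c16_2) (forall_take_drop 11 ((allL_iff _ _).1 c16_3) (forall_take_drop 11 ((allL_iff _ _).1 c16_4) (forall_take_drop 11 ((allL_iff _ _).1 c16_5) (forall_take_drop 11 ((allL_iff _ _).1 c16_6) (forall_take_drop 1 ((allL_iff _ _).1 c16_7) (forall_take_drop 9 ((allL_iff _ _).1 c16_8) ((allL_iff _ _).1 c16_9)))))))))) (below_step (forall_take_drop 11 ((allL_iff _ _).1 c15_0) (forall_take_drop 11 ((allL_iff _ _).1 c15_1) (forall_take_drop 12 ((allL_iff _ _).1 c15_2) (forall_take_drop 11 ((allL_iff _ _).1 c15_3) (forall_take_drop 11 ((allL_iff _ _).1 c15_4) (forall_take_drop 11 ((allL_iff _ _).1 c15_5) (forall_take_drop 11 ((allL_iff _ _).1 c15_6) (forall_take_drop 1 ((allL_iff _ _).1 c15_7) (forall_take_drop 9 ((allL_iff _ _).1 c15_8) ((allL_iff _ _).1 c15_9)))))))))) (below_step (forall_take_drop 11 ((allL_iff _ _).1 c14_0) (forall_take_drop 11 ((allL_iff _ _).1 c14_1) (forall_take_drop 12 ((allL_iff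 _ _).1 c14_2) (forall_take_drop 11 ((allL_iff _ _).1 c14_3) (forall_take_drop 11 ((allL_iff _ _).1 c14_4) (forall_take_drop 11 ((allL_iff _ _).1 c14_5) (forall_take_drop 11 ((allL_iff _ _).1 c14_6) (forall_take_drop 1 ((allL_iff _ _).1 c14_7) (forall_take_drop 9 ((allL_iff _ _).1 c14_8) ((allL_iff _ _).1 c14_9)))))))))) (below_step (forall_take_drop 11 ((allL_iff _ _).1 c13_0) (forall_take_drop 11 ((allL_iff _ _).1 c13_1) (forall_take_drop 12 ((allL_iff _ _).1 c13_2) (forall_take_drop 11 ((allL_iff _ _).1 c13_3) (forall_take_drop 11 ((allL_iff _ _).1 c13_4) (forall_take_drop 11 ((allL_iff _ _).1 c13_5) (forall_take_drop 11 ((allL_iff _ _).1 c13_6) (forall_take_drop 1 ((allL_iff _ _).1 c13_7) (forall_take_drop 9 ((allL_iff _ _).1 c13_8) ((allL_iff _ _).1 c13_9)))))))))) (below_step (forall_take_drop 11 ((allL_iff _ _).1 c12_0) (forall_take_drop 11 ((allL_iff _ _).1 c12_1) (forall_take_drop 12 ((allL_iff _ _).1 c12_2) (forall_take_drop 11 ((allL_iff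 _ _).1 c12_3) (forall_take_drop 11 ((allL_iff _ _).1 c12_4) (forall_take_drop 11 ((allL_iff _ _).1 c12_5) (forall_take_drop 11 ((allL_iff _ _).1 c12_6) (forall_take_drop 1 ((allL_iff _ _).1 c12_7) (forall_take_drop 9 ((allL_iff _ _).1 c12_8) ((allL_iff _ _).1 c12_9)))))))))) (below_step (forall_take_drop 11 ((allL_iff _ _).1 c11_0) (forall_take_drop 11 ((allL_iff _ _).1 c11_1) (forall_take_drop 12 ((allL_iff _ _).1 c11_2) (forall_take_drop 11 ((allL_iff _ _).1 c11_3) (forall_take_drop 11 ((allL_iff _ _).1 c11_4) (forall_take_drop 11 ((allL_iff _ _).1 c11_5) (forall_take_drop 11 ((allL_iff _ _).1 c11_6) (forall_take_drop 1 ((allL_iff _ _).1 c11_7) (forall_take_drop 9 ((allL_iff _ _).1 c11_8) ((allL_iff _ _).1 c11_9)))))))))) (below_step (forall_take_drop 11 ((allL_iff _ _).1 c10_0) (forall_take_drop 11 ((allL_iff _ _).1 c10_1) (forall_take_drop 12 ((allL_iff _ _).1 c10_2) (forall_take_drop 11 ((allL_iff _ _).1 c10_3) (forall_take_drop 11 ((allL_iff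 _ _).1 c10_4) (forall_take_drop 11 ((allL_iff _ _).1 c10_5) (forall_take_drop 11 ((allL_iff _ _).1 c10_6) (forall_take_drop 1 ((allL_iff _ _).1 c10_7) (forall_take_drop 9 ((allL_iff _ _).1 c10_8) ((allL_iff _ _).1 c10_9)))))))))) (below_step (forall_take_drop 11 ((allL_iff _ _).1 c9_0) (forall_take_drop 11 ((allL_iff _ _).1 c9_1) (forall_take_drop 12 ((allL_iff _ _).1 c9_2) (forall_take_drop 11 ((allL_iff _ _).1 c9_3) (forall_take_drop 11 ((allL_iff _ _).1 c9_4) (forall_take_drop 11 ((allL_iff _ _).1 c9_5) (forall_take_drop 11 ((allL_iff _ _).1 c9_6) (forall_take_drop 1 ((allL_iff _ _).1 c9_7) (forall_take_drop 9 ((allL_iff _ _).1 c9_8) ((allL_iff _ _).1 c9_9)))))))))) (below_step (forall_take_drop 11 ((allL_iff _ _).1 c8_0) (forall_take_drop 11 ((allL_iff _ _).1 c8_1) (forall_take_drop 12 ((allL_iff _ _).1 c8_2) (forall_take_drop 11 ((allL_iff _ _).1 c8_3) (forall_take_drop 11 ((allL_iff _ _).1 c8_4) (forall_take_drop 11 ((allL_iff _ _).1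 c8_5) (forall_take_drop 11 ((allL_iff _ _).1 c8_6) (forall_take_drop 1 ((allL_iff _ _).1 c8_7) (forall_take_drop 9 ((allL_iff _ _).1 c8_8) ((allL_iff _ _).1 c8_9)))))))))) (below_step (forall_take_drop 11 ((allL_iff _ _).1 c7_0) (forall_take_drop 11 ((allL_iff _ _).1 c7_1) (forall_take_drop 12 ((allL_iff _ _).1 c7_2) (forall_take_drop 11 ((allL_iff _ _).1 c7_3) (forall_take_drop 11 ((allL_iff _ _).1 c7_4) (forall_take_drop 11 ((allL_iff _ _).1 c7_5) (forall_take_drop 11 ((allL_iff _ _).1 c7_6) (forall_take_drop 1 ((allL_iff _ _).1 c7_7) (forall_take_drop 9 ((allL_iff _ _).1 c7_8) ((allL_iff _ _).1 c7_9)))))))))) (below_step (forall_take_drop 11 ((allL_iff _ _).1 c6_0) (forall_take_drop 11 ((allL_iff _ _).1 c6_1) (forall_take_drop 12 ((allL_iff _ _).1 c6_2) (forall_take_drop 11 ((allL_iff _ _).1 c6_3) (forall_take_drop 11 ((allL_iff _ _).1 c6_4) (forall_take_drop 11 ((allL_iff _ _).1 c6_5) (forall_take_drop 11 ((allL_iff _ _).1 c6_6) (forall_take_drop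 1 ((allL_iff _ _).1 c6_7) (forall_take_drop 9 ((allL_iff _ _).1 c6_8) ((allL_iff _ _).1 c6_9)))))))))) (below_step (forall_take_drop 11 ((allL_iff _ _).1 c5_0) (forall_take_drop 11 ((allL_iff _ _).1 c5_1) (forall_take_drop 12 ((allL_iff _ _).1 c5_2) (forall_take_drop 11 ((allL_iff _ _).1 c5_3) (forall_take_drop 11 ((allL_iff _ _).1 c5_4) (forall_take_drop 11 ((allL_iff _ _).1 c5_5) (forall_take_drop 11 ((allL_iff _ _).1 c5_6) (forall_take_drop 1 ((allL_iff _ _).1 c5_7) (forall_take_drop 9 ((allL_iff _ _).1 c5_8) ((allL_iff _ _).1 c5_9)))))))))) (below_step (forall_take_drop 11 ((allL_iff _ _).1 c4_0) (forall_take_drop 11 ((allL_iff _ _).1 c4_1) (forall_take_drop 12 ((allL_iff _ _).1 c4_2) (forall_take_drop 11 ((allL_iff _ _).1 c4_3) (forall_take_drop 11 ((allL_iff _ _).1 c4_4) (forall_take_drop 11 ((allL_iff _ _).1 c4_5) (forall_take_drop 11 ((allL_iff _ _).1 c4_6) (forall_take_drop 1 ((allL_iff _ _).1 c4_7) (forall_take_drop 9 ((allL_iff _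 _).1 c4_8) ((allL_iff _ _).1 c4_9)))))))))) (below_step (forall_take_drop 11 ((allL_iff _ _).1 c3_0) (forall_take_drop 11 ((allL_iff _ _).1 c3_1) (forall_take_drop 12 ((allL_iff _ _).1 c3_2) (forall_take_drop 11 ((allL_iff _ _).1 c3_3) (forall_take_drop 11 ((allL_iff _ _).1 c3_4) (forall_take_drop 11 ((allL_iff _ _).1 c3_5) (forall_take_drop 11 ((allL_iff _ _).1 c3_6) (forall_take_drop 1 ((allL_iff _ _).1 c3_7) (forall_take_drop 9 ((allL_iff _ _).1 c3_8) ((allL_iff _ _).1 c3_9)))))))))) (below_step (forall_take_drop 11 ((allL_iff _ _).1 c2_0) (forall_take_drop 11 ((allL_iff _ _).1 c2_1) (forall_take_drop 12 ((allL_iff _ _).1 c2_2) (forall_take_drop 11 ((allL_iff _ _).1 c2_3) (forall_take_drop 11 ((allL_iff _ _).1 c2_4) (forall_take_drop 11 ((allL_iff _ _).1 c2_5) (forall_take_drop 11 ((allL_iff _ _).1 c2_6) (forall_take_drop 1 ((allL_iff _ _).1 c2_7) (forall_take_drop 9 ((allL_iff _ _).1 c2_8) ((allL_iff _ _).1 c2_9)))))))))) (below_step (forall_take_drop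 11 ((allL_iff _ _).1 c1_0) (forall_take_drop 11 ((allL_iff _ _).1 c1_1) (forall_take_drop 12 ((allL_iff _ _).1 c1_2) (forall_take_drop 11 ((allL_iff _ _).1 c1_3) (forall_take_drop 11 ((allL_iff _ _).1 c1_4) (forall_take_drop 11 ((allL_iff _ _).1 c1_5) (forall_take_drop 11 ((allL_iff _ _).1 c1_6) (forall_take_drop 1 ((allL_iff _ _).1 c1_7) (forall_take_drop 9 ((allL_iff _ _).1 c1_8) ((allL_iff _ _).1 c1_9)))))))))) (below_step (forall_take_drop 11 ((allL_iff _ _).1 c0_0) (forall_take_drop 11 ((allL_iff _ _).1 c0_1) (forall_take_drop 12 ((allL_iff _ _).1 c0_2) (forall_take_drop 11 ((allL_iff _ _).1 c0_3) (forall_take_drop 11 ((allL_iff _ _).1 c0_4) (forall_take_drop 11 ((allL_iff _ _).1 c0_5) (forall_take_drop 11 ((allL_iff _ _).1 c0_6) (forall_take_drop 1 ((allL_iff _ _).1 c0_7) (forall_take_drop 9 ((allL_iff _ _).1 c0_8) ((allL_iff _ _).1 c0_9)))))))))) (below_end))))))))))))))))))))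
theorem cover : Cover Spor.Fi24' (Multiplicative (ZMod 3)) :=
  cover_cox_tw (gens := gens) (pw := [(25, 3679177905640854868738374, 17)]) (fun a => by cases a <;> decide) (by norm_num) .l even_eq (CL.Fi24P.eq_one (by decide +kernel)) (by decide +kernel) ok mov RL_ok
end C3

end CL.Pc.GFi24
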