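import Cfsg.Agent.Spor.TCSound

/-! coset enumeration certificate generated by tools/tc -/

set_option maxRecDepth 100000
set_option autoImplicit false
set_option linter.all false

namespace CL.TC.GG23L2

noncomputable def rows0 : Tr ℕ := (.node (nat_lit 4) (.node (nat_lit 2) (.node (nat_lit 1) (.leaf (nat_lit 0xfc33bfe19dbf840df8675fc33a7e19ce89073f867271fc338fe19c271cdff866ffc3377f081bf0cdbf866c329e406fe19aff0cd534621fe1037e19a7f0cd14461147964074d181e60c1d34819fc333fe199bf840d30c0d1de470bff08178a8bbecc5de030b74385fd8c6bd461386fe102f1185ba8c31e5016e630c711863f0ccbf065b9bf630cef183ad8c5178828fc3326f4927f0cc7fc20508bc413fc206a60c3bf8662fc330fe1983f840bf865f1dde92eff0813a0c2fd8c1be480df4286f90ca7ec64886e0802711873f8409d4e18e630e734017e0c9bf865e71e480dfe1977c0c37f0805fe102715073e0c17f865c47fc32ddf18aef3c5b7102dde52afe196bf0cb3fc20408fc32c7c194ff0cafcc647e281b7118dbf8409f86561dc2c18ff080ff0cab7c63cfc32a7c1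823b1c391dc3486fe101e1302be0c9dec60afc329fe194bf0ca3f86509bbed27e158f3d9817fc203c63166d191e9303df864f5cfc3277930f7f8407f864dbc313fe1933f0c97cd23671ba324fe192bf0c93f8648fc323ff080ff0c8df864532e060d4a1876e0c0f34a1dfe101e340b3f0c89f864347fc3214e187bf0c83f8640fc31ffe18fa58c3bfc20308fc31eff080bf0c79f0636bce1cfd20abf0c77f863a86fe1017e18e7e0c65e8611fc31c6180aff0c6ff48169bc03097e18dbe1425fc202f8304fe18d7f0c69f86335cfc3196160c7f8405f8631bc3147d282bf0c61f862f71fc3177e18b7f0c59f862bfa409ff080bf0c55f8629329c50efe18a3f0c4f74c0efe1017e189bf0c4bf862447fc311fe188bf0c43f8620fc30ffe187bf8405f861d1dfc30e7e186fd8c2ddc804e430bff0807f0c35f861932fc30c6f185fb0c0bf8617fe100fe185bf0c2bf861447fc309fe184bf0c23f8610fc307fe183bf0c1bfc20108fc3067e182ff0c15f8609fc3047e181ff8403f86061dfa300fe1007f0c03fc401fc302fe1813f0c07f860200)) (.leaf (nat_lit 0x9cc35506947f841b386b7a0b3bd09a9a80ca9f108d71fc3627e1b0ff0d857d2b8fc360ff0837f0d81f86bf3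29c32ffe1afbf0d7bf86bcfe106ce32e3f0d7740a4c47f03087f083350c4d80652e2316ea2993f0d75f86b986c0308e0514b04027fc20cb6f56de1956710fbf86b85cf8337541ace9a0494067e8e320cf190628d67fc20c08fc35be8198ff0d6df86b5b5145cd523ff8419f86b41dfe105e019570249fb166498f335d1832ea90b406209bbc82d6d19836bd59b865cca443ff082e710bf3066332fc359d11a2ff0d65f86b1fc3587e1abe894affc20b08fe1056228cbea019846a3e470a70185390c21f86ae9be032f59322b7ad5bf86adfe1057e1ab280c67f0a1c47fc355cd826bf0d5540643fc354ce3a5e30c27fc20a089e350fe1aa3f0d4f3c624fc3537e1a97f8415464351dc231b7f0827c0c9bf4c0bc2349e0821ff0d498d84e86c0304e0184ff8413d864efc351e02097f0d45f86a171fc3505481a3f0d3ff869efc34ecc188e90ce1fc20908fc34e4c197e5a8f9f869bfc34d7e1a67f8413f86981dc2315ff0822f0d159925ec8331661996798ad3865986fe1044e719ed8c2b74615be42c7248f7f0d2f7464a9bfc34b64197a73ccffc208c430764204628d1df86955cc060ae258bbf8411f8694c0305fe1a4ff0d25f869171b233066191e30ccda1a53f83064e199ff0d21fc20808fc347ce19ee7248bf868e94a387e1a37f84110da841dfe103dd198ae8c3571e1afc3465f4827f0d176c6619bc43315d1866d14c5fc207fc3455f7843f0d13f86885cca4296e413760cc9ad83dfe103ec1953d98bb40a4647b83257e1a1fe90cb39066be318e4818a5a4f1fc20708fc3437e1a16818674863b98341c919f3f840f012791d98d28ff081bf0d09f067c9a8187e1a0e68c8ff868286fe1037e1a07e0cef30641fc3407e19fff0cfd388679bfc33efe19f27143dfc206fc33dfe19ebf0cf3f86785c)))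 (.node (nat_lit 1) (.leaf (nat_lit 0xdc41c5a38aac8d19706acfe10cfa316f8a15bf86da479a717cf68fa58d03366d6fc36ccb4b1bf8433346381dcac167128d728c5d8cc96d6325711987f842f422d11dfe10b6e1863d0c39c061cde32ef06976618cde86269bba7466f19977b071ad44cc242761193bf842d7daa01dbe449ff0856ea12939067f23306d192be9437f86d886e6632dd18e2da895a4657fe10ada1b36eb4f5f86d7479ca37cf1a9258ce34e2c090b4dcfa26a7945dfc21508ca343ff0852f0d0fa0c61ba424de18b622569b06b386bac56681987514b5fc214d63266d1936e3941406375ca053fe022ea2297f612919c55b581a2ff84293862e1dc2d1ce1193b0a947fc213bee1e6e1856531a35a09d5cbe34a5b1ab72b9278c68ada4137f084f28da944c4032fa50a71392738c559c6d4b634a7f084a60d01cd41832be31e64189b0947b90c4ffe10967735229d8f3866f479e3204b188ff0dad3867492362461b13f0dabfc21208a034fcd1a3a93941e467bf83644e1ad7f8425406c81dfa4325e184718ca57c639de3246f6123f84233e4b11dc442aff0843ba463f4c12c472e60197310c65146c086da31361528ff8421e4e32dc52bde822a8113bf4c1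771fc36a5d7b3750cb96c68cfe1086c415e78c7df86d347fc3694f3aca30d87106bffc368d1810a4157dfc21008fe107dd4896ea19b6865adc92dec617af2c5b4c6c19be0329de603ee8cc3fc20fdc30d5c1963f0da1f86cf5cba366cc199bf841f95887dc327f0593fe1031f86ce71cec155b5233a1c29f86cddca08ff083e70d4b38a2332be35c5c82bff0d994866ea5362d27aa278c4dfc20f0887134f1225eea93d34629943427e1b2ff841f206661da6a60e11aae62887290728835f496a07f0d95fc20e08fc364c492d28b8692c64496347cc1adbf841d2d2c31da063b7f08367396bf06c5a0325fe1b22f3119f86c786fc3637e1b166b445fc20da0f1dc868edd0d052d8bd5c)) (.leaf (nat_lit 0x9ae4ac919e258cd73c8aea2d46ff088a88cc93585332fa6494f195a20d1b2c6dcfe1114b19c29bd0ff86eb479e354fe1baa89077386a59836ec91ac67bd4ffc22208987677f0886241773066b8e331c93b0a10d933463c86fe110cb19b7ea0472862f94f124d2a76595630a0689b9e714d01ae7d1ca13468f8aa40ff0885d0dc5406a33286360451b4e80d9f30ac8fe110c442fa10cd97065a47fc374c58321eb1a70d0d37c56dc28349f8c49fc2210894c40461af2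50cdb206be983674e59bff8443286251d9895b7f08827256ff4c229a369cf1903f0dd1306cb86fe1104f190a81d5d106bba034f7e1b9e330d34a0939b9c357497377f84413066a9b0664e1b33f0dcd39aac7190342471b6e7cca320ac69e359ff08827a0dd30eb632a43594c1a0ea1567f4aa1fe110521b624c0d5186e14796b53482b0648c891c6909634ac91b3ff8441260c51d923527f087e1299730c598255bc81a8bf0dcb124bb86fe10fcd3b3e2a18f10acb98b3fc918a64b53d4e0309b8a363cd1967f843f3461f9a33c491b0e7b8a51d2b7719ad4cfd28ee9b48d4c685b6d6f7f087ed8d5938674329923e4e1aba40d392d0789eb50cb1b5a40daffc21f08fc3723f1a63f0dc7046d5fc3717e1b87f843f0e67a1dfe10f4c1ada6a0fb31e80843707e1b83f0dbf286839b9494dcd19026a8ebfc21e90e44461b5e5a59f206735c8914742191660db32d4d9fe10f7e1b7b18d271467647a63184f52c3e912f746a0aac42df8a4a08cf9fc21e089a316cb224e68cb73462c9e6157f087668c45f86dd329ab244b1ab268c4b1ca2afe10ecb18e64c48b2c65d47e0a2e72196b48da9f0625ceb175f1a8e631a5fc21b08c2e51fc193f58c73b5226d231eff086a3a59d4a28032d2a1d4d1b1a7ad79306dbfc36e48a1f669471fc21a08bc71463389ff843364627c6312e528ba28d358c6ab71d2b2bde5b5338cb178e49e462f7f0866e2451f86db32))))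 (.node (nat_lit 2) (.node (nat_lit 1) (.leaf (nat_lit 0xb6a5cff08c2f30d144650b6577d17a92f0cb96c657868a36cd151426151dfc2309a35c4b1b0648d655c6ba5ca434bc83b67f846170645a4f515179d9d113120670718a477578a428bdcf554c19833e7f08c2a8cab3c64d329896dff08be20daf24c6d8335fc46afdebdc72868a8696c40c919abf845f11add8a36d47196630db7086e9719831a461aaa14d93186e79c32cff08bfe0d071a262329c377cc19ba4cdc1368affe117db1b6a70dcf30eaf4780b363b1b8dbc505f86f280341425a0bf845ee469e1de0322d3527a58d1ff06689a31a46a22244103fc22d08c8956ff08b310cbd75893b836a5f6a5278d5f446c286903514c1a0280d8b306b69e8544c61cbf84590468e1db2345607153f84577065bbc34b5c714e935b16c6d27194333de196ee0d2d90654fe115e278ca88ced9166947c0a6d7c19fe2c1d529286bc334531aabf0de3fc22b0890741c91b82b8cad3a4d092d61fe1bc3f8457390de1dac34ecb1b9e44ce5986aacc36c6c92cec2155fc22a089c9587f08a6724f7316979831d4c610e619d5246ef869cc284319a7f84532c69f843594c6ba21452b1a02c719a3664a7a1a69d711687ff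e114d01a03d8c81086cc47b4323dc1972e24996a060bb0567f08a28116f7464232a511bce1a9e1b5bd686ccb242b5918ea035d3fc22808b031ada325321ca97dc2eba326ff089e59939360d632983754e828628db51c6838435e447af22c111fc22708803704e334bf0ddf446a98a34bc719abf844f106891dfe112e6496320c917da58be3196418e260d974867f9b92346ff089248d25386a8fc3774653aa5c1ad260a986fe112531b0aa1cdd2c6de80374d419a1d0ddb706399b9515f4929d249dbbfc2239b358cb611610c530e0aa5c9ab39c71a4644513206bafe111cd60925bcd7f4e9a47fc376cd1b57f0dd8d86988234c415a63f8446ece411dfe1114a1a6e50d8d3165f903224419ee28d4d1c6979b)) (.leaf (nat_lit 0x983644449ea90cb315cc78c464cb6b7232c9dfc23f0886357c31b722b0970c6568634e401a73f847f0c6a41dfe11f491a124a8f10c6ce8633d45491228d611c64b9b96362cb1b5a70d45fc23e9835ccc736e50c83390a55c8ee3c4e52d7f847d3866386344c32a25c0de5160c9718295ac3735e294ed0c67d8a355c71aba18ce3fc23e08be32b471b1249d07306e89a3694f4ae6c3d3ffc23d08a293dda1a82e0d613c6b09c35d4d22f7f847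b0a0e41d9a66860691af0c7f3068d9a31f4e227ff8478da2f21d9a36b7f08ea7ac81346779e573c019c630cdf3c68c869b135cb19de6c12bfc23a9a621cd195a58ce8d86e65c9a35e401aeff8475346429ee28487b4630d86d14ca7186321c31bba18d83108c982353c552cbf84750c6581daa61dff08df58d534c673d634850a1d369cb11923b869c325d351ce8b55ffc2378835a434a3a019c929e9f5c9a46f4e6b43f846f046e09453f4c1a1270c9f2867c719c3344d1a3e83573752b99e3577f08de48d5d1a4be32b63234452fe60d33406b2fe11bd132ae58d3341896479e836cf51d670d013c67690a5dd09ac3f846d2a4b01db8f2a631a5bf846bb8635bab66da18f289d8dc066071991335c195eec4c1b0638fe11adc1a3268ceb71e6e47c50227f08d28314d306a6a0357c642ef224c4e5cdf868f24d4e729b39921fc234a92494c734210d095c6905c943745051fa94111b12b39036bff08d240d0cfd6e332fe119cc23a27a10d45ac4a23234e1a567a19979cd49b9f145cf53be7414bfc2338ab63c282d3f0de73867e5c9a3554a19ca6a1573c6ab9e3207f08ce68d8318a813290668cb6b327ccfd346a7fe119dc1b4e68d7b3ca4747a062cca31c650d91028e9a03505032862217ffc23208c0326e0199311c6d80655c0c32ff08c68b8f7212ea32bc36bc9725689db73e6bd92b38d11a79fc5ddfc231089a344d068cfe0ce7486ef9e3524e19b7f8462fc6e01d)))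 (.node (nat_lit 1) (.leaf (nat_lit 0x94748c18a2214d6320699fe135c379ae03943286cd47783733a4b89f0dcae96ec74975b54bc9c0d57fc26b089846e4c1ac66250b0868bfe134da19ba68d23322f0479033ac51b3a18d372068494365cd59fbf84cef06f31d88e5fcb1b7a61cff452c2943607f098e511b50c6c4329063a4b1a726c0c7406a29635ebd19e7f84c31de9b1d90d61df1a4a429a519889b8d4cc6a26ff84c1246dc1d8e34f462a7e50cd335269863757f097e40d90e1cd532a2a69cc8b2e00dd36c6cfa7339e79a43f84b7446941d8435ddf6a8a08d9d15a9c8e7354952a7f84b525e6d1d9895ece52de60cbffc25199236cc1bbe60d15286865c9d341391bb2110d8f12e281070c01b8db8db3fc25108ba330ff0933434a7a8c65cc3295d525ae8d5199054868c63d501b6210cf2f0679ba852cea1dff8498fe0e51d9a3447f092e48dd11c6da8233ccea2eae1d292c665868ed61471a964ad89146ea8e35aff092e78cbd24655329a358cc1ae268d2330cc396355401ba5c8dc3fc2490898338434b1ee31b14647a952394e1b17f84932866a1d8cf6ecb19f62317d08ed7bed784d59e3f8491186641db83265e7123f848f7064ab6c2d5c1ab65b5c1214e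e7194352ce7236d9917fc2469f33acc19d61911b386a85c9636c3e1ba618ce104671fe122cb9b766a0ef34a87477e372ba1bca211cd0a6e372373351b9998d6bfc244088a5787f090e18d690469a86361451b0220d790e47d868833ccd230258cf52e4a4fe1217d31428a0a124cd94784367c669be20d811067084374441a9ff8485106521d9cd31ff090638ce92e8819432fc55bba48d89406ad86fe120cc5af7ea085452959e667d1191a40ce4e06ed9b9075d7f08fe80d51206d18ec28ca6946235b929ec686fe11fc71b6a58da11d24b94737c81a4650c871e4b59ba8842c61b4680db9fc23f9033ec4432693d2cd86ec5c8e339521912a0d3b114b49924fff08fea1095390a632)) (.leaf (nat_lit 0x77171b91b99f0dc8f86e47cc79bd1bcdec1bbfc2a70876c65394bb7f8530f9ce56836fba6b91a8d70e50bc7170976391b95d0ddaf1aed96571bb4389c8de1fc2920888373c41b26431dd086eefe148de1b3a58dbce8ef1479c353cf72669c943fc2889a46b5a1a825391f226e25c8845a441a76195e11c6f0883637f0a1a38d9af86a232703797f0a09d8de2ee4f16c376b753b5cc98aed0858674b6ab71bc5c8dbffc2827c3727c1b95b9984e1ae75c7c370b81b85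ba1d6d86eb78372b91b7ff84fecc6e81dfe13f4d7a26321a3106928a343442b6638d472c68f9b7ee65ff09e5f8d49048d88286841521619536fc68b86963544b7aa6691752a2d29634743331da31d7fc27708988484573c239d354069dfe13b4e1addb8dd93ce994775179bd537dd0dc50c6ca6ce653a2b29bb96dfc2750874778c03b29e8de4fe2dffa5763d53adf0da7fc27108824717f09b1f91e6fe2f3723793f3bb208d72fc6b2867874c3a1bce08d95fc26c8336aca1bc5f0d52f069c5c7236fc01b91d8daaecee674378ff09b238ddeed07b3272575bf8badfc9c2f86e1fe1363f1b563c4e6e96d047)))))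
noncomputable def recs0 : Tr ℕ := (.leaf (nat_lit 0xcd8061802e2015c))
noncomputable def rows : Tr ℕ := rows0
noncomputable def recs : Tr ℕ := recs0
noncomputable def ci0 : CI := ⟨[], (nat_lit 0), false, (.node (nat_lit 1) (.leaf Rule.defn) (.leaf Rule.copy)), (.leaf (XRule.rot (nat_lit 0) [] 24 0))⟩
noncomputable def ci8 : CI := ⟨[0], (nat_lit 29), false, (.node (nat_lit 16) (.node (nat_lit 8) (.node (nat_lit 4) (.node (nat_lit 2) (.node (nat_lit 1) (.leaf Rule.defn) (.leaf Rule.copy)) (.node (nat_lit 1) (.leaf (Rule.fwd [nat_lit 29] 24 0)) (.leaf (Rule.fwd [nat_lit 71, nat_lit 71, nat_lit 134, nat_lit 8, nat_lit 134] 10 0)))) (.node (nat_lit 2) (.node (nat_lit 1) (.leaf (Rule.fwd [nat_lit 134, nat_lit 50, nat_lit 155, nat_lit 8, nat_lit 113, nat_lit 50] 22 3)) (.leaf (Rule.fwd [nat_lit 113, nat_lit 71, nat_lit 113, nat_lit 29, nat_lit 92, nat_lit 92] 17 5))) (.node (nat_lit 1) (.leaf (Rule.fwd [nat_lit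 50, nat_lit 29, nat_lit 113, nat_lit 8, nat_lit 155, nat_lit 50] 12 0)) (.leaf (Rule.fwd [nat_lit 71, nat_lit 29, nat_lit 71, nat_lit 134, nat_lit 29, nat_lit 92] 13 3))))) (.node (nat_lit 4) (.node (nat_lit 2) (.node (nat_lit 1) (.leaf (Rule.fwd [nat_lit 155, nat_lit 50, nat_lit 8, nat_lit 50, nat_lit 29, nat_lit 113] 12 4)) (.leaf (Rule.fwd [nat_lit 50, nat_lit 155, nat_lit 113, nat_lit 71, nat_lit 8, nat_lit 134] 14 0))) (.node (nat_lit 1) (.leaf (Rule.fwd [nat_lit 71, nat_lit 71, nat_lit 29, nat_lit 50, nat_lit 50, nat_lit 50, nat_lit 113] 6 0)) (.leaf (Rule.fwd [nat_lit 92, nat_lit 50, nat_lit 92, nat_lit 29, nat_lit 113, nat_lit 113] 16 0)))) (.node (nat_lit 2) (.node (nat_lit 1) (.leaf (Rule.fwd [nat_lit 134, nat_lit 8, nat_lit 50, nat_lit 155, nat_lit 113, nat_lit 71] 14 5)) (.leaf (Rule.fwd [nat_lit 92, nat_lit 50, nat_lit 113, nat_lit 155, nat_lit 8, nat_lit 134] 18 0))) (.node (nat_lit 1) (.leaf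 (Rule.fwd [nat_lit 134, nat_lit 8, nat_lit 92, nat_lit 50, nat_lit 113, nat_lit 155] 18 5)) (.leaf (Rule.fwd [nat_lit 134, nat_lit 8, nat_lit 71, nat_lit 71, nat_lit 134] 10 4)))))) (.node (nat_lit 2) (.node (nat_lit 1) (.leaf (Rule.fwd [nat_lit 50, nat_lit 50, nat_lit 29, nat_lit 92, nat_lit 71, nat_lit 71, nat_lit 71] 7 4)) (.leaf (Rule.fwd [nat_lit 113, nat_lit 50, nat_lit 8, nat_lit 134, nat_lit 50, nat_lit 155] 22 0))) (.leaf (Rule.fwd [nat_lit 50, nat_lit 29, nat_lit 50, nat_lit 8, nat_lit 155, nat_lit 8, nat_lit 71, nat_lit 8] 8 3)))), (.node (nat_lit 1) (.leaf XRule.defn) (.leaf XRule.defn))⟩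
noncomputable def ci29 : CI := ⟨[1], (nat_lit 8), false, (.node (nat_lit 16) (.node (nat_lit 8) (.node (nat_lit 4) (.node (nat_lit 2) (.node (nat_lit 1) (.leaf Rule.defn) (.leaf Rule.copy)) (.node (nat_lit 1) (.leaf (Rule.fwd [nat_lit 8] 24 0)) (.leaf (Rule.fwd [nat_lit 134, nat_lit 71, nat_lit 155, nat_lit 29, nat_lit 71, nat_lit 92] 23 1)))) (.node (nat_lit 2) (.node (nat_lit 1) (.leaf (Rule.fwd [nat_lit 155, nat_lit 50, nat_lit 50, nat_lit 29, nat_lit 155] 11 5)) (.leaf (Rule.fwd [nat_lit 155, nat_lit 29, nat_lit 155, nat_lit 50, nat_lit 50] 11 1))) (.node (nat_lit 1) (.leaf (Rule.fwd [nat_lit 134, nat_lit 92, nat_lit 71, nat_lit 113, nat_lit 29, nat_lit 155] 19 6)) (.leaf (Rule.fwd [nat_lit 113, nat_lit 8, nat_lit 155, nat_lit 50, nat_lit 8, nat_lit 50] 12 2))))) (.node (nat_lit 4) (.node (nat_lit 2) (.node (nat_lit 1) (.leaf (Rule.fwd [nat_lit 50, nat_lit 92, nat_lit 134, nat_lit 71, nat_lit 29, nat_lit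 155] 15 6)) (.leaf (Rule.fwd [nat_lit 155, nat_lit 29, nat_lit 50, nat_lit 92, nat_lit 134, nat_lit 71] 15 1))) (.node (nat_lit 1) (.leaf (Rule.fwd [nat_lit 71, nat_lit 134, nat_lit 29, nat_lit 92, nat_lit 8, nat_lit 71] 13 1)) (.leaf (Rule.fwd [nat_lit 50, nat_lit 50, nat_lit 50, nat_lit 113, nat_lit 8, nat_lit 71, nat_lit 71] 6 3)))) (.node (nat_lit 2) (.node (nat_lit 1) (.leaf (Rule.fwd [nat_lit 71, nat_lit 92, nat_lit 29, nat_lit 134, nat_lit 71, nat_lit 155] 23 4)) (.leaf (Rule.fwd [nat_lit 113, nat_lit 113, nat_lit 8, nat_lit 92, nat_lit 50, nat_lit 92] 16 4))) (.node (nat_lit 1) (.leaf (Rule.fwd [nat_lit 92, nat_lit 8, nat_lit 71, nat_lit 29, nat_lit 71, nat_lit 134] 13 5)) (.leaf (Rule.fwd [nat_lit 92, nat_lit 92, nat_lit 8, nat_lit 113, nat_lit 71, nat_lit 113] 17 1)))))) (.node (nat_lit 1) (.leaf (Rule.fwd [nat_lit 92, nat_lit 71, nat_lit 71, nat_lit 71, nat_lit 8, nat_lit 50, nat_lit 50] 7 1))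 (.leaf (Rule.fwd [nat_lit 155, nat_lit 29, nat_lit 134, nat_lit 92, nat_lit 71, nat_lit 113] 19 1)))), (.node (nat_lit 1) (.leaf XRule.defn) (.leaf XRule.defn))⟩
noncomputable def ci50 : CI := ⟨[2], (nat_lit 71), false, (.node (nat_lit 16) (.node (nat_lit 8) (.node (nat_lit 4) (.node (nat_lit 2) (.node (nat_lit 1) (.leaf Rule.defn) (.leaf Rule.copy)) (.node (nat_lit 1) (.leaf (Rule.fwd [nat_lit 71] 24 0)) (.leaf (Rule.fwd [nat_lit 8, nat_lit 50, nat_lit 29, nat_lit 113, nat_lit 8, nat_lit 155] 12 6)))) (.node (nat_lit 2) (.node (nat_lit 1) (.leaf (Rule.fwd [nat_lit 92, nat_lit 29, nat_lit 113, nat_lit 113, nat_lit 8, nat_lit 92] 16 2)) (.leaf (Rule.fwd [nat_lit 29, nat_lit 155, nat_lit 29, nat_lit 155, nat_lit 50] 11 2))) (.node (nat_lit 1) (.leaf (Rule.fwd [nat_lit 92, nat_lit 134, nat_lit 71, nat_lit 29, nat_lit 155, nat_lit 29] 15 5)) (.leaf (Rule.fwd [nat_lit 50, nat_lit 113, nat_lit 8, nat_lit 71,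 nat_lit 71, nat_lit 29, nat_lit 50] 6 5))))) (.node (nat_lit 4) (.node (nat_lit 2) (.node (nat_lit 1) (.leaf (Rule.fwd [nat_lit 155, nat_lit 8, nat_lit 113, nat_lit 50, nat_lit 8, nat_lit 134] 22 5)) (.leaf (Rule.fwd [nat_lit 155, nat_lit 113, nat_lit 71, nat_lit 8, nat_lit 134, nat_lit 8] 14 1))) (.node (nat_lit 1) (.leaf (Rule.fwd [nat_lit 29, nat_lit 113, nat_lit 8, nat_lit 155, nat_lit 50, nat_lit 8] 12 1)) (.leaf (Rule.fwd [nat_lit 29, nat_lit 92, nat_lit 71, nat_lit 71, nat_lit 71, nat_lit 8, nat_lit 50] 7 2)))) (.node (nat_lit 2) (.node (nat_lit 1) (.leaf (Rule.fwd [nat_lit 113, nat_lit 155, nat_lit 8, nat_lit 134, nat_lit 8, nat_lit 92] 18 2)) (.leaf (Rule.fwd [nat_lit 113, nat_lit 8, nat_lit 71, nat_lit 71, nat_lit 29, nat_lit 50, nat_lit 50] 6 6))) (.node (nat_lit 1) (.leaf (Rule.fwd [nat_lit 8, nat_lit 134, nat_lit 50, nat_lit 155, nat_lit 8, nat_lit 113] 22 2)) (.leaf (Rule.fwd [nat_lit 50,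 nat_lit 50, nat_lit 113, nat_lit 8, nat_lit 71, nat_lit 71, nat_lit 29] 6 4)))))) (.node (nat_lit 2) (.node (nat_lit 1) (.leaf (Rule.fwd [nat_lit 8, nat_lit 155, nat_lit 8, nat_lit 71, nat_lit 8, nat_lit 8, nat_lit 50, nat_lit 29] 8 6)) (.leaf (Rule.fwd [nat_lit 29, nat_lit 134, nat_lit 29, nat_lit 71, nat_lit 8, nat_lit 71, nat_lit 29, nat_lit 29] 9 2))) (.node (nat_lit 1) (.leaf (Rule.fwd [nat_lit 50, nat_lit 29, nat_lit 92, nat_lit 71, nat_lit 71, nat_lit 71, nat_lit 8] 7 3)) (.leaf (Rule.fwd [nat_lit 50, nat_lit 29, nat_lit 155, nat_lit 29, nat_lit 155] 11 3))))), (.node (nat_lit 1) (.leaf XRule.defn) (.leaf XRule.defn))⟩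
noncomputable def ci71 : CI := ⟨[3], (nat_lit 50), false, (.node (nat_lit 16) (.node (nat_lit 8) (.node (nat_lit 4) (.node (nat_lit 2) (.node (nat_lit 1) (.leaf Rule.defn) (.leaf Rule.copy)) (.node (nat_lit 1) (.leaf (Rule.fwd [nat_lit 50] 24 0)) (.leaf (Rule.fwd [nat_lit 134, nat_lit 8, nat_lit 134, nat_lit 8, nat_lit 71] 10 2)))) (.node (nat_lit 2) (.node (nat_lit 1) (.leaf (Rule.fwd [nat_lit 92, nat_lit 29, nat_lit 134, nat_lit 71, nat_lit 155, nat_lit 29] 23 3)) (.leaf (Rule.fwd [nat_lit 29, nat_lit 50, nat_lit 50, nat_lit 50, nat_lit 113, nat_lit 8, nat_lit 71] 6 2))) (.node (nat_lit 1) (.leaf (Rule.fwd [nat_lit 29, nat_lit 71, nat_lit 134, nat_lit 29, nat_lit 92, nat_lit 8] 13 2)) (.leaf (Rule.fwd [nat_lit 71, nat_lit 134, nat_lit 8, nat_lit 134, nat_lit 8] 10 1))))) (.node (nat_lit 4) (.node (nat_lit 2) (.node (nat_lit 1) (.leaf (Rule.fwd [nat_lit 29, nat_lit 155, nat_lit 29, nat_lit 50, nat_lit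 92, nat_lit 134] 15 2)) (.leaf (Rule.fwd [nat_lit 8, nat_lit 50, nat_lit 50, nat_lit 29, nat_lit 92, nat_lit 71, nat_lit 71] 7 5))) (.node (nat_lit 1) (.leaf (Rule.fwd [nat_lit 134, nat_lit 29, nat_lit 92, nat_lit 8, nat_lit 71, nat_lit 29] 13 0)) (.leaf (Rule.fwd [nat_lit 8, nat_lit 134, nat_lit 8, nat_lit 50, nat_lit 155, nat_lit 113] 14 4)))) (.node (nat_lit 2) (.node (nat_lit 1) (.leaf (Rule.fwd [nat_lit 71, nat_lit 29, nat_lit 50, nat_lit 50, nat_lit 50, nat_lit 113, nat_lit 8] 6 1)) (.leaf (Rule.fwd [nat_lit 113, nat_lit 29, nat_lit 155, nat_lit 29, nat_lit 134, nat_lit 92] 19 3))) (.node (nat_lit 1) (.leaf (Rule.fwd [nat_lit 155, nat_lit 29, nat_lit 71, nat_lit 92, nat_lit 29, nat_lit 134] 23 6)) (.leaf (Rule.fwd [nat_lit 71, nat_lit 8, nat_lit 50, nat_lit 50, nat_lit 29, nat_lit 92, nat_lit 71] 7 6)))))) (.node (nat_lit 2) (.node (nat_lit 1) (.leaf (Rule.fwd [nat_lit 8, nat_lit 8, nat_lit 50, nat_lit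 29, nat_lit 50, nat_lit 8, nat_lit 155, nat_lit 8] 8 1)) (.leaf (Rule.fwd [nat_lit 71, nat_lit 71, nat_lit 8, nat_lit 50, nat_lit 50, nat_lit 29, nat_lit 92] 7 7))) (.leaf (Rule.fwd [nat_lit 113, nat_lit 29, nat_lit 92, nat_lit 92, nat_lit 8, nat_lit 113] 17 3)))), (.node (nat_lit 1) (.leaf XRule.defn) (.leaf XRule.defn))⟩
noncomputable def ci92 : CI := ⟨[4], (nat_lit 113), true, (.node (nat_lit 16) (.node (nat_lit 8) (.node (nat_lit 4) (.node (nat_lit 2) (.node (nat_lit 1) (.leaf Rule.defn) (.leaf Rule.copy)) (.node (nat_lit 1) (.leaf (Rule.fwd [nat_lit 113] 24 0)) (.leaf (Rule.fwd [nat_lit 50, nat_lit 113, nat_lit 155, nat_lit 8, nat_lit 134, nat_lit 8] 18 1)))) (.node (nat_lit 2) (.node (nat_lit 1) (.leaf (Rule.fwd [nat_lit 29, nat_lit 113, nat_lit 113, nat_lit 8, nat_lit 92, nat_lit 50] 16 3)) (.leaf (Rule.fwd [nat_lit 155, nat_lit 92, nat_lit 155] 0 0))) (.node (nat_lit 1) (.leaf (Rule.fwd [nat_lit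 92, nat_lit 92, nat_lit 92, nat_lit 92, nat_lit 92] 20 0)) (.leaf (Rule.fwd [nat_lit 71, nat_lit 71, nat_lit 71, nat_lit 8, nat_lit 50, nat_lit 50, nat_lit 29] 7 0))))) (.node (nat_lit 4) (.node (nat_lit 2) (.node (nat_lit 1) (.leaf (Rule.fwd [nat_lit 29, nat_lit 134, nat_lit 71, nat_lit 155, nat_lit 29, nat_lit 71] 23 2)) (.leaf (Rule.fwd [nat_lit 50, nat_lit 92, nat_lit 29, nat_lit 113, nat_lit 113, nat_lit 8] 16 1))) (.node (nat_lit 1) (.leaf (Rule.fwd [nat_lit 92, nat_lit 134, nat_lit 92, nat_lit 92, nat_lit 134] 2 0)) (.leaf (Rule.fwd [nat_lit 134, nat_lit 134, nat_lit 134, nat_lit 134, nat_lit 92, nat_lit 92] 4 2)))) (.node (nat_lit 2) (.node (nat_lit 1) (.leaf (Rule.fwd [nat_lit 134, nat_lit 71, nat_lit 29, nat_lit 155, nat_lit 29, nat_lit 50] 15 4)) (.leaf (Rule.fwd [nat_lit 134, nat_lit 92, nat_lit 92, nat_lit 134, nat_lit 92] 2 1))) (.node (nat_lit 1) (.leaf (Rule.fwd [nat_lit 71, nat_lit 113,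 nat_lit 29, nat_lit 155, nat_lit 29, nat_lit 134] 19 4)) (.leaf (Rule.fwd [nat_lit 92, nat_lit 134, nat_lit 134, nat_lit 134, nat_lit 134, nat_lit 92] 4 1)))))) (.node (nat_lit 2) (.node (nat_lit 1) (.leaf (Rule.fwd [nat_lit 8, nat_lit 71, nat_lit 29, nat_lit 71, nat_lit 134, nat_lit 29] 13 4)) (.leaf (Rule.fwd [nat_lit 8, nat_lit 113, nat_lit 71, nat_lit 113, nat_lit 29, nat_lit 92] 17 6))) (.node (nat_lit 1) (.leaf (Rule.fwd [nat_lit 92, nat_lit 8, nat_lit 113, nat_lit 71, nat_lit 113, nat_lit 29] 17 0)) (.leaf (Rule.fwd [nat_lit 92, nat_lit 92, nat_lit 134, nat_lit 134, nat_lit 134, nat_lit 134] 4 0))))), (.node (nat_lit 1) (.leaf XRule.defn) (.leaf XRule.ax))⟩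
noncomputable def ci113 : CI := ⟨[5], (nat_lit 92), true, (.node (nat_lit 16) (.node (nat_lit 8) (.node (nat_lit 4) (.node (nat_lit 2) (.node (nat_lit 1) (.leaf Rule.defn) (.leaf Rule.copy)) (.node (nat_lit 1) (.leaf (Rule.fwd [nat_lit 92] 24 0)) (.leaf (Rule.fwd [nat_lit 8, nat_lit 155, nat_lit 50, nat_lit 8, nat_lit 50, nat_lit 29] 12 3)))) (.node (nat_lit 2) (.node (nat_lit 1) (.leaf (Rule.fwd [nat_lit 155, nat_lit 8, nat_lit 134, nat_lit 8, nat_lit 92, nat_lit 50] 18 3)) (.leaf (Rule.fwd [nat_lit 8, nat_lit 92, nat_lit 50, nat_lit 92, nat_lit 29, nat_lit 113] 16 6))) (.node (nat_lit 1) (.leaf (Rule.fwd [nat_lit 29, nat_lit 92, nat_lit 92, nat_lit 8, nat_lit 113, nat_lit 71] 17 2)) (.leaf (Rule.fwd [nat_lit 134, nat_lit 113, nat_lit 134] 1 1))))) (.node (nat_lit 4) (.node (nat_lit 2) (.node (nat_lit 1) (.leaf (Rule.fwd [nat_lit 113, nat_lit 113, nat_lit 155, nat_lit 155, nat_lit 155, nat_lit 155] 5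 3)) (.leaf (Rule.fwd [nat_lit 113, nat_lit 155, nat_lit 113, nat_lit 113, nat_lit 155] 3 2))) (.node (nat_lit 1) (.leaf (Rule.fwd [nat_lit 113, nat_lit 8, nat_lit 92, nat_lit 50, nat_lit 92, nat_lit 29] 16 5)) (.leaf (Rule.fwd [nat_lit 50, nat_lit 8, nat_lit 134, nat_lit 50, nat_lit 155, nat_lit 8] 22 1)))) (.node (nat_lit 2) (.node (nat_lit 1) (.leaf (Rule.fwd [nat_lit 155, nat_lit 113, nat_lit 113, nat_lit 155, nat_lit 113] 3 1)) (.leaf (Rule.fwd [nat_lit 71, nat_lit 113, nat_lit 29, nat_lit 92, nat_lit 92, nat_lit 8] 17 4))) (.node (nat_lit 1) (.leaf (Rule.fwd [nat_lit 71, nat_lit 8, nat_lit 134, nat_lit 8, nat_lit 50, nat_lit 155] 14 3)) (.leaf (Rule.fwd [nat_lit 113, nat_lit 113, nat_lit 113, nat_lit 113, nat_lit 113] 21 0)))))) (.node (nat_lit 2) (.node (nat_lit 1) (.leaf (Rule.fwd [nat_lit 155, nat_lit 155, nat_lit 155, nat_lit 155, nat_lit 113, nat_lit 113] 5 1)) (.leaf (Rule.fwd [nat_lit 29, nat_lit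 155, nat_lit 29, nat_lit 134, nat_lit 92, nat_lit 71] 19 2))) (.leaf (Rule.fwd [nat_lit 8, nat_lit 71, nat_lit 71, nat_lit 29, nat_lit 50, nat_lit 50, nat_lit 50] 6 7)))), (.node (nat_lit 1) (.leaf XRule.defn) (.leaf XRule.ax))⟩
noncomputable def ci134 : CI := ⟨[6], (nat_lit 155), true, (.node (nat_lit 16) (.node (nat_lit 8) (.node (nat_lit 4) (.node (nat_lit 2) (.node (nat_lit 1) (.leaf Rule.defn) (.leaf Rule.copy)) (.node (nat_lit 1) (.leaf (Rule.fwd [nat_lit 155] 24 0)) (.leaf (Rule.fwd [nat_lit 8, nat_lit 50, nat_lit 155, nat_lit 113, nat_lit 71, nat_lit 8] 14 6)))) (.node (nat_lit 2) (.node (nat_lit 1) (.leaf (Rule.fwd [nat_lit 8, nat_lit 134, nat_lit 8, nat_lit 71, nat_lit 71] 10 3)) (.leaf (Rule.fwd [nat_lit 134, nat_lit 134, nat_lit 134, nat_lit 92, nat_lit 92, nat_lit 92] 4 3))) (.node (nat_lit 1) (.leaf (Rule.fwd [nat_lit 92, nat_lit 71, nat_lit 113, nat_lit 29, nat_lit 155, nat_lit 29] 19 5))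 (.leaf (Rule.fwd [nat_lit 8, nat_lit 92, nat_lit 50, nat_lit 113, nat_lit 155, nat_lit 8] 18 6))))) (.node (nat_lit 4) (.node (nat_lit 2) (.node (nat_lit 1) (.leaf (Rule.fwd [nat_lit 134, nat_lit 134, nat_lit 92, nat_lit 92, nat_lit 92, nat_lit 134] 4 4)) (.leaf (Rule.fwd [nat_lit 113, nat_lit 134, nat_lit 113] 1 0))) (.node (nat_lit 1) (.leaf (Rule.fwd [nat_lit 92, nat_lit 92, nat_lit 134, nat_lit 92, nat_lit 92] 2 2)) (.leaf (Rule.fwd [nat_lit 92, nat_lit 92, nat_lit 92, nat_lit 134, nat_lit 134, nat_lit 134] 4 6)))) (.node (nat_lit 2) (.node (nat_lit 1) (.leaf (Rule.fwd [nat_lit 8, nat_lit 71, nat_lit 71, nat_lit 134, nat_lit 8] 10 5)) (.leaf (Rule.fwd [nat_lit 71, nat_lit 29, nat_lit 155, nat_lit 29, nat_lit 50, nat_lit 92] 15 3))) (.node (nat_lit 1) (.leaf (Rule.fwd [nat_lit 134, nat_lit 92, nat_lit 92, nat_lit 92, nat_lit 134, nat_lit 134] 4 5)) (.leaf (Rule.fwd [nat_lit 71, nat_lit 155, nat_lit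 29, nat_lit 71, nat_lit 92, nat_lit 29] 23 0)))))) (.node (nat_lit 1) (.leaf (Rule.fwd [nat_lit 29, nat_lit 92, nat_lit 8, nat_lit 71, nat_lit 29, nat_lit 71] 13 6)) (.leaf (Rule.fwd [nat_lit 50, nat_lit 155, nat_lit 8, nat_lit 113, nat_lit 50, nat_lit 8] 22 4)))), (.node (nat_lit 1) (.leaf XRule.defn) (.leaf XRule.ax))⟩
noncomputable def ci155 : CI := ⟨[7], (nat_lit 134), true, (.node (nat_lit 16) (.node (nat_lit 8) (.node (nat_lit 4) (.node (nat_lit 2) (.node (nat_lit 1) (.leaf Rule.defn) (.leaf Rule.copy)) (.node (nat_lit 1) (.leaf (Rule.fwd [nat_lit 134] 24 0)) (.leaf (Rule.fwd [nat_lit 50, nat_lit 8, nat_lit 50, nat_lit 29, nat_lit 113, nat_lit 8] 12 5)))) (.node (nat_lit 2) (.node (nat_lit 1) (.leaf (Rule.fwd [nat_lit 29, nat_lit 71, nat_lit 92, nat_lit 29, nat_lit 134, nat_lit 71] 23 5)) (.leaf (Rule.fwd [nat_lit 8, nat_lit 113, nat_lit 50, nat_lit 8, nat_lit 134, nat_lit 50] 22 6))) (.node (nat_lit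 1) (.leaf (Rule.fwd [nat_lit 50, nat_lit 50, nat_lit 29, nat_lit 155, nat_lit 29] 11 4)) (.leaf (Rule.fwd [nat_lit 8, nat_lit 134, nat_lit 8, nat_lit 92, nat_lit 50, nat_lit 113] 18 4))))) (.node (nat_lit 4) (.node (nat_lit 2) (.node (nat_lit 1) (.leaf (Rule.fwd [nat_lit 113, nat_lit 113, nat_lit 113, nat_lit 155, nat_lit 155, nat_lit 155] 5 4)) (.leaf (Rule.fwd [nat_lit 29, nat_lit 155, nat_lit 50, nat_lit 50, nat_lit 29] 11 0))) (.node (nat_lit 1) (.leaf (Rule.fwd [nat_lit 113, nat_lit 71, nat_lit 8, nat_lit 134, nat_lit 8, nat_lit 50] 14 2)) (.leaf (Rule.fwd [nat_lit 92, nat_lit 155, nat_lit 92] 0 1)))) (.node (nat_lit 2) (.node (nat_lit 1) (.leaf (Rule.fwd [nat_lit 155, nat_lit 155, nat_lit 113, nat_lit 113, nat_lit 113, nat_lit 155] 5 6)) (.leaf (Rule.fwd [nat_lit 113, nat_lit 113, nat_lit 155, nat_lit 113, nat_lit 113] 3 0))) (.node (nat_lit 1) (.leaf (Rule.fwd [nat_lit 29, nat_lit 50, nat_lit 92,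 nat_lit 134, nat_lit 71, nat_lit 29] 15 0)) (.leaf (Rule.fwd [nat_lit 8, nat_lit 71, nat_lit 8, nat_lit 8, nat_lit 50, nat_lit 29, nat_lit 50, nat_lit 8] 8 8)))))) (.node (nat_lit 2) (.node (nat_lit 1) (.leaf (Rule.fwd [nat_lit 155, nat_lit 155, nat_lit 155, nat_lit 113, nat_lit 113, nat_lit 113] 5 0)) (.leaf (Rule.fwd [nat_lit 155, nat_lit 113, nat_lit 113, nat_lit 113, nat_lit 155, nat_lit 155] 5 5))) (.leaf (Rule.fwd [nat_lit 29, nat_lit 134, nat_lit 92, nat_lit 71, nat_lit 113, nat_lit 29] 19 0)))), (.node (nat_lit 1) (.leaf XRule.defn) (.leaf XRule.ax))⟩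
noncomputable def outer : Tr CI := (.node (nat_lit 1) (.node (nat_lit 2) (.node (nat_lit 4) (.node (nat_lit 8) (.leaf ci0) (.leaf ci8)) (.leaf ci92)) (.node (nat_lit 4) (.leaf ci50) (.leaf ci134))) (.node (nat_lit 2) (.node (nat_lit 4) (.leaf ci113) (.leaf ci29)) (.node (nat_lit 4) (.leaf ci155) (.leaf ci71))))
def cols : List ℕ := [nat_lit 8, nat_lit 29, nat_lit 50, nat_lit 71, nat_lit 92, nat_lit 113, nat_lit 134, nat_lit 155]
def invL : List ℕ := [1, 0, 3, 2, 5, 4, 7, 6]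
def rels : List (List ℕ) := [[4, 7, 4, 7], [4, 4, 6, 4, 4, 6], [4, 4, 4, 6, 6, 6, 6], [0, 3, 3, 1, 2, 2, 2, 5], [0, 3, 0, 0, 2, 1, 2, 0, 7], [0, 3, 3, 6, 0, 6], [0, 2, 1, 5, 0, 7, 2], [0, 2, 7, 5, 3, 0, 6], [0, 4, 2, 4, 1, 5, 5], [0, 4, 2, 5, 7, 0, 6], [4, 4, 4, 4, 4, 4], [0, 5, 2, 0, 6, 2, 7]]
def subs : List (List ℕ) := [[4], [5], [6], [7]]
noncomputable def row (n : ℕ) : ℕ := rowOf (fun h => rows.get h) (nat_lit 5) (nat_lit 31) (nat_lit 176) (nat_lit 0xffffffffffffffffffffffffffffffffffffffffffff) n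
noncomputable def xleaf (h : ℕ) : ℕ := recs.get h
noncomputable def mF : ℕ → ℕ := mainRow row (rowChk row xleaf outer (nat_lit 9) (nat_lit 511) (nat_lit 31) (nat_lit 14) (nat_lit 16383) (nat_lit 2097151) (nat_lit 128) (nat_lit 243) (nat_lit 256) (nat_lit 8) (nat_lit 255) (nat_lit 17) (nat_lit 131071) (nat_lit 8) (nat_lit 255) cols)
noncomputable def xF : ℕ → ℕ → ℕ := xLeaf row xleaf outer (nat_lit 511) (nat_lit 14) (nat_lit 2097151) (nat_lit 128) (nat_lit 243) (nat_lit 8) (nat_lit 255) (nat_lit 17) (nat_lit 131071) (nat_lit 130816) (nat_lit 8) (nat_lit 255) (nat_lit 10) (nat_lit 1023) (nat_lit 2) (nat_lit 3) (nat_lit 155) (nat_lit 62208) (nat_lit 128)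
noncomputable def cert : Cert := ⟨row, xleaf, outer, cols, nat_lit 9, nat_lit 511, nat_lit 31, nat_lit 14, nat_lit 16383, nat_lit 2097151, nat_lit 128, nat_lit 243, nat_lit 256, nat_lit 8, nat_lit 255, nat_lit 17, nat_lit 131071, nat_lit 130816, nat_lit 8, nat_lit 255, nat_lit 10, nat_lit 1023, nat_lit 2, nat_lit 3, nat_lit 155, nat_lit 62208, nat_lit 128, nat_lit 21, nat_lit 128, nat_lit 1⟩
theorem tabok : tabOK (fun i => invL.getD i i) rels subs outer cols (nat_lit 8) (nat_lit 155) = true := by decide +kernel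
theorem m0 : rng mF (nat_lit 1) (nat_lit 243) = 0 := by decide +kernel
noncomputable def s0 : List ℕ := [nat_lit 0x401000000000000000000000000000000000000000000000000000000000000000000000000000000000000000000000000000000000000000000000000000000000000000000000000000000000000000000000000000000000000000000000000000000000000000000000000000000000000000000000000000000000000000000000000000000000000000000000000000000000000000000000000000]
theorem x0 : xs xF s0 (nat_lit 1) = 0 := by decide +kernel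
theorem mz0 : AllZ mF 1 (nat_lit 244) := (AllZ.step (AllZ.nil mF 1) (nat_lit 243) (nat_lit 244) rfl m0)
theorem xz0 : XZ xF (nat_lit 1) := (XZ.step (XZ.nil xF) s0 (nat_lit 1) (nat_lit 1) (by decide +kernel) x0)
/-- the certificate (243 points) is valid -/
theorem valid : cert.Valid (fun i => invL.getD i i) rels subs 8 :=
  ⟨by decide +kernel, tabok, by decide +kernel, mz0, xz0⟩
theorem cert_N : cert.N = 243 := rfl

end CL.TC.GG23L2
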