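import Cfsg.Agent.Spor.TCSound

/-! coset enumeration certificate generated by tools/tc -/

set_option maxRecDepth 100000
set_option autoImplicit false
set_option linter.all false

namespace CL.TC.GG23L3

noncomputable def rows0 : Tr ℕ := (.node (nat_lit 1) (.leaf (nat_lit 0xfe21df8cbbea07f891d81fc437db087a319f8e2303da0cfe32dfe21bf6088d7e32cfe219dcc83ea06adfe219f8cafd18a7c52881f0c47f885f9321f884ab7f8857c712f8653f8caa07e329f463dfc42bdc0f9af8629fc427ea867b9235bfc427db0b7d40bf2a4903d18bff108fc651f0c9d6fb322fc64fecc8ff88407fe20ff5863e1937b71c81f8c9bf192ff107fac166bd98d7f106fc649f501d6ff106faa37ecc7fea8740f463ff508ff8837a70935f8c8ff882fe322f8640b7f190fe320f8623fc4143ff104fc63ff0c77f18f40fc63bf8c73f8827c31835f8c6ff881fc313f862eb7f881fe31afa80bf8c6607e318fc62fe4c43f88187fc62dfc40bf18afd4045bfc40bf18a7c312fc62703f1897e311fe205f8c40d7e30ffe203f8c3be1852dfe203f8c37e1847e30c81f8c2ff1857e309fe2021ff1847e307fe203f8c18d7e305fc609f8c0ff18100))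 (.leaf (nat_lit 0xf2655fc49b9996f942c5bfc497b9947332eea65703f8907a629ec659d14be07f11ef2c43e10afa49840f464ffc477c1987742e5bfc473c9917642fee65b03ba127a430fe235ecc84d7932efe233e8c97ea0d2df0a5fe0c93d98e7f1160ffc457da167d416f504d03f1987f113f264ff50516ff113fc65fecc6fda94c0f2851d8cabc18bff1120ff0c43f887fa318f8a2ab7d295fc815f863dfc43c3f832dfe21df14abd48dad)))
noncomputable def recs0 : Tr ℕ := (.leaf (nat_lit 0x0))
noncomputable def rows : Tr ℕ := rows0
noncomputable def recs : Tr ℕ := recs0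
noncomputable def ci0 : CI := ⟨[], (nat_lit 0), false, (.node (nat_lit 1) (.leaf Rule.defn) (.leaf Rule.copy)), (.leaf (XRule.rot (nat_lit 0) [] 6 0))⟩
noncomputable def ci7 : CI := ⟨[0], (nat_lit 26), false, (.node (nat_lit 8) (.node (nat_lit 4) (.node (nat_lit 2) (.node (nat_lit 1) (.leaf Rule.defn) (.leaf Rule.copy)) (.node (nat_lit 1) (.leaf (Rule.fwd [nat_lit 26] 6 0)) (.leaf (Rule.fwd [nat_lit 64, nat_lit 7, nat_lit 64] 0 0)))) (.node (nat_lit 2) (.node (nat_lit 1) (.leaf (Rule.fwd [nat_lit 7, nat_lit 45, nat_lit 7, nat_lit 7, nat_lit 45] 2 0)) (.leaf (Rule.fwd [nat_lit 45, nat_lit 7, nat_lit 7, nat_lit 45, nat_lit 7] 2 1))) (.node (nat_lit 1) (.leaf (Rule.fwd [nat_lit 7, nat_lit 7, nat_lit 45, nat_lit 45, nat_lit 45, nat_lit 45] 4 0)) (.leaf (Rule.fwd [nat_lit 7, nat_lit 45, nat_lit 45, nat_lit 45, nat_lit 45, nat_lit 7] 4 1))))) (.leaf (Rule.fwd [nat_lit 45, nat_lit 45, nat_lit 45, nat_lit 45, nat_lit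 7, nat_lit 7] 4 2))), (.node (nat_lit 1) (.leaf XRule.defn) (.leaf XRule.defn))⟩
noncomputable def ci26 : CI := ⟨[1], (nat_lit 7), false, (.node (nat_lit 4) (.node (nat_lit 2) (.node (nat_lit 1) (.leaf Rule.defn) (.leaf Rule.copy)) (.node (nat_lit 1) (.leaf (Rule.fwd [nat_lit 7] 6 0)) (.leaf (Rule.fwd [nat_lit 45, nat_lit 26, nat_lit 45] 1 1)))) (.leaf (Rule.fwd [nat_lit 26, nat_lit 64, nat_lit 26, nat_lit 26, nat_lit 64] 3 2))), (.node (nat_lit 1) (.leaf XRule.defn) (.leaf XRule.defn))⟩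
noncomputable def ci45 : CI := ⟨[2], (nat_lit 64), false, (.node (nat_lit 4) (.node (nat_lit 2) (.node (nat_lit 1) (.leaf Rule.defn) (.leaf Rule.copy)) (.node (nat_lit 1) (.leaf (Rule.fwd [nat_lit 64] 6 0)) (.leaf (Rule.fwd [nat_lit 45, nat_lit 45, nat_lit 45, nat_lit 7, nat_lit 7, nat_lit 7] 4 3)))) (.node (nat_lit 2) (.node (nat_lit 1) (.leaf (Rule.fwd [nat_lit 45, nat_lit 45, nat_lit 7, nat_lit 7, nat_lit 7, nat_lit 45] 4 4)) (.leaf (Rule.fwd [nat_lit 45, nat_lit 7, nat_lit 7, nat_lit 7, nat_lit 45, nat_lit 45] 4 5))) (.node (nat_lit 1) (.leaf (Rule.fwd [nat_lit 7, nat_lit 7, nat_lit 7, nat_lit 45, nat_lit 45, nat_lit 45] 4 6)) (.leaf (Rule.fwd [nat_lit 7, nat_lit 7, nat_lit 45, nat_lit 7, nat_lit 7] 2 2))))), (.node (nat_lit 1) (.leaf XRule.defn) (.leaf XRule.defn))⟩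
noncomputable def ci64 : CI := ⟨[3], (nat_lit 45), false, (.node (nat_lit 4) (.node (nat_lit 2) (.node (nat_lit 1) (.leaf Rule.defn) (.leaf Rule.copy)) (.node (nat_lit 1) (.leaf (Rule.fwd [nat_lit 45] 6 0)) (.leaf (Rule.fwd [nat_lit 26, nat_lit 26, nat_lit 64, nat_lit 26, nat_lit 26] 3 0)))) (.leaf (Rule.fwd [nat_lit 64, nat_lit 64, nat_lit 26, nat_lit 26, nat_lit 26, nat_lit 64] 5 6))), (.node (nat_lit 1) (.leaf XRule.defn) (.leaf XRule.defn))⟩
noncomputable def outer : Tr CI := (.node (nat_lit 1) (.node (nat_lit 2) (.node (nat_lit 64) (.leaf ci0) (.leaf ci64)) (.leaf ci26)) (.node (nat_lit 2) (.leaf ci45) (.leaf ci7)))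
def cols : List ℕ := [nat_lit 7, nat_lit 26, nat_lit 45, nat_lit 64]
def invL : List ℕ := [1, 0, 3, 2]
def rels : List (List ℕ) := [[0, 3, 0, 3], [0, 0, 2, 0, 0, 2], [0, 0, 0, 2, 2, 2, 2]]
def subs : List (List ℕ) := []
noncomputable def row (n : ℕ) : ℕ := rowOf (fun h => rows.get h) (nat_lit 5) (nat_lit 31) (nat_lit 83) (nat_lit 0x7ffffffffffffffffffff) n
noncomputable def xleaf (h : ℕ) : ℕ := recs.get h
noncomputable def mF : ℕ → ℕ := mainRow row (rowChk row xleaf outer (nat_lit 8) (nat_lit 255) (nat_lit 15) (nat_lit 12) (nat_lit 4095) (nat_lit 524287) (nat_lit 128) (nat_lit 48) (nat_lit 256) (nat_lit 7) (nat_lit 127) (nat_lit 15) (nat_lit 32767) (nat_lit 8) (nat_lit 255) cols)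
noncomputable def xF : ℕ → ℕ → ℕ := xLeaf row xleaf outer (nat_lit 255) (nat_lit 12) (nat_lit 524287) (nat_lit 128) (nat_lit 48) (nat_lit 7) (nat_lit 127) (nat_lit 15) (nat_lit 32767) (nat_lit 32640) (nat_lit 8) (nat_lit 255) (nat_lit 10) (nat_lit 1023) (nat_lit 2) (nat_lit 3) (nat_lit 64) (nat_lit 6144) (nat_lit 128)
noncomputable def cert : Cert := ⟨row, xleaf, outer, cols, nat_lit 8, nat_lit 255, nat_lit 15, nat_lit 12, nat_lit 4095, nat_lit 524287, nat_lit 128, nat_lit 48, nat_lit 256, nat_lit 7, nat_lit 127, nat_lit 15, nat_lit 32767, nat_lit 32640, nat_lit 8, nat_lit 255, nat_lit 10, nat_lit 1023, nat_lit 2, nat_lit 3, nat_lit 64, nat_lit 6144, nat_lit 128, nat_lit 19, nat_lit 128, nat_lit 1⟩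
theorem tabok : tabOK (fun i => invL.getD i i) rels subs outer cols (nat_lit 7) (nat_lit 64) = true := by decide +kernel
theorem m0 : rng mF (nat_lit 1) (nat_lit 48) = 0 := by decide +kernel
noncomputable def s0 : List ℕ := [nat_lit 0x0]
theorem x0 : xs xF s0 (nat_lit 1) = 0 := by decide +kernel
theorem mz0 : AllZ mF 1 (nat_lit 49) := (AllZ.step (AllZ.nil mF 1) (nat_lit 48) (nat_lit 49) rfl m0)
theorem xz0 : XZ xF (nat_lit 1) := (XZ.step (XZ.nil xF) s0 (nat_lit 1) (nat_lit 1) (by decide +kernel) x0)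
/-- the certificate (48 points) is valid -/
theorem valid : cert.Valid (fun i => invL.getD i i) rels subs 4 :=
  ⟨by decide +kernel, tabok, by decide +kernel, mz0, xz0⟩
theorem cert_N : cert.N = 48 := rfl

end CL.TC.GG23L3
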