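/-
The 2-part of the multiplier of G23 (generated by tools/pc/gm.py).
-/
import Cfsg.Agent.Known.GG23

set_option autoImplicit false
set_option maxRecDepth 100000
set_option linter.all false

namespace CL.Pc.GG23
open Cfsg CL.Spor

namespace P2
noncomputable def WT : ℕ := 0xc28b2c52061820c30430c3000930a1481871c11011010000249148187144044104030a3052081480440830c3000000000c1c52060c20c2000b24b208187044102102028b24c148186044101101000000000024b24c1481450000000000000000000000
def relT : ℕ := 0x180030006000c00180000006030a001400281850000001800200040288000000301830306000000360c2000000000000000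
def dT : ℕ := 0x30140803010000c0501c080200
def eT : ℕ := 0x30005100000800003030610000000028744081818408143068818400000
def D : Data :=
  ⟨2, 6, 64, 1, 2, 12, 40, 22, 5, fun i j => tget 15 0x7fff relT (tri i j), 28, 6, 2,
    fun k l => tget 9 0x1ff dT (Nat.add (Nat.mul 6 k) l), fun k l => tget 21 0x1fffff eT (Nat.add (Nat.mul 6 k) l)⟩
def S : Fin2 :=
  ⟨26, 2, [0, 0x201, 0x70300501, 0x70200402, 0xe0100703, 0xb02, 0x702],
    [0, 0, 0, 0, 0, 0, 0, 0, 0x100000100000000000101, 0x101000100000001, 0, 0, 0x10100000001000000000000000000, 0x100000000000000000000000000, 0, 0, 0x1000001000100010101010100, 0x100010001000000000000000000, 0x1000000000001010000, 0x1000001010101000000010001, 0x1000001000101000101010001, 0, 0x1000100000101, 1, 0x100, 0x10000, 0x1000000, 0x1000000000101],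
    []⟩
def r0 : List RelC := [⟨0, 2, 0x82, 0x1701⟩, ⟨0, 3, 0xc3, 0x1801⟩, ⟨0, 4, 0x104, 0x1901⟩, ⟨0, 5, 0x145, 0x1a01⟩, ⟨0, 3, 0x41, 0x1b0101601⟩, ⟨0, 4, 0x41, 0x1b010140101001⟩, ⟨0, 3, 0x82, 0x1b010180101701⟩, ⟨0, 2, 0x41, 0x1801016010090100701⟩, ⟨0, 4, 0x44, 0x1b0101a01016010140101301⟩, ⟨0, 4, 0x43, 0x1a010190101201⟩, ⟨0, 2, 0x42, 0x1701016010090100801⟩, ⟨0, 4, 0x42, 0x1a0101901012010110100d01⟩, ⟨1, 0x145, 0, 0x14010120100901⟩, ⟨2, 0x84, 0x102, 0xd01⟩, ⟨2, 0x44, 0x101, 0x1a01019010120100d0100c01⟩]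
def rels : List RelC := (r0 ++ [])
noncomputable def W (i : ℕ) : ℕ := tget 88 0xffffffffffffffffffffff WT i
def ch : List (ℕ × ℕ × List ℕ) := [(0xf, 364, [5, 4]), (0x94, 364, [1]), (1, 364, [3, 2]), (0, 364, [6])]
theorem r0_ok : allL (chkRel D) r0 = true := by decide +kernel
theorem g1 : goalsChk D S (rels.map (·.s)) 1 6 = true := by decide +kernel
theorem w1 : rowsChk D (eqB (lazyA A 16 W) (D.n + D.NF) 6 [0, 121, 24]) 1 6 = true := by decide +kernel
theorem f0 : fusChk D (eqB (lazyA A 16 W) (D.n + D.NF) 6 [0, 121, 24]) 0 = true := by decide +kernel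
theorem f1 : fusChk D (eqB (lazyA A 16 W) (D.n + D.NF) 6 [0, 121, 24]) 1 = true := by decide +kernel
theorem ch_ok : chainChk (lazyA A 16 W) D.n 6 1 ch [] (D.p ^ D.n) = true := by decide +kernel
theorem params : Params D S rels 0 :=
  ⟨(by norm_num : Nat.Prime 2), by decide +kernel, by decide +kernel, by decide +kernel, by decide +kernel,
    by decide +kernel, by decide +kernel, by decide +kernel, by decide +kernel, by decide +kernel,
    by decide +kernel, by decide +kernel⟩
theorem checks : Checks D S rels :=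
  ⟨by decide +kernel, allL_app r0_ok (allL_end), cover_step g1 (cover_end (by decide)), by decide +kernel⟩
universe u
variable {G : Type u} {X : Type*} [Group G] [MulAction G X] {pt : ℕ → X} {x : ℕ → G}
theorem bound (h : Ful pt x) : PBound G 2 0 :=
  h.pbound params checks (cover_step w1 (cover_end (by decide))) (show ∀ k < 2, _ from below_step f1 (below_step f0 (below_end))) ch_ok (by decide +kernel)
end P2

end CL.Pc.GG23
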