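/-
The 3-part of the multiplier of G23 (generated by tools/pc/gm.py).
-/
import Cfsg.Agent.Known.GG23

set_option autoImplicit false
set_option maxRecDepth 100000
set_option linter.all false

namespace CL.Pc.GG23
open Cfsg CL.Spor

namespace P3
noncomputable def WT : ℕ := 0x24930a1471c50430830c3000028a3051c52011011020c0000024b2471470c10c20c2000930c2871450c20c2101100930a2c71882050840430c292c92cb2052060430441020c000000003061c61c21010c2000000000000000024b2c61800000000000000000000000
def relT : ℕ := 0x180030006000c00180000000000a00140028005000000030c20004028800000006183820600000000002000000000000000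
def dT : ℕ := 0x358d11ac688
def eT : ℕ := 0xc00000000145000c30a288200001861030c0000000010400000000141000000000000000000006180000000000a00006145104c30a28818410000006182080000a20808200000000000
def D : Data :=
  ⟨3, 6, 4096, 65, 9, 15, 42, 73, 9, fun i j => tget 15 0x7fff relT (tri i j), 28, 7, 2,
    fun k l => tget 3 7 dT (Nat.add (Nat.mul 7 k) l), fun k l => tget 45 0x1fffffffffff eT (Nat.add (Nat.mul 7 k) l)⟩
def S : Fin2 :=
  ⟨30, 3, [0, 0x201, 0x501, 0x901, 0x70c, 0xb18, 0x80c],
    [0, 0, 0, 0, 0x800000000000000000000000000070000, 0, 0, 0, 0, 0, 0, 0, 0x80000000000000400000100000000000000, 0x60008010602030103030806030003000600, 0x400000000050003000000000400, 0, 0x800000000000001000000000000, 0x80000, 0x70000000008000000000201000002000000, 0x4000000000000, 0x300000000000006000000000100, 0, 0x80000000000000000000000000000000000, 0x5000500000000000000, 0x400050000050803020300000400, 0x400000000000000, 0x8000000, 0x6030306060300060300020000000300],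
    [(0x1601, 3, 4)]⟩
def r0 : List RelC := [⟨0, 6, 0x1041, 0x1606⟩, ⟨0, 4, 0x1041, 0x14080100600b06⟩, ⟨0, 4, 0x42, 0x1101⟩, ⟨0, 6, 0x44, 0x1a01⟩, ⟨0, 3, 0x2082, 0x1b070170600806⟩, ⟨0, 4, 0x30c3, 0x1b070180600d06⟩, ⟨0, 5, 0x43, 0x1302⟩, ⟨0, 6, 0x43, 0x1902⟩, ⟨0, 3, 0x1041, 0x1408013080100700e0700b0600706⟩, ⟨0, 4, 0x83, 0x190701707⟩, ⟨0, 3, 0x42, 0x19040160700c02⟩, ⟨0, 0xc3, 0x43, 0x1b02019040180100e0200d0300703⟩, ⟨0, 4, 0x43, 0x1a0201904016070130201201⟩, ⟨1, 0x45, 0x141, 0x130201001⟩, ⟨1, 0x83, 0x1860c2, 0x220701a040190201807017080110400c0200801⟩, ⟨1, 0xc4, 0x186103, 0x220701a02018010170201307012020110400d0100c04⟩, ⟨2, 0x42, 0x81, 0x110700401⟩]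
def rels : List RelC := (r0 ++ [])
noncomputable def W (i : ℕ) : ℕ := tget 94 0x3fffffffffffffffffffffff WT i
def ch : List (ℕ × ℕ × List ℕ) := [(0x70, 364, [3]), (0xc, 364, [6, 4]), (0, 364, [5, 2]), (1, 364, [1])]
theorem r0_ok : allL (chkRel D) r0 = true := by decide +kernel
theorem g1 : goalsChk D S (rels.map (·.s)) 1 6 = true := by decide +kernel
theorem w1 : rowsChk D (eqB (lazyA A 17 W) (D.n + D.NF) 10 [0, 121, 24]) 1 6 = true := by decide +kernel
theorem f0 : fusChk D (eqB (lazyA A 17 W) (D.n + D.NF) 10 [0, 121, 24]) 0 = true := by decide +kernel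
theorem f1 : fusChk D (eqB (lazyA A 17 W) (D.n + D.NF) 10 [0, 121, 24]) 1 = true := by decide +kernel
theorem ch_ok : chainChk (lazyA A 17 W) D.n 10 2 ch [] (D.p ^ D.n) = true := by decide +kernel
theorem params : Params D S rels 1 :=
  ⟨(by norm_num : Nat.Prime 3), by decide +kernel, by decide +kernel, by decide +kernel, by decide +kernel,
    by decide +kernel, by decide +kernel, by decide +kernel, by decide +kernel, by decide +kernel,
    by decide +kernel, by decide +kernel⟩
theorem checks : Checks D S rels :=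
  ⟨by decide +kernel, allL_app r0_ok (allL_end), cover_step g1 (cover_end (by decide)), by decide +kernel⟩
universe u
variable {G : Type u} {X : Type*} [Group G] [MulAction G X] {pt : ℕ → X} {x : ℕ → G}
theorem bound (h : Ful pt x) : PBound G 3 1 :=
  h.pbound params checks (cover_step w1 (cover_end (by decide))) (show ∀ k < 2, _ from below_step f1 (below_step f0 (below_end))) ch_ok (by decide +kernel)
end P3

end CL.Pc.GG23
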