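import Cfsg.Agent.Spor.TCSound

/-! coset enumeration certificate generated by tools/tc -/

set_option maxRecDepth 100000
set_option autoImplicit false
set_option linter.all false

namespace CL.TC.GHSL1

noncomputable def rows0 : Tr ℕ := (.node (nat_lit 8) (.node (nat_lit 4) (.node (nat_lit 2) (.node (nat_lit 1) (.leaf (nat_lit 0xff8203ce86b3da061be206efe28619d08cb3ff06f9ff06f8e60672fc8606bc94b0ee06a0ff06f7c206eeff06f6b58832b8ed050df18377e88a59ffc101eb435a73430c7f837aff837a69d373ea4377e7833f6a0f7060435bdd4670404360ff8379ca78c23bf6c186ffe080f3e4acffc1bcbfc1bc75a484f70aa776c19b76c1913701b6b706843fc1bc32631c670196224196a83993567c70c07fe0ddfb62837c50ccfff0407c325c1c551c59e31d3fe0dddb64d99c7412d860dd98f0d4bfe0ddb8a0d36f9fd90b4d386b5bd869ad3a4b6ff8203ff06ecff06ebce36b1e5868fe38685fb86ace39e18ff06eabe869ce48c3cceb4a688edd10f6cc30fed430eed4a106ad430e78370ff8374ffc101e88a45e7874866d367fe03446544057f8374649867654328b27401a4ff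c1b9ffc1b9bfc1b972e1a17427253fe080ffc1b93f018379c1abbee181b7a59a7fc1b8ec819579818ff28a2cdc3fe0dc5fe0dc3fe0dc1c40d15fe0dbfc65441fe0dbd770d61d20d1bff0407f70c1df91db99d0d9b840d6fcd0d43fe0dba99d5a661ff06dcc99674e5069ce71c1fff06dbff06daff06d9ff8203ff06d8e3061ce7069fff06d7ca8c16c986b7ca946658fe0354ff836b7f836af3833cfe4307760338ff836a7e433ffdc33efe034aff8369ffc101d30b285243357f83697343409a7ca1b33fc1b47fc1b43188a67fc1b3ffc1b3bfc1b37fc1b33ae183ff01a97fe080fee190f281863fc1b2ffc1b2bfc1b2503fe0d91fe0d8f305131fe0d8d340d7f590c93fe0d8b5984abfe0d896b0d01fe0d87fc0c0f5b0d33ff0407fe0d85110c5439ff06c1ff06c0ff06bfff06beaa305ba12275ff06bdfd16b9ff06bcff06bbff06baff06b9ff8203921864ff06b8ff06b728dec34d7f835b7f835aff835a68c351e994556893556b030f65c335ff8359ff83597f8358ff4412ff83587f8357ffc101827fe080bf2300bec1a7be81a7bf628f7c272b3f43243e41a5bb8402b9419c79e19f7fc1abbfc1ab6ce41139c19ff28fa0ae3f60d3df8113dff0405f90c05fe0d59d30d25f70cbfe40cf58c49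33fe0d57fe0d55fe0d53fe0d51fe0d4ffe0d4d05987141ff06a5f00c41fc060eac2c5efd0897ff8202f21c77fc060cee943df2065fdb861efb863cb38633ff06a4ff06a3ff06a27cff8350ff83507e47437f834fffc1017f834f77cc207c8c437f834ef6090b77431f7f834e7f834dff834d7f834cff834c447fc1a5ffc1a5bfc1a57f24043b459c3f4205fa819cffe080bfc1a53fc1a4ffc1a4bf03067001885fc18adfd416bfc1a4593fe0d21fe0d1ffe0d1dec0ca3fe0d1bfe0d19ff0405fe0d17fa148bf91035fe0d15fe0d13fe0d11fe0d0fba4cb78754cee1cf066bcf166bf79484fc0c84ab065eef1c41fc8810fd0c51ff0686ff8202ff0685ff0684ff0683ff0682ff0681ff06804cff833ff603377f833f7f833eff833e7f833dff833d749237ffc1017f833cff833c7f833bff833b53c323ff833aff833a2c7b218fffc19cffc19cba618fbfc19c7fc19c3fc19bffc19bbea18f3b6184bfc19b7fe080bfc19b328186ffc19affc19a8d3fe0cd3fe0cd1fe0ccffe0ccdfe0ccbfe0cc9fe0cc7fe0cc5fe0cc3fe0cc1ff0405fe0cbf002c57fe0cbdfe0cbbfe0cb881ff065bff065aff0659b1863aff0658ff0657ff0656fc8821b4aa21ff0655ff0654ff0653ff0652ff8202ff06518d524b1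cff83287f8327ff83275756117f8326ff832656e6117f8325ff83257f8324ff440aff83247fc1015a0312ff8323ff8323147fc1917fc1913fc190ffc190bfc1907fc1903fc18fffc18fbf42083fc18f7fc18f3f0286bfc18effa20c7fe080bfc18e843130c73fe0c730f0c65146065fe0c71fe0c6ffe0c6dfe0c6bfe0c69fe0c67fe0c65fe0c63fe0c61ff0403fc0c43fe0c5e39ff062e8fa626ff062dff062cff062bff062aff0629ff0628ff0627ff0626ff0625ff0624ff8201ff0623ff0622ff062128f20f0eff83107f830fff830f7f830eff830e7f830dff830d7f830cff830c7f830bff830b7f830aff830a7f8309ffc100827f0184bfc184bf43047fc1847fc1843fc183ffc183bfc1837fc1833fc182ffc182bfc1827fc1823fc181ffe0807fc181843f90c03fa0803fa0c03fb0803fb0c03fc0803fc0c03fd0803fd0c03fe0803fe0c03ff0803fe0c0bfe0c09fe0c07fe0c0400)) (.leaf (nat_lit 0xec0672f01a3eea0673ef103fff8206ab065ef0227def060fdda069b98705ec0695d594b5c60687958e6c85dc4d7fcd2988dd9097768f0577432044c39ef7032278093d778320ffc10373cb38eec334f70b47e7cf4a66c664d4431472cb4f734a0d327be19022a4cf7a8602aec64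bbc8197fcc19fffe081bcc7237fc1d27705367a21b37bc483f1c1b6b121bb6e318c3fc1d21c3ec1ca3f10d1df30d21f3291fd10d25fa0c25e335abf12909ff040ddc0c21fe0e8fdc0c83830cf7fe0e8dd00d3fcc34f6b1ec867eec867dec126eed9c7fec867bed26a2ed868ee71079b98705fb0c0afc0a10ff8206c30e75a9870abfcc9ae4061c34d759a251032bcec840d04780d58357d10a535d623aff83a2ff83a256d32e58432ad9952b45c3897fc1037f83a1e0c37b8e6803ae6be509ec8c822584c1e125cfffc1d0a50ec8eac19d66a1932e21bfa241cde241c672019bffa214ffe081aee1abc43ff040b144c0b115e2d0d222d0d545b10885910485f2144ed0b0d910e1d830f2577050e23011179051d75030dcbfe0e837189870c851b25878a368687198506adff820586862c858721ff0740858effff073f81106c830ca982073582061182068a7cc54c1b43ce8cc4cc92c3d2867fc102c30343c3892e45838c460312c58a93408479ff839f45044f7f839ec3c386ff839e4462e88ae2818de2819aa1c18e21c6c962c1b0e2cf153fe08160aac12284b5e1674a60e4ca1f61c7a0a1b75f418b9f6ec7993190e491a29af556d01fe0e77191c4b1a4907ff040b1b5649290c9b2c29717065015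30ceb641a036e0dcb640ca964104ae191872b8b0715919123918e31ff073a918c598d064aff07399324edff82058e12319407238d06b88c06898d5ce28d4c604cc6432e43c364c18f90c4c3147f839c7f839bc58387c70341ffc102c60d40c44f8f7f839b7f839ada0d087f839a47dd24ac622dc5a261c5a261816208816c61cb61304a22a8b5e22b0ae54189a2e1c5ffc1ccffe0816d44226d83be2d41882d0ca58d3fe0e653345f7220c69660d7b6b0cad3b4601390c4f5a8c93162df9190c99ff040b1b0c69fc0c0d6d120bfe0e634a0ca081b70e8ab714e0b706e2b714e1ff0730ff072fb71668b74068b606b2b6068ab7127cb606cfff072eff8205ff072db8063e1cc5431344c31744c31644c316c55a71c44a3544548643c31cff8396458623550356c5836555842f5a836cffc102db04748862820bffe081236ac423a1c4a3860ba3618ba2b48aa281c1a4218ae48196626ba93fc1cadfa1ca7fc1ca9f21ca5f748dab31d0e25190e2114245fff0409fe0e530c0c73153e2d100e17050d0f100c4ffe0e51194201122d29fe0e4f120c5917a611298c87108e9512ff82048a082f87863988ab21ff072687123886110a8b9d1b8a86818c92c889865d8b86638bd10b89ba2da0c6838cc5831b45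9c867f8392c6438dffc10244031949e68cc5525d488b17430d787f83923fd0073fc304bfe7233fe9793e62a1bda2ecc7e226c7a282c47fe08122e9201f47bce2818bbfc1c8ffc1c8bfc1c861aac53fc1c822419fa2538561e19e2230a45e113515b12421b140dc7fe0e3ffe0e3d120e25ff0409520e2f0c390f160e137f55d1fe0e3bfe0e397e0e0b237570c981066cff071b8a2a33ff071aff071993a0b7ff82048baaadff0718ac12c39426fbff0717a9083f899a46ff0716a9069070d7831d58972cd8122dd8032d4f835f4f932b5706644e8f18c45216ffc10254c960cb525bff838acac3507f838a7f8389a663c18122c98bffc1c4a327443fc1c46001bcffc1c426cb40bfe08125630ca56192ac2ac3ffc1c3ffc1c3ace1beec0eb7d635629c7fe0e1b080de113255bfe0e19180c6bfe0e17240cd56a0def19206ffe0e15ff040969400ffc0c27630c6b603cc2699b06c797acc89b10c6af0698ff07099ea8c2ff07089886be9892c1ff0707ff82049686818d8cfd8c86b68cd083ff070640dc836f5d032edf43795d4365dd036ddfd55a5f436fff8382dd9353dfc37a5d03225fcb38ffc10260c346ff83825d20739466c9aea441936b8181e426af2c2db2a3a192e401936b4181ffc1c0ffc1c0a70229bfc1c07021a4b06728bfc1c03fe081013fe0dfffe0dfd424cb1fe0dfb3d6591fe0df9f80c11fe0df73b0cb3680c11680d93fe0df56a116781101dff0409fd100a21)))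 (.node (nat_lit 1) (.leaf (nat_lit 0xca06d1cba8ccc50699c88ed0bc12a7cbaacf901d35c62c99ff8209cb8651cb86ecff0758b60731b61ee78c86348e3ac658f50344f68338768a517d8356794322f94b1f78ca567e0508f948085b4897ffc104f8c37cc50b8d44836df3893ed90380a06ae225aaeca5eae1842ae5256ae6102ae683228ad5eaeb1faae1b6aae1b562a24f2ae7357fe0826aa18beb3720a2c24e8a3752847b40deb9c493b9f0dc9c10dc19f5157997699025a83ca3d43bf0cdf9725c3c128e1900ddd143c599251d7ff041209862b1a8d323381066c87871b7e06f38786e8888706868637ad063b9c06af8c0906848726c0068ec808cdff8209804d0310cb1083ffc10450145cd7c313d0834dd4c30a55612bcdc9ab3f03954586884d0981c6039c61446ae4036a4503abee4306d67fe0822541c1ec2609e801ae67c8516501c8e844b12701b1e2e1c725a4322346ce2261a1e2684cbfc1d5e274079fa183ae3610c4f4019732c160fff0411220c695e128d61828d610e8925245d3c204324289d5e60ed010df5610e67635de9610cf929b10743811350a19d42a0862192872bff8208a7cf34b5c30e8b98a482073f9c06c79507079c0cdd7e891e9c868d9c881e7cd1441dd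011235183a74f83a2ffc10445c69f50497ed5032dcc437dc3039bc612a955186bd9833fc4848cda2f6c59837244672ac2aceac0e021d026a1c727a189ed8e0c6c30157fe082204ad4e2a1ba2ca18ee244c6ece22be4a1c59fd42e6ce1b9993010e292e0d49400ceafc2151135a2b3c0c8d580c2b600cadff04112a4a273a497d625c776538358e0d2dd21118fe9a54b187871e8b9311a8871f8a06f6842ef0868f268c9d258a8636b1872d949b32b2892dff8208b286b2b1889db186bdb2ca3534c48c8343439c42039bc48393455341c4c38645ce8d55035dc5d389470a847fc1044743aaff031d4b0e7de3a5315d836c206ba720a7a1a9a641b0a50244e741cd2ba1c06a1350eee2402341ce250948ea01d0e341c4aca1d0ffe0822961c32a7342873d330e3eb0c7bed2c1bcf0d25d618e7d838dff90c19d80ce39848c1d2213fd10cffd30d2b2932a32a2e27965037ff04100991a6bcff82079a12ba91104d92ae5092065099864c9186bca6b73ba10700a2069ba5aa82ff0756a58617a5ce31a486e3acffc103c7835e478326cd035d480325c8942748c35d4783a6ff83aac003a9c28354401579c2904542835740687d42a9885c63c1936681aea468af3fe081e42193e46a32a429d363e19324a5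2fa021d02461ade461966463192427533fc1d52421a1e532354451f189d210ca11f209f240e9bff040f212497214845140e212a2c6b1d0e9d160e0d280d491d0e0f05a26b0a0c80f991a2ca9186ca91064b8e864bff8207932aba90284e9a08508d12319b143a8e99119b0743ff07539b0e428a071183cd3f88c7c3a6cf09a6c7852648d426479811484727ffc103c80326c60892c688a945438ac8108d45ca9ed70a8446430457034bb862884fa321b12321bf2321c3a36640ffc1d4a321d3e36b0d3fc1d47fe081e301c2e58789bfc1d42541b162b448a041bed335b60eafc1d512e0d48ff16295a302b5a7905590c635a8a39ff040f5b0d7b160e215a0d5f5735ff490d811e0c67570d46b19b8ec59f194bff074f9f07468e9748ac3eaf9714b8ae17468d8724af24e3ff8207ae0746af0668af1f47af5d368d874240d39059530332539155c38393d3975b530365d3994e53954d48039ad30372538378d39231d40b05c2449354039dffc1038267e195e7e1d127a1c06761a067a49567f0b068e1c3bfc1d3a2a18be2639abfc1d369caa622418a29c19dffe081dfc18ac43e214efff040dea251bd5228fe00dabe630bf760e5de00d41cf2d1df90c1b150e7bd30da7690e390b0e51ba41b5a00d5359ff8206f11877e78747f4068de98672ee8a3ff00e7ce8a692db901ee50697cc06f8baa423b30612b98700ff074c8088fab8f54ca3fa8346f8833bffc1037b08487a074afa034fc4d69ef40a21f3c321fe080b45539ec04ba045c391dee3587388564a7d42237aa3d1ffe081bc419dfc819ebaa39cbb499c7ba19ef581b8b84319f981a779663926a1933fc1d2f4a1ad39a5a2683df0c21dd392be1152fdf0d2ddd0c19ff040dde0cffdf3c7fd12d137a2dd5dd2c7bcd3543070e4d150e7dfe0e95950ddcf9))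 (.leaf (nat_lit 0x8d0751aeb12d839d28aa06358b062a8b871bc2c0c3c408b7b61e15ad92f7af8901b78635c28661c50a7dff820cc3b08510f60baeffc105f6831e7a034679ca1f774f6afe850bf7d020f34d6df5c33d68cbadf48b28d603aad9c82bc4c39073c909567ac1a33b460f3ac1d77fe082e241d5fae1aa6ac197af4abab1e624732198b7671cf3e807e2660ab064ae30e1b7f0eca3a53da1479ea2119ff0417d812bbe50d2bf62117d40d13df0c819a0ebff8142f140eafd02825890d015f31898b6da1cd0cbf41e906d6f196a9e70679f186d5ed14a2ff820bf29895ef8644cd915ccd96dee69290b68630c98ad4b68eadb11859c2a54b7cf3853cfbc36afbc354fc456b7fc105f6871e7790217e074bf5c9a3f3cca56f03ad73c3395e0b6c61041ef2c31ef20365447ca2283ca5287ca1a7fca6a1bbe18ffca690bca5847fe082fb059ffa41a3784199fc61b52a81cef0e2bbfa01a17961b4993780dd5cd0cf7cf382fcf20f9cf2d1dcf24ddcd0c79cf0ebbff0417cd0d43cd39c9a12cd14b0e19880d938a65a3546580b1cc06ddb68f30cd06a3cd1b5c89953cbcaab0be9c9acd1ae6d098a9e086e0d086b4ff820bc988cfb3875d885c2ac9866b34f84322784322f8cd2178c521c4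c39ede037578ca4bf8c3086e4955e58f35ffc105f34c4553c62362084c72833bf2c73ba06241c3e1a5cda2c8ade281a0e241c2e184c5a4018e6281ca6245c6e201ab6ba19661a54e70e4b73fe082e021ce71e1d6c733035715a0c93340da54130ab410c29590e97573475740c774a0d93250e3154706b390e8b042a83850c79fe0ec1ff041609c78691bf1705ca26ebc90618e61f49cb06f4ca0688ff075fcd06a5ca06ecce18a2dc86aa88890db5872fff820bcc075810ffc1055d039744c39ef54f2075c74b754328f556a3f55007748b505f0a8eee4355ee833f6486354643615d4665bfc3a05c62a8cf7b26102ec2cbbfe082ba8190ba88913aec28ba41a27ae1a139a2083a051efa852b3041b2af01b5f281bb32c1a7253d92d1dd20ca3d7391fd92121d9182fff0415d948a3d90c85cb1c25ce0c7f7e0c476b0e61920c3d67126dcb3945677668f9ed945fec86d4890757be191dff820aec860eeca896cf0e6bd696f8b9a32ee0065dc9a0d18d0708af8b44c98758b306a488f4c34ff5434375c350f4435075c328f6496b744305ffc10570092ef5c34374cd465e52587f83af64481d6c836661c35ab27b2582ffc1d77b26a33ae18f39c19e7b24a3ffe082bb21ab2f41c779e52273a1b7bc042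2e665c7eb81b0f3a1ace2c1c95c3024683c90dbfa916b5a50ddda20d55a90cd1a90d6bb60db9cd0d15b7283dfb19e9ff041586151b69165d9e0d279e0d0c6984132181ac288196c9819c5c81b137852b1281872880ab048807198f1d54808638922ac7950640ff820aa6cf02a406c41ce7430667d5065c1898db8398df1a8ec514abe74338650350e5433be60909e70d74dd8e9764c555c54f9e651d3c7fc1050262c1c96389c323cbc662ac0da2018be1c741a4ac896b8f30e24191a8c1d0e901cee8c1c7e94805f2219cffe082a901b0843c315f3ff0413bc45b3c11df1a00dc3a759ddba3ab5a70cc7bc307fba0c81bc0c35bc35b51b0e491b2e23b93cc7960da359ff8209e08cf9e198f8dd06d9d5226dd606a3b68630b68630ce26e5d6169dd00679d1955cc30c9faf8848d53461cf0695b8f0c37c6e836cf0c37cffc104f1037671940ee89b5b67035970432165c36fe84b5b70c93d5e055b650379618306e18432ca7741b67825be3fe0827821be76e8bd3641ba7fc1d73481adb305bc73033e36a1b9f481bba2a24fb0a1b73281862f81c168311464fa90d579c2965a10cc9a419c5ff04130f0e4fa20dcb7a0dd5ba0d41b85299ba2d19120e31960d2f850ccf9d0d6cf9a6a247d0a6b1d11a65d0194aff8209d206e6b6912fd226e7bd2559cb06e9b4871dcf14e191861491064ec73ef3b3871d88c4c39e6948adea03575dc3586e0c4a6b176e6a0b34ffc104f603556a835a534323e50348c604166288555c835d6e0334b275a1b9b5a1b975e9b9f449a4f523ad7fc1d6ffe08274c3b6b3441fa041d074e1baefa1a6bfc1d6bfc1d664c1aa31a194dc3a40dd7aa0c317e5e0b940d23a259ddaa0c37db395daa2957b50de5ff0413a80dc1bd0ddf590d89861d015f0c4ba90cd099))))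 (.node (nat_lit 2) (.node (nat_lit 1) (.leaf (nat_lit 0xff820ff2067ae91e6ff58e8bb70731bb0d2ef09e45f4868fdd9465e88673ee9a20cb874c9608279a88c6e616a9e786a1b8fac345f51037ffc107f98c3d7c494ffc034ff9836b7a4721f44328e7877af3ca0c6f83ad6103a3e143347647a3f4461ed07ee1847ee3047ea404bee384bfe083ff01a5fe41a1bb41a8b6c1b333e4b73704b7382828e701afa2618de201c879418fe23753597ae3de5a151bd9b0cbba74dcb980eb1b70c3d115a4fab0cd1ff041f9c0e95cd2c85620ca91711776a0def4d9e1899bf0705ca0691e5a018dc86ebd586aedd9af8812b41a68647cc06cecb0f49ff820fcb98e7bf0c1cc408e2cb8c72ae06c540cfc37e58438759076245cc9f5903a5d0ca2ddb208545568ace8a9a3f12955643a7d155285e8a52ffc107e2e40edb98988e6f85b62f8504ef81bd2f84072f81be6221cf29a191ef819e2f84222f41a22fcc18af853a7fe083f12624ef21a2afc18f0a38b0d9d8b0da78b0c2d8b1cc18b0d9b8b0da38b0cc18d559f8d31cd8b0c238d0d238d4abb1b0d7f5c182b7c0eb3ff041e0984192c8b8722afb224978615968682979abf8a1f2cb886b8838750892550a68646a5073bc38677a6870cff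820fa2875610d5832f7fc1077dc952f80320fe464f7e43087dc33df8833bf2cb2266036867524475c34865c532c64489577125e0038e567fe083aac197bc04107ee1a97e21b5bac19cfe6384bb019c3561aba281d5f8c1877b41a971e3156b0238ece18caca1ccee3dc0c83f70d4b560cbdff041de70c87e628fbf50d4be40cf9f91c2f8a26bfd43ca3d92881790e95223aa99f54d1880d7b29d506aebb86b0d29d5b899b3cd0061adb8663d586e4d306ecd010d9ff820ecf063fd016d8b49cf988862db59b3084874d4ce84478e84a0d684331684a74e783a5684d6d5b5c985ac397ffc107668e676e5254e8124362034d624751c5689e67d136ac7a41a3fa01a43a04947a43a3ba87047a428f7a019139c9357469ad3c01b375c7b8bfe083ae64d7704588b0f12b7001cb8d3954539904ce99534c39021b97529970f824f904915950d0b9526bb8e0cfd9528c78e5133880de9353ea7ff041cfe0df821e88892ff820dec0671fa103df6868bf58643f4108cfc8612ce861bd286b6ec1297e6067cbd8ef688071ba9e828eb06f9acffc106f4d2497c831ef58338f603377c46427a89505d0397668b58f3090e72c36df6c31fd44385e6c3654643a9c6e95fdc7e430f7b019c7a21a4bfe0837e03a139c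19e62aacf7b888f3ac1a339c1917b41d774a1bc69a340b0259730c19fa1a1c8a53eb2487e90c85e92489e90c8bd40d13ff041be50c7de60da9d32cf5d32c33ac0de5a541cd843047850cdafe0df93aa0b0f9f4867deb967ef4987fec066eff820df392a5eb8ea9f386908a2557eb8e8edc8665e9066fcb06ce9c08fdde22a5e8865588fb03437b064ffa83507b0750fd433efb87487fc106db8398e843ade8430df7c33748039adb4796e6455378c3425ac387386221c82da18c38a806734a5633e32236a1abb401d2b1e1a46da58c39c31b79819dffe08366e1b2212193e0b18e2f4f268d3d535a9d544bf7c163b1262afd50d4bd5451bd358e5d51cfbce0cddd00c83ff041ba74969193469690c65cc0c8577516081ce275b89273cbb86b0cf06aed02ef8cf068acbbd5bcab874bda49abd869afc8e1bce0697b220e8ff820dbc87108a3b271cc20388c1c38f41437b41d88fc3571bc20656c1c38c400379c2c314c18716c5042d3e83957fc106e34a2048a327638371147ac59bfda3a2fc819ebf0183ef48babb01d77e2183fe6427bb051bffe08333e1a4f9a1a8b121a8af41ba73e49b650248d3397590b960d0b910d0b92310b980db9984435967d23930de3c83839960d53dd3293ff0419740deb1d1285860d01d11cf469b70731b70731fb860cf7060cf8068ff7868ef8063df912a5b5872fec0e72ff820c8007418b073a95075ecd86b5f20a8b40c6d35dc58376c5483b43cc7bc6431ac50329c75519c5c771c5c356c1c39451c3864743a1538397ffc10645839c4603120e6c81d82b8194a3c1d51f41caab219265c8a62cc1a06721d2eccbd82cc22de9419422a1cdffe08324a1d2326184ab01978a33a0e9d3a0e8b3c388d3a0c773866113a0e8b380d85677905170c66fd0e092e2449163059162aaf180e2bce202fff041809))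 (.leaf (nat_lit 0xff82149807088e934891113a8e8755a00d0a9f07019f4abd8d210f8d17388d06c5982125a516498898c1a98679a4072fb8c744a448039d4c03847fc10a4b834c4d540ace5b81c2835448c39d49c77dc557744703864690a647074cc68347c683a84a6401cea3a1d23fe08526464227aa4027eb89e64b092801c06469c2648193a765d127219566a1d12723a7a6e1d6e6e23868315462b250e57676463281247400e1d2e0d713d0d81ff04295c6893140e352a4e47615667682261840eb589852b6474a8c98f984f91065090062291064e9086bc9126bc921c5090acca91a743ff8214858726969ef683071480063980075c7f07324cc8515bc68341c4439b430f87c60d5dc5c35dd56429cfd67b7fc10a41069646928943831cc5834ec58f8fbfc3a045a688ac66a293a6a188a6a493e6619424a193266a536d41b2a48413e50ac4e2818ae481cd3fe08520818e7f81abedb6cbee7118cd33f0cb33f0c754144b53f0cb7120e593f1991f90c29300e11264e3f2e0d85ff0429150d5b120e591535e9099e9afd0cac817e18a8978675808714af2ca497a4bd9794feb94298968648958635968734b0b30f959d32c1067e8d8834910629ff821404c44376c8035dc4c57bc5433b49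83144554a8e1c34044e58b59434144c390cb0313c9122761440ce0840fffc10a65040c087fe084f4c1b634c1873503bd21efc9e9a191f4aa19b42199f4c524340334ef4929f40199e346092ee199f3c9997269bbee3a85439aa0de9a835b1ff0427950e99a80cc5ac69e5aa54db952deb9c1de5aa0c817c5ab32b0e8b290ea38864df9c410929d406f4fd061cff8213d086d8bf0623d7141f89873cba86cbd59463d10692d30689d11e78b48933aa874fc4075fd32042a0e7841066030ee7830f68430fe8031068037268ce77e89875ffc109e8c3735d4e82e6106ce4036cda4310e4c30d6793372c7321ac69a191f36ad2b361996003d07361b833aa99f36cbe7308342da50c3321a87fe084e2424decc8152d6643b329330d3a00cc99a45650f264f9d1d579b0dd79a0e959b0c399b69bf8f0da3990d1fff0427a0328f7c11590b0e0d108e37976da881bc2694bc074cbc2063bc1688bc0678bc14f9bc2a19bc2ae0bd28e1ba86cbbc066fbc0620ff8213bb0743bb0689bd064328d71a6245d49f565a8750447e55c32455e01dc8039cc691914e5c2e5603a256db24dd45b07f445d59832b5e231d7fc109827321d33563a533e222352898f6c622b583a73581a8fb419879e606b584a5bfe084b301b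3a16593e841d3b9e63e7981b5903120c53000de7120c4b115e31070d0f0b4871160c51650e6d1140ed182107164d7355545f6c0cf9ff04255c0e8b860d2439be211d8a1357fb8a5ffb12d4f00612ff8211ed246ef1065f870727cc86cfe98672fc081c880719bd86b1e68643c4075f7cea9132e78fa5670358d34323e7832ec094a0ea4330eb16797fc108ee033bef5277ee8d39dc8373e48335e6436f568eaaac7461b7e044d074aa3bb421d6b4a184f46c1b78cabbb42184f908b57b2518f74a9d3fe084712198f0e1b93261b4f2aad68d3e20cf9f9142f780dd5f02cf7d834fd7c1a3bea0d43d60d1997290ba00cf1ff0423b80d271d120f050c71a1708bcb0d40817d86497d86b87d86557d86d27d87077eab56859cbf87b1338106f387870d8486c685964f9396feff82119387519388621cc8039ac8139ade5166ddc366de4e675dc3305e5568de55684003a0dd4311e704755e435b7fc108c68c9c5dea755d436d9467c614ac81d81f41caa3c1d528618ee3a95225c82924aecae181c6a6a1b1e581d166e188b301a2e722517381873fe084413f8152bff0421f8252df60d2fe60d19d64113f10d09f6212bf9182d9b24e9db392d730e0b90143b790d37ca35abbb0d1959978e559686d2ae86b897884996874481873f8c31529686a696974e8b0658aa86ff89062eff821094984db3ca70c2076028eb436de543aff0837666d33c6b4934690d09f0196e6b51576d837744c99070034f674371620349e24976563324ffc108026288d5ef8a477b21b53b2197fb218f3b219f3b6ba7bac19cb221b773a4b8b9c5a1b3619d304188b14321bfe08439419c443e40cf5ff041feb0d17d820dfd50e8f6e0e639574d7eb3553ce2cf3c90cbbcc0c839a4165560d8f4536add01541ce303359)))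 (.node (nat_lit 1) (.leaf (nat_lit 0xb6863089a720cd2b58ff8219ce2eb2e12c5dbb86b0e1061de11278c88cd1d3861fd49c61ba061fa69b027f872c8086c194f28e36e9065565c3a4db4397e8c3727fc10ce68358df8f11e60a33e7076b5b4f97e5caa4c603834744aad7c31362163f3e73c1bd6e6388f447b93401a7746a56f2e1d33341d63fe08673419f33833e7301d633c51bb084d6e4a1bfb2a1b3f347aad939c19d99930f1954abf9c0db7970deb6a3e61970ebf920deb110e79922145930ebf143eaf06106d370cb1ff04339071b421ff8218dc8cebc78691bf0f05d58663ccac85dbaa6ddf86a3cf069eb58730fc0619db869ec31466c306768b8712c986f6b8eb83ae6b8651e7566edac3987fc10c5d5511e81c70c4d190698a6c73033fc44393f30f47c4cc2fc604a95da953c6c383c4774836b721b6b4c1b6b4e436b401a4f504baf4a198bfe08639c4b36b0997b7619a772807a0e64ff1e20fb1e1b7772191593bb18cfbb2ccdbb48d1bb0cd3bb41df134241ff0431b946b5b70c7d9f0d29970d67b40d996b3c5f912567670dff330ea6e1d38cb6bd869ad126b4d386b5dd075ad3a8f2d286ecd390e9ff8218d286dbcf8694bbaacbba8746bb867bbbce53b3865758c6431ac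243944f90a8c64396c6519dc5438bc4877445031944c31b440376d4c32bc5038c5e4a397fc10c572762d866878e7fe085fa689f3e019eef01babb019bfe42a5bb06577ce727f361b7e2a94f2e21cbb3a53af961d221e1c379a52ba001c26e3f018f7780dd5e428f9ff042fdc0cffe1248bcd0d25e20c7b5864bdc70d55560cbdac3de5793601840cb7880e93c90d4b29ed0870ea0689fa86aced1aa2f086d4f11ad4f3948dff8217ca9958cd0f5bf2127ab71131c88e5bc9067ccb06b1be06ea64e30a4ce68368670366670a68e4c369e51569e6996848119ae7c35b668aac750c22ffc10be48375db0398e1e3a5e512551a65c3292029451f882a26a29d6661b1a28a4ce661bee6a1b1646ac0ab6a53e3a64223a1c0aa47582e41c779859ebfe085c13ff042d953cc19b0da7980d9d8c6533200e6b960d9f780d4f900dc1903563920ce19235eb030e73350d91975cd3890cf371cd8cd3c926cec80660ff8216c81ad0c786d0bc06a7cc86d3cc9297cb86b2cb94e5c806f88b0727bd86f6815141c5067d94e58a66e69466c7929ac8139ae583307fc10b63034ce5dd68e69256670378db521866830de48474e4833c55a863e58f6f3e7221b43184a6732a347329333fe085af01a9f2e1b3332b337321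a4f326a7332babb141d7ea01c5f2e3233013c7322186e23990d9f950d9f78214f780d4f9e31998c5933980d9dff042de12525cd0db5c629ddd2387d8f0cb99e14339e0de5566276c9cb0660f31216cc06cecea6d3901b35ce86cdff8216cc2acecf274adb929eda9ed9da861d8c0925b0870fcc06b2d99c6f70dd06725d034edd9011dd037ad35a23dd0348dd995a5b4e985d905848929add836c445593ffc10b54ca85c1e39fdd03399464889324419323c753638753644193ac0188a401af2d622ea3e5c1ed21c722e90be487cd3384a3f0621cb9259effe0858131024670e1a350f0e37020cd8fd0e09490e5b490dc7240e21200ea94b48eb1d4a496954438920f39a0c7fff042d860e8e21970624ff82158b872289112c9f06b99e06218f8755ad862796065a8610398c062c9c070a9b16d19c0e8a9b0756898737acffc10acdc71240439645c3914e43624c03634e502d55c39a4d88534683a8c8c3364e4a2c49446155c850d563a7d54367dc6301c8a0a1cb3fe08566a189262531e68634a3c1d524c1c4e581cca561d0a6c74721452a2681a823224ca361982401d52830e467f360c91387269302a12fc4655360dfb363da5ff042b144a2b190e915d0e051b41812b1095220e695dc9395b0daec98d164aad86af8e9f55b1869b8987339d1cc7a2074ea0865aab870cff8215819904900754af067dad1e61a4d06caf4b454cc9838bd5138bc9888154438145da1b44c39b56c33561034055c31442c38cd6c371ffc10ad7443745449bc9437857437c1a5f41caa409d526e1d8266894a78189204a5428e1c0272da065e5ae6561d2e4c1bb67e43fa3481ce481b1e9319abfe085413360e11ff0429200e751d2a913e0c8d1e0ea9170e7d055a7f0d0c73300c49202e73520c4f100d8110320702b9c102743f59))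 (.leaf (nat_lit 0x81a3409a071c9b8703a1070a9d06319e06bebb0652a408c2a1aa508c113a8c062d9c06fdba0844bc06d5bc06e9ff822204d003a17fc110bfc3a85003a1d007a74e919a3f438a4058a042831c440699c5d69b55955246c388d58324c4838c5a116cd67fe0886c21d0a801d0df895425c1ae2c8ed827c1d122534b2e4b0ea0493ce7c1b0a5c53ee4c537a4c1aa1fb44ae321bd6e30246a1422e87ff044363128537258b372a652e0e65400caf170e2d2d228b397601033e81370d191a0c491c8dcf379a9d418e9955a01c9ba006af8d084aff822183872c9429138c075288930d8a86317f9d14811f507e872b7f86fa7fce917fd28d88cc8318ca0391c94395c5838acc03993e83957fc110cd1b6949835fcc952bcb437f49c3144ac329c10390c0e7255a2313385f41be9f6a3e9f41be9f69be9f81be9faabe9faabe9f81be9fe9c52001ce7fe0886041cb20023f204396600191200193d03c00cd1c20cd3c228cdc420cf770d617d41359a0d65ff04419b0dbda32ab9e428bfc80de9103237680d29d71921ce0d5cc9e00666e20e67e00669e10668dd069ccf8688ff8220d71b5ccb8666d60670c892d0cca044b586328a9f20af60c3b6c32d70d5199b448387c38341c4835bc5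cc8b451786c30388c59596d683405ad212d943a3560371dac3727fc11061281ddae54e8e6221c2e2c68aa2aa1520c3a1ea065462854667c1aee14b3c2a01b8e181c92581af288753af87342f41a43284373fe088013b52cbb9f19bd752997fc0de56d565f986dbb9335bbff043f9d0d3f940d6b910da37c3a3b7a16b375190b1aa1fd180e3ec9d5a8b5d49eb4d386b6bea69acbaa74db0666ff821fd1875bc02a23ed0d5de4a0f9fd066d8a06b9c48891de075ab1065970c05356c054783fd071bfc386c04e133f602e405543be431540437f40d2543fc327c0431bc58484c0cc92ffc10fe343320875a1a773a1b93fa2bd6fc408f4c1b63fe087b561aaf561ad7361ad76c5987561b575a4a372a499ea4645dfc18af3e5335f3fc11cfa00d27fc0dcbfc0dcdff043da646b594390b9e0dc39d299f970ccda6251d4f548f072e517936c19749cd680e61118006f384862983871884b02583871a8386548486f682872883953f8a871284872c85862b9306e6ff821ec68748934cc31cf1c60ff1430f7149107fc10eebc973ee836cdf9282e88359ea8a0fc5439eef9130ef0355e1833d5c878264835b4583abca6da5cbf2e5d274ca1b7481aab4c19a7421987461b978a1aabfe08776e6a8f4a919b8a1b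370a30832241772c9106541c5163174d07121d6f0a0e1f150e6d0b0e4d0c0e351a0e6d000ea71131af250c692a12272749858a107d070e7f560dc7ff043a09b69930cd86dde1875ce1a0a3ff821ce2a267d3a694d326d8ca9674cd06e5902535cc2660c406a3c3941d880719caae7288ee036e694e30ee8f4e64c33a69c36d670758e84359ffc10e44c3905e86ace7036b6a093145439e64c769ca038ae4432eb26f2bb56f2b1e6f29b5af272a6f2c1def21a1af219fa28b55ef21906f68196dc4cc7361a9e381d53fe0872fb4352ec1a9c73b149cbaf0dcda00d27af0dcfb32ccd9c6293a60db1ff0437974cc99d0c3b7b0d359b0cd77b190d910d9f6b0c5f797600c9871737859d268987388b2f0688285c8a0711aa433b8886d78b1856878f16bf06298a06bfff821bb18688a906e8a9cae828ffc10d7ec378ec0974eb83316718afeb8377e8c33244c39e45529ee9830fe5834e6d89335ac3305cc555dcc311c6c37edc76023a75c318bfa23c7fe086b4aa9935c1b8b3219e32c1d334882cf181a67481a36261c82501c8e4e7bc2d0695b2c1bc653ae1cc5b00dd3ff0435fd11e3b04ab9a60d3ba330cba45ddd9b4dd99b0cd16b0e61960da16f146b090e21620e0304a47341cf22f2b986cbd01c5dd086ded094b3d212dfff821ad62a94a6a447cc8f4ce50642e60679c40aaab61ef7b3985794cd5170c6438c554312c54d14bf8379c6cc92450317c58341d29564d7432454527b565a7bd71561d5c34b7fc10d52a72855dd768e7301d63fe0866221c82dea8c35e9b9b461997881877381d27381a8b5a710b3cb28f5a1a4b0e1a731433871f321e3218d2b3ff04339a46b16d0c61134e419f1837a114d39f31e39f0db76e2a63790d619d0cc9960cbb890dc5901e95360d7d5f0e8971)))))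 (.node (nat_lit 2) (.node (nat_lit 1) (.leaf (nat_lit 0x8906e089268a8906e18910e28906d989075f8906db89074a8906a38a24eb8a08e689073c8a06f8ff822a89071a8a3a7f1cc58315450385c18343d4932a460c87ffc114c5a89242839bce4ca5c9435cd1c83545839d45435dcc833746677ac5c3ae3e610b21e2059521ee42e2018abfe08a62c1c6218c4e21e1cee124ca62c5c0e1e54ae2018cdf81961f878d9f418d9f8ecd6237b0d457b0d597b0ce17b0d137b0d537b0cd76e42637d128f7b0ce77b1cdd7b0deb6a28c97319a5ff045368b0c9120e58399ab7009007399b08569b87569bb343960d07ac864983ab50b530ca8c145a8a873e9a86c6ff8229b51445c0d697bf86ce28ffc114420990c41c2e440964c61d40468615c34394c583a8c5831644433b44432b430386c4464843c37cc3e783c3c358dc61a1b26161973fe08a20ccc861a5bb610dbc21674122c194e2a82f61a429a3e192e1654422c354a26197e2544ea26ec82830e0c6f1b3c570e50711d0cd5130dedff0451260c570e46710c21871148d9132c75110e9f110caf113d5911ba1f1175d8f986070d8d32e38806ad840ef08b8d1e962b0f8b9037842487932675ff82288aaed7888704898705899e6589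dd5089baff4cd4c361c9d461c01ca9c018a9c58e6bc48788468fa8c7118646151954d314ffc1144a0389d44379544c674d03af545d8220628b8ca2018ca1818e62018e61619da2c1bde241ade2818b61c1ba23093f61e1c3a0874864c695a2e648a041c27fe08a013174069140d7b1745f7120e65165ea9120cab140d37145665173203130d8b170ec1165497192903ff044f0b8e5129a5d6398006d28124557f0649811eb8810752800d408007457f14ff8117487f06fa86062a7f06fc8a87228388bc95c6eeff822704c783aa3e839549c32949c3b04a568548939cc9c96349c37e4a432ac9c35d4a528bca4376ca4328cacb96ffc113c5c39e8863818b23c60b63c90bbfe089a1219b230a4e2001d4e2738a62cabc22c194e36494a321aee301a5e3078ee3174ce30eb7253160ca909490f130c55130e171539d1ff044d0c0e1b0d29ef0d0e511e1e15065c731c0c991a0cd31c1dff150d77151098f98d0c2d8d162c8c06268d062e8887178aa1029294c9ff82268a865b8a9c4d85071a8b9049850ce58a9b5084864fbd488864c4d57bc4d33b42c35dc2ca76cac38c45c38fc64e8145d519cb52a346436058031358035c588a667fc11358036bc4038c8e6c4c26e3a3d5634212ab01abe861d8282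72f6d4196291211a3c1ce6c88c06041d42205c5bfe089a2c2536d9722ed41ac8a3ff044b0d1e310049e7110c53130def1382170f5a5b0d6e23105551100df90d3e37122a891041ad100ce9109e4710a46f718d866a8a0e388706378a862b8a3a53ff82258d871788062f890726ac16c48ea6bfa42a83a71898a60879a6069da608527cc5538fc48d7b450d88c3838f448386c4d93b445e16ffc112c5c399c50384c103a9c65525548365d48c47c1c3934583163266a1d5a70195a86e402446ce67e1b02501c4e79155ad61a6e3a1c461618b2724b23fe0896a838f2a47ceea4194aa41d0cd331568d2d0e9f2f0d8b2d0e97175e45ff0449073ea11d3aab155617220d7d170e85174853030e9b150de701a1ad03762cf99888c09b90c19886be989abf941b239b86819892b9ff82248d865396874e8e19518e06d2ad864b8d9a708b062d8c874664cac62d4ac32dcac31d4ac32ccac38e3f11544ad3a14b56a7ffc1124783654acb2c478bab478c26c70354c7276dc3838dac6161ca622194e2a1ba1fe6c121a19aa261c922a58ba24c9721a5c1a181c1a2e61362e19721862c6325b7ffe0892141cd8437d0ce97f25397d0db97d0cc37d0eb17d0eb9ff04477d0ddf74488174247974314b740d676c0c631412317d84cd7f8c52e1880726801f377f07067f07387f25287f18c980066c85071a7f2a818206368909188106c4b886ef811f41a80717ff822304d9832b4d46ab488a9cce0880428ca04683254759a44e035fc5438f7fc1114943a5ccc32dc3c360c003923fc32e424394266088d4dfe7d4ea42b0e4a1b0e281c42a41cee6a189a301c3ffe088a441b4a3c7b4abc7316981b82981a3a9c24ba9819b1633f5e8b42469d400c773e288d5e6ca53f0e9d41457d3f3981630e1d160e2bff04455e0d01650e69630c6b6594bf6351ca81))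 (.leaf (nat_lit 0x8227398107008113568116567f87148487038006ff84cd2381204eff82388106fd820729802136800643804e738052bb4cc293a5c34362c203a34083a7c11e5242031d410360c203a441522c4183784203ab7fc11c420676c1836d4183264183659a62c1abe26192a2c1a6e2c1d562c195e2c1cae141cce30ab062c1d362c3d83fe08de2c54722c310628199a281d56281d3d03140c7d140ce514507f1448e7140ebb1448ef120c87140d1d1655df140dcf140c8716548bff046f160c9718ba27160e94518886888a286389069489074c891c9a8906788a2ae78a2cb48a06d6890cdd89a5208a065e8a066b8b16ebff82378a069310d4c396c603a8ffc11ac1579454c58146036bc4088f54c37443109bd3032852c44c52553554438555443d554366d45d23d06423afe4252fa421b02425306421d3ffe08d1f87ca9f8acaa2e1c02485afe2e947e341d36265c862e6a122a197a221c69f3212a39030e81210e15210e07210e271d46abff046921695f0125f51f3a1d0c0ced1f0d830c1ab1043da30ababb02a4ece18712538907297f97048a24e88b8712ff823386871985871e8c86c08d96528ca45b8c865a8c86a78c9f5c8b87428bba837cbfc382434374431194c25829ff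c119c0833642d48fc31a92c34a2bc2c39dc58b4144ca1d450361c44359452e64451dacc461819daa61bde2c8bb62462ee28930dfead4ecd1ab636abb62a1d5a2c3537fe08ce2c1bfecc19c5fe1d02171c1aba1921031f0d4f21654f1f0d9f1d0d9f2159a31f0d991f0da71f0cc1210d9721348f2149171f0dd9053071ff0466fb0e3d040c9a39a0974fa0a746a71b4b9b86c59c86ff9d9252ac4ac7a706589714b89c869b9186ca92a6ba918cc5b30901b30671ff823304d7c399d80599c24399c28c99c4c36945156243835442d89f43c37fc60685d8035effc11958882cda035a59a74b45c3891a6501c8ffe08c6262c564e9cae6c1bf66303ee261c565ea3f65019525a431a541ae2041d4e301b1a241969ff3af1fa24aeb36f19096f31096f48d76f0cd76f65436f51416f61176d0e3b6d0e996d0dc36d0da96d0dd56d19a76d10c16d0d37ff046209b60678b606ecb610dbb6075fb486ddff8230b606cbb60693b612dcb4875ab61a71b612e58d8d42b386bdb4a4f1b506947cdac3ad5b03775b946fc013a0ffc1185b037adb1249db03325b032fdb0d424083a0db036fdb043a53cf41d263605b035d446ea31ceea18feea18faea19caea1a82ea1d1eea3a3eeef916e419c200949eea19aee473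5ad019b7fe08c303424a9a1c08735c0d01541a771a21af170e494a4593647865150def0e0e1b150ea56418a9174e45640ca92a0e276c0d176c0df1ff0460098336c68386988886c88126c7841cfc89a4b98886fe8986988186bbff822f81a4fa851ef089874b899eb989dd1d803ae04cc9875ec9091a498399498a7dc5d99f498d2c4903534794aa480aa7c1c394ffc11743838f3ec6a4bf8d7e3f03993f037f205f69c4df6a309f69a09f67299f673edf61b15f61ce9f61ce9f61a6dfa916df6621df61d2ffe08b9fa657dfa1955f61c90a31326710c220dfc0e4d0b0e6f060e43ff045b1578ed0e6e37084e57080e3d054e810a0c6d001abefe105cfe0c80fa105cf98526d784252482073b8306808406327e87048334f0821e6c841083871d11830636ff822d8618458306f185470385071534c413a5440332c3d023c38358c38348c3835b44034ec41532bfc39743d256440365c4956dffc116c5ce6844c34445c3a6146141ba2229c1226214ffa2ca618195218d3b60cd487fe08b22a18de2644321469721852f210191e1079060c1d4a10ec2d93090c711750d5ff0457120c6f000ea70d0c6d0b0e6f180ca91a4285170c972f0d811936a3020de7170d99179cdd110e43418387288d12358c272d8c1d518a2f068d06e38d06358a871f8694f68e0c48ff822b8e06c980a1038e0e697e512a7fcd4940ca537dca549949c35ec8831a4a4e2d49c3844203a049c31d49c3297fc1154a4c1a4a435ec60621ca477349c34343c386a66308a62323b1a306b1e3043220ad5422c1c26321abe301d0bfe08aa30451a36bd222c1cb62c1c5a2c3c521d723a28192963070e37070cd9050e35050c67100c59078a530c4071050e4d14496f050ead030e2dff04550531f7120e75129e4b11a53c69)))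 (.leaf (nat_lit 0xb2b0a6b2ae829409139c18c2b186fea2310ebb074bb28d438a873eb28682ba06af8c2b15bc06f1a886d2c2c6a4ff827504e59451e58fae5b4f9865036ec4d19066c373ffc13a66186ee2434ae6c73ee2cf6765106ebf03953fc394e25656624e5a3861a1d7a1c4d7a161d7a18bd7a1e1d7a20ad7a20757a1e1d7a22ad7a201d7a521d7a54ad7a566a13fe09be6a1d3a6a245c73ff04ddd70cffd70cfbd71cfdd9310d15527bd054f3d70dadd90de9940d238c0d33db251d681cf1720d255f9e89090e7371ca875fd790dbcc8678e20aecbf2905d786e5d686f8ff8266d106f9cd067cd10668d1254a8c0738b68d5b8c4f1f80ccbc64e90331e6c3446652a669034a7fc13168836f691a7a65834466436a688e45de83ace8833fdb03ae60c36f64203b4e045f4472e1d26d8b4bf4482ab5019b74a1bc776ab63701b677219a6d454c3761d1f7e3a7f7a89ef0a32f7fe098b281aab7a73d073770eb37826b3763ab3750eb3770eb37856b3780eb3795ab3790dd7790cc97b0d6b7b4ab7ff04c5790deb130e6f7d753251cc86e1cc96e2cc868acc86e0cc929dbf3105ccb149cdaadecc86d3ca06d4ff8260cc9cde8e894e858739ccb474ca267040c4c35644c351444344c4d23844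c335c4d53f44c37544c32f45554b44c34644c36ec5553effc12d454340c5ee77c5692d946681c0e6cb42a70e472021d01f81aa2705d0e6c196e761c2a0c54862c3cda3a1c1e125cfe881a87fe09428d42626e2320731c0e1d1c0df917167d1c0d891c0e731e49811c0e132061911e0e8bff049f1e48a72556911c0dbf5910ff590d57159a7c998f86c28f8d138f98a68f8e828fa2c18a87158e872b8fa2c68e866c90a4c99088c48c07529086958e9aea90dcc6ff824e04bf838140c3813fc38bbfc38bbf839b405292c04e76c05889405327c0432b40cc99415585cd0348ffc1264d2e6cc69d478e6301d4a32cd4a2e8d4a2c1d4bfe092a0684523283f22e1a9232192e2c6cb63295522e195e2e1b6e2a1c6a2f751a0f4c9a231946771b5101170e493d0daf140d6f4f0ded172237190e2f1b498fff0495180e4b1b0e112a316b280ca3280dc9281150998086588086fd7d86fe8028ff8086c282072283071c8307098886988424988086fc81a70e8a0710ff824a8dd0bf8907181ccb8c84d0039a40dc9fffc1245683a348919d4b0383c69c2556836947c395c4928cd6994dd5905a5603a4c5639f550363ca6821c067632068a1d128e895e8054067e1bfffe091a8a6b125c5c22581a92861bda3c49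368632ba381d626c1bf66c2579c33b0c972034971b0d951d0d95320d7525449b1f4c9f200c9d150e6d172a7d1b2675ff048d150e1d0432130ab929080d7269bc94b0cd28ae89953ccc075bcc20decb34b5cbaae6cc065dcc06e4b70f31cc24a0db866590064e8c86bf8c4727ff824404cf432442439fcb8f84d3439a569c3ad95c4dce8c415ddeb04b0b614e038fbf0495498e81ffc121450c9661033e6183699473a1aae1e1c9f3e1993341acb3672c73eca4e26748342aa2b9c19ef3a1b33421d733a4a771e1b86f452562f3cf7fe090413960ddd984eb5002e839815bf9b0dd3cb0ce99d39c5980eb1950d39ff047d960dbfdc0d0b59129efa0e56fe0e498969aa998f20be8e06bf8e06c18e06c08e06a68e064884b33f8e07038d12c58087149207558d0722931a82e60ad6ff823ec708f010f50321750321f50322f409225d9997759250df038ef50339ef12ad75833de7c358ffc11ed7432461444fe1de64f6034f9a6801cd2601c267e41221254feba1966b6cd3eb61922c019662e1c8a581c3eba2122ccabdffe08f6ec7b623544222c1d48a33b1d033e0e033f4caf3f3a893b25033d0cb5ff04770166292c0dfb1f2aab3a3ceb2d294d380d4d2c356b5d0d895d115ae1a03646ae063b9f0745a31d4ea087429732a4b13e599faefeac9eafff823b88870d9d06beaf06709b1cbeb04ce1af075d4cd0437ed8c72c504c7fd0477f4dc3ab4d838e5903b053c32951c63548835e4dcf265455295dc458598f2954e3857fc11d826c423fa825bfec41bf6841963fe08ea84d51232748a541c1e58531a321c963c920e305c26381a16341cc2397122314ce223010d55010cdaff0e5eff0e93010d56ff0d65010cbb010d390354c501494f01110903565f010e09030cebff0473010da021))))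
noncomputable def recs0 : Tr ℕ := (.leaf (nat_lit 0xdc4035900d04032900c4402f900b8402c900ac4029900a040269))
noncomputable def rows : Tr ℕ := rows0
noncomputable def recs : Tr ℕ := recs0
noncomputable def ci0 : CI := ⟨[], (nat_lit 0), false, (.node (nat_lit 1) (.leaf Rule.defn) (.leaf Rule.copy)), (.leaf (XRule.rot (nat_lit 0) [] 96 0))⟩
noncomputable def ci9 : CI := ⟨[0], (nat_lit 33), false, (.node (nat_lit 32) (.node (nat_lit 16) (.node (nat_lit 8) (.node (nat_lit 4) (.node (nat_lit 2) (.node (nat_lit 1) (.leaf Rule.defn) (.leaf Rule.copy)) (.node (nat_lit 1) (.leaf (Rule.fwd [nat_lit 33] 96 0)) (.leaf (Rule.fwd [nat_lit 57, nat_lit 129, nat_lit 57, nat_lit 9] 38 2)))) (.node (nat_lit 2) (.node (nat_lit 1) (.leaf (Rule.fwd [nat_lit 225, nat_lit 273, nat_lit 225, nat_lit 225, nat_lit 129, nat_lit 153, nat_lit 105, nat_lit 9, nat_lit 153, nat_lit 369, nat_lit 225, nat_lit 105] 71 1)) (.leaf (Rule.fwd [nat_lit 297, nat_lit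 105, nat_lit 345, nat_lit 105, nat_lit 9, nat_lit 321, nat_lit 345, nat_lit 225, nat_lit 225, nat_lit 273, nat_lit 225, nat_lit 105, nat_lit 153] 87 6))) (.node (nat_lit 1) (.leaf (Rule.fwd [nat_lit 225, nat_lit 321, nat_lit 177, nat_lit 105, nat_lit 9, nat_lit 321, nat_lit 321, nat_lit 201, nat_lit 201, nat_lit 249, nat_lit 249, nat_lit 129, nat_lit 129] 83 6)) (.leaf (Rule.fwd [nat_lit 297, nat_lit 297, nat_lit 33, nat_lit 249, nat_lit 201, nat_lit 249, nat_lit 249, nat_lit 177, nat_lit 105, nat_lit 153] 47 4))))) (.node (nat_lit 4) (.node (nat_lit 2) (.node (nat_lit 1) (.leaf (Rule.fwd [nat_lit 345, nat_lit 273, nat_lit 177, nat_lit 33, nat_lit 33, nat_lit 105, nat_lit 177, nat_lit 129, nat_lit 129, nat_lit 249, nat_lit 225, nat_lit 249, nat_lit 201] 78 0)) (.leaf (Rule.fwd [nat_lit 129, nat_lit 129, nat_lit 129, nat_lit 225, nat_lit 297, nat_lit 9, nat_lit 225, nat_lit 249, nat_lit 105] 44 4))) (.node (nat_lit 1)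 (.leaf (Rule.fwd [nat_lit 177, nat_lit 297, nat_lit 129, nat_lit 153, nat_lit 33, nat_lit 153, nat_lit 153, nat_lit 105, nat_lit 225, nat_lit 273, nat_lit 201, nat_lit 201, nat_lit 369, nat_lit 297] 94 0)) (.leaf (Rule.fwd [nat_lit 129, nat_lit 129, nat_lit 249, nat_lit 33, nat_lit 249, nat_lit 369, nat_lit 321, nat_lit 9] 90 5)))) (.node (nat_lit 2) (.node (nat_lit 1) (.leaf (Rule.fwd [nat_lit 177, nat_lit 369, nat_lit 9, nat_lit 153, nat_lit 105, nat_lit 177, nat_lit 201, nat_lit 273, nat_lit 297, nat_lit 297, nat_lit 9] 50 1)) (.leaf (Rule.fwd [nat_lit 153, nat_lit 369, nat_lit 225, nat_lit 105, nat_lit 9, nat_lit 225, nat_lit 273, nat_lit 225, nat_lit 225, nat_lit 129, nat_lit 153, nat_lit 105] 71 6))) (.node (nat_lit 1) (.leaf (Rule.fwd [nat_lit 129, nat_lit 129, nat_lit 153, nat_lit 129, nat_lit 249, nat_lit 225, nat_lit 225, nat_lit 369, nat_lit 297, nat_lit 9, nat_lit 225, nat_lit 105, nat_lit 153] 72 4)) (.leaf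 (Rule.fwd [nat_lit 321, nat_lit 345, nat_lit 225, nat_lit 225, nat_lit 273, nat_lit 225, nat_lit 105, nat_lit 153, nat_lit 9, nat_lit 297, nat_lit 105, nat_lit 345, nat_lit 105] 87 1)))))) (.node (nat_lit 8) (.node (nat_lit 4) (.node (nat_lit 2) (.node (nat_lit 1) (.leaf (Rule.fwd [nat_lit 153, nat_lit 105, nat_lit 177, nat_lit 201, nat_lit 273, nat_lit 297, nat_lit 297, nat_lit 9, nat_lit 9, nat_lit 177, nat_lit 369] 50 4)) (.leaf (Rule.fwd [nat_lit 9, nat_lit 321, nat_lit 129, nat_lit 129, nat_lit 9, nat_lit 321, nat_lit 369, nat_lit 249, nat_lit 153, nat_lit 153, nat_lit 105] 67 6))) (.node (nat_lit 1) (.leaf (Rule.fwd [nat_lit 273, nat_lit 273, nat_lit 345, nat_lit 201, nat_lit 33, nat_lit 129, nat_lit 153, nat_lit 129, nat_lit 129, nat_lit 177, nat_lit 273, nat_lit 273, nat_lit 297] 74 0)) (.leaf (Rule.fwd [nat_lit 105, nat_lit 225, nat_lit 9, nat_lit 105, nat_lit 153, nat_lit 105, nat_lit 105, nat_lit 153, nat_lit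 105, nat_lit 369, nat_lit 297, nat_lit 9] 54 1)))) (.node (nat_lit 2) (.node (nat_lit 1) (.leaf (Rule.fwd [nat_lit 225, nat_lit 105, nat_lit 153, nat_lit 9, nat_lit 129, nat_lit 129, nat_lit 153, nat_lit 129, nat_lit 249, nat_lit 225, nat_lit 225, nat_lit 369, nat_lit 297] 72 0)) (.leaf (Rule.fwd [nat_lit 153, nat_lit 297, nat_lit 153, nat_lit 105, nat_lit 9, nat_lit 369, nat_lit 273, nat_lit 273, nat_lit 153, nat_lit 105, nat_lit 105, nat_lit 153, nat_lit 129] 85 6))) (.node (nat_lit 1) (.leaf (Rule.fwd [nat_lit 201, nat_lit 153, nat_lit 225, nat_lit 9, nat_lit 177, nat_lit 129, nat_lit 129, nat_lit 273, nat_lit 201, nat_lit 345, nat_lit 297] 52 0)) (.leaf (Rule.fwd [nat_lit 321, nat_lit 129, nat_lit 129, nat_lit 9, nat_lit 321, nat_lit 369, nat_lit 249, nat_lit 153, nat_lit 153, nat_lit 105, nat_lit 9] 67 5))))) (.node (nat_lit 4) (.node (nat_lit 2) (.node (nat_lit 1) (.leaf (Rule.fwd [nat_lit 369, nat_lit 153, nat_lit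 225, nat_lit 33, nat_lit 321, nat_lit 249, nat_lit 105, nat_lit 105, nat_lit 153, nat_lit 129, nat_lit 129, nat_lit 9] 59 5)) (.leaf (Rule.fwd [nat_lit 9, nat_lit 369, nat_lit 153, nat_lit 225, nat_lit 33, nat_lit 321, nat_lit 249, nat_lit 105, nat_lit 105, nat_lit 153, nat_lit 129, nat_lit 129] 59 6))) (.node (nat_lit 1) (.leaf (Rule.fwd [nat_lit 369, nat_lit 201, nat_lit 153, nat_lit 105, nat_lit 153, nat_lit 105, nat_lit 9, nat_lit 297, nat_lit 273, nat_lit 105, nat_lit 273] 93 1)) (.leaf (Rule.fwd [nat_lit 177, nat_lit 105, nat_lit 321, nat_lit 153, nat_lit 33, nat_lit 321, nat_lit 345, nat_lit 225, nat_lit 225, nat_lit 249, nat_lit 201, nat_lit 129, nat_lit 177, nat_lit 177] 95 6)))) (.node (nat_lit 2) (.node (nat_lit 1) (.leaf (Rule.fwd [nat_lit 9, nat_lit 57, nat_lit 129, nat_lit 57] 38 1)) (.leaf (Rule.fwd [nat_lit 201, nat_lit 369, nat_lit 201, nat_lit 369, nat_lit 33, nat_lit 321, nat_lit 249, nat_lit 249,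 nat_lit 153, nat_lit 105, nat_lit 105, nat_lit 177, nat_lit 105] 77 6))) (.node (nat_lit 1) (.leaf (Rule.fwd [nat_lit 81, nat_lit 201, nat_lit 33, nat_lit 81, nat_lit 105, nat_lit 249, nat_lit 201, nat_lit 201, nat_lit 321] 42 0)) (.leaf (Rule.fwd [nat_lit 297, nat_lit 273, nat_lit 105, nat_lit 273, nat_lit 9, nat_lit 369, nat_lit 201, nat_lit 153, nat_lit 105, nat_lit 153, nat_lit 105] 93 6))))))) (.node (nat_lit 8) (.node (nat_lit 4) (.node (nat_lit 2) (.node (nat_lit 1) (.leaf (Rule.fwd [nat_lit 9, nat_lit 129, nat_lit 129, nat_lit 249, nat_lit 33, nat_lit 249, nat_lit 369, nat_lit 321] 90 4)) (.leaf (Rule.fwd [nat_lit 153, nat_lit 153, nat_lit 225, nat_lit 273, nat_lit 201, nat_lit 33, nat_lit 57, nat_lit 201, nat_lit 129, nat_lit 81] 62 5))) (.node (nat_lit 1) (.leaf (Rule.fwd [nat_lit 57, nat_lit 33, nat_lit 177, nat_lit 177, nat_lit 225, nat_lit 249, nat_lit 297, nat_lit 9, nat_lit 177, nat_lit 201] 48 3)) (.leaf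 (Rule.fwd [nat_lit 177, nat_lit 129, nat_lit 129, nat_lit 273, nat_lit 201, nat_lit 345, nat_lit 297, nat_lit 9, nat_lit 201, nat_lit 153, nat_lit 225] 52 4)))) (.node (nat_lit 2) (.node (nat_lit 1) (.leaf (Rule.fwd [nat_lit 225, nat_lit 57, nat_lit 33, nat_lit 297, nat_lit 225, nat_lit 225, nat_lit 273, nat_lit 129, nat_lit 57] 43 4)) (.leaf (Rule.fwd [nat_lit 81, nat_lit 177, nat_lit 81, nat_lit 81, nat_lit 81, nat_lit 33, nat_lit 57] 40 5))) (.node (nat_lit 1) (.leaf (Rule.fwd [nat_lit 81, nat_lit 33, nat_lit 225, nat_lit 153, nat_lit 33, nat_lit 321, nat_lit 273, nat_lit 201, nat_lit 153, nat_lit 153] 49 6)) (.leaf (Rule.fwd [nat_lit 225, nat_lit 249, nat_lit 201, nat_lit 177, nat_lit 177, nat_lit 33, nat_lit 57, nat_lit 105, nat_lit 225, nat_lit 81] 63 1))))) (.leaf (Rule.fwd [nat_lit 57, nat_lit 57, nat_lit 57, nat_lit 153, nat_lit 57, nat_lit 33, nat_lit 81] 41 4)))), (.node (nat_lit 1) (.leaf XRule.defn) (.leaf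 XRule.defn))⟩
noncomputable def ci33 : CI := ⟨[1], (nat_lit 9), false, (.node (nat_lit 32) (.node (nat_lit 16) (.node (nat_lit 8) (.node (nat_lit 4) (.node (nat_lit 2) (.node (nat_lit 1) (.leaf Rule.defn) (.leaf Rule.copy)) (.node (nat_lit 1) (.leaf (Rule.fwd [nat_lit 9] 96 0)) (.leaf (Rule.fwd [nat_lit 321, nat_lit 273, nat_lit 201, nat_lit 153, nat_lit 153, nat_lit 9, nat_lit 81, nat_lit 33, nat_lit 225, nat_lit 153] 49 1)))) (.node (nat_lit 2) (.node (nat_lit 1) (.leaf (Rule.fwd [nat_lit 129, nat_lit 153, nat_lit 129, nat_lit 129, nat_lit 177, nat_lit 273, nat_lit 273, nat_lit 297, nat_lit 9, nat_lit 345, nat_lit 225, nat_lit 345, nat_lit 225] 76 5)) (.leaf (Rule.fwd [nat_lit 129, nat_lit 273, nat_lit 201, nat_lit 33, nat_lit 321, nat_lit 201, nat_lit 105, nat_lit 105, nat_lit 105] 45 5))) (.node (nat_lit 1) (.leaf (Rule.fwd [nat_lit 105, nat_lit 153, nat_lit 345, nat_lit 249, nat_lit 33, nat_lit 129, nat_lit 177,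 nat_lit 249, nat_lit 225, nat_lit 225, nat_lit 297, nat_lit 297] 68 0)) (.leaf (Rule.fwd [nat_lit 105, nat_lit 177, nat_lit 129, nat_lit 129, nat_lit 249, nat_lit 225, nat_lit 249, nat_lit 201, nat_lit 9, nat_lit 345, nat_lit 273, nat_lit 177, nat_lit 33] 78 5))))) (.node (nat_lit 4) (.node (nat_lit 2) (.node (nat_lit 1) (.leaf (Rule.fwd [nat_lit 249, nat_lit 129, nat_lit 249, nat_lit 321, nat_lit 33, nat_lit 129, nat_lit 177, nat_lit 129, nat_lit 177, nat_lit 225, nat_lit 345] 92 0)) (.leaf (Rule.fwd [nat_lit 129, nat_lit 177, nat_lit 249, nat_lit 225, nat_lit 225, nat_lit 297, nat_lit 297, nat_lit 33, nat_lit 105, nat_lit 153, nat_lit 345, nat_lit 249] 68 5))) (.node (nat_lit 1) (.leaf (Rule.fwd [nat_lit 297, nat_lit 345, nat_lit 273, nat_lit 9, nat_lit 273, nat_lit 105, nat_lit 105, nat_lit 33] 91 5)) (.leaf (Rule.fwd [nat_lit 33, nat_lit 297, nat_lit 345, nat_lit 273, nat_lit 9, nat_lit 273, nat_lit 105, nat_lit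 105] 91 6)))) (.node (nat_lit 2) (.node (nat_lit 1) (.leaf (Rule.fwd [nat_lit 201, nat_lit 177, nat_lit 225, nat_lit 33, nat_lit 321, nat_lit 369, nat_lit 225, nat_lit 249, nat_lit 105, nat_lit 105, nat_lit 153] 53 5)) (.leaf (Rule.fwd [nat_lit 297, nat_lit 201, nat_lit 273, nat_lit 129, nat_lit 177, nat_lit 129, nat_lit 153, nat_lit 9, nat_lit 177, nat_lit 177, nat_lit 297, nat_lit 273] 61 1))) (.node (nat_lit 1) (.leaf (Rule.fwd [nat_lit 177, nat_lit 105, nat_lit 153, nat_lit 105, nat_lit 249, nat_lit 225, nat_lit 321, nat_lit 9, nat_lit 249, nat_lit 321, nat_lit 153, nat_lit 153] 60 5)) (.leaf (Rule.fwd [nat_lit 129, nat_lit 369, nat_lit 129, nat_lit 321, nat_lit 33, nat_lit 177, nat_lit 129, nat_lit 201, nat_lit 249, nat_lit 201, nat_lit 201, nat_lit 369, nat_lit 297] 86 0)))))) (.node (nat_lit 8) (.node (nat_lit 4) (.node (nat_lit 2) (.node (nat_lit 1) (.leaf (Rule.fwd [nat_lit 321, nat_lit 249, nat_lit 249, nat_lit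 153, nat_lit 105, nat_lit 105, nat_lit 177, nat_lit 105, nat_lit 9, nat_lit 225, nat_lit 369, nat_lit 249, nat_lit 249] 75 1)) (.leaf (Rule.fwd [nat_lit 129, nat_lit 177, nat_lit 105, nat_lit 201, nat_lit 201, nat_lit 249, nat_lit 201, nat_lit 33, nat_lit 129, nat_lit 201, nat_lit 345, nat_lit 177] 70 5))) (.node (nat_lit 1) (.leaf (Rule.fwd [nat_lit 345, nat_lit 153, nat_lit 33, nat_lit 33, nat_lit 321, nat_lit 321, nat_lit 249, nat_lit 225, nat_lit 153, nat_lit 129, nat_lit 177] 51 5)) (.leaf (Rule.fwd [nat_lit 321, nat_lit 345, nat_lit 201, nat_lit 201, nat_lit 273, nat_lit 105, nat_lit 177, nat_lit 105, nat_lit 105, nat_lit 33, nat_lit 177, nat_lit 129, nat_lit 201] 73 1)))) (.node (nat_lit 2) (.node (nat_lit 1) (.leaf (Rule.fwd [nat_lit 129, nat_lit 153, nat_lit 129, nat_lit 129, nat_lit 177, nat_lit 273, nat_lit 273, nat_lit 297, nat_lit 9, nat_lit 273, nat_lit 273, nat_lit 345, nat_lit 201] 74 5)) (.leaf (Rule.fwd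 [nat_lit 33, nat_lit 321, nat_lit 321, nat_lit 249, nat_lit 225, nat_lit 153, nat_lit 129, nat_lit 177, nat_lit 33, nat_lit 345, nat_lit 153] 51 2))) (.node (nat_lit 1) (.leaf (Rule.fwd [nat_lit 177, nat_lit 129, nat_lit 153, nat_lit 273, nat_lit 273, nat_lit 225, nat_lit 273, nat_lit 9, nat_lit 321, nat_lit 321] 46 3)) (.leaf (Rule.fwd [nat_lit 129, nat_lit 177, nat_lit 321, nat_lit 177, nat_lit 33, nat_lit 105, nat_lit 177, nat_lit 129, nat_lit 129, nat_lit 177, nat_lit 249, nat_lit 249, nat_lit 345] 84 0))))) (.node (nat_lit 4) (.node (nat_lit 2) (.node (nat_lit 1) (.leaf (Rule.fwd [nat_lit 225, nat_lit 273, nat_lit 201, nat_lit 273, nat_lit 105, nat_lit 105, nat_lit 153, nat_lit 129, nat_lit 9, nat_lit 9, nat_lit 153, nat_lit 249, nat_lit 369] 79 1)) (.leaf (Rule.fwd [nat_lit 177, nat_lit 129, nat_lit 201, nat_lit 249, nat_lit 201, nat_lit 201, nat_lit 369, nat_lit 297, nat_lit 33, nat_lit 129, nat_lit 369, nat_lit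 129, nat_lit 321] 86 5))) (.node (nat_lit 1) (.leaf (Rule.fwd [nat_lit 321, nat_lit 201, nat_lit 105, nat_lit 105, nat_lit 105, nat_lit 33, nat_lit 129, nat_lit 273, nat_lit 201] 45 1)) (.leaf (Rule.fwd [nat_lit 105, nat_lit 105, nat_lit 273, nat_lit 273, nat_lit 225, nat_lit 225, nat_lit 297, nat_lit 297, nat_lit 33, nat_lit 129, nat_lit 153, nat_lit 297, nat_lit 201] 82 5)))) (.node (nat_lit 2) (.node (nat_lit 1) (.leaf (Rule.fwd [nat_lit 105, nat_lit 105, nat_lit 177, nat_lit 129, nat_lit 129, nat_lit 273, nat_lit 297, nat_lit 9, nat_lit 201, nat_lit 177, nat_lit 345, nat_lit 33] 58 5)) (.leaf (Rule.fwd [nat_lit 33, nat_lit 105, nat_lit 177, nat_lit 129, nat_lit 129, nat_lit 249, nat_lit 225, nat_lit 249, nat_lit 201, nat_lit 9, nat_lit 345, nat_lit 273, nat_lit 177] 78 4))) (.node (nat_lit 1) (.leaf (Rule.fwd [nat_lit 33, nat_lit 129, nat_lit 177, nat_lit 177, nat_lit 273, nat_lit 345, nat_lit 297, nat_lit 33, nat_lit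 105, nat_lit 105, nat_lit 297] 66 4)) (.leaf (Rule.fwd [nat_lit 57, nat_lit 201, nat_lit 129, nat_lit 81, nat_lit 9, nat_lit 153, nat_lit 153, nat_lit 225, nat_lit 273, nat_lit 201] 62 0))))))) (.node (nat_lit 16) (.node (nat_lit 8) (.node (nat_lit 4) (.node (nat_lit 2) (.node (nat_lit 1) (.leaf (Rule.fwd [nat_lit 153, nat_lit 153, nat_lit 105, nat_lit 297, nat_lit 297, nat_lit 33, nat_lit 225, nat_lit 105, nat_lit 57, nat_lit 225] 88 5)) (.leaf (Rule.fwd [nat_lit 57, nat_lit 105, nat_lit 225, nat_lit 81, nat_lit 9, nat_lit 225, nat_lit 249, nat_lit 201, nat_lit 177, nat_lit 177] 63 6))) (.node (nat_lit 1) (.leaf (Rule.fwd [nat_lit 81, nat_lit 105, nat_lit 81, nat_lit 33] 39 2)) (.leaf (Rule.fwd [nat_lit 225, nat_lit 153, nat_lit 33, nat_lit 321, nat_lit 273, nat_lit 201, nat_lit 153, nat_lit 153, nat_lit 9, nat_lit 81] 49 4)))) (.node (nat_lit 2) (.node (nat_lit 1) (.leaf (Rule.fwd [nat_lit 177, nat_lit 177, nat_lit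 225, nat_lit 249, nat_lit 297, nat_lit 9, nat_lit 177, nat_lit 201, nat_lit 9, nat_lit 57] 48 5)) (.leaf (Rule.fwd [nat_lit 81, nat_lit 105, nat_lit 249, nat_lit 201, nat_lit 201, nat_lit 321, nat_lit 9, nat_lit 81, nat_lit 201] 42 3))) (.node (nat_lit 1) (.leaf (Rule.fwd [nat_lit 33, nat_lit 81, nat_lit 105, nat_lit 81] 39 3)) (.leaf (Rule.fwd [nat_lit 57, nat_lit 9, nat_lit 81, nat_lit 177, nat_lit 81, nat_lit 81, nat_lit 81] 40 3))))) (.node (nat_lit 4) (.node (nat_lit 2) (.node (nat_lit 1) (.leaf (Rule.fwd [nat_lit 249, nat_lit 369, nat_lit 321, nat_lit 9, nat_lit 9, nat_lit 129, nat_lit 129, nat_lit 249] 90 0)) (.leaf (Rule.fwd [nat_lit 105, nat_lit 105, nat_lit 297, nat_lit 33, nat_lit 33, nat_lit 129, nat_lit 177, nat_lit 177, nat_lit 273, nat_lit 345, nat_lit 297] 66 0))) (.node (nat_lit 1) (.leaf (Rule.fwd [nat_lit 297, nat_lit 225, nat_lit 225, nat_lit 273, nat_lit 129, nat_lit 57, nat_lit 9, nat_lit 225,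 nat_lit 57] 43 1)) (.leaf (Rule.fwd [nat_lit 129, nat_lit 177, nat_lit 129, nat_lit 177, nat_lit 225, nat_lit 345, nat_lit 33, nat_lit 249, nat_lit 129, nat_lit 249, nat_lit 321] 92 5)))) (.node (nat_lit 2) (.node (nat_lit 1) (.leaf (Rule.fwd [nat_lit 321, nat_lit 321, nat_lit 249, nat_lit 225, nat_lit 153, nat_lit 129, nat_lit 177, nat_lit 33, nat_lit 345, nat_lit 153, nat_lit 33] 51 1)) (.leaf (Rule.fwd [nat_lit 81, nat_lit 9, nat_lit 57, nat_lit 57, nat_lit 57, nat_lit 153, nat_lit 57] 41 6))) (.node (nat_lit 1) (.leaf (Rule.fwd [nat_lit 177, nat_lit 105, nat_lit 177, nat_lit 129, nat_lit 249, nat_lit 201, nat_lit 273, nat_lit 321, nat_lit 9, nat_lit 177, nat_lit 225, nat_lit 249] 56 4)) (.leaf (Rule.fwd [nat_lit 201, nat_lit 129, nat_lit 33, nat_lit 33, nat_lit 321, nat_lit 345, nat_lit 129, nat_lit 177, nat_lit 129, nat_lit 129, nat_lit 177, nat_lit 129] 55 5)))))) (.node (nat_lit 2) (.node (nat_lit 1) (.leaf (Rule.fwd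 [nat_lit 225, nat_lit 105, nat_lit 57, nat_lit 225, nat_lit 33, nat_lit 153, nat_lit 153, nat_lit 105, nat_lit 297, nat_lit 297] 88 0)) (.leaf (Rule.fwd [nat_lit 321, nat_lit 369, nat_lit 225, nat_lit 249, nat_lit 105, nat_lit 105, nat_lit 153, nat_lit 33, nat_lit 201, nat_lit 177, nat_lit 225] 53 1))) (.node (nat_lit 1) (.leaf (Rule.fwd [nat_lit 177, nat_lit 129, nat_lit 201, nat_lit 33, nat_lit 321, nat_lit 345, nat_lit 201, nat_lit 201, nat_lit 273, nat_lit 105, nat_lit 177, nat_lit 105, nat_lit 105] 73 5)) (.leaf (Rule.fwd [nat_lit 153, nat_lit 345, nat_lit 129, nat_lit 153, nat_lit 9, nat_lit 297, nat_lit 225, nat_lit 129, nat_lit 129] 81 6)))))), (.node (nat_lit 1) (.leaf XRule.defn) (.leaf XRule.defn))⟩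
noncomputable def ci57 : CI := ⟨[2], (nat_lit 81), false, (.node (nat_lit 8) (.node (nat_lit 4) (.node (nat_lit 2) (.node (nat_lit 1) (.leaf Rule.defn) (.leaf Rule.copy)) (.node (nat_lit 1) (.leaf (Rule.fwd [nat_lit 81] 96 0)) (.leaf (Rule.fwd [nat_lit 129, nat_lit 57, nat_lit 9, nat_lit 9] 38 3)))) (.node (nat_lit 2) (.node (nat_lit 1) (.leaf (Rule.fwd [nat_lit 33, nat_lit 177, nat_lit 177, nat_lit 225, nat_lit 249, nat_lit 297, nat_lit 9, nat_lit 177, nat_lit 201, nat_lit 9] 48 4)) (.leaf (Rule.fwd [nat_lit 225, nat_lit 33, nat_lit 153, nat_lit 153, nat_lit 105, nat_lit 297, nat_lit 297, nat_lit 33, nat_lit 225, nat_lit 105] 88 3))) (.node (nat_lit 1) (.leaf (Rule.fwd [nat_lit 9, nat_lit 9, nat_lit 57, nat_lit 129] 38 0)) (.leaf (Rule.fwd [nat_lit 33, nat_lit 297, nat_lit 225, nat_lit 225, nat_lit 273, nat_lit 129, nat_lit 57, nat_lit 9, nat_lit 225] 43 2))))) (.node (nat_lit 4) (.node (nat_lit 2) (.node (nat_lit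 1) (.leaf (Rule.fwd [nat_lit 9, nat_lit 225, nat_lit 57, nat_lit 33, nat_lit 297, nat_lit 225, nat_lit 225, nat_lit 273, nat_lit 129] 43 5)) (.leaf (Rule.fwd [nat_lit 201, nat_lit 129, nat_lit 81, nat_lit 9, nat_lit 153, nat_lit 153, nat_lit 225, nat_lit 273, nat_lit 201, nat_lit 33] 62 1))) (.node (nat_lit 1) (.leaf (Rule.fwd [nat_lit 57, nat_lit 57, nat_lit 153, nat_lit 57, nat_lit 33, nat_lit 81, nat_lit 9] 41 3)) (.leaf (Rule.fwd [nat_lit 153, nat_lit 57, nat_lit 33, nat_lit 81, nat_lit 9, nat_lit 57, nat_lit 57] 41 1)))) (.node (nat_lit 2) (.node (nat_lit 1) (.leaf (Rule.fwd [nat_lit 33, nat_lit 81, nat_lit 9, nat_lit 57, nat_lit 57, nat_lit 57, nat_lit 153] 41 7)) (.leaf (Rule.fwd [nat_lit 9, nat_lit 81, nat_lit 177, nat_lit 81, nat_lit 81, nat_lit 81, nat_lit 33] 40 4))) (.node (nat_lit 1) (.leaf (Rule.fwd [nat_lit 57, nat_lit 153, nat_lit 57, nat_lit 33, nat_lit 81, nat_lit 9, nat_lit 57] 41 2)) (.leaf (Rule.fwd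 [nat_lit 105, nat_lit 225, nat_lit 81, nat_lit 9, nat_lit 225, nat_lit 249, nat_lit 201, nat_lit 177, nat_lit 177, nat_lit 33] 63 5)))))), (.node (nat_lit 1) (.leaf XRule.defn) (.leaf XRule.defn))⟩
noncomputable def ci81 : CI := ⟨[3], (nat_lit 57), false, (.node (nat_lit 8) (.node (nat_lit 4) (.node (nat_lit 2) (.node (nat_lit 1) (.leaf Rule.defn) (.leaf Rule.copy)) (.node (nat_lit 1) (.leaf (Rule.fwd [nat_lit 57] 96 0)) (.leaf (Rule.fwd [nat_lit 105, nat_lit 81, nat_lit 33, nat_lit 33] 39 1)))) (.node (nat_lit 2) (.node (nat_lit 1) (.leaf (Rule.fwd [nat_lit 129, nat_lit 201, nat_lit 9, nat_lit 321, nat_lit 321, nat_lit 129, nat_lit 177, nat_lit 177, nat_lit 9, nat_lit 201] 89 4)) (.leaf (Rule.fwd [nat_lit 33, nat_lit 33, nat_lit 81, nat_lit 105] 39 4))) (.node (nat_lit 1) (.leaf (Rule.fwd [nat_lit 9, nat_lit 225, nat_lit 249, nat_lit 201, nat_lit 177, nat_lit 177, nat_lit 33, nat_lit 57, nat_lit 105, nat_lit 225] 63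 2)) (.leaf (Rule.fwd [nat_lit 33, nat_lit 225, nat_lit 153, nat_lit 33, nat_lit 321, nat_lit 273, nat_lit 201, nat_lit 153, nat_lit 153, nat_lit 9] 49 5))))) (.node (nat_lit 4) (.node (nat_lit 2) (.node (nat_lit 1) (.leaf (Rule.fwd [nat_lit 105, nat_lit 249, nat_lit 201, nat_lit 201, nat_lit 321, nat_lit 9, nat_lit 81, nat_lit 201, nat_lit 33] 42 4)) (.leaf (Rule.fwd [nat_lit 33, nat_lit 57, nat_lit 9, nat_lit 81, nat_lit 177, nat_lit 81, nat_lit 81] 40 2))) (.node (nat_lit 1) (.leaf (Rule.fwd [nat_lit 177, nat_lit 81, nat_lit 81, nat_lit 81, nat_lit 33, nat_lit 57, nat_lit 9] 40 6)) (.leaf (Rule.fwd [nat_lit 81, nat_lit 81, nat_lit 33, nat_lit 57, nat_lit 9, nat_lit 81, nat_lit 177] 40 0)))) (.node (nat_lit 2) (.node (nat_lit 1) (.leaf (Rule.fwd [nat_lit 9, nat_lit 57, nat_lit 57, nat_lit 57, nat_lit 153, nat_lit 57, nat_lit 33] 41 5)) (.leaf (Rule.fwd [nat_lit 201, nat_lit 33, nat_lit 81, nat_lit 105, nat_lit 249,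 nat_lit 201, nat_lit 201, nat_lit 321, nat_lit 9] 42 1))) (.node (nat_lit 1) (.leaf (Rule.fwd [nat_lit 9, nat_lit 153, nat_lit 153, nat_lit 225, nat_lit 273, nat_lit 201, nat_lit 33, nat_lit 57, nat_lit 201, nat_lit 129] 62 4)) (.leaf (Rule.fwd [nat_lit 81, nat_lit 33, nat_lit 57, nat_lit 9, nat_lit 81, nat_lit 177, nat_lit 81] 40 1)))))), (.node (nat_lit 1) (.leaf XRule.defn) (.leaf XRule.defn))⟩
noncomputable def ci105 : CI := ⟨[4], (nat_lit 129), true, (.node (nat_lit 16) (.node (nat_lit 8) (.node (nat_lit 4) (.node (nat_lit 2) (.node (nat_lit 1) (.leaf Rule.defn) (.leaf Rule.copy)) (.node (nat_lit 1) (.leaf (Rule.fwd [nat_lit 129] 96 0)) (.leaf (Rule.fwd [nat_lit 273, nat_lit 9, nat_lit 369, nat_lit 201, nat_lit 153, nat_lit 105, nat_lit 153, nat_lit 105, nat_lit 9, nat_lit 297, nat_lit 273] 93 3)))) (.node (nat_lit 2) (.node (nat_lit 1) (.leaf (Rule.fwd [nat_lit 225, nat_lit 9, nat_lit 105, nat_lit 153, nat_lit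 105, nat_lit 105, nat_lit 153, nat_lit 105, nat_lit 369, nat_lit 297, nat_lit 9, nat_lit 9] 54 2)) (.leaf (Rule.fwd [nat_lit 153, nat_lit 9, nat_lit 129, nat_lit 129, nat_lit 153, nat_lit 129, nat_lit 249, nat_lit 225, nat_lit 225, nat_lit 369, nat_lit 297, nat_lit 9, nat_lit 225] 72 2))) (.node (nat_lit 1) (.leaf (Rule.fwd [nat_lit 369, nat_lit 177, nat_lit 9, nat_lit 105, nat_lit 105, nat_lit 201, nat_lit 321, nat_lit 33, nat_lit 177] 80 2)) (.leaf (Rule.fwd [nat_lit 321, nat_lit 225, nat_lit 345, nat_lit 129, nat_lit 153, nat_lit 201] 28 0))))) (.node (nat_lit 4) (.node (nat_lit 2) (.node (nat_lit 1) (.leaf (Rule.fwd [nat_lit 273, nat_lit 225, nat_lit 249, nat_lit 177, nat_lit 201, nat_lit 345] 26 0)) (.leaf (Rule.fwd [nat_lit 225, nat_lit 369, nat_lit 105, nat_lit 321, nat_lit 249] 22 0))) (.node (nat_lit 1) (.leaf (Rule.fwd [nat_lit 369, nat_lit 201, nat_lit 297, nat_lit 129, nat_lit 225, nat_lit 177] 29 5)) (.leaf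 (Rule.fwd [nat_lit 105, nat_lit 177, nat_lit 177, nat_lit 249, nat_lit 177, nat_lit 105] 21 4)))) (.node (nat_lit 2) (.node (nat_lit 1) (.leaf (Rule.fwd [nat_lit 177, nat_lit 177, nat_lit 249, nat_lit 177, nat_lit 105, nat_lit 105] 21 3)) (.leaf (Rule.fwd [nat_lit 201, nat_lit 153, nat_lit 129, nat_lit 129, nat_lit 153] 19 1))) (.node (nat_lit 1) (.leaf (Rule.fwd [nat_lit 105, nat_lit 177, nat_lit 225, nat_lit 129, nat_lit 177] 18 2)) (.leaf (Rule.fwd [nat_lit 321, nat_lit 249, nat_lit 105, nat_lit 225, nat_lit 369] 22 3)))))) (.node (nat_lit 8) (.node (nat_lit 4) (.node (nat_lit 2) (.node (nat_lit 1) (.leaf (Rule.fwd [nat_lit 33, nat_lit 33, nat_lit 297, nat_lit 345, nat_lit 273, nat_lit 9, nat_lit 273, nat_lit 105] 91 7)) (.leaf (Rule.fwd [nat_lit 177, nat_lit 225, nat_lit 129, nat_lit 177, nat_lit 105] 18 3))) (.node (nat_lit 1) (.leaf (Rule.fwd [nat_lit 105, nat_lit 105, nat_lit 177, nat_lit 177, nat_lit 249, nat_lit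 177] 21 5)) (.leaf (Rule.fwd [nat_lit 9, nat_lit 225, nat_lit 369, nat_lit 249, nat_lit 249, nat_lit 33, nat_lit 321, nat_lit 249, nat_lit 249, nat_lit 153, nat_lit 105, nat_lit 105, nat_lit 177] 75 7)))) (.node (nat_lit 2) (.node (nat_lit 1) (.leaf (Rule.fwd [nat_lit 81, nat_lit 33, nat_lit 33, nat_lit 81] 39 0)) (.leaf (Rule.fwd [nat_lit 9, nat_lit 9, nat_lit 321, nat_lit 129, nat_lit 129, nat_lit 9, nat_lit 321, nat_lit 369, nat_lit 249, nat_lit 153, nat_lit 153] 67 7))) (.node (nat_lit 1) (.leaf (Rule.fwd [nat_lit 105, nat_lit 201, nat_lit 321, nat_lit 33, nat_lit 177, nat_lit 105, nat_lit 369, nat_lit 177, nat_lit 9] 80 6)) (.leaf (Rule.fwd [nat_lit 57, nat_lit 225, nat_lit 33, nat_lit 153, nat_lit 153, nat_lit 105, nat_lit 297, nat_lit 297, nat_lit 33, nat_lit 225] 88 2))))) (.leaf (Rule.fwd [nat_lit 9, nat_lit 129, nat_lit 129, nat_lit 129, nat_lit 225, nat_lit 297, nat_lit 9, nat_lit 225, nat_lit 249] 44 3)))),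 (.node (nat_lit 1) (.leaf XRule.defn) (.leaf XRule.ax))⟩
noncomputable def ci129 : CI := ⟨[5], (nat_lit 105), true, (.node (nat_lit 16) (.node (nat_lit 8) (.node (nat_lit 4) (.node (nat_lit 2) (.node (nat_lit 1) (.leaf Rule.defn) (.leaf Rule.copy)) (.node (nat_lit 1) (.leaf (Rule.fwd [nat_lit 105] 96 0)) (.leaf (Rule.fwd [nat_lit 57, nat_lit 9, nat_lit 9, nat_lit 57] 38 4)))) (.node (nat_lit 2) (.node (nat_lit 1) (.leaf (Rule.fwd [nat_lit 249, nat_lit 33, nat_lit 249, nat_lit 369, nat_lit 321, nat_lit 9, nat_lit 9, nat_lit 129] 90 7)) (.leaf (Rule.fwd [nat_lit 225, nat_lit 297, nat_lit 9, nat_lit 225, nat_lit 249, nat_lit 105, nat_lit 9, nat_lit 129, nat_lit 129] 44 7))) (.node (nat_lit 1) (.leaf (Rule.fwd [nat_lit 201, nat_lit 9, nat_lit 321, nat_lit 321, nat_lit 129, nat_lit 177, nat_lit 177, nat_lit 9, nat_lit 201, nat_lit 81] 89 3)) (.leaf (Rule.fwd [nat_lit 129, nat_lit 9, nat_lit 321, nat_lit 369, nat_lit 249,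 nat_lit 153, nat_lit 153, nat_lit 105, nat_lit 9, nat_lit 9, nat_lit 321] 67 3))))) (.node (nat_lit 4) (.node (nat_lit 2) (.node (nat_lit 1) (.leaf (Rule.fwd [nat_lit 345, nat_lit 201, nat_lit 129, nat_lit 273, nat_lit 297] 23 4)) (.leaf (Rule.fwd [nat_lit 177, nat_lit 105, nat_lit 105, nat_lit 177, nat_lit 225] 18 0))) (.node (nat_lit 1) (.leaf (Rule.fwd [nat_lit 369, nat_lit 225, nat_lit 153, nat_lit 273, nat_lit 201, nat_lit 249] 27 1)) (.leaf (Rule.fwd [nat_lit 153, nat_lit 105, nat_lit 201, nat_lit 153, nat_lit 129] 19 3)))) (.node (nat_lit 2) (.node (nat_lit 1) (.leaf (Rule.fwd [nat_lit 153, nat_lit 201, nat_lit 105, nat_lit 321, nat_lit 225, nat_lit 345] 28 4)) (.leaf (Rule.fwd [nat_lit 225, nat_lit 177, nat_lit 105, nat_lit 369, nat_lit 201, nat_lit 297] 29 1))) (.node (nat_lit 1) (.leaf (Rule.fwd [nat_lit 273, nat_lit 297, nat_lit 129, nat_lit 345, nat_lit 201] 23 1)) (.leaf (Rule.fwd [nat_lit 9, nat_lit 9,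 nat_lit 369, nat_lit 153, nat_lit 225, nat_lit 33, nat_lit 321, nat_lit 249, nat_lit 105, nat_lit 105, nat_lit 153, nat_lit 129] 59 7)))))) (.node (nat_lit 8) (.node (nat_lit 4) (.node (nat_lit 2) (.node (nat_lit 1) (.leaf (Rule.fwd [nat_lit 153, nat_lit 33, nat_lit 153, nat_lit 153, nat_lit 105, nat_lit 225, nat_lit 273, nat_lit 201, nat_lit 201, nat_lit 369, nat_lit 297, nat_lit 9, nat_lit 177, nat_lit 297] 94 3)) (.leaf (Rule.fwd [nat_lit 129, nat_lit 153, nat_lit 105, nat_lit 201, nat_lit 153] 19 4))) (.node (nat_lit 1) (.leaf (Rule.fwd [nat_lit 153, nat_lit 273, nat_lit 153, nat_lit 153, nat_lit 129, nat_lit 129] 20 4)) (.leaf (Rule.fwd [nat_lit 9, nat_lit 225, nat_lit 321, nat_lit 177, nat_lit 105, nat_lit 9, nat_lit 321, nat_lit 321, nat_lit 201, nat_lit 201, nat_lit 249, nat_lit 249, nat_lit 129] 83 7)))) (.node (nat_lit 2) (.node (nat_lit 1) (.leaf (Rule.fwd [nat_lit 33, nat_lit 153, nat_lit 345, nat_lit 129,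 nat_lit 153, nat_lit 9, nat_lit 297, nat_lit 225, nat_lit 129] 81 7)) (.leaf (Rule.fwd [nat_lit 129, nat_lit 153, nat_lit 273, nat_lit 153, nat_lit 153, nat_lit 129] 20 3))) (.node (nat_lit 1) (.leaf (Rule.fwd [nat_lit 129, nat_lit 129, nat_lit 153, nat_lit 273, nat_lit 153, nat_lit 153] 20 2)) (.leaf (Rule.fwd [nat_lit 273, nat_lit 201, nat_lit 33, nat_lit 321, nat_lit 201, nat_lit 105, nat_lit 105, nat_lit 105, nat_lit 33] 45 4))))) (.node (nat_lit 4) (.node (nat_lit 2) (.node (nat_lit 1) (.leaf (Rule.fwd [nat_lit 81, nat_lit 9, nat_lit 153, nat_lit 153, nat_lit 225, nat_lit 273, nat_lit 201, nat_lit 33, nat_lit 57, nat_lit 201] 62 3)) (.leaf (Rule.fwd [nat_lit 177, nat_lit 33, nat_lit 345, nat_lit 153, nat_lit 33, nat_lit 33, nat_lit 321, nat_lit 321, nat_lit 249, nat_lit 225, nat_lit 153] 51 7))) (.node (nat_lit 1) (.leaf (Rule.fwd [nat_lit 177, nat_lit 105, nat_lit 201, nat_lit 201, nat_lit 249, nat_lit 201, nat_lit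 33, nat_lit 129, nat_lit 201, nat_lit 345, nat_lit 177, nat_lit 33] 70 6)) (.leaf (Rule.fwd [nat_lit 321, nat_lit 33, nat_lit 177, nat_lit 129, nat_lit 201, nat_lit 249, nat_lit 201, nat_lit 201, nat_lit 369, nat_lit 297, nat_lit 33, nat_lit 129, nat_lit 369] 86 3)))) (.leaf (Rule.fwd [nat_lit 177, nat_lit 177, nat_lit 9, nat_lit 201, nat_lit 81, nat_lit 129, nat_lit 201, nat_lit 9, nat_lit 321, nat_lit 321] 89 9))))), (.node (nat_lit 1) (.leaf XRule.defn) (.leaf XRule.ax))⟩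
noncomputable def ci153 : CI := ⟨[6], (nat_lit 177), true, (.node (nat_lit 16) (.node (nat_lit 8) (.node (nat_lit 4) (.node (nat_lit 2) (.node (nat_lit 1) (.leaf Rule.defn) (.leaf Rule.copy)) (.node (nat_lit 1) (.leaf (Rule.fwd [nat_lit 177] 96 0)) (.leaf (Rule.fwd [nat_lit 225, nat_lit 9, nat_lit 177, nat_lit 129, nat_lit 129, nat_lit 273, nat_lit 201, nat_lit 345, nat_lit 297, nat_lit 9, nat_lit 201] 52 2)))) (.node (nat_lit 2) (.node (nat_lit 1) (.leaf (Rule.fwd [nat_lit 105, nat_lit 9, nat_lit 369, nat_lit 273, nat_lit 273, nat_lit 153, nat_lit 105, nat_lit 105, nat_lit 153, nat_lit 129, nat_lit 9, nat_lit 153, nat_lit 297] 85 3)) (.leaf (Rule.fwd [nat_lit 105, nat_lit 201, nat_lit 153, nat_lit 129, nat_lit 129] 19 2))) (.node (nat_lit 1) (.leaf (Rule.fwd [nat_lit 345, nat_lit 273, nat_lit 153, nat_lit 345, nat_lit 273] 24 0)) (.leaf (Rule.fwd [nat_lit 273, nat_lit 201, nat_lit 249, nat_lit 129, nat_lit 369, nat_lit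 225] 27 5))))) (.node (nat_lit 4) (.node (nat_lit 2) (.node (nat_lit 1) (.leaf (Rule.fwd [nat_lit 129, nat_lit 129, nat_lit 153, nat_lit 105, nat_lit 201] 19 5)) (.leaf (Rule.fwd [nat_lit 201, nat_lit 105, nat_lit 321, nat_lit 225, nat_lit 345, nat_lit 129] 28 5))) (.node (nat_lit 1) (.leaf (Rule.fwd [nat_lit 153, nat_lit 129, nat_lit 129, nat_lit 129, nat_lit 153, nat_lit 273] 20 0)) (.leaf (Rule.fwd [nat_lit 9, nat_lit 273, nat_lit 201, nat_lit 153, nat_lit 33, nat_lit 297, nat_lit 249, nat_lit 225, nat_lit 273, nat_lit 105, nat_lit 153, nat_lit 129] 57 6)))) (.node (nat_lit 2) (.node (nat_lit 1) (.leaf (Rule.fwd [nat_lit 129, nat_lit 129, nat_lit 129, nat_lit 153, nat_lit 273, nat_lit 153] 20 1)) (.leaf (Rule.fwd [nat_lit 273, nat_lit 153, nat_lit 153, nat_lit 129, nat_lit 129, nat_lit 129] 20 5))) (.node (nat_lit 1) (.leaf (Rule.fwd [nat_lit 9, nat_lit 297, nat_lit 105, nat_lit 345, nat_lit 105, nat_lit 9, nat_lit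 321, nat_lit 345, nat_lit 225, nat_lit 225, nat_lit 273, nat_lit 225, nat_lit 105] 87 7)) (.leaf (Rule.fwd [nat_lit 249, nat_lit 369, nat_lit 33, nat_lit 225, nat_lit 273, nat_lit 201, nat_lit 273, nat_lit 105, nat_lit 105, nat_lit 153, nat_lit 129, nat_lit 9, nat_lit 9] 79 4)))))) (.node (nat_lit 4) (.node (nat_lit 2) (.node (nat_lit 1) (.leaf (Rule.fwd [nat_lit 33, nat_lit 297, nat_lit 249, nat_lit 225, nat_lit 273, nat_lit 105, nat_lit 153, nat_lit 129, nat_lit 153, nat_lit 9, nat_lit 273, nat_lit 201] 57 2)) (.leaf (Rule.fwd [nat_lit 57, nat_lit 33, nat_lit 81, nat_lit 9, nat_lit 57, nat_lit 57, nat_lit 57] 41 0))) (.node (nat_lit 1) (.leaf (Rule.fwd [nat_lit 33, nat_lit 33, nat_lit 321, nat_lit 321, nat_lit 249, nat_lit 225, nat_lit 153, nat_lit 129, nat_lit 177, nat_lit 33, nat_lit 345] 51 3)) (.leaf (Rule.fwd [nat_lit 297, nat_lit 153, nat_lit 105, nat_lit 9, nat_lit 369, nat_lit 273, nat_lit 273, nat_lit 153,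 nat_lit 105, nat_lit 105, nat_lit 153, nat_lit 129, nat_lit 9] 85 5)))) (.leaf (Rule.fwd [nat_lit 33, nat_lit 321, nat_lit 273, nat_lit 201, nat_lit 153, nat_lit 153, nat_lit 9, nat_lit 81, nat_lit 33, nat_lit 225] 49 2)))), (.node (nat_lit 1) (.leaf XRule.defn) (.leaf XRule.ax))⟩
noncomputable def ci177 : CI := ⟨[7], (nat_lit 153), true, (.node (nat_lit 16) (.node (nat_lit 8) (.node (nat_lit 4) (.node (nat_lit 2) (.node (nat_lit 1) (.leaf Rule.defn) (.leaf Rule.copy)) (.node (nat_lit 1) (.leaf (Rule.fwd [nat_lit 153] 96 0)) (.leaf (Rule.fwd [nat_lit 369, nat_lit 9, nat_lit 153, nat_lit 105, nat_lit 177, nat_lit 201, nat_lit 273, nat_lit 297, nat_lit 297, nat_lit 9, nat_lit 9] 50 2)))) (.node (nat_lit 2) (.node (nat_lit 1) (.leaf (Rule.fwd [nat_lit 345, nat_lit 33, nat_lit 33, nat_lit 105, nat_lit 105, nat_lit 177, nat_lit 129, nat_lit 129, nat_lit 273, nat_lit 297, nat_lit 9, nat_lit 201] 58 2)) (.leaf (Rule.fwd [nat_lit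 129, nat_lit 9, nat_lit 321, nat_lit 321, nat_lit 201, nat_lit 201, nat_lit 273, nat_lit 153, nat_lit 105, nat_lit 9, nat_lit 273, nat_lit 369] 69 3))) (.node (nat_lit 1) (.leaf (Rule.fwd [nat_lit 105, nat_lit 9, nat_lit 321, nat_lit 321, nat_lit 201, nat_lit 201, nat_lit 249, nat_lit 249, nat_lit 129, nat_lit 129, nat_lit 9, nat_lit 225, nat_lit 321] 83 3)) (.leaf (Rule.fwd [nat_lit 105, nat_lit 105, nat_lit 105, nat_lit 177, nat_lit 177, nat_lit 249] 21 6))))) (.node (nat_lit 4) (.node (nat_lit 2) (.node (nat_lit 1) (.leaf (Rule.fwd [nat_lit 105, nat_lit 369, nat_lit 201, nat_lit 297, nat_lit 129, nat_lit 225] 29 6)) (.leaf (Rule.fwd [nat_lit 249, nat_lit 369, nat_lit 177, nat_lit 249, nat_lit 369] 25 1))) (.node (nat_lit 1) (.leaf (Rule.fwd [nat_lit 201, nat_lit 345, nat_lit 105, nat_lit 273, nat_lit 225, nat_lit 249] 26 4)) (.leaf (Rule.fwd [nat_lit 225, nat_lit 129, nat_lit 177, nat_lit 105, nat_lit 105] 18 4))))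 (.node (nat_lit 2) (.node (nat_lit 1) (.leaf (Rule.fwd [nat_lit 273, nat_lit 273, nat_lit 297, nat_lit 9, nat_lit 273, nat_lit 273, nat_lit 345, nat_lit 201, nat_lit 33, nat_lit 129, nat_lit 153, nat_lit 129, nat_lit 129] 74 10)) (.leaf (Rule.fwd [nat_lit 33, nat_lit 345, nat_lit 153, nat_lit 33, nat_lit 33, nat_lit 321, nat_lit 321, nat_lit 249, nat_lit 225, nat_lit 153, nat_lit 129] 51 6))) (.node (nat_lit 1) (.leaf (Rule.fwd [nat_lit 129, nat_lit 201, nat_lit 33, nat_lit 321, nat_lit 345, nat_lit 201, nat_lit 201, nat_lit 273, nat_lit 105, nat_lit 177, nat_lit 105, nat_lit 105, nat_lit 33] 73 4)) (.leaf (Rule.fwd [nat_lit 177, nat_lit 249, nat_lit 177, nat_lit 105, nat_lit 105, nat_lit 105] 21 2)))))) (.node (nat_lit 8) (.node (nat_lit 4) (.node (nat_lit 2) (.node (nat_lit 1) (.leaf (Rule.fwd [nat_lit 9, nat_lit 249, nat_lit 249, nat_lit 369, nat_lit 321, nat_lit 33, nat_lit 321, nat_lit 345, nat_lit 249, nat_lit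 201, nat_lit 129, nat_lit 129] 65 7)) (.leaf (Rule.fwd [nat_lit 105, nat_lit 105, nat_lit 177, nat_lit 225, nat_lit 129] 18 1))) (.node (nat_lit 1) (.leaf (Rule.fwd [nat_lit 249, nat_lit 177, nat_lit 105, nat_lit 105, nat_lit 105, nat_lit 177] 21 1)) (.leaf (Rule.fwd [nat_lit 129, nat_lit 153, nat_lit 273, nat_lit 273, nat_lit 225, nat_lit 273, nat_lit 9, nat_lit 321, nat_lit 321, nat_lit 33] 46 4)))) (.node (nat_lit 2) (.node (nat_lit 1) (.leaf (Rule.fwd [nat_lit 81, nat_lit 81, nat_lit 81, nat_lit 33, nat_lit 57, nat_lit 9, nat_lit 81] 40 7)) (.leaf (Rule.fwd [nat_lit 33, nat_lit 129, nat_lit 177, nat_lit 105, nat_lit 201, nat_lit 201, nat_lit 249, nat_lit 201, nat_lit 33, nat_lit 129, nat_lit 201, nat_lit 345] 70 4))) (.node (nat_lit 1) (.leaf (Rule.fwd [nat_lit 225, nat_lit 33, nat_lit 321, nat_lit 369, nat_lit 225, nat_lit 249, nat_lit 105, nat_lit 105, nat_lit 153, nat_lit 33, nat_lit 201] 53 3)) (.leaf (Rule.fwd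 [nat_lit 201, nat_lit 9, nat_lit 57, nat_lit 33, nat_lit 177, nat_lit 177, nat_lit 225, nat_lit 249, nat_lit 297, nat_lit 9] 48 1))))) (.node (nat_lit 2) (.node (nat_lit 1) (.leaf (Rule.fwd [nat_lit 33, nat_lit 33, nat_lit 105, nat_lit 177, nat_lit 129, nat_lit 129, nat_lit 249, nat_lit 225, nat_lit 249, nat_lit 201, nat_lit 9, nat_lit 345, nat_lit 273] 78 3)) (.leaf (Rule.fwd [nat_lit 177, nat_lit 297, nat_lit 273, nat_lit 33, nat_lit 297, nat_lit 201, nat_lit 273, nat_lit 129, nat_lit 177, nat_lit 129, nat_lit 153, nat_lit 9] 61 5))) (.node (nat_lit 1) (.leaf (Rule.fwd [nat_lit 9, nat_lit 105, nat_lit 105, nat_lit 201, nat_lit 321, nat_lit 33, nat_lit 177, nat_lit 105, nat_lit 369] 80 4)) (.leaf (Rule.fwd [nat_lit 177, nat_lit 9, nat_lit 177, nat_lit 105, nat_lit 321, nat_lit 153, nat_lit 33, nat_lit 321, nat_lit 345, nat_lit 225, nat_lit 225, nat_lit 249, nat_lit 201, nat_lit 129] 95 8)))))), (.node (nat_lit 1) (.leaf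 XRule.defn) (.leaf XRule.ax))⟩
noncomputable def ci201 : CI := ⟨[8], (nat_lit 225), true, (.node (nat_lit 32) (.node (nat_lit 16) (.node (nat_lit 8) (.node (nat_lit 4) (.node (nat_lit 2) (.node (nat_lit 1) (.leaf Rule.defn) (.leaf Rule.copy)) (.node (nat_lit 1) (.leaf (Rule.fwd [nat_lit 225] 96 0)) (.leaf (Rule.fwd [nat_lit 33, nat_lit 81, nat_lit 105, nat_lit 249, nat_lit 201, nat_lit 201, nat_lit 321, nat_lit 9, nat_lit 81] 42 2)))) (.node (nat_lit 2) (.node (nat_lit 1) (.leaf (Rule.fwd [nat_lit 321, nat_lit 33, nat_lit 177, nat_lit 105, nat_lit 369, nat_lit 177, nat_lit 9, nat_lit 105, nat_lit 105] 80 8)) (.leaf (Rule.fwd [nat_lit 9, nat_lit 57, nat_lit 33, nat_lit 177, nat_lit 177, nat_lit 225, nat_lit 249, nat_lit 297, nat_lit 9, nat_lit 177] 48 2))) (.node (nat_lit 1) (.leaf (Rule.fwd [nat_lit 345, nat_lit 249, nat_lit 201, nat_lit 345, nat_lit 249] 14 0)) (.leaf (Rule.fwd [nat_lit 297, nat_lit 297, nat_lit 273,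 nat_lit 321] 8 0))))) (.node (nat_lit 4) (.node (nat_lit 2) (.node (nat_lit 1) (.leaf (Rule.fwd [nat_lit 321, nat_lit 225, nat_lit 369, nat_lit 273, nat_lit 201, nat_lit 297] 30 2)) (.leaf (Rule.fwd [nat_lit 201, nat_lit 201, nat_lit 297, nat_lit 201, nat_lit 345, nat_lit 273] 16 0))) (.node (nat_lit 1) (.leaf (Rule.fwd [nat_lit 129, nat_lit 81, nat_lit 9, nat_lit 153, nat_lit 153, nat_lit 225, nat_lit 273, nat_lit 201, nat_lit 33, nat_lit 57] 62 2)) (.leaf (Rule.fwd [nat_lit 201, nat_lit 369, nat_lit 297, nat_lit 33, nat_lit 129, nat_lit 369, nat_lit 129, nat_lit 321, nat_lit 33, nat_lit 177, nat_lit 129, nat_lit 201, nat_lit 249] 86 10)))) (.node (nat_lit 2) (.node (nat_lit 1) (.leaf (Rule.fwd [nat_lit 345, nat_lit 273, nat_lit 201, nat_lit 201, nat_lit 201, nat_lit 297] 16 4)) (.leaf (Rule.fwd [nat_lit 249, nat_lit 201, nat_lit 249, nat_lit 225, nat_lit 321, nat_lit 273] 4 1))) (.node (nat_lit 1) (.leaf (Rule.fwd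 [nat_lit 249, nat_lit 297, nat_lit 201, nat_lit 249, nat_lit 297] 12 0)) (.leaf (Rule.fwd [nat_lit 249, nat_lit 225, nat_lit 249, nat_lit 249, nat_lit 369, nat_lit 225, nat_lit 249] 6 2)))))) (.node (nat_lit 8) (.node (nat_lit 4) (.node (nat_lit 2) (.node (nat_lit 1) (.leaf (Rule.fwd [nat_lit 129, nat_lit 273, nat_lit 297, nat_lit 129, nat_lit 345] 23 2)) (.leaf (Rule.fwd [nat_lit 273, nat_lit 369, nat_lit 273, nat_lit 369, nat_lit 273, nat_lit 297] 36 0))) (.node (nat_lit 1) (.leaf (Rule.fwd [nat_lit 297, nat_lit 201, nat_lit 321, nat_lit 225, nat_lit 369, nat_lit 273] 30 0)) (.leaf (Rule.fwd [nat_lit 345, nat_lit 249, nat_lit 369, nat_lit 273, nat_lit 345, nat_lit 273] 34 0)))) (.node (nat_lit 2) (.node (nat_lit 1) (.leaf (Rule.fwd [nat_lit 153, nat_lit 129, nat_lit 129, nat_lit 153, nat_lit 105] 19 0)) (.leaf (Rule.fwd [nat_lit 105, nat_lit 321, nat_lit 225, nat_lit 345, nat_lit 129, nat_lit 153] 28 6))) (.node (nat_lit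 1) (.leaf (Rule.fwd [nat_lit 321, nat_lit 321, nat_lit 273, nat_lit 321] 32 0)) (.leaf (Rule.fwd [nat_lit 345, nat_lit 105, nat_lit 273, nat_lit 225, nat_lit 249, nat_lit 177] 26 5))))) (.node (nat_lit 4) (.node (nat_lit 2) (.node (nat_lit 1) (.leaf (Rule.fwd [nat_lit 345, nat_lit 273, nat_lit 273, nat_lit 201, nat_lit 273, nat_lit 225, nat_lit 273] 7 1)) (.leaf (Rule.fwd [nat_lit 249, nat_lit 225, nat_lit 321, nat_lit 273, nat_lit 201, nat_lit 249] 4 3))) (.node (nat_lit 1) (.leaf (Rule.fwd [nat_lit 297, nat_lit 201, nat_lit 345, nat_lit 273, nat_lit 201, nat_lit 201] 16 2)) (.leaf (Rule.fwd [nat_lit 273, nat_lit 225, nat_lit 273, nat_lit 201, nat_lit 345, nat_lit 273, nat_lit 273] 7 5)))) (.node (nat_lit 2) (.node (nat_lit 1) (.leaf (Rule.fwd [nat_lit 297, nat_lit 129, nat_lit 225, nat_lit 177, nat_lit 105, nat_lit 369] 29 3)) (.leaf (Rule.fwd [nat_lit 81, nat_lit 129, nat_lit 201, nat_lit 9, nat_lit 321, nat_lit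 321, nat_lit 129, nat_lit 177, nat_lit 177, nat_lit 9] 89 5))) (.node (nat_lit 1) (.leaf (Rule.fwd [nat_lit 153, nat_lit 225, nat_lit 9, nat_lit 177, nat_lit 129, nat_lit 129, nat_lit 273, nat_lit 201, nat_lit 345, nat_lit 297, nat_lit 9] 52 1)) (.leaf (Rule.fwd [nat_lit 33, nat_lit 105, nat_lit 105, nat_lit 273, nat_lit 273, nat_lit 225, nat_lit 225, nat_lit 297, nat_lit 297, nat_lit 33, nat_lit 129, nat_lit 153, nat_lit 297] 82 4))))))) (.node (nat_lit 4) (.node (nat_lit 2) (.node (nat_lit 1) (.leaf (Rule.fwd [nat_lit 33, nat_lit 321, nat_lit 201, nat_lit 105, nat_lit 105, nat_lit 105, nat_lit 33, nat_lit 129, nat_lit 273] 45 2)) (.leaf (Rule.fwd [nat_lit 9, nat_lit 321, nat_lit 321, nat_lit 129, nat_lit 177, nat_lit 177, nat_lit 9, nat_lit 201, nat_lit 81, nat_lit 129] 89 2))) (.node (nat_lit 1) (.leaf (Rule.fwd [nat_lit 369, nat_lit 201, nat_lit 369, nat_lit 33, nat_lit 321, nat_lit 249, nat_lit 249, nat_lit 153,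 nat_lit 105, nat_lit 105, nat_lit 177, nat_lit 105, nat_lit 9] 77 5)) (.leaf (Rule.fwd [nat_lit 105, nat_lit 105, nat_lit 105, nat_lit 33, nat_lit 129, nat_lit 273, nat_lit 201, nat_lit 33, nat_lit 321] 45 9)))) (.node (nat_lit 2) (.node (nat_lit 1) (.leaf (Rule.fwd [nat_lit 201, nat_lit 297, nat_lit 201, nat_lit 345, nat_lit 273, nat_lit 201] 16 1)) (.leaf (Rule.fwd [nat_lit 249, nat_lit 129, nat_lit 369, nat_lit 225, nat_lit 153, nat_lit 273] 27 3))) (.leaf (Rule.fwd [nat_lit 273, nat_lit 225, nat_lit 273, nat_lit 225, nat_lit 249, nat_lit 297] 5 6))))), (.node (nat_lit 1) (.leaf XRule.defn) (.leaf XRule.ax))⟩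
noncomputable def ci225 : CI := ⟨[9], (nat_lit 201), true, (.node (nat_lit 32) (.node (nat_lit 16) (.node (nat_lit 8) (.node (nat_lit 4) (.node (nat_lit 2) (.node (nat_lit 1) (.leaf Rule.defn) (.leaf Rule.copy)) (.node (nat_lit 1) (.leaf (Rule.fwd [nat_lit 201] 96 0)) (.leaf (Rule.fwd [nat_lit 249, nat_lit 33, nat_lit 177, nat_lit 105, nat_lit 177, nat_lit 129, nat_lit 249, nat_lit 201, nat_lit 273, nat_lit 321, nat_lit 9, nat_lit 177] 56 2)))) (.node (nat_lit 2) (.node (nat_lit 1) (.leaf (Rule.fwd [nat_lit 105, nat_lit 9, nat_lit 225, nat_lit 273, nat_lit 225, nat_lit 225, nat_lit 129, nat_lit 153, nat_lit 105, nat_lit 9, nat_lit 153, nat_lit 369] 71 3)) (.leaf (Rule.fwd [nat_lit 345, nat_lit 225, nat_lit 33, nat_lit 129, nat_lit 153, nat_lit 129, nat_lit 129, nat_lit 177, nat_lit 273, nat_lit 273, nat_lit 297, nat_lit 9, nat_lit 345] 76 2))) (.node (nat_lit 1) (.leaf (Rule.fwd [nat_lit 297, nat_lit 249, nat_lit 321,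 nat_lit 321] 9 1)) (.leaf (Rule.fwd [nat_lit 273, nat_lit 201, nat_lit 345, nat_lit 273, nat_lit 273, nat_lit 201, nat_lit 273] 7 3))))) (.node (nat_lit 4) (.node (nat_lit 2) (.node (nat_lit 1) (.leaf (Rule.fwd [nat_lit 297, nat_lit 249, nat_lit 297, nat_lit 297] 33 1)) (.leaf (Rule.fwd [nat_lit 249, nat_lit 369, nat_lit 225, nat_lit 321, nat_lit 225, nat_lit 225] 17 1))) (.node (nat_lit 1) (.leaf (Rule.fwd [nat_lit 321, nat_lit 225, nat_lit 249, nat_lit 345, nat_lit 201, nat_lit 297] 31 3)) (.leaf (Rule.fwd [nat_lit 273, nat_lit 225, nat_lit 249, nat_lit 297, nat_lit 201, nat_lit 273] 5 4)))) (.node (nat_lit 2) (.node (nat_lit 1) (.leaf (Rule.fwd [nat_lit 321, nat_lit 225, nat_lit 225, nat_lit 225, nat_lit 249, nat_lit 369] 17 5)) (.leaf (Rule.fwd [nat_lit 129, nat_lit 177, nat_lit 105, nat_lit 105, nat_lit 177] 18 5))) (.node (nat_lit 1) (.leaf (Rule.fwd [nat_lit 153, nat_lit 273, nat_lit 201, nat_lit 249, nat_lit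 129, nat_lit 369] 27 6)) (.leaf (Rule.fwd [nat_lit 321, nat_lit 273, nat_lit 201, nat_lit 249, nat_lit 201, nat_lit 249] 4 5)))))) (.node (nat_lit 8) (.node (nat_lit 4) (.node (nat_lit 2) (.node (nat_lit 1) (.leaf (Rule.fwd [nat_lit 321, nat_lit 249, nat_lit 345, nat_lit 249, nat_lit 345, nat_lit 249] 37 1)) (.leaf (Rule.fwd [nat_lit 225, nat_lit 249, nat_lit 369, nat_lit 225, nat_lit 321, nat_lit 225] 17 2))) (.node (nat_lit 1) (.leaf (Rule.fwd [nat_lit 249, nat_lit 249, nat_lit 369, nat_lit 225, nat_lit 249, nat_lit 201, nat_lit 249] 6 4)) (.leaf (Rule.fwd [nat_lit 273, nat_lit 369, nat_lit 225, nat_lit 273, nat_lit 369] 15 1)))) (.node (nat_lit 2) (.node (nat_lit 1) (.leaf (Rule.fwd [nat_lit 177, nat_lit 105, nat_lit 369, nat_lit 201, nat_lit 297, nat_lit 129] 29 0)) (.leaf (Rule.fwd [nat_lit 249, nat_lit 297, nat_lit 201, nat_lit 273, nat_lit 225, nat_lit 273] 5 2))) (.node (nat_lit 1) (.leaf (Rule.fwd [nat_lit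 321, nat_lit 177, nat_lit 105, nat_lit 9, nat_lit 321, nat_lit 321, nat_lit 201, nat_lit 201, nat_lit 249, nat_lit 249, nat_lit 129, nat_lit 129, nat_lit 9] 83 5)) (.leaf (Rule.fwd [nat_lit 225, nat_lit 225, nat_lit 249, nat_lit 369, nat_lit 225, nat_lit 321] 17 3))))) (.node (nat_lit 4) (.node (nat_lit 2) (.node (nat_lit 1) (.leaf (Rule.fwd [nat_lit 369, nat_lit 105, nat_lit 321, nat_lit 249, nat_lit 105] 22 1)) (.leaf (Rule.fwd [nat_lit 249, nat_lit 345, nat_lit 201, nat_lit 297, nat_lit 225, nat_lit 321] 31 1))) (.node (nat_lit 1) (.leaf (Rule.fwd [nat_lit 369, nat_lit 273, nat_lit 201, nat_lit 297, nat_lit 201, nat_lit 321] 30 4)) (.leaf (Rule.fwd [nat_lit 249, nat_lit 201, nat_lit 249, nat_lit 225, nat_lit 249, nat_lit 249, nat_lit 369] 6 0)))) (.node (nat_lit 2) (.node (nat_lit 1) (.leaf (Rule.fwd [nat_lit 345, nat_lit 129, nat_lit 153, nat_lit 201, nat_lit 105, nat_lit 321] 28 2)) (.leaf (Rule.fwd [nat_lit 321,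 nat_lit 273, nat_lit 225, nat_lit 321, nat_lit 273] 13 1))) (.node (nat_lit 1) (.leaf (Rule.fwd [nat_lit 33, nat_lit 321, nat_lit 369, nat_lit 225, nat_lit 249, nat_lit 105, nat_lit 105, nat_lit 153, nat_lit 33, nat_lit 201, nat_lit 177] 53 2)) (.leaf (Rule.fwd [nat_lit 105, nat_lit 57, nat_lit 225, nat_lit 33, nat_lit 153, nat_lit 153, nat_lit 105, nat_lit 297, nat_lit 297, nat_lit 33] 88 1))))))) (.node (nat_lit 8) (.node (nat_lit 4) (.node (nat_lit 2) (.node (nat_lit 1) (.leaf (Rule.fwd [nat_lit 33, nat_lit 153, nat_lit 153, nat_lit 105, nat_lit 297, nat_lit 297, nat_lit 33, nat_lit 225, nat_lit 105, nat_lit 57] 88 4)) (.leaf (Rule.fwd [nat_lit 57, nat_lit 33, nat_lit 297, nat_lit 225, nat_lit 225, nat_lit 273, nat_lit 129, nat_lit 57, nat_lit 9] 43 3))) (.node (nat_lit 1) (.leaf (Rule.fwd [nat_lit 9, nat_lit 105, nat_lit 153, nat_lit 105, nat_lit 105, nat_lit 153, nat_lit 105, nat_lit 369, nat_lit 297, nat_lit 9,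 nat_lit 9, nat_lit 105] 54 3)) (.leaf (Rule.fwd [nat_lit 9, nat_lit 177, nat_lit 129, nat_lit 129, nat_lit 273, nat_lit 201, nat_lit 345, nat_lit 297, nat_lit 9, nat_lit 201, nat_lit 153] 52 3)))) (.node (nat_lit 2) (.node (nat_lit 1) (.leaf (Rule.fwd [nat_lit 369, nat_lit 249, nat_lit 249, nat_lit 33, nat_lit 321, nat_lit 249, nat_lit 249, nat_lit 153, nat_lit 105, nat_lit 105, nat_lit 177, nat_lit 105, nat_lit 9] 75 5)) (.leaf (Rule.fwd [nat_lit 81, nat_lit 9, nat_lit 225, nat_lit 249, nat_lit 201, nat_lit 177, nat_lit 177, nat_lit 33, nat_lit 57, nat_lit 105] 63 3))) (.node (nat_lit 1) (.leaf (Rule.fwd [nat_lit 33, nat_lit 129, nat_lit 153, nat_lit 129, nat_lit 129, nat_lit 177, nat_lit 273, nat_lit 273, nat_lit 297, nat_lit 9, nat_lit 345, nat_lit 225, nat_lit 345] 76 4)) (.leaf (Rule.fwd [nat_lit 249, nat_lit 177, nat_lit 201, nat_lit 345, nat_lit 105, nat_lit 273] 26 2))))) (.leaf (Rule.fwd [nat_lit 249, nat_lit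 369, nat_lit 249, nat_lit 345, nat_lit 273, nat_lit 369] 35 1)))), (.node (nat_lit 1) (.leaf XRule.defn) (.leaf XRule.ax))⟩
noncomputable def ci249 : CI := ⟨[10], (nat_lit 273), true, (.node (nat_lit 32) (.node (nat_lit 16) (.node (nat_lit 8) (.node (nat_lit 4) (.node (nat_lit 2) (.node (nat_lit 1) (.leaf Rule.defn) (.leaf Rule.copy)) (.node (nat_lit 1) (.leaf (Rule.fwd [nat_lit 273] 96 0)) (.leaf (Rule.fwd [nat_lit 105, nat_lit 9, nat_lit 129, nat_lit 129, nat_lit 129, nat_lit 225, nat_lit 297, nat_lit 9, nat_lit 225] 44 2)))) (.node (nat_lit 2) (.node (nat_lit 1) (.leaf (Rule.fwd [nat_lit 225, nat_lit 321, nat_lit 249, nat_lit 345, nat_lit 249, nat_lit 345] 37 2)) (.leaf (Rule.fwd [nat_lit 201, nat_lit 345, nat_lit 249, nat_lit 201, nat_lit 345] 14 2))) (.node (nat_lit 1) (.leaf (Rule.fwd [nat_lit 297, nat_lit 201, nat_lit 249, nat_lit 297, nat_lit 201] 12 1)) (.leaf (Rule.fwd [nat_lit 225, nat_lit 225, nat_lit 297,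 nat_lit 297, nat_lit 33, nat_lit 105, nat_lit 153, nat_lit 345, nat_lit 249, nat_lit 33, nat_lit 129, nat_lit 177] 68 8))))) (.node (nat_lit 4) (.node (nat_lit 2) (.node (nat_lit 1) (.leaf (Rule.fwd [nat_lit 369, nat_lit 225, nat_lit 321, nat_lit 225, nat_lit 225, nat_lit 225] 17 0)) (.leaf (Rule.fwd [nat_lit 345, nat_lit 273, nat_lit 369, nat_lit 225, nat_lit 249, nat_lit 369] 35 5))) (.node (nat_lit 1) (.leaf (Rule.fwd [nat_lit 201, nat_lit 249, nat_lit 225, nat_lit 249, nat_lit 249, nat_lit 369, nat_lit 225] 6 1)) (.leaf (Rule.fwd [nat_lit 297, nat_lit 297, nat_lit 225, nat_lit 297] 33 4)))) (.node (nat_lit 2) (.node (nat_lit 1) (.leaf (Rule.fwd [nat_lit 321, nat_lit 321, nat_lit 225, nat_lit 297] 9 4)) (.leaf (Rule.fwd [nat_lit 201, nat_lit 249, nat_lit 225, nat_lit 321, nat_lit 273, nat_lit 201] 4 2))) (.node (nat_lit 1) (.leaf (Rule.fwd [nat_lit 249, nat_lit 369, nat_lit 225, nat_lit 249, nat_lit 201, nat_lit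 249, nat_lit 225] 6 5)) (.leaf (Rule.fwd [nat_lit 129, nat_lit 369, nat_lit 225, nat_lit 153, nat_lit 273, nat_lit 201] 27 2)))))) (.node (nat_lit 8) (.node (nat_lit 4) (.node (nat_lit 2) (.node (nat_lit 1) (.leaf (Rule.fwd [nat_lit 249, nat_lit 249, nat_lit 249, nat_lit 249] 10 0)) (.leaf (Rule.fwd [nat_lit 369, nat_lit 177, nat_lit 249, nat_lit 369, nat_lit 177] 25 0))) (.node (nat_lit 1) (.leaf (Rule.fwd [nat_lit 225, nat_lit 321, nat_lit 273, nat_lit 201, nat_lit 249, nat_lit 201] 4 4)) (.leaf (Rule.fwd [nat_lit 105, nat_lit 225, nat_lit 369, nat_lit 105, nat_lit 321] 22 5)))) (.node (nat_lit 2) (.node (nat_lit 1) (.leaf (Rule.fwd [nat_lit 177, nat_lit 105, nat_lit 105, nat_lit 105, nat_lit 177, nat_lit 177] 21 0)) (.leaf (Rule.fwd [nat_lit 177, nat_lit 201, nat_lit 345, nat_lit 105, nat_lit 273, nat_lit 225] 26 3))) (.node (nat_lit 1) (.leaf (Rule.fwd [nat_lit 369, nat_lit 249, nat_lit 345, nat_lit 273, nat_lit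 369, nat_lit 225] 35 0)) (.leaf (Rule.fwd [nat_lit 225, nat_lit 249, nat_lit 249, nat_lit 369, nat_lit 225, nat_lit 249, nat_lit 201] 6 3))))) (.node (nat_lit 4) (.node (nat_lit 2) (.node (nat_lit 1) (.leaf (Rule.fwd [nat_lit 297, nat_lit 201, nat_lit 273, nat_lit 225, nat_lit 273, nat_lit 225] 5 1)) (.leaf (Rule.fwd [nat_lit 345, nat_lit 249, nat_lit 345, nat_lit 249, nat_lit 225, nat_lit 321] 37 6))) (.node (nat_lit 1) (.leaf (Rule.fwd [nat_lit 345, nat_lit 201, nat_lit 297, nat_lit 225, nat_lit 321, nat_lit 225] 31 0)) (.leaf (Rule.fwd [nat_lit 33, nat_lit 177, nat_lit 105, nat_lit 177, nat_lit 129, nat_lit 249, nat_lit 201, nat_lit 273, nat_lit 321, nat_lit 9, nat_lit 177, nat_lit 225] 56 3)))) (.node (nat_lit 2) (.node (nat_lit 1) (.leaf (Rule.fwd [nat_lit 369, nat_lit 33, nat_lit 225, nat_lit 273, nat_lit 201, nat_lit 273, nat_lit 105, nat_lit 105, nat_lit 153, nat_lit 129, nat_lit 9, nat_lit 9, nat_lit 153] 79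 3)) (.leaf (Rule.fwd [nat_lit 33, nat_lit 249, nat_lit 369, nat_lit 321, nat_lit 9, nat_lit 9, nat_lit 129, nat_lit 129] 90 8))) (.node (nat_lit 1) (.leaf (Rule.fwd [nat_lit 321, nat_lit 33, nat_lit 129, nat_lit 177, nat_lit 129, nat_lit 177, nat_lit 225, nat_lit 345, nat_lit 33, nat_lit 249, nat_lit 129] 92 3)) (.leaf (Rule.fwd [nat_lit 369, nat_lit 225, nat_lit 249, nat_lit 201, nat_lit 249, nat_lit 225, nat_lit 249] 6 6))))))) (.node (nat_lit 1) (.leaf (Rule.fwd [nat_lit 345, nat_lit 249, nat_lit 225, nat_lit 321, nat_lit 249, nat_lit 345] 37 4)) (.leaf (Rule.fwd [nat_lit 369, nat_lit 273, nat_lit 345, nat_lit 273, nat_lit 201, nat_lit 345] 34 2)))), (.node (nat_lit 1) (.leaf XRule.defn) (.leaf XRule.ax))⟩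
noncomputable def ci273 : CI := ⟨[11], (nat_lit 249), true, (.node (nat_lit 16) (.node (nat_lit 8) (.node (nat_lit 4) (.node (nat_lit 2) (.node (nat_lit 1) (.leaf Rule.defn) (.leaf Rule.copy)) (.node (nat_lit 1) (.leaf (Rule.fwd [nat_lit 249] 96 0)) (.leaf (Rule.fwd [nat_lit 345, nat_lit 201, nat_lit 33, nat_lit 129, nat_lit 153, nat_lit 129, nat_lit 129, nat_lit 177, nat_lit 273, nat_lit 273, nat_lit 297, nat_lit 9, nat_lit 273] 74 2)))) (.node (nat_lit 2) (.node (nat_lit 1) (.leaf (Rule.fwd [nat_lit 177, nat_lit 33, nat_lit 33, nat_lit 105, nat_lit 177, nat_lit 129, nat_lit 129, nat_lit 249, nat_lit 225, nat_lit 249, nat_lit 201, nat_lit 9, nat_lit 345] 78 2)) (.leaf (Rule.fwd [nat_lit 273, nat_lit 273, nat_lit 273, nat_lit 273] 11 0))) (.node (nat_lit 1) (.leaf (Rule.fwd [nat_lit 201, nat_lit 345, nat_lit 249, nat_lit 369, nat_lit 273, nat_lit 345] 34 6)) (.leaf (Rule.fwd [nat_lit 273, nat_lit 225, nat_lit 225, nat_lit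 297, nat_lit 297, nat_lit 33, nat_lit 129, nat_lit 153, nat_lit 297, nat_lit 201, nat_lit 33, nat_lit 105, nat_lit 105] 82 8))))) (.node (nat_lit 4) (.node (nat_lit 2) (.node (nat_lit 1) (.leaf (Rule.fwd [nat_lit 321, nat_lit 201, nat_lit 297, nat_lit 297] 8 3)) (.leaf (Rule.fwd [nat_lit 225, nat_lit 321, nat_lit 273, nat_lit 225, nat_lit 321] 13 2))) (.node (nat_lit 1) (.leaf (Rule.fwd [nat_lit 369, nat_lit 225, nat_lit 273, nat_lit 369, nat_lit 225] 15 0)) (.leaf (Rule.fwd [nat_lit 153, nat_lit 153, nat_lit 129, nat_lit 129, nat_lit 129, nat_lit 153] 20 6)))) (.node (nat_lit 2) (.node (nat_lit 1) (.leaf (Rule.fwd [nat_lit 345, nat_lit 273, nat_lit 201, nat_lit 345, nat_lit 249, nat_lit 369] 34 4)) (.leaf (Rule.fwd [nat_lit 297, nat_lit 129, nat_lit 345, nat_lit 201, nat_lit 129] 23 0))) (.node (nat_lit 1) (.leaf (Rule.fwd [nat_lit 105, nat_lit 105, nat_lit 33, nat_lit 33, nat_lit 297, nat_lit 345, nat_lit 273, nat_lit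 9] 91 0)) (.leaf (Rule.fwd [nat_lit 321, nat_lit 201, nat_lit 321, nat_lit 321] 32 3)))))) (.node (nat_lit 8) (.node (nat_lit 4) (.node (nat_lit 2) (.node (nat_lit 1) (.leaf (Rule.fwd [nat_lit 153, nat_lit 345, nat_lit 273, nat_lit 153, nat_lit 345] 24 2)) (.leaf (Rule.fwd [nat_lit 201, nat_lit 297, nat_lit 201, nat_lit 321, nat_lit 225, nat_lit 369] 30 6))) (.node (nat_lit 1) (.leaf (Rule.fwd [nat_lit 369, nat_lit 273, nat_lit 369, nat_lit 273, nat_lit 297, nat_lit 201] 36 1)) (.leaf (Rule.fwd [nat_lit 225, nat_lit 249, nat_lit 297, nat_lit 201, nat_lit 273, nat_lit 225] 5 3)))) (.node (nat_lit 2) (.node (nat_lit 1) (.leaf (Rule.fwd [nat_lit 273, nat_lit 201, nat_lit 273, nat_lit 225, nat_lit 273, nat_lit 201, nat_lit 345] 7 7)) (.leaf (Rule.fwd [nat_lit 201, nat_lit 249, nat_lit 129, nat_lit 369, nat_lit 225, nat_lit 153] 27 4))) (.node (nat_lit 1) (.leaf (Rule.fwd [nat_lit 225, nat_lit 249, nat_lit 177, nat_lit 201,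 nat_lit 345, nat_lit 105] 26 1)) (.leaf (Rule.fwd [nat_lit 225, nat_lit 273, nat_lit 225, nat_lit 249, nat_lit 297, nat_lit 201] 5 5))))) (.node (nat_lit 4) (.node (nat_lit 2) (.node (nat_lit 1) (.leaf (Rule.fwd [nat_lit 201, nat_lit 249, nat_lit 201, nat_lit 249, nat_lit 225, nat_lit 321] 4 0)) (.leaf (Rule.fwd [nat_lit 201, nat_lit 201, nat_lit 201, nat_lit 297, nat_lit 201, nat_lit 345] 16 6))) (.node (nat_lit 1) (.leaf (Rule.fwd [nat_lit 201, nat_lit 33, nat_lit 321, nat_lit 201, nat_lit 105, nat_lit 105, nat_lit 105, nat_lit 33, nat_lit 129] 45 3)) (.leaf (Rule.fwd [nat_lit 201, nat_lit 153, nat_lit 33, nat_lit 297, nat_lit 249, nat_lit 225, nat_lit 273, nat_lit 105, nat_lit 153, nat_lit 129, nat_lit 153, nat_lit 9] 57 4)))) (.node (nat_lit 2) (.node (nat_lit 1) (.leaf (Rule.fwd [nat_lit 201, nat_lit 273, nat_lit 225, nat_lit 273, nat_lit 201, nat_lit 345, nat_lit 273] 7 6)) (.leaf (Rule.fwd [nat_lit 225, nat_lit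 273, nat_lit 201, nat_lit 345, nat_lit 273, nat_lit 273, nat_lit 201] 7 4))) (.leaf (Rule.fwd [nat_lit 369, nat_lit 225, nat_lit 249, nat_lit 369, nat_lit 249, nat_lit 345] 35 3)))))), (.node (nat_lit 1) (.leaf XRule.defn) (.leaf XRule.ax))⟩
noncomputable def ci297 : CI := ⟨[12], (nat_lit 321), true, (.node (nat_lit 16) (.node (nat_lit 8) (.node (nat_lit 4) (.node (nat_lit 2) (.node (nat_lit 1) (.leaf Rule.defn) (.leaf Rule.copy)) (.node (nat_lit 1) (.leaf (Rule.fwd [nat_lit 321] 96 0)) (.leaf (Rule.fwd [nat_lit 273, nat_lit 321, nat_lit 201, nat_lit 297] 8 2)))) (.node (nat_lit 2) (.node (nat_lit 1) (.leaf (Rule.fwd [nat_lit 249, nat_lit 297, nat_lit 297, nat_lit 225] 33 0)) (.leaf (Rule.fwd [nat_lit 129, nat_lit 153, nat_lit 33, nat_lit 153, nat_lit 153, nat_lit 105, nat_lit 225, nat_lit 273, nat_lit 201, nat_lit 201, nat_lit 369, nat_lit 297, nat_lit 9, nat_lit 177] 94 2))) (.node (nat_lit 1) (.leaf (Rule.fwd [nat_lit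 345, nat_lit 321, nat_lit 345] 2 0)) (.leaf (Rule.fwd [nat_lit 249, nat_lit 321, nat_lit 321, nat_lit 225] 9 0))))) (.node (nat_lit 4) (.node (nat_lit 2) (.node (nat_lit 1) (.leaf (Rule.fwd [nat_lit 201, nat_lit 273, nat_lit 369, nat_lit 273, nat_lit 369, nat_lit 273] 36 6)) (.leaf (Rule.fwd [nat_lit 369, nat_lit 369, nat_lit 297] 0 1))) (.node (nat_lit 1) (.leaf (Rule.fwd [nat_lit 297, nat_lit 369, nat_lit 369] 0 0)) (.leaf (Rule.fwd [nat_lit 201, nat_lit 249, nat_lit 297, nat_lit 201, nat_lit 249] 12 2)))) (.node (nat_lit 2) (.node (nat_lit 1) (.leaf (Rule.fwd [nat_lit 225, nat_lit 297, nat_lit 249, nat_lit 297] 33 2)) (.leaf (Rule.fwd [nat_lit 297, nat_lit 273, nat_lit 321, nat_lit 201] 8 1))) (.node (nat_lit 1) (.leaf (Rule.fwd [nat_lit 201, nat_lit 273, nat_lit 225, nat_lit 273, nat_lit 225, nat_lit 249] 5 0)) (.leaf (Rule.fwd [nat_lit 9, nat_lit 273, nat_lit 273, nat_lit 345, nat_lit 201, nat_lit 33, nat_lit 129,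 nat_lit 153, nat_lit 129, nat_lit 129, nat_lit 177, nat_lit 273, nat_lit 273] 74 13)))))) (.node (nat_lit 8) (.node (nat_lit 4) (.node (nat_lit 2) (.node (nat_lit 1) (.leaf (Rule.fwd [nat_lit 201, nat_lit 345, nat_lit 273, nat_lit 201, nat_lit 201, nat_lit 201] 16 3)) (.leaf (Rule.fwd [nat_lit 297, nat_lit 225, nat_lit 297, nat_lit 249] 33 3))) (.node (nat_lit 1) (.leaf (Rule.fwd [nat_lit 129, nat_lit 345, nat_lit 201, nat_lit 129, nat_lit 273] 23 5)) (.leaf (Rule.fwd [nat_lit 201, nat_lit 321, nat_lit 225, nat_lit 369, nat_lit 273, nat_lit 201] 30 1)))) (.node (nat_lit 2) (.node (nat_lit 1) (.leaf (Rule.fwd [nat_lit 9, nat_lit 225, nat_lit 105, nat_lit 153, nat_lit 9, nat_lit 129, nat_lit 129, nat_lit 153, nat_lit 129, nat_lit 249, nat_lit 225, nat_lit 225, nat_lit 369] 72 13)) (.leaf (Rule.fwd [nat_lit 33, nat_lit 33, nat_lit 129, nat_lit 177, nat_lit 177, nat_lit 273, nat_lit 345, nat_lit 297, nat_lit 33, nat_lit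 105, nat_lit 105] 66 3))) (.node (nat_lit 1) (.leaf (Rule.fwd [nat_lit 129, nat_lit 225, nat_lit 177, nat_lit 105, nat_lit 369, nat_lit 201] 29 2)) (.leaf (Rule.fwd [nat_lit 225, nat_lit 321, nat_lit 225, nat_lit 249, nat_lit 345, nat_lit 201] 31 4))))) (.leaf (Rule.fwd [nat_lit 369, nat_lit 321, nat_lit 369] 3 3)))), (.node (nat_lit 1) (.leaf XRule.defn) (.leaf XRule.ax))⟩
noncomputable def ci321 : CI := ⟨[13], (nat_lit 297), true, (.node (nat_lit 16) (.node (nat_lit 8) (.node (nat_lit 4) (.node (nat_lit 2) (.node (nat_lit 1) (.leaf Rule.defn) (.leaf Rule.copy)) (.node (nat_lit 1) (.leaf (Rule.fwd [nat_lit 297] 96 0)) (.leaf (Rule.fwd [nat_lit 273, nat_lit 321, nat_lit 201, nat_lit 321] 32 2)))) (.node (nat_lit 2) (.node (nat_lit 1) (.leaf (Rule.fwd [nat_lit 201, nat_lit 297, nat_lit 297, nat_lit 273] 8 4)) (.leaf (Rule.fwd [nat_lit 321, nat_lit 33, nat_lit 177, nat_lit 129, nat_lit 153, nat_lit 273, nat_lit 273, nat_lit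 225, nat_lit 273, nat_lit 9] 46 1))) (.node (nat_lit 1) (.leaf (Rule.fwd [nat_lit 153, nat_lit 153, nat_lit 33, nat_lit 177, nat_lit 105, nat_lit 153, nat_lit 105, nat_lit 249, nat_lit 225, nat_lit 321, nat_lit 9, nat_lit 249] 60 2)) (.leaf (Rule.fwd [nat_lit 321, nat_lit 345, nat_lit 345] 1 2))))) (.node (nat_lit 4) (.node (nat_lit 2) (.node (nat_lit 1) (.leaf (Rule.fwd [nat_lit 369, nat_lit 297, nat_lit 369] 3 1)) (.leaf (Rule.fwd [nat_lit 225, nat_lit 297, nat_lit 249, nat_lit 321] 9 2))) (.node (nat_lit 1) (.leaf (Rule.fwd [nat_lit 225, nat_lit 369, nat_lit 273, nat_lit 201, nat_lit 297, nat_lit 201] 30 3)) (.leaf (Rule.fwd [nat_lit 345, nat_lit 297, nat_lit 345] 2 2)))) (.node (nat_lit 2) (.node (nat_lit 1) (.leaf (Rule.fwd [nat_lit 273, nat_lit 225, nat_lit 321, nat_lit 273, nat_lit 225] 13 0)) (.leaf (Rule.fwd [nat_lit 273, nat_lit 201, nat_lit 249, nat_lit 201, nat_lit 249, nat_lit 225] 4 6))) (.node (nat_lit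 1) (.leaf (Rule.fwd [nat_lit 249, nat_lit 345, nat_lit 249, nat_lit 345, nat_lit 249, nat_lit 225] 37 0)) (.leaf (Rule.fwd [nat_lit 249, nat_lit 105, nat_lit 225, nat_lit 369, nat_lit 105] 22 4)))))) (.node (nat_lit 8) (.node (nat_lit 4) (.node (nat_lit 2) (.node (nat_lit 1) (.leaf (Rule.fwd [nat_lit 225, nat_lit 345, nat_lit 129, nat_lit 153, nat_lit 201, nat_lit 105] 28 1)) (.leaf (Rule.fwd [nat_lit 345, nat_lit 345, nat_lit 321] 1 1))) (.node (nat_lit 1) (.leaf (Rule.fwd [nat_lit 321, nat_lit 273, nat_lit 321, nat_lit 201] 32 1)) (.leaf (Rule.fwd [nat_lit 321, nat_lit 225, nat_lit 297, nat_lit 249] 9 3)))) (.node (nat_lit 2) (.node (nat_lit 1) (.leaf (Rule.fwd [nat_lit 201, nat_lit 321, nat_lit 321, nat_lit 273] 32 4)) (.leaf (Rule.fwd [nat_lit 33, nat_lit 129, nat_lit 177, nat_lit 129, nat_lit 177, nat_lit 225, nat_lit 345, nat_lit 33, nat_lit 249, nat_lit 129, nat_lit 249] 92 4))) (.node (nat_lit 1) (.leaf (Rule.fwd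 [nat_lit 225, nat_lit 249, nat_lit 345, nat_lit 201, nat_lit 297, nat_lit 225] 31 2)) (.leaf (Rule.fwd [nat_lit 9, nat_lit 81, nat_lit 201, nat_lit 33, nat_lit 81, nat_lit 105, nat_lit 249, nat_lit 201, nat_lit 201] 42 9))))) (.node (nat_lit 2) (.node (nat_lit 1) (.leaf (Rule.fwd [nat_lit 129, nat_lit 129, nat_lit 9, nat_lit 321, nat_lit 369, nat_lit 249, nat_lit 153, nat_lit 153, nat_lit 105, nat_lit 9, nat_lit 9] 67 4)) (.leaf (Rule.fwd [nat_lit 153, nat_lit 33, nat_lit 321, nat_lit 345, nat_lit 225, nat_lit 225, nat_lit 249, nat_lit 201, nat_lit 129, nat_lit 177, nat_lit 177, nat_lit 9, nat_lit 177, nat_lit 105] 95 3))) (.node (nat_lit 1) (.leaf (Rule.fwd [nat_lit 33, nat_lit 177, nat_lit 129, nat_lit 153, nat_lit 273, nat_lit 273, nat_lit 225, nat_lit 273, nat_lit 9, nat_lit 321] 46 2)) (.leaf (Rule.fwd [nat_lit 225, nat_lit 225, nat_lit 225, nat_lit 249, nat_lit 369, nat_lit 225] 17 4)))))), (.node (nat_lit 1)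 (.leaf XRule.defn) (.leaf XRule.ax))⟩
noncomputable def ci345 : CI := ⟨[14], (nat_lit 369), true, (.node (nat_lit 16) (.node (nat_lit 8) (.node (nat_lit 4) (.node (nat_lit 2) (.node (nat_lit 1) (.leaf Rule.defn) (.leaf Rule.copy)) (.node (nat_lit 1) (.leaf (Rule.fwd [nat_lit 369] 96 0)) (.leaf (Rule.fwd [nat_lit 273, nat_lit 273, nat_lit 33, nat_lit 153, nat_lit 105, nat_lit 105, nat_lit 225, nat_lit 273, nat_lit 369, nat_lit 297, nat_lit 9, nat_lit 297] 64 2)))) (.node (nat_lit 2) (.node (nat_lit 1) (.leaf (Rule.fwd [nat_lit 105, nat_lit 9, nat_lit 321, nat_lit 345, nat_lit 225, nat_lit 225, nat_lit 273, nat_lit 225, nat_lit 105, nat_lit 153, nat_lit 9, nat_lit 297, nat_lit 105] 87 3)) (.leaf (Rule.fwd [nat_lit 321, nat_lit 321, nat_lit 345] 1 3))) (.node (nat_lit 1) (.leaf (Rule.fwd [nat_lit 249, nat_lit 201, nat_lit 345, nat_lit 249, nat_lit 201] 14 1)) (.leaf (Rule.fwd [nat_lit 273, nat_lit 201, nat_lit 345, nat_lit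 249, nat_lit 369, nat_lit 273] 34 5))))) (.node (nat_lit 4) (.node (nat_lit 2) (.node (nat_lit 1) (.leaf (Rule.fwd [nat_lit 105, nat_lit 273, nat_lit 225, nat_lit 249, nat_lit 177, nat_lit 201] 26 6)) (.leaf (Rule.fwd [nat_lit 321, nat_lit 345, nat_lit 297] 2 1))) (.node (nat_lit 1) (.leaf (Rule.fwd [nat_lit 345, nat_lit 321, nat_lit 321] 1 0)) (.leaf (Rule.fwd [nat_lit 297, nat_lit 345, nat_lit 321] 2 3)))) (.node (nat_lit 2) (.node (nat_lit 1) (.leaf (Rule.fwd [nat_lit 249, nat_lit 225, nat_lit 321, nat_lit 249, nat_lit 345, nat_lit 249] 37 3)) (.leaf (Rule.fwd [nat_lit 249, nat_lit 345, nat_lit 249, nat_lit 225, nat_lit 321, nat_lit 249] 37 5))) (.node (nat_lit 1) (.leaf (Rule.fwd [nat_lit 249, nat_lit 369, nat_lit 273, nat_lit 345, nat_lit 273, nat_lit 201] 34 1)) (.leaf (Rule.fwd [nat_lit 273, nat_lit 273, nat_lit 201, nat_lit 273, nat_lit 225, nat_lit 273, nat_lit 201] 7 0)))))) (.node (nat_lit 8) (.node (nat_lit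 4) (.node (nat_lit 2) (.node (nat_lit 1) (.leaf (Rule.fwd [nat_lit 201, nat_lit 297, nat_lit 225, nat_lit 321, nat_lit 225, nat_lit 249] 31 6)) (.leaf (Rule.fwd [nat_lit 273, nat_lit 369, nat_lit 225, nat_lit 249, nat_lit 369, nat_lit 249] 35 4))) (.node (nat_lit 1) (.leaf (Rule.fwd [nat_lit 129, nat_lit 153, nat_lit 201, nat_lit 105, nat_lit 321, nat_lit 225] 28 3)) (.leaf (Rule.fwd [nat_lit 201, nat_lit 129, nat_lit 273, nat_lit 297, nat_lit 129] 23 3)))) (.node (nat_lit 2) (.node (nat_lit 1) (.leaf (Rule.fwd [nat_lit 153, nat_lit 33, nat_lit 33, nat_lit 321, nat_lit 321, nat_lit 249, nat_lit 225, nat_lit 153, nat_lit 129, nat_lit 177, nat_lit 33] 51 4)) (.leaf (Rule.fwd [nat_lit 273, nat_lit 201, nat_lit 201, nat_lit 201, nat_lit 297, nat_lit 201] 16 5))) (.node (nat_lit 1) (.leaf (Rule.fwd [nat_lit 33, nat_lit 33, nat_lit 105, nat_lit 105, nat_lit 177, nat_lit 129, nat_lit 129, nat_lit 273, nat_lit 297, nat_lit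 9, nat_lit 201, nat_lit 177] 58 3)) (.leaf (Rule.fwd [nat_lit 249, nat_lit 33, nat_lit 129, nat_lit 177, nat_lit 249, nat_lit 225, nat_lit 225, nat_lit 297, nat_lit 297, nat_lit 33, nat_lit 105, nat_lit 153] 68 3))))) (.leaf (Rule.fwd [nat_lit 273, nat_lit 153, nat_lit 345, nat_lit 273, nat_lit 153] 24 1)))), (.node (nat_lit 1) (.leaf XRule.defn) (.leaf XRule.ax))⟩
noncomputable def ci369 : CI := ⟨[15], (nat_lit 345), true, (.node (nat_lit 16) (.node (nat_lit 8) (.node (nat_lit 4) (.node (nat_lit 2) (.node (nat_lit 1) (.leaf Rule.defn) (.leaf Rule.copy)) (.node (nat_lit 1) (.leaf (Rule.fwd [nat_lit 345] 96 0)) (.leaf (Rule.fwd [nat_lit 369, nat_lit 297, nat_lit 297] 0 2)))) (.node (nat_lit 2) (.node (nat_lit 1) (.leaf (Rule.fwd [nat_lit 297, nat_lit 297, nat_lit 369] 0 3)) (.leaf (Rule.fwd [nat_lit 297, nat_lit 369, nat_lit 321] 3 0))) (.node (nat_lit 1) (.leaf (Rule.fwd [nat_lit 321, nat_lit 369, nat_lit 297] 3 2))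 (.leaf (Rule.fwd [nat_lit 321, nat_lit 9, nat_lit 9, nat_lit 129, nat_lit 129, nat_lit 249, nat_lit 33, nat_lit 249] 90 2))))) (.node (nat_lit 4) (.node (nat_lit 2) (.node (nat_lit 1) (.leaf (Rule.fwd [nat_lit 273, nat_lit 297, nat_lit 201, nat_lit 273, nat_lit 369, nat_lit 273] 36 4)) (.leaf (Rule.fwd [nat_lit 177, nat_lit 249, nat_lit 369, nat_lit 177, nat_lit 249] 25 2))) (.node (nat_lit 1) (.leaf (Rule.fwd [nat_lit 273, nat_lit 201, nat_lit 297, nat_lit 201, nat_lit 321, nat_lit 225] 30 5)) (.leaf (Rule.fwd [nat_lit 249, nat_lit 345, nat_lit 273, nat_lit 369, nat_lit 225, nat_lit 249] 35 6)))) (.node (nat_lit 2) (.node (nat_lit 1) (.leaf (Rule.fwd [nat_lit 225, nat_lit 321, nat_lit 225, nat_lit 225, nat_lit 225, nat_lit 249] 17 6)) (.leaf (Rule.fwd [nat_lit 177, nat_lit 129, nat_lit 9, nat_lit 321, nat_lit 321, nat_lit 201, nat_lit 201, nat_lit 273, nat_lit 153, nat_lit 105, nat_lit 9, nat_lit 273] 69 4))) (.node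 (nat_lit 1) (.leaf (Rule.fwd [nat_lit 249, nat_lit 249, nat_lit 33, nat_lit 321, nat_lit 249, nat_lit 249, nat_lit 153, nat_lit 105, nat_lit 105, nat_lit 177, nat_lit 105, nat_lit 9, nat_lit 225] 75 4)) (.leaf (Rule.fwd [nat_lit 201, nat_lit 297, nat_lit 129, nat_lit 225, nat_lit 177, nat_lit 105] 29 4)))))) (.node (nat_lit 8) (.node (nat_lit 4) (.node (nat_lit 2) (.node (nat_lit 1) (.leaf (Rule.fwd [nat_lit 105, nat_lit 321, nat_lit 249, nat_lit 105, nat_lit 225] 22 2)) (.leaf (Rule.fwd [nat_lit 321, nat_lit 33, nat_lit 321, nat_lit 345, nat_lit 249, nat_lit 201, nat_lit 129, nat_lit 129, nat_lit 177, nat_lit 9, nat_lit 249, nat_lit 249] 65 3))) (.node (nat_lit 1) (.leaf (Rule.fwd [nat_lit 225, nat_lit 153, nat_lit 273, nat_lit 201, nat_lit 249, nat_lit 129] 27 0)) (.leaf (Rule.fwd [nat_lit 225, nat_lit 249, nat_lit 369, nat_lit 249, nat_lit 345, nat_lit 273] 35 2)))) (.node (nat_lit 2) (.node (nat_lit 1) (.leaf (Rule.fwd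 [nat_lit 273, nat_lit 369, nat_lit 273, nat_lit 297, nat_lit 201, nat_lit 273] 36 2)) (.leaf (Rule.fwd [nat_lit 273, nat_lit 345, nat_lit 273, nat_lit 201, nat_lit 345, nat_lit 249] 34 3))) (.node (nat_lit 1) (.leaf (Rule.fwd [nat_lit 225, nat_lit 273, nat_lit 369, nat_lit 225, nat_lit 273] 15 2)) (.leaf (Rule.fwd [nat_lit 9, nat_lit 153, nat_lit 105, nat_lit 177, nat_lit 201, nat_lit 273, nat_lit 297, nat_lit 297, nat_lit 9, nat_lit 9, nat_lit 177] 50 3))))) (.node (nat_lit 2) (.node (nat_lit 1) (.leaf (Rule.fwd [nat_lit 225, nat_lit 105, nat_lit 9, nat_lit 225, nat_lit 273, nat_lit 225, nat_lit 225, nat_lit 129, nat_lit 153, nat_lit 105, nat_lit 9, nat_lit 153] 71 4)) (.leaf (Rule.fwd [nat_lit 153, nat_lit 225, nat_lit 33, nat_lit 321, nat_lit 249, nat_lit 105, nat_lit 105, nat_lit 153, nat_lit 129, nat_lit 129, nat_lit 9, nat_lit 9] 59 4))) (.leaf (Rule.fwd [nat_lit 225, nat_lit 249, nat_lit 201, nat_lit 249, nat_lit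 225, nat_lit 249, nat_lit 249] 6 7))))), (.node (nat_lit 1) (.leaf XRule.defn) (.leaf XRule.ax))⟩
noncomputable def outer : Tr CI := (.node (nat_lit 8) (.node (nat_lit 16) (.node (nat_lit 32) (.node (nat_lit 1) (.leaf ci0) (.node (nat_lit 64) (.leaf ci129) (.leaf ci321))) (.node (nat_lit 64) (.leaf ci33) (.leaf ci225))) (.node (nat_lit 32) (.node (nat_lit 64) (.leaf ci273) (.leaf ci81)) (.node (nat_lit 64) (.leaf ci177) (.leaf ci369)))) (.node (nat_lit 16) (.node (nat_lit 32) (.node (nat_lit 64) (.leaf ci9) (.leaf ci201)) (.node (nat_lit 64) (.leaf ci297) (.leaf ci105))) (.node (nat_lit 32) (.node (nat_lit 64) (.leaf ci153) (.leaf ci345)) (.node (nat_lit 64) (.leaf ci57) (.leaf ci249)))))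
def cols : List ℕ := [nat_lit 9, nat_lit 33, nat_lit 57, nat_lit 81, nat_lit 105, nat_lit 129, nat_lit 153, nat_lit 177, nat_lit 201, nat_lit 225, nat_lit 249, nat_lit 273, nat_lit 297, nat_lit 321, nat_lit 345, nat_lit 369]
def invL : List ℕ := [1, 0, 3, 2, 5, 4, 7, 6, 9, 8, 11, 10, 13, 12, 15, 14]
def rels : List (List ℕ) := [[12, 12, 15, 15], [12, 14, 13, 14], [11, 8, 10, 8, 10, 9, 13], [9, 10, 8, 10, 9, 10, 10, 15], [8, 12, 12, 11, 13], [10, 10, 10, 10, 10], [8, 10, 12, 8, 10, 12], [8, 14, 10, 8, 14, 10], [8, 8, 8, 12, 8, 14, 11], [5, 7, 4, 4, 7, 9], [6, 6, 5, 5, 5, 6, 11], [4, 9, 15, 4, 13, 10], [6, 14, 11, 6, 14, 11], [4, 11, 9, 10, 7, 8, 14], [4, 13, 9, 14, 5, 6, 8], [8, 12, 8, 13, 9, 15, 11], [8, 13, 13, 11, 13], [8, 14, 10, 15, 11, 14, 11], [8, 11, 15, 11, 15, 11, 12], [2, 0, 0, 2, 5], [3, 3, 3, 1, 2, 0, 3, 7], [0, 3, 8, 1, 3, 4, 10, 8, 8, 13], [0, 9, 10, 4, 0, 5, 5, 5, 9, 12], [0, 13, 13, 1, 7, 5, 6, 11, 11,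 9, 11], [0, 7, 8, 0, 2, 1, 7, 7, 9, 10, 12], [0, 0, 7, 15, 0, 6, 4, 7, 8, 11, 12, 12], [0, 8, 6, 9, 0, 7, 5, 5, 11, 8, 14, 12], [0, 0, 4, 9, 0, 4, 6, 4, 4, 6, 4, 15, 12], [0, 7, 9, 10, 1, 7, 4, 7, 5, 10, 8, 11, 13], [0, 8, 7, 14, 1, 1, 4, 4, 7, 5, 5, 11, 12], [0, 10, 13, 6, 6, 1, 7, 4, 6, 4, 10, 9, 13], [1, 2, 8, 5, 3, 0, 6, 6, 9, 11, 8], [0, 12, 14, 11, 11, 1, 6, 4, 4, 9, 11, 15, 12], [1, 4, 4, 12, 1, 1, 5, 7, 7, 11, 14, 12], [1, 4, 6, 14, 10, 1, 5, 7, 10, 9, 9, 12, 12], [1, 5, 8, 14, 7, 1, 5, 7, 4, 8, 8, 10, 8], [0, 9, 4, 6, 0, 5, 5, 6, 5, 10, 9, 9, 15, 12], [0, 11, 11, 14, 8, 1, 5, 6, 5, 5, 7, 11, 11, 12], [0, 14, 9, 14, 9, 1, 5, 6, 5, 5, 7, 11, 11, 12], [0, 14, 11, 7, 1, 1, 4, 7, 5, 5, 10, 9, 10, 8], [1, 7, 4, 15, 7, 0, 4, 4, 8, 13], [1, 5, 6, 12, 8, 1, 4, 4, 11, 11, 9, 9, 12, 12], [1, 5, 7, 13, 7, 1, 4, 7, 5, 5, 7, 10, 10, 14], [1, 5, 15, 5, 13, 1, 7, 5, 8, 10, 8, 8, 15, 12], [1, 9, 4, 2, 9, 1, 6, 6, 4, 12, 12],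 [1, 10, 15, 13, 0, 0, 5, 5, 10], [1, 10, 5, 10, 13, 1, 5, 7, 5, 7, 9, 14], [0, 7, 12, 5, 6, 1, 6, 6, 4, 9, 11, 8, 8, 15, 12]]
def subs : List (List ℕ) := [[4], [5], [6], [7], [8], [9], [10], [11], [12], [13], [14], [15]]
noncomputable def row (n : ℕ) : ℕ := rowOf (fun h => rows.get h) (nat_lit 5) (nat_lit 31) (nat_lit 393) (nat_lit 0x1ffffffffffffffffffffffffffffffffffffffffffffffffffffffffffffffffffffffffffffffffffffffffffffffffff) n
noncomputable def xleaf (h : ℕ) : ℕ := recs.get h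
noncomputable def mF : ℕ → ℕ := mainRow row (rowChk row xleaf outer (nat_lit 9) (nat_lit 511) (nat_lit 63) (nat_lit 15) (nat_lit 32767) (nat_lit 16777215) (nat_lit 512) (nat_lit 352) (nat_lit 256) (nat_lit 9) (nat_lit 511) (nat_lit 18) (nat_lit 262143) (nat_lit 8) (nat_lit 255) cols)
noncomputable def xF : ℕ → ℕ → ℕ := xLeaf row xleaf outer (nat_lit 511) (nat_lit 15) (nat_lit 16777215) (nat_lit 512) (nat_lit 352) (nat_lit 9) (nat_lit 511) (nat_lit 18) (nat_lit 262143) (nat_lit 261632) (nat_lit 8) (nat_lit 255) (nat_lit 10) (nat_lit 1023) (nat_lit 2) (nat_lit 3) (nat_lit 369) (nat_lit 180224) (nat_lit 128)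
noncomputable def cert : Cert := ⟨row, xleaf, outer, cols, nat_lit 9, nat_lit 511, nat_lit 63, nat_lit 15, nat_lit 32767, nat_lit 16777215, nat_lit 512, nat_lit 352, nat_lit 256, nat_lit 9, nat_lit 511, nat_lit 18, nat_lit 262143, nat_lit 261632, nat_lit 8, nat_lit 255, nat_lit 10, nat_lit 1023, nat_lit 2, nat_lit 3, nat_lit 369, nat_lit 180224, nat_lit 128, nat_lit 24, nat_lit 128, nat_lit 1⟩
theorem tabok : tabOK (fun i => invL.getD i i) rels subs outer cols (nat_lit 9) (nat_lit 369) = true := by decide +kernel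
theorem m0 : rng mF (nat_lit 1) (nat_lit 352) = 0 := by decide +kernel
noncomputable def s0 : List ℕ := [nat_lit 0x401004010040100000000000000000000000000000000000000000000000000000000000000000000000000000000000000000000000000000000000000000000000000000000000000000000000000000000000000000000000000000000000000000000000000000000000000000000000000000000000000000000000000000000000000000000000000000000000000000000000000000000000000000]
theorem x0 : xs xF s0 (nat_lit 1) = 0 := by decide +kernel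
theorem mz0 : AllZ mF 1 (nat_lit 353) := (AllZ.step (AllZ.nil mF 1) (nat_lit 352) (nat_lit 353) rfl m0)
theorem xz0 : XZ xF (nat_lit 1) := (XZ.step (XZ.nil xF) s0 (nat_lit 1) (nat_lit 1) (by decide +kernel) x0)
/-- the certificate (352 points) is valid -/
theorem valid : cert.Valid (fun i => invL.getD i i) rels subs 16 :=
  ⟨by decide +kernel, tabok, by decide +kernel, mz0, xz0⟩
theorem cert_N : cert.N = 352 := rfl

end CL.TC.GHSL1
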