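import Cfsg.Agent.Spor.TCSound

/-! coset enumeration certificate generated by tools/tc -/

set_option maxRecDepth 100000
set_option autoImplicit false
set_option linter.all false

namespace CL.TC.GHSL2

noncomputable def rows0 : Tr ℕ := (.node (nat_lit 4) (.node (nat_lit 2) (.node (nat_lit 1) (.leaf (nat_lit 0xfe1025d49d7e1921a866bf6402e7187b8a42da9474f2336c119eab8c28f067e787a1a43520d774e75fe102655a2728c3b9da90d692d7e1a457ac7b88a0e78318ac751cd7f8690fe1025d79d742041a0659aa611f81923f0d1ff868efc346e219558da4c63c4338fe1a3348ca198a1ffe1026a603fd0c1984628fc345fe1a2a30d0c87b630cf328333b8f9b065ffe1027e1a27f0d11b8e0ec65127e1a1e98c83518234e6819cf51ce5a8674b632be319f6fac25a5059fe1027e1a1bf0d0ba8857c6c3a17740cbf9c67cb630cea5833f0d09f8683fe102681933f0d056504fb2313e94940e55865ab8b0e5c4966e403570650fc340dc785628c6ffc204fc3406a191e2b8ec48807213e190e00c8b00a44fc33fb941da1b871f867e5e434bf18dbe0c25fc20404e4195308c81f867da4311c5a0d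f130c7f867cf83164320e24a097fc204aa33007bb98a5fc203be623fa3147f0cf7b165ef8602f01883f0cf5f867978321db61e1b7e8c51be823f7194bf840788673d8308ee517ad8c33f8678d8516585836b2cdeb1be723f81947f8407e8a52fc33bd9198ac8cc58866cfc33b521893f0ceb61420635b195ff0ce9f8673fc3395b218bf0ce3fc203c0314d51923018d96460afc3381caf0cc17860bfc337e04846f0c377506efc33762193dc947dfc203fc336fd2060678c655ca62b5f184aba89db5015fc3367e19afd9007fc203a83142b18bfe0c8248fc3354168c3f0cd2f5e5bfc3347e199df9477f8666b6831fe1997f0cc9fc20304ee3133f8405bce4ae0325f030374b453f8663d230efe198ac0ca560621fc330b6f80c97c104ae09267f080bb9817e8803da30e7e1982a0cad0c6386871ee1187d63c064ae0425ff080b80c99f865fde307f9415bf0cbdf865dfc32e7e196eb8c2ac6e430e7e196b48c35f8659e8301ff080bd943bad625fc32c7e195f60c0bb0e4743df304ac2c9df8656fc32aff080bb0c1d7e440fc32a7e194e5989b5ce409231b273d9007f8652fc328df191fb8c4df8650fc327ff080bf0c9d0ce34fc326da604cbbc4602fc3267e192ff0c95f8649fc3247f080b5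8c4d4c647fc323c720dff0c8c72fc322fe1913f0c87f864293304481823f0c82f862efc3207f080a130570063819fe18fff0c7df863dfc31e7e18eff0c75f8639fc31c7f080bf0c6ff8636fc31a923f0c69f8633fc3197e18c7f0c61f862ffc3177e18b7f0c59f862bfe1017e18a83df8629fc3147e189ff0c4df8625f43107e1893d8c2df8623fe100fe188b6981833fc310fe1883f0c3ff861efc30efe1873f0c37f861afe100fe1867f0c31f8617247e185bd0c15f8615fc30a79183ba9c19e8611fc309fe184bf0c23f8610fe100827f0c1fc8c09fc3077e1837f0c19f860bfc3057e1827f0c11f8607fe100fe18183dec601f8200fc1807e8803f4601fc200fe1807f8803f8605fc3027e180ff0c0400)) (.leaf (nat_lit 0xc4c0bdc1a2700c9134895c032afd2996a8d037860b80351ff082238d175860b19b53a53f840ee062b78333331a45c5868f8c666d74d331a5189d3ae5a597e32136ff840edc694786333880adc8c7ce8c3e6c311355ab1c1054e06127033c3661cde0d466670415b53253f840ed4e3860349331a95b0cf4b861f62334b01a5998c1cb170d15bc399bf840ede2946433f3618e1d0cecc6e7f5e3523549816105adc675633c18c9e2062d48337d31a3c1993f84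0ef06447c3083e3a11e145cbcca75a955a1d5a13cf46396c94e358a7ff840ff86ac7e718fe1aade946ee0e515652331514d38fa83a6453d2f9a99a8c54fc64158318ae1a2bf840ec0aa57e92fc12121f8c885d7e342c41a159a8ece28766f01e3418f7f840f086188850742185e0ac10b1891394679b23349f106808834b4660a220c2f19c198833dff081de0c75046a98c30492199466d623462318b178c99dd48d6c7a7c3383a190e028312124494905ff081c130c8aafc355411aa7f0d530866d894473e1a8fd8d172066f8c310ff081e414bc1e6831b7f0819e8c76ec8586e31fbf1a09f554908822843054259861310ea06a66dff081990c6cd18586831dd4194d7311ed9e2b7634a451a2990d48ec688fc3543c1d0cb0f483b6031b7f0819c8d1ef06425f453315a91d94cae46705c7513251a162ec63b7232c7f08199446cb50397cf4c3069fdf0c75f86a7fc3533d407d71928c6803083f7a09e24e0b8692804437f081ad14d10884184340c42975db12f0866643ae723d9d122c46535a5177f081bf0d4acc69e5694fb1319d98cc4a8a6758b08a7170cfef462258317fe1a9180cb8f469c7ee047f0819d8c76fd264fc351bf19ecbbf86a278a323a1919e8d26cc69d6c3347f081978cb6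b4c4458348a71a7d58c7872b2a46df19df0b0dd5869bb633c56413be902f50623d630aff081ab21211067a19b718f5b8c78dc63e72b1fb2816ff0d43f86a06a319ff0819f0c830d68c8230412220d39f869f6ca1cfe1a79820d2f1e94fc34efe1a73e9116dc63efe1033c19903d6da78fe102d2618708ccba060fb923ce1384ef8cef3ce9afc34ddb2953f0d34dbfe102db41e2f8ccb40661ca3394518df1bc9595a6baa608e2307698d2b89683785f319690cc36c678fe102ec192b50c936c657f4510fe1a6698d0369066b490d2c6928c384e65fe102db19e2d8d03e0c0ad8904e96213f0d316ce5e7c8215561898da4625d4a12e9609740c4b9d459fe102ea1832d8cf1f869778b33e7198ee2cd887ca34b461a03534d98464ffc34b6a795b38d07fc205a6a0a621873e0ccb4c65d2efe1a5698c914d417a6844d37176ad10955c2ca830f5119dff840b4c61cb23260cdf305cfc6535d347ae1a47f0d29f86938231a37a8faa20e94c84cfc3497f08141374675fe1026a49afe0d21c4651bf137f9189efa48f1ce35ac32b5d19f2ca81edb))) (.node (nat_lit 1) (.leaf (nat_lit 0x923275f204be0cabf06569634ae431aff841d6c6576831e361a52b1c2f18645396b196749035b54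1cd632d5871e7f841bac67bda82b3e18e680c94b4668a8c31a1ec41377d66eb2e46ef41df58c2de468cfe106ed1856d0c4d5cc5a8e31ac7722ce56d08cc07286019c700cc774683a4311dd19e3140e70c630fe106d4309290d1c336c323527a4dc8cc8d9ea285322b170b9d9cd35c88afe106ce41654993d3865424437a49f34e0f0610703416462b588c56c2c2d68f34451a72ba4c76927afe106827f84195ca19d862fe729f2cb51ba8655d430fe919cab0cbd54671aa54da81ab9e19d47cd872fff0832d8c33a541ecc312d55a6f40c373465c7664cb819fdc0c7ec674a18bb50c9d0c68cc63356353b321fdf0cceb0691a4930ff083188cd329c4f19d7198ae18277121bb2340dc19aedcceb70e60b8e13ff083228d554c885d230d92320c237466ffa4307f082f48c49b5474d832ff81836b9c4354e0e70550be4a91637da6fc8908ff082fe90c1ad45ac2a206719b320d217467174b33632879b0d42c6d0844e5405e5b52b98648d033a683a5bf8417a1a4ba0820c519ee790b96862939407889d0cfef12a464b17bc190aad066f46647aa56ce1a37f8416c063aa063e8cff8415d8616f230a782856bc49dad64fdc3266119bec941eac69e9c322535a21e1e4e14f230af9185bf841594690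e4910ec594350d18dc63a84951c522aacad18b1be32ef719275243b4464dfe1055d9066b8d1bac651aa33e56192740c357d8724e4518df38d0789224f273dea194ad98f18cc12fe10558186a98d07246589634a976b8c1729860ac308d291bea8c5958652ae33a59819618d55fc20a78356c51a70674a271ae331d2694298d194a04baa323d3b1d690d2d2860bae846d01a1bf841409fe104ed183f8981bbc60ebea23f242234a835bca52a43115819bad184700c67786f18378901dc4e0ffe104ef3a2288c9b9c6549a34ac8185e78cded5c94a2c4b2c778c1dc4e0dfe104ee183f49491b5027da33be218a289cbf0869356355c462658de0a50ccc466f198f230e3ad227fe104e61a5ab8d1b5ce5090722a922b9d0d5a87a8b11e539f73a8a984a40fe104e8192bc9c3d5a661a033ed6504dd0d51006394e5e1856f0c298200abc30b562136f0c9978621bc3447f0826a2013ac60cd680c921ea8cedca5c9d14c3b78b5d9134c5ca258347b59aa178d5bf86aefe104aa18e83ce1e86fe1042d5a9e0cc30dac708232e451a4db0ced1c64986b4947618228cdadbfe1043b1a19f8c30ac6a7c044c311905dd0d4f703b8e31b2c18b6028733d652783f306158d4ef4886fe104331aaddd140edc367a3433b1a41d8d52ec66a7ab0b2c558d4efc618fe1043d2219eb064f68537e64d41b1a9ea4dcf46898071fbd18998ccc6ac68e50fe1ab56914ac9e448161cc118c3f8410fd02b9e32a7d2046a1c385d))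 (.leaf (nat_lit 0x8e4124971ee28d0715e378a34647a1ee48d2b1c689fe10cd219ca9311d08a93243b714d7b05cc069158647b21963f8430c063c5e318b149e588d10cdaa072b2ca1d89542e54ac5a452b19ab5d8d24cd63cfe10c3451a5d8ce6a968f7a5102d1a7ce5906489234ae67a27f842f5569bc880de219c720ce354675a26244f194e1a952b1d040d66196730cb59861cc63366689ced2cf3fc2177e654d6494130d4d798212ec81a0328d2de064fc4436461a03f842d16c37d882fc65952c8cf10182e86357a1d88c72ac69e5234fc59a71a0c6d50a856f61ec31a4a11041fc2168a91659196c6764679b453cd719e6c28f36c629ae32fd28986c8cf9fc2166033fd41a0578d3a48b43145a18a6e204d71227b4327dc68b2e504b7a05db463dff0856d0c2ce543e19e058b308d09b865ee03446429c7f842982029dc6255631ca918474c69aa2a44a1d88d3ace89d6e31c3218e1c0c30b46a76f822bb80f1b9d51fc2148830cd11a486770620bcd10dc187ae0c3f686579634ad5823290c9a952aeac83eb838f3f842809fe109d9198aca503ad41bd832b69615348c4160e4ea664653188b10c376528178551a074a43754c62fe109e519f319c2b8465dcad31d31a6de28fcd463e5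4347ac748c376c681fe109d8898b38cc79a028d482d57898a9910154677bc3283b1a5d8d8d41da2326e319270b8bbfc213c633be539f71acfb5925abc72abc1a92bb11a9c7a32dba19a5f0cd4ec6306234e351915ae128fe436744192b1aaff842751a8a0f5e695af0cab4464efe1095e1886c58c38a052a634dd0292e4ac6b54615a63482c6f0cbd80688c03426018b2e0c255469bc51427f084ac9898f0642ae7422d5a9cbafa6af80f45be5a8e08d32e908786f1ac11aa618d554d095f4410465917f842409cc341c518df08cf7a4624fe108e451f319c29a0a55be309b01ab6d8c4acc6a24e69187f48c3dad620d2310e31982e90af90628fe108b61a81d0d5190a8366934975e3505fc2105c3493fa1c1a0d43016ad803213a19119ad0ab869672347bc510db6ece70634493c1a0bf8420cec935e3153319f9d0cb8c8e3d5c30c3219ad934b0b15ae52b91ab598d58d0ea16f416ff084198cb7646305c34b2d5a7d88c64b8a5f43c2824de0c8cecea2783327f084168d3aaeaa77f22c3b189580c5efc64c52317a71d8c78d923d7b21fbb18f998d14e8a9afe1083d18fdc8cabf86af8691859189ce580626bc313e258a701051f0640b2a46d8193b10d07fc21074319551a63e94484876316bd1a61eb8cee885c763563d58edf9130f88537c317551a11eb055fc21004d8213740c3b8545de0924e1185f428e590673fe107d6196ed0c214c65fd0a12976d38e961657ae3395419ced242968613ac3395a4051a145ffc20fa83133c3280674e427a23135148a288c535c66fa734855192288cf304634a232c7f083eb210e1e))))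 (.node (nat_lit 1) (.leaf (nat_lit 0x8234d32726984d14c068a74321adaa7990d0dfc22b70643b731add8cc4c867f2eff08a950d4cd063a54a3d301a7956156a862f55242ac19a132144b907e50d16bc1620f4a863afe1152a729960d40c729f58756b4c8bd62ca4a869768744a819718cc86766533b346a1590d0aba26769716ac7a8bf8454c063f563453059e578d0a5d790534568aa20cf4d463a7d5173279c3f8454d1ca158355c6496e3249d1869b39576a22b8cbd5dc2cae6425679baa0cfb5166fa832cff08a6a20e71d09ca832d12188d4109aa05f255afaaadc8ccce86466a31fbe190a60d1d38629fe114d439dc3cc20ae74343c289b624d1d006af8f45552723a1c92ee8659fe113c3192aa8d08337cf32333289fa927346467a318df1912a0d0af866476a57ff089a00d2758c6519be42a5e9552e46aa763553e1a39e0d0f086997cf57ab527bf844af0c72743180cf324f798c248a71be7520f38ca9fc224a6626e779257a0d4bd068a0325b148f50f28a7dfe111cc190250ca932475995304e312e5490128c88a4336cc293ea2850db7051f3418fdb0c78d063d763157f0889e3066d06706eb303440fd68c62d064b43d1197208ccefa42d7c34c7f088990cd2c46ab8d4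22c3592959d4f0468082d4c27180cd30865b5e9182f91a98ac7af2c7e8843d2d1a9610c8b4c690a493b7f088812c862f5e3522f70898ccfeb46a86941fada9616cd4eb522dfe10fab18e17a95433fe10f7b207fe9443ec620a4330e671472acab9861fa88493c490ea28df5462c782b1a9168c5eac67f5a3112d18cdd1464be4a15b1232919fbf843cacc73744350ce2bd170c6af8634cbe928e18c6afdc978ae57d11a67f843d3569aa6c2ed11a009169e84b0316581a22c0cbd60665b032d58a926c30a15864d9e929d619c7f843c09ca324da1976a449bfc21df452f467a0359ca35067568550d219d2c0ca30862b58bf19b620d1ce18875145741a2aa08d53f083574343ff0877e0c551865e9092012180d569c6ab62c502f1a8198d44d1666ac32e2f98e56253b18833a63387f08741374a40ce32a52188f28cfbfc21cc830fc88202ca502f94425e350d019dd98d3c9cc2e37561a6f8a0ef64a8de23266e192efcc8ffc21c6483fc91a5690ca4f16332ebb5a65fbd47022af6e345bd7a5dc8cdaeee8b72a54ff0871b8d41546618231a121e2888dc645783213c190dfad4afc6307d821b3428160d45fc21b8e90ed131346715e388101c33427598d3b4c67a78353291a7ea9131fc21b6433530727690cae48c453bd91a36b0d3785a6ea8311ff086b40c4d8466eac8323d18eeb25335866e43e8413f3acd9986968ce407f086af20bb8dc65d0e1254293e1150584628c6335a71f0c60ec66a7272dbd81a603c68deca873956316a9a08d07fc21a603562b52946771672ac639da315ec0ce9fc219b8713581a26b348150e27865185819d2aacf29c))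 (.leaf (nat_lit 0x442239e8cda9c6ae7e343bf5aa60b932f4697883477f0999d0d311087b6e35612139146bc6994e345a84abd3bd5c986ae44355281a8ff848c9067552c2d28192490e92686ac543019fbf8482fc66ac632dbc194d58d3cc4c6c60a233b7125eb09cb17033f34910588d50d1c68fe11d3c3991a0c7ce0682643563332b1c115ec56824e284a298b914b869a5c34d291a7da3087fc23a65a49ac21c169d38b063b58d251cbf846b086357854bba625e30d330068b88e36a392ba32caf1104e5c348c41945e0f06977a34bff08d61146b0aa8b7c357b81a1e148daf10437c33e4219f61346ec668356b41a9590d42ca0ac6c3412e5a45a0c8cd5aa276a35b619dbf8466ed0480f2c590d64484b084458322ae61d964cb0b069154333aa1a4ff8462b066e5c31d8cd5953eec69c5234f2e18e5ebd0ab86a4603412e18cbf8462b06a55281a2741f090d4aa8583342c190560cfdfc22f7c3432e9a49a5c7ab52a65e31caa1a0940d469c60648ac4a3ff845cec6535e8533218d980c64f463466a19b040f1e8cacf4e71633e1a1d30d5cf468e7a336c09a8df8d46a5cae7f51ac119460ac80a56a5fe11702590d31fc22d6a32e3a199d80c8cd308a683542b1a7528d3eb5286685362d18c9b6cc6416033f3319a19d151fc22b6b335331a7170d1ec0a8966346374955b8cac9c))))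
noncomputable def recs0 : Tr ℕ := (.leaf (nat_lit 0xbc002db00b1802b100a700287009c8025d))
noncomputable def rows : Tr ℕ := rows0
noncomputable def recs : Tr ℕ := recs0
noncomputable def ci0 : CI := ⟨[], (nat_lit 0), false, (.node (nat_lit 1) (.leaf Rule.defn) (.leaf Rule.copy)), (.leaf (XRule.rot (nat_lit 0) [] 38 0))⟩
noncomputable def ci9 : CI := ⟨[0], (nat_lit 30), false, (.node (nat_lit 8) (.node (nat_lit 4) (.node (nat_lit 2) (.node (nat_lit 1) (.leaf Rule.defn) (.leaf Rule.copy)) (.node (nat_lit 1) (.leaf (Rule.fwd [nat_lit 30] 38 0)) (.leaf (Rule.fwd [nat_lit 9, nat_lit 72, nat_lit 114, nat_lit 30, nat_lit 72] 18 2)))) (.node (nat_lit 2) (.node (nat_lit 1) (.leaf (Rule.fwd [nat_lit 93, nat_lit 51, nat_lit 30, nat_lit 30, nat_lit 51] 19 1)) (.leaf (Rule.fwd [nat_lit 240, nat_lit 93, nat_lit 177, nat_lit 30, nat_lit 114, nat_lit 72] 29 5))) (.node (nat_lit 1) (.leaf (Rule.fwd [nat_lit 72, nat_lit 114, nat_lit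 30, nat_lit 72, nat_lit 9] 18 3)) (.leaf (Rule.fwd [nat_lit 72, nat_lit 72, nat_lit 135, nat_lit 72, nat_lit 9, nat_lit 9] 21 3))))) (.node (nat_lit 4) (.node (nat_lit 2) (.node (nat_lit 1) (.leaf (Rule.fwd [nat_lit 198, nat_lit 114, nat_lit 219, nat_lit 30, nat_lit 51, nat_lit 93] 28 0)) (.leaf (Rule.fwd [nat_lit 198, nat_lit 135, nat_lit 9, nat_lit 114, nat_lit 240] 22 3))) (.node (nat_lit 1) (.leaf (Rule.fwd [nat_lit 156, nat_lit 114, nat_lit 135, nat_lit 72, nat_lit 93, nat_lit 219] 26 0)) (.leaf (Rule.fwd [nat_lit 114, nat_lit 240, nat_lit 9, nat_lit 198, nat_lit 135] 22 0)))) (.node (nat_lit 1) (.leaf (Rule.fwd [nat_lit 9, nat_lit 72, nat_lit 72, nat_lit 135, nat_lit 72, nat_lit 9] 21 4)) (.leaf (Rule.fwd [nat_lit 9, nat_lit 9, nat_lit 72, nat_lit 72, nat_lit 135, nat_lit 72] 21 5))))), (.node (nat_lit 1) (.leaf XRule.defn) (.leaf XRule.defn))⟩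
noncomputable def ci30 : CI := ⟨[1], (nat_lit 9), false, (.node (nat_lit 8) (.node (nat_lit 4) (.node (nat_lit 2) (.node (nat_lit 1) (.leaf Rule.defn) (.leaf Rule.copy)) (.node (nat_lit 1) (.leaf (Rule.fwd [nat_lit 9] 38 0)) (.leaf (Rule.fwd [nat_lit 72, nat_lit 9, nat_lit 9, nat_lit 72, nat_lit 114] 18 0)))) (.node (nat_lit 2) (.node (nat_lit 1) (.leaf (Rule.fwd [nat_lit 156, nat_lit 177, nat_lit 30, nat_lit 219, nat_lit 93] 23 1)) (.leaf (Rule.fwd [nat_lit 51, nat_lit 93, nat_lit 9, nat_lit 198, nat_lit 114, nat_lit 219] 28 4))) (.node (nat_lit 1) (.leaf (Rule.fwd [nat_lit 219, nat_lit 93, nat_lit 30, nat_lit 156, nat_lit 177] 23 4)) (.leaf (Rule.fwd [nat_lit 114, nat_lit 72, nat_lit 9, nat_lit 240, nat_lit 93, nat_lit 177] 29 1))))) (.node (nat_lit 4) (.node (nat_lit 2) (.node (nat_lit 1) (.leaf (Rule.fwd [nat_lit 51, nat_lit 9, nat_lit 93, nat_lit 51, nat_lit 30] 19 3)) (.leaf (Rule.fwd [nat_lit 30, nat_lit 51,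 nat_lit 156, nat_lit 51, nat_lit 51, nat_lit 30] 20 3))) (.node (nat_lit 1) (.leaf (Rule.fwd [nat_lit 30, nat_lit 30, nat_lit 51, nat_lit 156, nat_lit 51, nat_lit 51] 20 2)) (.leaf (Rule.fwd [nat_lit 30, nat_lit 51, nat_lit 9, nat_lit 93, nat_lit 51] 19 4)))) (.node (nat_lit 1) (.leaf (Rule.fwd [nat_lit 51, nat_lit 156, nat_lit 51, nat_lit 51, nat_lit 30, nat_lit 30] 20 4)) (.leaf (Rule.fwd [nat_lit 240, nat_lit 114, nat_lit 51, nat_lit 156, nat_lit 93, nat_lit 135] 27 1))))), (.node (nat_lit 1) (.leaf XRule.defn) (.leaf XRule.defn))⟩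
noncomputable def ci51 : CI := ⟨[2], (nat_lit 72), false, (.node (nat_lit 8) (.node (nat_lit 4) (.node (nat_lit 2) (.node (nat_lit 1) (.leaf Rule.defn) (.leaf Rule.copy)) (.node (nat_lit 1) (.leaf (Rule.fwd [nat_lit 72] 38 0)) (.leaf (Rule.fwd [nat_lit 156, nat_lit 51, nat_lit 51, nat_lit 30, nat_lit 30, nat_lit 30] 20 5)))) (.node (nat_lit 2) (.node (nat_lit 1) (.leaf (Rule.fwd [nat_lit 51, nat_lit 30, nat_lit 30, nat_lit 30, nat_lit 51, nat_lit 156] 20 0)) (.leaf (Rule.fwd [nat_lit 156, nat_lit 93, nat_lit 135, nat_lit 30, nat_lit 240, nat_lit 114] 27 5))) (.node (nat_lit 1) (.leaf (Rule.fwd [nat_lit 219, nat_lit 156, nat_lit 51, nat_lit 219, nat_lit 156] 24 0)) (.leaf (Rule.fwd [nat_lit 93, nat_lit 9, nat_lit 198, nat_lit 114, nat_lit 219, nat_lit 30] 28 5))))) (.node (nat_lit 2) (.node (nat_lit 1) (.leaf (Rule.fwd [nat_lit 9, nat_lit 93, nat_lit 51, nat_lit 30, nat_lit 30] 19 2)) (.leaf (Rule.fwd [nat_lit 30,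 nat_lit 30, nat_lit 51, nat_lit 9, nat_lit 93] 19 5))) (.leaf (Rule.fwd [nat_lit 30, nat_lit 30, nat_lit 30, nat_lit 51, nat_lit 156, nat_lit 51] 20 1)))), (.node (nat_lit 1) (.leaf XRule.defn) (.leaf XRule.defn))⟩
noncomputable def ci72 : CI := ⟨[3], (nat_lit 51), false, (.node (nat_lit 8) (.node (nat_lit 4) (.node (nat_lit 2) (.node (nat_lit 1) (.leaf Rule.defn) (.leaf Rule.copy)) (.node (nat_lit 1) (.leaf (Rule.fwd [nat_lit 51] 38 0)) (.leaf (Rule.fwd [nat_lit 72, nat_lit 135, nat_lit 72, nat_lit 9, nat_lit 9, nat_lit 9] 21 2)))) (.node (nat_lit 2) (.node (nat_lit 1) (.leaf (Rule.fwd [nat_lit 135, nat_lit 240, nat_lit 72, nat_lit 135, nat_lit 240] 25 1)) (.leaf (Rule.fwd [nat_lit 93, nat_lit 219, nat_lit 9, nat_lit 156, nat_lit 114, nat_lit 135] 26 4))) (.node (nat_lit 1) (.leaf (Rule.fwd [nat_lit 9, nat_lit 240, nat_lit 93, nat_lit 177, nat_lit 30, nat_lit 114] 29 6)) (.leaf (Rule.fwd [nat_lit 9, nat_lit 9, nat_lit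 72, nat_lit 114, nat_lit 30] 18 1))))) (.node (nat_lit 2) (.node (nat_lit 1) (.leaf (Rule.fwd [nat_lit 135, nat_lit 72, nat_lit 9, nat_lit 9, nat_lit 9, nat_lit 72] 21 1)) (.leaf (Rule.fwd [nat_lit 114, nat_lit 30, nat_lit 72, nat_lit 9, nat_lit 9] 18 4))) (.leaf (Rule.fwd [nat_lit 9, nat_lit 9, nat_lit 9, nat_lit 72, nat_lit 72, nat_lit 135] 21 6)))), (.node (nat_lit 1) (.leaf XRule.defn) (.leaf XRule.defn))⟩
noncomputable def ci93 : CI := ⟨[4], (nat_lit 114), true, (.node (nat_lit 16) (.node (nat_lit 8) (.node (nat_lit 4) (.node (nat_lit 2) (.node (nat_lit 1) (.leaf Rule.defn) (.leaf Rule.copy)) (.node (nat_lit 1) (.leaf (Rule.fwd [nat_lit 114] 38 0)) (.leaf (Rule.fwd [nat_lit 9, nat_lit 198, nat_lit 114, nat_lit 219, nat_lit 30, nat_lit 51] 28 6)))) (.node (nat_lit 2) (.node (nat_lit 1) (.leaf (Rule.fwd [nat_lit 177, nat_lit 177, nat_lit 156, nat_lit 198] 8 0)) (.leaf (Rule.fwd [nat_lit 198, nat_lit 114, nat_lit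 240, nat_lit 156, nat_lit 93, nat_lit 177] 30 2))) (.node (nat_lit 1) (.leaf (Rule.fwd [nat_lit 93, nat_lit 177, nat_lit 93, nat_lit 219, nat_lit 156, nat_lit 93] 16 1)) (.leaf (Rule.fwd [nat_lit 93, nat_lit 93, nat_lit 177, nat_lit 93, nat_lit 219, nat_lit 156] 16 0))))) (.node (nat_lit 4) (.node (nat_lit 2) (.node (nat_lit 1) (.leaf (Rule.fwd [nat_lit 198, nat_lit 198, nat_lit 156, nat_lit 198] 32 0)) (.leaf (Rule.fwd [nat_lit 177, nat_lit 93, nat_lit 219, nat_lit 156, nat_lit 93, nat_lit 93] 16 2))) (.node (nat_lit 1) (.leaf (Rule.fwd [nat_lit 135, nat_lit 93, nat_lit 135, nat_lit 114, nat_lit 198, nat_lit 156] 4 1)) (.leaf (Rule.fwd [nat_lit 135, nat_lit 177, nat_lit 93, nat_lit 135, nat_lit 177] 12 0)))) (.node (nat_lit 2) (.node (nat_lit 1) (.leaf (Rule.fwd [nat_lit 219, nat_lit 135, nat_lit 93, nat_lit 219, nat_lit 135] 14 0)) (.leaf (Rule.fwd [nat_lit 135, nat_lit 114, nat_lit 135, nat_lit 135, nat_lit 240,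 nat_lit 114, nat_lit 135] 6 2))) (.node (nat_lit 1) (.leaf (Rule.fwd [nat_lit 135, nat_lit 114, nat_lit 198, nat_lit 156, nat_lit 93, nat_lit 135] 4 3)) (.leaf (Rule.fwd [nat_lit 219, nat_lit 9, nat_lit 156, nat_lit 114, nat_lit 135, nat_lit 72] 26 5)))))) (.node (nat_lit 8) (.node (nat_lit 4) (.node (nat_lit 2) (.node (nat_lit 1) (.leaf (Rule.fwd [nat_lit 219, nat_lit 135, nat_lit 240, nat_lit 156, nat_lit 219, nat_lit 156] 34 0)) (.leaf (Rule.fwd [nat_lit 51, nat_lit 30, nat_lit 30, nat_lit 51, nat_lit 9] 19 0))) (.node (nat_lit 1) (.leaf (Rule.fwd [nat_lit 156, nat_lit 114, nat_lit 156, nat_lit 114, nat_lit 135, nat_lit 177] 5 6)) (.leaf (Rule.fwd [nat_lit 30, nat_lit 156, nat_lit 177, nat_lit 30, nat_lit 219] 23 2)))) (.node (nat_lit 2) (.node (nat_lit 1) (.leaf (Rule.fwd [nat_lit 135, nat_lit 30, nat_lit 240, nat_lit 114, nat_lit 51, nat_lit 156] 27 3)) (.leaf (Rule.fwd [nat_lit 219, nat_lit 156, nat_lit 93,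 nat_lit 93, nat_lit 93, nat_lit 177] 16 4))) (.node (nat_lit 1) (.leaf (Rule.fwd [nat_lit 156, nat_lit 114, nat_lit 156, nat_lit 93, nat_lit 219, nat_lit 156, nat_lit 156] 7 5)) (.leaf (Rule.fwd [nat_lit 177, nat_lit 114, nat_lit 198, nat_lit 114, nat_lit 135, nat_lit 219] 31 5))))) (.node (nat_lit 1) (.leaf (Rule.fwd [nat_lit 156, nat_lit 240, nat_lit 156, nat_lit 240, nat_lit 156, nat_lit 177] 36 0)) (.leaf (Rule.fwd [nat_lit 219, nat_lit 156, nat_lit 156, nat_lit 93, nat_lit 156, nat_lit 114, nat_lit 156] 7 1))))), (.node (nat_lit 1) (.leaf XRule.defn) (.leaf XRule.ax))⟩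
noncomputable def ci114 : CI := ⟨[5], (nat_lit 93), true, (.node (nat_lit 16) (.node (nat_lit 8) (.node (nat_lit 4) (.node (nat_lit 2) (.node (nat_lit 1) (.leaf Rule.defn) (.leaf Rule.copy)) (.node (nat_lit 1) (.leaf (Rule.fwd [nat_lit 93] 38 0)) (.leaf (Rule.fwd [nat_lit 30, nat_lit 72, nat_lit 9, nat_lit 9, nat_lit 72] 18 5)))) (.node (nat_lit 2) (.node (nat_lit 1) (.leaf (Rule.fwd [nat_lit 135, nat_lit 72, nat_lit 93, nat_lit 219, nat_lit 9, nat_lit 156] 26 2)) (.leaf (Rule.fwd [nat_lit 51, nat_lit 156, nat_lit 93, nat_lit 135, nat_lit 30, nat_lit 240] 27 6))) (.node (nat_lit 1) (.leaf (Rule.fwd [nat_lit 198, nat_lit 156, nat_lit 93, nat_lit 135, nat_lit 93, nat_lit 135] 4 5)) (.leaf (Rule.fwd [nat_lit 198, nat_lit 114, nat_lit 135, nat_lit 219, nat_lit 93, nat_lit 177] 31 3))))) (.node (nat_lit 4) (.node (nat_lit 2) (.node (nat_lit 1) (.leaf (Rule.fwd [nat_lit 177, nat_lit 135, nat_lit 177, nat_lit 177] 33 1))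 (.leaf (Rule.fwd [nat_lit 177, nat_lit 135, nat_lit 198, nat_lit 198] 9 1))) (.node (nat_lit 1) (.leaf (Rule.fwd [nat_lit 156, nat_lit 240, nat_lit 114, nat_lit 156, nat_lit 240] 15 1)) (.leaf (Rule.fwd [nat_lit 156, nat_lit 114, nat_lit 135, nat_lit 177, nat_lit 93, nat_lit 156] 5 4)))) (.node (nat_lit 2) (.node (nat_lit 1) (.leaf (Rule.fwd [nat_lit 240, nat_lit 156, nat_lit 93, nat_lit 177, nat_lit 93, nat_lit 198] 30 4)) (.leaf (Rule.fwd [nat_lit 72, nat_lit 9, nat_lit 240, nat_lit 93, nat_lit 177, nat_lit 30] 29 0))) (.node (nat_lit 1) (.leaf (Rule.fwd [nat_lit 198, nat_lit 135, nat_lit 219, nat_lit 135, nat_lit 219, nat_lit 135] 37 1)) (.leaf (Rule.fwd [nat_lit 114, nat_lit 114, nat_lit 135, nat_lit 240, nat_lit 114, nat_lit 198] 17 3)))))) (.node (nat_lit 8) (.node (nat_lit 4) (.node (nat_lit 2) (.node (nat_lit 1) (.leaf (Rule.fwd [nat_lit 135, nat_lit 240, nat_lit 114, nat_lit 198, nat_lit 114, nat_lit 114]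 17 1)) (.leaf (Rule.fwd [nat_lit 135, nat_lit 177, nat_lit 93, nat_lit 156, nat_lit 114, nat_lit 156] 5 2))) (.node (nat_lit 1) (.leaf (Rule.fwd [nat_lit 198, nat_lit 156, nat_lit 114, nat_lit 198, nat_lit 156] 13 1)) (.leaf (Rule.fwd [nat_lit 114, nat_lit 135, nat_lit 240, nat_lit 114, nat_lit 198, nat_lit 114] 17 2)))) (.node (nat_lit 2) (.node (nat_lit 1) (.leaf (Rule.fwd [nat_lit 198, nat_lit 114, nat_lit 114, nat_lit 114, nat_lit 135, nat_lit 240] 17 5)) (.leaf (Rule.fwd [nat_lit 219, nat_lit 30, nat_lit 51, nat_lit 93, nat_lit 9, nat_lit 198] 28 2))) (.node (nat_lit 1) (.leaf (Rule.fwd [nat_lit 135, nat_lit 135, nat_lit 240, nat_lit 114, nat_lit 135, nat_lit 93, nat_lit 135] 6 4)) (.leaf (Rule.fwd [nat_lit 240, nat_lit 9, nat_lit 198, nat_lit 135, nat_lit 9] 22 1))))) (.leaf (Rule.fwd [nat_lit 135, nat_lit 219, nat_lit 93, nat_lit 177, nat_lit 114, nat_lit 198] 31 1)))), (.node (nat_lit 1) (.leaf XRule.defn)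 (.leaf XRule.ax))⟩
noncomputable def ci135 : CI := ⟨[6], (nat_lit 156), true, (.node (nat_lit 16) (.node (nat_lit 8) (.node (nat_lit 4) (.node (nat_lit 2) (.node (nat_lit 1) (.leaf Rule.defn) (.leaf Rule.copy)) (.node (nat_lit 1) (.leaf (Rule.fwd [nat_lit 156] 38 0)) (.leaf (Rule.fwd [nat_lit 9, nat_lit 114, nat_lit 240, nat_lit 9, nat_lit 198] 22 5)))) (.node (nat_lit 2) (.node (nat_lit 1) (.leaf (Rule.fwd [nat_lit 72, nat_lit 9, nat_lit 9, nat_lit 9, nat_lit 72, nat_lit 72] 21 0)) (.leaf (Rule.fwd [nat_lit 198, nat_lit 198, nat_lit 114, nat_lit 177] 9 4))) (.node (nat_lit 1) (.leaf (Rule.fwd [nat_lit 135, nat_lit 135, nat_lit 135, nat_lit 135] 10 0)) (.leaf (Rule.fwd [nat_lit 93, nat_lit 219, nat_lit 135, nat_lit 93, nat_lit 219] 14 2))))) (.node (nat_lit 4) (.node (nat_lit 2) (.node (nat_lit 1) (.leaf (Rule.fwd [nat_lit 219, nat_lit 135, nat_lit 219, nat_lit 135, nat_lit 114, nat_lit 198] 37 6)) (.leaf (Rule.fwd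 [nat_lit 240, nat_lit 114, nat_lit 198, nat_lit 114, nat_lit 114, nat_lit 114] 17 0))) (.node (nat_lit 1) (.leaf (Rule.fwd [nat_lit 177, nat_lit 93, nat_lit 135, nat_lit 177, nat_lit 93] 12 1)) (.leaf (Rule.fwd [nat_lit 114, nat_lit 135, nat_lit 135, nat_lit 240, nat_lit 114, nat_lit 135, nat_lit 93] 6 3)))) (.node (nat_lit 2) (.node (nat_lit 1) (.leaf (Rule.fwd [nat_lit 219, nat_lit 93, nat_lit 177, nat_lit 114, nat_lit 198, nat_lit 114] 31 0)) (.leaf (Rule.fwd [nat_lit 114, nat_lit 198, nat_lit 135, nat_lit 219, nat_lit 135, nat_lit 219] 37 2))) (.node (nat_lit 1) (.leaf (Rule.fwd [nat_lit 135, nat_lit 240, nat_lit 114, nat_lit 135, nat_lit 93, nat_lit 135, nat_lit 114] 6 5)) (.leaf (Rule.fwd [nat_lit 240, nat_lit 156, nat_lit 219, nat_lit 156, nat_lit 93, nat_lit 219] 34 2)))))) (.node (nat_lit 8) (.node (nat_lit 4) (.node (nat_lit 2) (.node (nat_lit 1) (.leaf (Rule.fwd [nat_lit 177, nat_lit 177, nat_lit 114,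 nat_lit 177] 33 4)) (.leaf (Rule.fwd [nat_lit 72, nat_lit 93, nat_lit 219, nat_lit 9, nat_lit 156, nat_lit 114] 26 3))) (.node (nat_lit 1) (.leaf (Rule.fwd [nat_lit 240, nat_lit 114, nat_lit 135, nat_lit 93, nat_lit 135, nat_lit 114, nat_lit 135] 6 6)) (.leaf (Rule.fwd [nat_lit 240, nat_lit 72, nat_lit 135, nat_lit 240, nat_lit 72] 25 0)))) (.node (nat_lit 2) (.node (nat_lit 1) (.leaf (Rule.fwd [nat_lit 93, nat_lit 135, nat_lit 114, nat_lit 198, nat_lit 156, nat_lit 93] 4 2)) (.leaf (Rule.fwd [nat_lit 30, nat_lit 240, nat_lit 114, nat_lit 51, nat_lit 156, nat_lit 93] 27 2))) (.node (nat_lit 1) (.leaf (Rule.fwd [nat_lit 177, nat_lit 93, nat_lit 156, nat_lit 114, nat_lit 156, nat_lit 114] 5 1)) (.leaf (Rule.fwd [nat_lit 114, nat_lit 198, nat_lit 156, nat_lit 93, nat_lit 135, nat_lit 93] 4 4))))) (.leaf (Rule.fwd [nat_lit 240, nat_lit 135, nat_lit 219, nat_lit 156, nat_lit 240, nat_lit 114] 35 0)))), (.node (nat_lit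 1) (.leaf XRule.defn) (.leaf XRule.ax))⟩
noncomputable def ci156 : CI := ⟨[7], (nat_lit 135), true, (.node (nat_lit 16) (.node (nat_lit 8) (.node (nat_lit 4) (.node (nat_lit 2) (.node (nat_lit 1) (.leaf Rule.defn) (.leaf Rule.copy)) (.node (nat_lit 1) (.leaf (Rule.fwd [nat_lit 135] 38 0)) (.leaf (Rule.fwd [nat_lit 51, nat_lit 219, nat_lit 156, nat_lit 51, nat_lit 219] 24 2)))) (.node (nat_lit 2) (.node (nat_lit 1) (.leaf (Rule.fwd [nat_lit 114, nat_lit 198, nat_lit 156, nat_lit 114, nat_lit 198] 13 2)) (.leaf (Rule.fwd [nat_lit 198, nat_lit 93, nat_lit 198, nat_lit 198] 32 3))) (.node (nat_lit 1) (.leaf (Rule.fwd [nat_lit 93, nat_lit 219, nat_lit 135, nat_lit 240, nat_lit 156, nat_lit 219] 34 6)) (.leaf (Rule.fwd [nat_lit 114, nat_lit 135, nat_lit 177, nat_lit 93, nat_lit 156, nat_lit 114] 5 3))))) (.node (nat_lit 4) (.node (nat_lit 2) (.node (nat_lit 1) (.leaf (Rule.fwd [nat_lit 93, nat_lit 156, nat_lit 114, nat_lit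 156, nat_lit 93, nat_lit 219, nat_lit 156] 7 6)) (.leaf (Rule.fwd [nat_lit 198, nat_lit 93, nat_lit 177, nat_lit 177] 8 3))) (.node (nat_lit 1) (.leaf (Rule.fwd [nat_lit 156, nat_lit 156, nat_lit 156, nat_lit 156] 11 0)) (.leaf (Rule.fwd [nat_lit 177, nat_lit 30, nat_lit 219, nat_lit 93, nat_lit 30] 23 0)))) (.node (nat_lit 2) (.node (nat_lit 1) (.leaf (Rule.fwd [nat_lit 240, nat_lit 114, nat_lit 135, nat_lit 240, nat_lit 135, nat_lit 219] 35 3)) (.leaf (Rule.fwd [nat_lit 240, nat_lit 156, nat_lit 240, nat_lit 156, nat_lit 177, nat_lit 93] 36 1))) (.node (nat_lit 1) (.leaf (Rule.fwd [nat_lit 93, nat_lit 135, nat_lit 30, nat_lit 240, nat_lit 114, nat_lit 51] 27 4)) (.leaf (Rule.fwd [nat_lit 240, nat_lit 114, nat_lit 156, nat_lit 240, nat_lit 114] 15 0)))))) (.node (nat_lit 4) (.node (nat_lit 2) (.node (nat_lit 1) (.leaf (Rule.fwd [nat_lit 93, nat_lit 135, nat_lit 93, nat_lit 135, nat_lit 114, nat_lit 198] 4 0)) (.leaf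 (Rule.fwd [nat_lit 114, nat_lit 156, nat_lit 93, nat_lit 219, nat_lit 156, nat_lit 156, nat_lit 93] 7 4))) (.node (nat_lit 1) (.leaf (Rule.fwd [nat_lit 51, nat_lit 51, nat_lit 30, nat_lit 30, nat_lit 30, nat_lit 51] 20 6)) (.leaf (Rule.fwd [nat_lit 219, nat_lit 156, nat_lit 93, nat_lit 219, nat_lit 135, nat_lit 240] 34 4)))) (.node (nat_lit 2) (.node (nat_lit 1) (.leaf (Rule.fwd [nat_lit 114, nat_lit 135, nat_lit 72, nat_lit 93, nat_lit 219, nat_lit 9] 26 1)) (.leaf (Rule.fwd [nat_lit 93, nat_lit 93, nat_lit 93, nat_lit 177, nat_lit 93, nat_lit 219] 16 6))) (.leaf (Rule.fwd [nat_lit 177, nat_lit 93, nat_lit 156, nat_lit 240, nat_lit 156, nat_lit 240] 36 5))))), (.node (nat_lit 1) (.leaf XRule.defn) (.leaf XRule.ax))⟩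
noncomputable def ci177 : CI := ⟨[8], (nat_lit 198), true, (.node (nat_lit 16) (.node (nat_lit 8) (.node (nat_lit 4) (.node (nat_lit 2) (.node (nat_lit 1) (.leaf Rule.defn) (.leaf Rule.copy)) (.node (nat_lit 1) (.leaf (Rule.fwd [nat_lit 198] 38 0)) (.leaf (Rule.fwd [nat_lit 114, nat_lit 177, nat_lit 135, nat_lit 177] 33 2)))) (.node (nat_lit 2) (.node (nat_lit 1) (.leaf (Rule.fwd [nat_lit 240, nat_lit 240, nat_lit 177] 0 1)) (.leaf (Rule.fwd [nat_lit 177, nat_lit 240, nat_lit 240] 0 0))) (.node (nat_lit 1) (.leaf (Rule.fwd [nat_lit 135, nat_lit 177, nat_lit 177, nat_lit 114] 33 0)) (.leaf (Rule.fwd [nat_lit 177, nat_lit 156, nat_lit 198, nat_lit 93] 8 1))))) (.node (nat_lit 4) (.node (nat_lit 2) (.node (nat_lit 1) (.leaf (Rule.fwd [nat_lit 135, nat_lit 198, nat_lit 198, nat_lit 114] 9 0)) (.leaf (Rule.fwd [nat_lit 93, nat_lit 135, nat_lit 177, nat_lit 93, nat_lit 135] 12 2))) (.node (nat_lit 1) (.leaf (Rule.fwd [nat_lit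 114, nat_lit 198, nat_lit 114, nat_lit 135, nat_lit 219, nat_lit 93] 31 4)) (.leaf (Rule.fwd [nat_lit 156, nat_lit 198, nat_lit 93, nat_lit 177] 8 2)))) (.node (nat_lit 2) (.node (nat_lit 1) (.leaf (Rule.fwd [nat_lit 93, nat_lit 198, nat_lit 114, nat_lit 240, nat_lit 156, nat_lit 93] 30 1)) (.leaf (Rule.fwd [nat_lit 93, nat_lit 219, nat_lit 156, nat_lit 93, nat_lit 93, nat_lit 93] 16 3))) (.node (nat_lit 1) (.leaf (Rule.fwd [nat_lit 219, nat_lit 198, nat_lit 219] 2 0)) (.leaf (Rule.fwd [nat_lit 177, nat_lit 114, nat_lit 177, nat_lit 135] 33 3)))))) (.node (nat_lit 4) (.node (nat_lit 2) (.node (nat_lit 1) (.leaf (Rule.fwd [nat_lit 240, nat_lit 198, nat_lit 240] 3 3)) (.leaf (Rule.fwd [nat_lit 93, nat_lit 156, nat_lit 114, nat_lit 156, nat_lit 114, nat_lit 135] 5 0))) (.node (nat_lit 1) (.leaf (Rule.fwd [nat_lit 30, nat_lit 219, nat_lit 93, nat_lit 30, nat_lit 156] 23 5)) (.leaf (Rule.fwd [nat_lit 30, nat_lit 114,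 nat_lit 72, nat_lit 9, nat_lit 240, nat_lit 93] 29 2)))) (.leaf (Rule.fwd [nat_lit 93, nat_lit 156, nat_lit 240, nat_lit 156, nat_lit 240, nat_lit 156] 36 6)))), (.node (nat_lit 1) (.leaf XRule.defn) (.leaf XRule.ax))⟩
noncomputable def ci198 : CI := ⟨[9], (nat_lit 177), true, (.node (nat_lit 16) (.node (nat_lit 8) (.node (nat_lit 4) (.node (nat_lit 2) (.node (nat_lit 1) (.leaf Rule.defn) (.leaf Rule.copy)) (.node (nat_lit 1) (.leaf (Rule.fwd [nat_lit 177] 38 0)) (.leaf (Rule.fwd [nat_lit 114, nat_lit 177, nat_lit 135, nat_lit 198] 9 2)))) (.node (nat_lit 2) (.node (nat_lit 1) (.leaf (Rule.fwd [nat_lit 219, nat_lit 177, nat_lit 219] 2 2)) (.leaf (Rule.fwd [nat_lit 198, nat_lit 219, nat_lit 219] 1 2))) (.node (nat_lit 1) (.leaf (Rule.fwd [nat_lit 219, nat_lit 219, nat_lit 198] 1 1)) (.leaf (Rule.fwd [nat_lit 135, nat_lit 219, nat_lit 135, nat_lit 219, nat_lit 135, nat_lit 114] 37 0))))) (.node (nat_lit 4) (.node (nat_lit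 2) (.node (nat_lit 1) (.leaf (Rule.fwd [nat_lit 198, nat_lit 114, nat_lit 177, nat_lit 135] 9 3)) (.leaf (Rule.fwd [nat_lit 93, nat_lit 177, nat_lit 177, nat_lit 156] 8 4))) (.node (nat_lit 1) (.leaf (Rule.fwd [nat_lit 156, nat_lit 93, nat_lit 135, nat_lit 93, nat_lit 135, nat_lit 114] 4 6)) (.leaf (Rule.fwd [nat_lit 114, nat_lit 240, nat_lit 156, nat_lit 93, nat_lit 177, nat_lit 93] 30 3)))) (.node (nat_lit 2) (.node (nat_lit 1) (.leaf (Rule.fwd [nat_lit 156, nat_lit 114, nat_lit 198, nat_lit 156, nat_lit 114] 13 0)) (.leaf (Rule.fwd [nat_lit 240, nat_lit 177, nat_lit 240] 3 1))) (.node (nat_lit 1) (.leaf (Rule.fwd [nat_lit 156, nat_lit 198, nat_lit 93, nat_lit 198] 32 2)) (.leaf (Rule.fwd [nat_lit 114, nat_lit 219, nat_lit 30, nat_lit 51, nat_lit 93, nat_lit 9] 28 1)))))) (.node (nat_lit 2) (.node (nat_lit 1) (.leaf (Rule.fwd [nat_lit 135, nat_lit 9, nat_lit 114, nat_lit 240, nat_lit 9] 22 4)) (.leaf (Rule.fwd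 [nat_lit 114, nat_lit 114, nat_lit 114, nat_lit 135, nat_lit 240, nat_lit 114] 17 4))) (.leaf (Rule.fwd [nat_lit 114, nat_lit 135, nat_lit 219, nat_lit 93, nat_lit 177, nat_lit 114] 31 2)))), (.node (nat_lit 1) (.leaf XRule.defn) (.leaf XRule.ax))⟩
noncomputable def ci219 : CI := ⟨[10], (nat_lit 240), true, (.node (nat_lit 16) (.node (nat_lit 8) (.node (nat_lit 4) (.node (nat_lit 2) (.node (nat_lit 1) (.leaf Rule.defn) (.leaf Rule.copy)) (.node (nat_lit 1) (.leaf (Rule.fwd [nat_lit 240] 38 0)) (.leaf (Rule.fwd [nat_lit 177, nat_lit 219, nat_lit 198] 2 3)))) (.node (nat_lit 2) (.node (nat_lit 1) (.leaf (Rule.fwd [nat_lit 156, nat_lit 240, nat_lit 114, nat_lit 135, nat_lit 240, nat_lit 135] 35 4)) (.leaf (Rule.fwd [nat_lit 135, nat_lit 114, nat_lit 198, nat_lit 135, nat_lit 219, nat_lit 135] 37 3))) (.node (nat_lit 1) (.leaf (Rule.fwd [nat_lit 198, nat_lit 219, nat_lit 177] 2 1)) (.leaf (Rule.fwd [nat_lit 198, nat_lit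 198, nat_lit 219] 1 3))))) (.node (nat_lit 4) (.node (nat_lit 2) (.node (nat_lit 1) (.leaf (Rule.fwd [nat_lit 219, nat_lit 198, nat_lit 198] 1 0)) (.leaf (Rule.fwd [nat_lit 135, nat_lit 93, nat_lit 219, nat_lit 135, nat_lit 93] 14 1))) (.node (nat_lit 1) (.leaf (Rule.fwd [nat_lit 93, nat_lit 177, nat_lit 114, nat_lit 198, nat_lit 114, nat_lit 135] 31 6)) (.leaf (Rule.fwd [nat_lit 156, nat_lit 156, nat_lit 93, nat_lit 156, nat_lit 114, nat_lit 156, nat_lit 93] 7 0)))) (.node (nat_lit 2) (.node (nat_lit 1) (.leaf (Rule.fwd [nat_lit 93, nat_lit 30, nat_lit 156, nat_lit 177, nat_lit 30] 23 3)) (.leaf (Rule.fwd [nat_lit 135, nat_lit 240, nat_lit 156, nat_lit 219, nat_lit 156, nat_lit 93] 34 1))) (.node (nat_lit 1) (.leaf (Rule.fwd [nat_lit 156, nat_lit 51, nat_lit 219, nat_lit 156, nat_lit 51] 24 1)) (.leaf (Rule.fwd [nat_lit 30, nat_lit 51, nat_lit 93, nat_lit 9, nat_lit 198, nat_lit 114] 28 3)))))) (.node (nat_lit 2)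 (.node (nat_lit 1) (.leaf (Rule.fwd [nat_lit 156, nat_lit 93, nat_lit 93, nat_lit 93, nat_lit 177, nat_lit 93] 16 5)) (.leaf (Rule.fwd [nat_lit 9, nat_lit 156, nat_lit 114, nat_lit 135, nat_lit 72, nat_lit 93] 26 6))) (.node (nat_lit 1) (.leaf (Rule.fwd [nat_lit 156, nat_lit 93, nat_lit 219, nat_lit 135, nat_lit 240, nat_lit 156] 34 5)) (.leaf (Rule.fwd [nat_lit 135, nat_lit 219, nat_lit 135, nat_lit 114, nat_lit 198, nat_lit 135] 37 5))))), (.node (nat_lit 1) (.leaf XRule.defn) (.leaf XRule.ax))⟩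
noncomputable def ci240 : CI := ⟨[11], (nat_lit 219), true, (.node (nat_lit 16) (.node (nat_lit 8) (.node (nat_lit 4) (.node (nat_lit 2) (.node (nat_lit 1) (.leaf Rule.defn) (.leaf Rule.copy)) (.node (nat_lit 1) (.leaf (Rule.fwd [nat_lit 219] 38 0)) (.leaf (Rule.fwd [nat_lit 9, nat_lit 198, nat_lit 135, nat_lit 9, nat_lit 114] 22 2)))) (.node (nat_lit 2) (.node (nat_lit 1) (.leaf (Rule.fwd [nat_lit 156, nat_lit 240, nat_lit 156, nat_lit 177, nat_lit 93, nat_lit 156] 36 2)) (.leaf (Rule.fwd [nat_lit 177, nat_lit 240, nat_lit 198] 3 0))) (.node (nat_lit 1) (.leaf (Rule.fwd [nat_lit 198, nat_lit 240, nat_lit 177] 3 2)) (.leaf (Rule.fwd [nat_lit 156, nat_lit 219, nat_lit 156, nat_lit 93, nat_lit 219, nat_lit 135] 34 3))))) (.node (nat_lit 4) (.node (nat_lit 2) (.node (nat_lit 1) (.leaf (Rule.fwd [nat_lit 135, nat_lit 219, nat_lit 156, nat_lit 240, nat_lit 114, nat_lit 135] 35 6)) (.leaf (Rule.fwd [nat_lit 240, nat_lit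 177, nat_lit 177] 0 2))) (.node (nat_lit 1) (.leaf (Rule.fwd [nat_lit 114, nat_lit 135, nat_lit 93, nat_lit 135, nat_lit 114, nat_lit 135, nat_lit 135] 6 7)) (.leaf (Rule.fwd [nat_lit 114, nat_lit 156, nat_lit 240, nat_lit 114, nat_lit 156] 15 2)))) (.node (nat_lit 2) (.node (nat_lit 1) (.leaf (Rule.fwd [nat_lit 177, nat_lit 177, nat_lit 240] 0 3)) (.leaf (Rule.fwd [nat_lit 114, nat_lit 135, nat_lit 240, nat_lit 135, nat_lit 219, nat_lit 156] 35 2))) (.node (nat_lit 1) (.leaf (Rule.fwd [nat_lit 114, nat_lit 51, nat_lit 156, nat_lit 93, nat_lit 135, nat_lit 30] 27 0)) (.leaf (Rule.fwd [nat_lit 72, nat_lit 135, nat_lit 240, nat_lit 72, nat_lit 135] 25 2)))))) (.node (nat_lit 2) (.node (nat_lit 1) (.leaf (Rule.fwd [nat_lit 156, nat_lit 93, nat_lit 177, nat_lit 93, nat_lit 198, nat_lit 114] 30 5)) (.leaf (Rule.fwd [nat_lit 93, nat_lit 177, nat_lit 30, nat_lit 114, nat_lit 72, nat_lit 9] 29 4))) (.node (nat_lit 1) (.leaf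 (Rule.fwd [nat_lit 156, nat_lit 177, nat_lit 93, nat_lit 156, nat_lit 240, nat_lit 156] 36 4)) (.leaf (Rule.fwd [nat_lit 114, nat_lit 198, nat_lit 114, nat_lit 114, nat_lit 114, nat_lit 135] 17 6))))), (.node (nat_lit 1) (.leaf XRule.defn) (.leaf XRule.ax))⟩
noncomputable def outer : Tr CI := (.node (nat_lit 1) (.node (nat_lit 2) (.node (nat_lit 8) (.node (nat_lit 16) (.leaf ci0) (.leaf ci240)) (.node (nat_lit 4) (.leaf ci72) (.leaf ci156))) (.node (nat_lit 4) (.leaf ci114) (.node (nat_lit 8) (.leaf ci198) (.leaf ci30)))) (.node (nat_lit 2) (.node (nat_lit 4) (.node (nat_lit 8) (.leaf ci177) (.leaf ci9)) (.leaf ci93)) (.node (nat_lit 4) (.node (nat_lit 8) (.leaf ci51) (.leaf ci219)) (.leaf ci135))))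
def cols : List ℕ := [nat_lit 9, nat_lit 30, nat_lit 51, nat_lit 72, nat_lit 93, nat_lit 114, nat_lit 135, nat_lit 156, nat_lit 177, nat_lit 198, nat_lit 219, nat_lit 240]
def invL : List ℕ := [1, 0, 3, 2, 5, 4, 7, 6, 9, 8, 11, 10]
def rels : List (List ℕ) := [[8, 8, 11, 11], [8, 10, 9, 10], [7, 4, 6, 4, 6, 5, 9], [5, 6, 4, 6, 5, 6, 6, 11], [4, 8, 8, 7, 9], [6, 6, 6, 6, 6], [4, 6, 8, 4, 6, 8], [4, 10, 6, 4, 10, 6], [4, 4, 4, 8, 4, 10, 7], [1, 3, 0, 0, 3, 5], [2, 2, 1, 1, 1, 2, 7], [0, 5, 11, 0, 9, 6], [2, 10, 7, 2, 10, 7], [0, 7, 5, 6, 3, 4, 10], [0, 9, 5, 10, 1, 2, 4], [4, 8, 4, 9, 5, 11, 7], [4, 9, 9, 7, 9], [4, 10, 6, 11, 7, 10, 7], [4, 7, 11, 7, 11, 7, 8]]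
def subs : List (List ℕ) := [[4], [5], [6], [7], [8], [9], [10], [11]]
noncomputable def row (n : ℕ) : ℕ := rowOf (fun h => rows.get h) (nat_lit 5) (nat_lit 31) (nat_lit 261) (nat_lit 0x1fffffffffffffffffffffffffffffffffffffffffffffffffffffffffffffffff) n
noncomputable def xleaf (h : ℕ) : ℕ := recs.get h
noncomputable def mF : ℕ → ℕ := mainRow row (rowChk row xleaf outer (nat_lit 9) (nat_lit 511) (nat_lit 31) (nat_lit 14) (nat_lit 16383) (nat_lit 2097151) (nat_lit 128) (nat_lit 175) (nat_lit 256) (nat_lit 9) (nat_lit 511) (nat_lit 18) (nat_lit 262143) (nat_lit 8) (nat_lit 255) cols)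
noncomputable def xF : ℕ → ℕ → ℕ := xLeaf row xleaf outer (nat_lit 511) (nat_lit 14) (nat_lit 2097151) (nat_lit 128) (nat_lit 175) (nat_lit 9) (nat_lit 511) (nat_lit 18) (nat_lit 262143) (nat_lit 261632) (nat_lit 8) (nat_lit 255) (nat_lit 10) (nat_lit 1023) (nat_lit 2) (nat_lit 3) (nat_lit 240) (nat_lit 89600) (nat_lit 128)
noncomputable def cert : Cert := ⟨row, xleaf, outer, cols, nat_lit 9, nat_lit 511, nat_lit 31, nat_lit 14, nat_lit 16383, nat_lit 2097151, nat_lit 128, nat_lit 175, nat_lit 256, nat_lit 9, nat_lit 511, nat_lit 18, nat_lit 262143, nat_lit 261632, nat_lit 8, nat_lit 255, nat_lit 10, nat_lit 1023, nat_lit 2, nat_lit 3, nat_lit 240, nat_lit 89600, nat_lit 128, nat_lit 21, nat_lit 128, nat_lit 1⟩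
theorem tabok : tabOK (fun i => invL.getD i i) rels subs outer cols (nat_lit 9) (nat_lit 240) = true := by decide +kernel
theorem m0 : rng mF (nat_lit 1) (nat_lit 175) = 0 := by decide +kernel
noncomputable def s0 : List ℕ := [nat_lit 0x401004010000000000000000000000000000000000000000000000000000000000000000000000000000000000000000000000000000000000000000000000000000000000000000000000000000000000000000000000000000000000000000000000000000000000000000000000000000000000000000000000000000000000000000000000000000000000000000000000000000000000000000000000]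
theorem x0 : xs xF s0 (nat_lit 1) = 0 := by decide +kernel
theorem mz0 : AllZ mF 1 (nat_lit 176) := (AllZ.step (AllZ.nil mF 1) (nat_lit 175) (nat_lit 176) rfl m0)
theorem xz0 : XZ xF (nat_lit 1) := (XZ.step (XZ.nil xF) s0 (nat_lit 1) (nat_lit 1) (by decide +kernel) x0)
/-- the certificate (175 points) is valid -/
theorem valid : cert.Valid (fun i => invL.getD i i) rels subs 12 :=
  ⟨by decide +kernel, tabok, by decide +kernel, mz0, xz0⟩
theorem cert_N : cert.N = 175 := rfl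

end CL.TC.GHSL2
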