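import Cfsg.Agent.Spor.TCSound

/-! coset enumeration certificate generated by tools/tc -/

set_option maxRecDepth 100000
set_option autoImplicit false
set_option linter.all false

namespace CL.TC.GHSL3

noncomputable def rows0 : Tr ℕ := (.node (nat_lit 2) (.node (nat_lit 1) (.leaf (nat_lit 0xcc80df8356f662ffe106e2436e2826e6651e235158fc356de90dfe106fa42fe6323ee33ade31ce63386cea408e634cc634be634de2310fe106e6532e4c1430fc355de353e2a23dab46fe106e2533de307f671844cc335ea316fc354f4936de31bde342fe106e0a1f1cf4310fe105f4311f4712dc54ce0a1cf8337d432380fe105f0610f4312f0311de337de53edc32bd454a94f4311f0812fe105f2710da321e0935ee342dee2c6ce8439ec34ff073bec350f8315fe105f431dfc35330de745da547f8307ee633d8b25ee851fc352fe10508ec81ce833ad474ee032efc351f8329fe105f483b1cf433bfc350fc34fe4339fe104fa518d6e13fc34e44ca34bfc34dfc34cf2608fc34bfc34ae231efe10408dc32af630ffc349fc348d6c2bfc347fe104d43151cee319fe103f231bf681adc33bfc346fc345da33f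80fe103f6719f261af671be0a27fc344cc73cd4e3a94ee31af661bf0319fe103ee333e4a1ef033bfc34358f8413c2328fc342fc341c853ffe103fc340e233630e6938d4334fc33ffc33efe103fc33dcaf28be33444dc31fca320cc322c6521fc33cfc33bf8338fe10308f4704fe102f4332f8331fc33ae492cd8c30fc33980fe102f6304f8831f8332fc338fc337fc336e032694f4331f8332f4804fe102fc335cc528fc334fc33358fc332fc331fe102fa404fc330fc32ffc32efc32d6cfc32ce831ef0314fc32bfc32afe102fc329fc32830fc327fc326fc325fa517fe102fc324fc323e071d44fc322fc321fc320fc31ffc31efc31dfe102fc31c1cfc31bfc31af8303fc319fc318fe101fc317fc31630f850bf230cf8309f230afe101fc315fc314fc31344fc312fc311fc310fa605fc30ffc30efc30dfe10108fc30cfc30bfc30afc309fc308fc307fe101fc3061cfa301fc201fc301fe201fc305fc304fc303fc30200)) (.leaf (nat_lit 0xca544cc64af6929de324e0942fa44ce4539fe10f08ba35ad4330fa443fe10ec233dc630fdc612c245958d8830ca35afe10ed4543dc31af6638e434afa6476cd4329d4724c834ace644fe10ec4a3fca357e245844c284fca339c6350c4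93bc6346fe10dce34fca31130f832df6715c233cee318fe10ddea12f2316f291044ea516e0735f0336ce354f051ffe10cd2311d0c5430cc43ce6318e6615e6b2dc4359d032efe10ce23401ce4643e430ed4330d6c5af433efe10be841ffa50d30d2337d4437dc337de637fe10be0c1ad8b31fa41b44e072ed234ef231cf263ad0354e0320e470ffe10b08de33ace71cf072ed634ede319fe10ad6d46da75730d6a0ebc343fc35af8330d8c2fd8353c050efe10a08ec526f8627ec317f8325e031df0710fe10adc5251cfa60afe109fa60bf670cdc357e0327dc324e431e80fe109f650afa50cf630be0752e234fe0a53d633794d663fd633efa734d6638d8c53fe109de326d630c30f8521f2322f831ff4320fe109d6334ce54bded2744de654de336e2916ee335d2c39de350c8d59fe10908e4750fa43be4339f634fda348e2b52fe109da3491cf064cfe108f064dce34be230ce2523dc319d2f2b80f054dd094bfe108f034ce254dd4313d032cde41a6cdc328de813de341ca442f8324fe108d8743d835230de559d6a3dde352f4340fa416de725de325fe10808c480fdea2ac4348d4949ca30ace321fe108c830e1cf6333fe107da345da347e2632de311dc32fd4c2180fe107ea333da347de345e0320ded41e290be073094da647de845fa433fe107dc329d6317da333e062958d233dfc359e0440ea552fe107fa52ad434edea3244fc358fc357ea351e031de032ce861fd6a1bfe10708f472ffe106f4356cea0dd2547c634de0348c235080fe106f632fc430df8356d0928dcd19d2327c834894)))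 (.leaf (nat_lit 0xcc83ebca3fd4338fe134d0345d0356d4358d8a5558fe124dc329ca644c434ad0a55c6e39c033fc632e94d6546fe123dc355e6353de84ecc34be033dd6a5a80fe123da546ea553e0755ce344de932d8335cc43d94fa620fe11ffa621f6722d295ad6349dc350d4c4b80de351fe11dde357de758da350ce359d635ad244d80d284edc32ed043afe11cd2341d2536ce33acc34158e071df2951e8b58e8357da634d6330fe118de3311cd044acea44e8324e0529e032dde331da52afe11708f0353e0655de946eca23ec317fe116e4720e432030fe115e232dee818c8a3ce052edcc55c4a22ded5694ee718c033cf842dfe115e4531e0d48ca344d0b3c58d4536d0354d8735d2316d094adc358fe115d6c241cfe114ee32be861eee32cc8922e032bd0355d2d4694e851eee32cf2a2bfe114f8340da31be2841c634458ce32bcca14d072cc851ecea58fe114d2356cc32f30ca340ce352c6b59ca73dfe114ce34ed231ae6b3e44f2342ee341d2328fe113d8b56d0343dcc2dd634558f2341c6342fe113c6928de34fdc52dcaf21e2d226cd8317d8325dcd27dc626fe113d0322f833ee034244d8357d4358d831ddc351fe112c8d3cd034dd433544dc325dc317e0c26dc427d4643d2a5ad8649fe11208cc352c8340cc33dc8359fe111d0c57c874ccd04f44be934e2338d233ef833fd2c49d2345fe110d632a1cc8848f4549c832afe10fe081cde340e2747f0a1958f0649f4848fe10fe062adc326d4454ced54e034c6c)))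
noncomputable def recs0 : Tr ℕ := (.leaf (nat_lit 0x1940180016c0158))
noncomputable def rows : Tr ℕ := rows0
noncomputable def recs : Tr ℕ := recs0
noncomputable def ci0 : CI := ⟨[], (nat_lit 0), false, (.node (nat_lit 1) (.leaf Rule.defn) (.leaf Rule.copy)), (.leaf (XRule.rot (nat_lit 0) [] 18 0))⟩
noncomputable def ci8 : CI := ⟨[0], (nat_lit 28), false, (.node (nat_lit 8) (.node (nat_lit 4) (.node (nat_lit 2) (.node (nat_lit 1) (.leaf Rule.defn) (.leaf Rule.copy)) (.node (nat_lit 1) (.leaf (Rule.fwd [nat_lit 28] 18 0)) (.leaf (Rule.fwd [nat_lit 128, nat_lit 48, nat_lit 8, nat_lit 128, nat_lit 48] 14 0)))) (.node (nat_lit 2) (.node (nat_lit 1) (.leaf (Rule.fwd [nat_lit 8, nat_lit 8, nat_lit 88, nat_lit 8, nat_lit 128, nat_lit 68] 16 0)) (.leaf (Rule.fwd [nat_lit 68, nat_lit 28, nat_lit 68, nat_lit 28, nat_lit 48, nat_lit 88] 5 6))) (.node (nat_lit 1) (.leaf (Rule.fwd [nat_lit 48, nat_lit 28, nat_lit 108, nat_lit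 68, nat_lit 8, nat_lit 48] 4 3)) (.leaf (Rule.fwd [nat_lit 128, nat_lit 68, nat_lit 68, nat_lit 8, nat_lit 68, nat_lit 28, nat_lit 68] 7 1))))) (.node (nat_lit 4) (.node (nat_lit 2) (.node (nat_lit 1) (.leaf (Rule.fwd [nat_lit 88, nat_lit 8, nat_lit 128, nat_lit 68, nat_lit 8, nat_lit 8] 16 2)) (.leaf (Rule.fwd [nat_lit 88, nat_lit 88, nat_lit 68, nat_lit 108] 8 0))) (.node (nat_lit 1) (.leaf (Rule.fwd [nat_lit 48, nat_lit 28, nat_lit 48, nat_lit 48, nat_lit 148, nat_lit 28, nat_lit 48] 6 2)) (.leaf (Rule.fwd [nat_lit 48, nat_lit 8, nat_lit 48, nat_lit 28, nat_lit 108, nat_lit 68] 4 1)))) (.node (nat_lit 2) (.node (nat_lit 1) (.leaf (Rule.fwd [nat_lit 128, nat_lit 68, nat_lit 8, nat_lit 8, nat_lit 8, nat_lit 88] 16 4)) (.leaf (Rule.fwd [nat_lit 48, nat_lit 88, nat_lit 8, nat_lit 48, nat_lit 88] 12 0))) (.node (nat_lit 1) (.leaf (Rule.fwd [nat_lit 8, nat_lit 88, nat_lit 8, nat_lit 128, nat_lit 68, nat_lit 8] 16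 1)) (.leaf (Rule.fwd [nat_lit 68, nat_lit 28, nat_lit 68, nat_lit 8, nat_lit 128, nat_lit 68, nat_lit 68] 7 5)))))), (.node (nat_lit 1) (.leaf XRule.defn) (.leaf XRule.defn))⟩
noncomputable def ci28 : CI := ⟨[1], (nat_lit 8), false, (.node (nat_lit 8) (.node (nat_lit 4) (.node (nat_lit 2) (.node (nat_lit 1) (.leaf Rule.defn) (.leaf Rule.copy)) (.node (nat_lit 1) (.leaf (Rule.fwd [nat_lit 8] 18 0)) (.leaf (Rule.fwd [nat_lit 48, nat_lit 148, nat_lit 28, nat_lit 108, nat_lit 28, nat_lit 28] 17 1)))) (.node (nat_lit 2) (.node (nat_lit 1) (.leaf (Rule.fwd [nat_lit 108, nat_lit 68, nat_lit 28, nat_lit 108, nat_lit 68] 13 1)) (.leaf (Rule.fwd [nat_lit 88, nat_lit 48, nat_lit 108, nat_lit 108] 9 1))) (.node (nat_lit 1) (.leaf (Rule.fwd [nat_lit 28, nat_lit 48, nat_lit 148, nat_lit 28, nat_lit 108, nat_lit 28] 17 2)) (.leaf (Rule.fwd [nat_lit 108, nat_lit 28, nat_lit 28, nat_lit 28, nat_lit 48, nat_lit 148] 17 5)))))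 (.node (nat_lit 4) (.node (nat_lit 2) (.node (nat_lit 1) (.leaf (Rule.fwd [nat_lit 68, nat_lit 148, nat_lit 28, nat_lit 68, nat_lit 148] 15 1)) (.leaf (Rule.fwd [nat_lit 28, nat_lit 28, nat_lit 48, nat_lit 148, nat_lit 28, nat_lit 108] 17 3))) (.node (nat_lit 1) (.leaf (Rule.fwd [nat_lit 68, nat_lit 28, nat_lit 48, nat_lit 88, nat_lit 8, nat_lit 68] 5 4)) (.leaf (Rule.fwd [nat_lit 48, nat_lit 8, nat_lit 48, nat_lit 28, nat_lit 48, nat_lit 48, nat_lit 148] 6 0)))) (.node (nat_lit 2) (.node (nat_lit 1) (.leaf (Rule.fwd [nat_lit 108, nat_lit 68, nat_lit 8, nat_lit 48, nat_lit 8, nat_lit 48] 4 5)) (.leaf (Rule.fwd [nat_lit 48, nat_lit 88, nat_lit 8, nat_lit 68, nat_lit 28, nat_lit 68] 5 2))) (.leaf (Rule.fwd [nat_lit 48, nat_lit 48, nat_lit 148, nat_lit 28, nat_lit 48, nat_lit 8, nat_lit 48] 6 4))))), (.node (nat_lit 1) (.leaf XRule.defn) (.leaf XRule.defn))⟩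
noncomputable def ci48 : CI := ⟨[2], (nat_lit 68), false, (.node (nat_lit 8) (.node (nat_lit 4) (.node (nat_lit 2) (.node (nat_lit 1) (.leaf Rule.defn) (.leaf Rule.copy)) (.node (nat_lit 1) (.leaf (Rule.fwd [nat_lit 68] 18 0)) (.leaf (Rule.fwd [nat_lit 88, nat_lit 8, nat_lit 68, nat_lit 28, nat_lit 68, nat_lit 28] 5 1)))) (.node (nat_lit 2) (.node (nat_lit 1) (.leaf (Rule.fwd [nat_lit 48, nat_lit 48, nat_lit 48, nat_lit 48] 10 0)) (.leaf (Rule.fwd [nat_lit 48, nat_lit 148, nat_lit 28, nat_lit 48, nat_lit 8, nat_lit 48, nat_lit 28] 6 5))) (.node (nat_lit 1) (.leaf (Rule.fwd [nat_lit 88, nat_lit 8, nat_lit 48, nat_lit 88, nat_lit 8] 12 1)) (.leaf (Rule.fwd [nat_lit 148, nat_lit 28, nat_lit 108, nat_lit 28, nat_lit 28, nat_lit 28] 17 0))))) (.node (nat_lit 4) (.node (nat_lit 2) (.node (nat_lit 1) (.leaf (Rule.fwd [nat_lit 108, nat_lit 108, nat_lit 28, nat_lit 88] 9 4)) (.leaf (Rule.fwd [nat_lit 28, nat_lit 108,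 nat_lit 68, nat_lit 8, nat_lit 48, nat_lit 8] 4 4))) (.node (nat_lit 1) (.leaf (Rule.fwd [nat_lit 8, nat_lit 48, nat_lit 28, nat_lit 108, nat_lit 68, nat_lit 8] 4 2)) (.leaf (Rule.fwd [nat_lit 148, nat_lit 28, nat_lit 48, nat_lit 8, nat_lit 48, nat_lit 28, nat_lit 48] 6 6)))) (.node (nat_lit 1) (.leaf (Rule.fwd [nat_lit 8, nat_lit 128, nat_lit 48, nat_lit 8, nat_lit 128] 14 2)) (.leaf (Rule.fwd [nat_lit 8, nat_lit 48, nat_lit 28, nat_lit 48, nat_lit 48, nat_lit 148, nat_lit 28] 6 1))))), (.node (nat_lit 1) (.leaf XRule.defn) (.leaf XRule.defn))⟩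
noncomputable def ci68 : CI := ⟨[3], (nat_lit 48), false, (.node (nat_lit 8) (.node (nat_lit 4) (.node (nat_lit 2) (.node (nat_lit 1) (.leaf Rule.defn) (.leaf Rule.copy)) (.node (nat_lit 1) (.leaf (Rule.fwd [nat_lit 48] 18 0)) (.leaf (Rule.fwd [nat_lit 28, nat_lit 48, nat_lit 88, nat_lit 8, nat_lit 68, nat_lit 28] 5 3)))) (.node (nat_lit 2) (.node (nat_lit 1) (.leaf (Rule.fwd [nat_lit 108, nat_lit 8, nat_lit 88, nat_lit 88] 8 3)) (.leaf (Rule.fwd [nat_lit 8, nat_lit 8, nat_lit 8, nat_lit 88, nat_lit 8, nat_lit 128] 16 6))) (.node (nat_lit 1) (.leaf (Rule.fwd [nat_lit 8, nat_lit 48, nat_lit 8, nat_lit 48, nat_lit 28, nat_lit 108] 4 0)) (.leaf (Rule.fwd [nat_lit 28, nat_lit 108, nat_lit 68, nat_lit 28, nat_lit 108] 13 2))))) (.node (nat_lit 2) (.node (nat_lit 1) (.leaf (Rule.fwd [nat_lit 28, nat_lit 68, nat_lit 28, nat_lit 48, nat_lit 88, nat_lit 8] 5 5)) (.leaf (Rule.fwd [nat_lit 68, nat_lit 8, nat_lit 68, nat_lit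 28, nat_lit 68, nat_lit 8, nat_lit 128] 7 7))) (.node (nat_lit 1) (.leaf (Rule.fwd [nat_lit 28, nat_lit 68, nat_lit 8, nat_lit 128, nat_lit 68, nat_lit 68, nat_lit 8] 7 4)) (.leaf (Rule.fwd [nat_lit 8, nat_lit 68, nat_lit 28, nat_lit 68, nat_lit 8, nat_lit 128, nat_lit 68] 7 6))))), (.node (nat_lit 1) (.leaf XRule.defn) (.leaf XRule.defn))⟩
noncomputable def ci88 : CI := ⟨[4], (nat_lit 108), true, (.node (nat_lit 8) (.node (nat_lit 4) (.node (nat_lit 2) (.node (nat_lit 1) (.leaf Rule.defn) (.leaf Rule.copy)) (.node (nat_lit 1) (.leaf (Rule.fwd [nat_lit 108] 18 0)) (.leaf (Rule.fwd [nat_lit 68, nat_lit 108, nat_lit 8, nat_lit 88] 8 2)))) (.node (nat_lit 2) (.node (nat_lit 1) (.leaf (Rule.fwd [nat_lit 8, nat_lit 48, nat_lit 88, nat_lit 8, nat_lit 48] 12 2)) (.leaf (Rule.fwd [nat_lit 48, nat_lit 108, nat_lit 108, nat_lit 28] 9 0))) (.node (nat_lit 1) (.leaf (Rule.fwd [nat_lit 128, nat_lit 108, nat_lit 128] 2 0))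 (.leaf (Rule.fwd [nat_lit 148, nat_lit 108, nat_lit 148] 3 3))))) (.node (nat_lit 2) (.node (nat_lit 1) (.leaf (Rule.fwd [nat_lit 8, nat_lit 128, nat_lit 68, nat_lit 8, nat_lit 8, nat_lit 8] 16 3)) (.leaf (Rule.fwd [nat_lit 8, nat_lit 68, nat_lit 28, nat_lit 68, nat_lit 28, nat_lit 48] 5 0))) (.node (nat_lit 1) (.leaf (Rule.fwd [nat_lit 88, nat_lit 148, nat_lit 148] 0 0)) (.leaf (Rule.fwd [nat_lit 88, nat_lit 68, nat_lit 108, nat_lit 8] 8 1))))), (.node (nat_lit 1) (.leaf XRule.defn) (.leaf XRule.ax))⟩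
noncomputable def ci108 : CI := ⟨[5], (nat_lit 88), true, (.node (nat_lit 8) (.node (nat_lit 4) (.node (nat_lit 2) (.node (nat_lit 1) (.leaf Rule.defn) (.leaf Rule.copy)) (.node (nat_lit 1) (.leaf (Rule.fwd [nat_lit 88] 18 0)) (.leaf (Rule.fwd [nat_lit 28, nat_lit 88, nat_lit 48, nat_lit 108] 9 2)))) (.node (nat_lit 2) (.node (nat_lit 1) (.leaf (Rule.fwd [nat_lit 128, nat_lit 88, nat_lit 128] 2 2)) (.leaf (Rule.fwd [nat_lit 148, nat_lit 88, nat_lit 148] 3 1))) (.node (nat_lit 1) (.leaf (Rule.fwd [nat_lit 8, nat_lit 88, nat_lit 88, nat_lit 68] 8 4)) (.leaf (Rule.fwd [nat_lit 108, nat_lit 128, nat_lit 128] 1 2))))) (.node (nat_lit 4) (.node (nat_lit 2) (.node (nat_lit 1) (.leaf (Rule.fwd [nat_lit 68, nat_lit 28, nat_lit 108, nat_lit 68, nat_lit 28] 13 0)) (.leaf (Rule.fwd [nat_lit 108, nat_lit 28, nat_lit 88, nat_lit 48] 9 3))) (.node (nat_lit 1) (.leaf (Rule.fwd [nat_lit 128, nat_lit 128, nat_lit 108] 1 1)) (.leaf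 (Rule.fwd [nat_lit 28, nat_lit 28, nat_lit 28, nat_lit 48, nat_lit 148, nat_lit 28] 17 4)))) (.leaf (Rule.fwd [nat_lit 68, nat_lit 8, nat_lit 48, nat_lit 8, nat_lit 48, nat_lit 28] 4 6)))), (.node (nat_lit 1) (.leaf XRule.defn) (.leaf XRule.ax))⟩
noncomputable def ci128 : CI := ⟨[6], (nat_lit 148), true, (.node (nat_lit 8) (.node (nat_lit 4) (.node (nat_lit 2) (.node (nat_lit 1) (.leaf Rule.defn) (.leaf Rule.copy)) (.node (nat_lit 1) (.leaf (Rule.fwd [nat_lit 148] 18 0)) (.leaf (Rule.fwd [nat_lit 68, nat_lit 8, nat_lit 8, nat_lit 8, nat_lit 88, nat_lit 8] 16 5)))) (.node (nat_lit 2) (.node (nat_lit 1) (.leaf (Rule.fwd [nat_lit 88, nat_lit 128, nat_lit 108] 2 3)) (.leaf (Rule.fwd [nat_lit 128, nat_lit 108, nat_lit 108] 1 0))) (.node (nat_lit 1) (.leaf (Rule.fwd [nat_lit 108, nat_lit 108, nat_lit 128] 1 3)) (.leaf (Rule.fwd [nat_lit 108, nat_lit 128, nat_lit 88] 2 1))))) (.node (nat_lit 1) (.leaf (Rule.fwd [nat_lit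 48, nat_lit 8, nat_lit 128, nat_lit 48, nat_lit 8] 14 1)) (.leaf (Rule.fwd [nat_lit 68, nat_lit 68, nat_lit 8, nat_lit 68, nat_lit 28, nat_lit 68, nat_lit 8] 7 0)))), (.node (nat_lit 1) (.leaf XRule.defn) (.leaf XRule.ax))⟩
noncomputable def ci148 : CI := ⟨[7], (nat_lit 128), true, (.node (nat_lit 8) (.node (nat_lit 4) (.node (nat_lit 2) (.node (nat_lit 1) (.leaf Rule.defn) (.leaf Rule.copy)) (.node (nat_lit 1) (.leaf (Rule.fwd [nat_lit 128] 18 0)) (.leaf (Rule.fwd [nat_lit 28, nat_lit 68, nat_lit 148, nat_lit 28, nat_lit 68] 15 2)))) (.node (nat_lit 2) (.node (nat_lit 1) (.leaf (Rule.fwd [nat_lit 148, nat_lit 88, nat_lit 88] 0 2)) (.leaf (Rule.fwd [nat_lit 88, nat_lit 88, nat_lit 148] 0 3))) (.node (nat_lit 1) (.leaf (Rule.fwd [nat_lit 108, nat_lit 148, nat_lit 88] 3 2)) (.leaf (Rule.fwd [nat_lit 28, nat_lit 48, nat_lit 8, nat_lit 48, nat_lit 28, nat_lit 48, nat_lit 48] 6 7))))) (.node (nat_lit 1) (.leaf (Rule.fwd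 [nat_lit 28, nat_lit 108, nat_lit 28, nat_lit 28, nat_lit 28, nat_lit 48] 17 6)) (.leaf (Rule.fwd [nat_lit 88, nat_lit 148, nat_lit 108] 3 0)))), (.node (nat_lit 1) (.leaf XRule.defn) (.leaf XRule.ax))⟩
noncomputable def outer : Tr CI := (.node (nat_lit 4) (.node (nat_lit 8) (.node (nat_lit 16) (.node (nat_lit 128) (.leaf ci0) (.leaf ci128)) (.leaf ci48)) (.node (nat_lit 16) (.leaf ci8) (.leaf ci88))) (.node (nat_lit 8) (.node (nat_lit 16) (.leaf ci68) (.leaf ci148)) (.node (nat_lit 16) (.leaf ci108) (.leaf ci28))))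
def cols : List ℕ := [nat_lit 8, nat_lit 28, nat_lit 48, nat_lit 68, nat_lit 88, nat_lit 108, nat_lit 128, nat_lit 148]
def invL : List ℕ := [1, 0, 3, 2, 5, 4, 7, 6]
def rels : List (List ℕ) := [[4, 4, 7, 7], [4, 6, 5, 6], [3, 0, 2, 0, 2, 1, 5], [1, 2, 0, 2, 1, 2, 2, 7], [0, 4, 4, 3, 5], [2, 2, 2, 2, 2], [0, 2, 4, 0, 2, 4], [0, 6, 2, 0, 6, 2], [0, 0, 0, 4, 0, 6, 3]]
def subs : List (List ℕ) := [[4], [5], [6], [7]]
noncomputable def row (n : ℕ) : ℕ := rowOf (fun h => rows.get h) (nat_lit 5) (nat_lit 31) (nat_lit 168) (nat_lit 0xffffffffffffffffffffffffffffffffffffffffff) n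
noncomputable def xleaf (h : ℕ) : ℕ := recs.get h
noncomputable def mF : ℕ → ℕ := mainRow row (rowChk row xleaf outer (nat_lit 8) (nat_lit 255) (nat_lit 31) (nat_lit 13) (nat_lit 8191) (nat_lit 1048575) (nat_lit 128) (nat_lit 90) (nat_lit 256) (nat_lit 8) (nat_lit 255) (nat_lit 16) (nat_lit 65535) (nat_lit 8) (nat_lit 255) cols)
noncomputable def xF : ℕ → ℕ → ℕ := xLeaf row xleaf outer (nat_lit 255) (nat_lit 13) (nat_lit 1048575) (nat_lit 128) (nat_lit 90) (nat_lit 8) (nat_lit 255) (nat_lit 16) (nat_lit 65535) (nat_lit 65280) (nat_lit 8) (nat_lit 255) (nat_lit 10) (nat_lit 1023) (nat_lit 2) (nat_lit 3) (nat_lit 148) (nat_lit 23040) (nat_lit 128)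
noncomputable def cert : Cert := ⟨row, xleaf, outer, cols, nat_lit 8, nat_lit 255, nat_lit 31, nat_lit 13, nat_lit 8191, nat_lit 1048575, nat_lit 128, nat_lit 90, nat_lit 256, nat_lit 8, nat_lit 255, nat_lit 16, nat_lit 65535, nat_lit 65280, nat_lit 8, nat_lit 255, nat_lit 10, nat_lit 1023, nat_lit 2, nat_lit 3, nat_lit 148, nat_lit 23040, nat_lit 128, nat_lit 20, nat_lit 128, nat_lit 1⟩
theorem tabok : tabOK (fun i => invL.getD i i) rels subs outer cols (nat_lit 8) (nat_lit 148) = true := by decide +kernel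
theorem m0 : rng mF (nat_lit 1) (nat_lit 90) = 0 := by decide +kernel
noncomputable def s0 : List ℕ := [nat_lit 0x401000000000000000000000000000000000000000000000000000000000000000000000000000000000000000000000000000000000000000000000000000000000000000000000000000000000000000000000000000000000000000000000000000000000000000000000000000000000000000000000000000000000000000000000000000000000000000000000000000000000000000000000000000]
theorem x0 : xs xF s0 (nat_lit 1) = 0 := by decide +kernel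
theorem mz0 : AllZ mF 1 (nat_lit 91) := (AllZ.step (AllZ.nil mF 1) (nat_lit 90) (nat_lit 91) rfl m0)
theorem xz0 : XZ xF (nat_lit 1) := (XZ.step (XZ.nil xF) s0 (nat_lit 1) (nat_lit 1) (by decide +kernel) x0)
/-- the certificate (90 points) is valid -/
theorem valid : cert.Valid (fun i => invL.getD i i) rels subs 8 :=
  ⟨by decide +kernel, tabok, by decide +kernel, mz0, xz0⟩
theorem cert_N : cert.N = 90 := rfl

end CL.TC.GHSL3
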