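import Cfsg.Agent.Spor.TCSound

/-! coset enumeration certificate generated by tools/tc -/

set_option maxRecDepth 100000
set_option autoImplicit false
set_option linter.all false

namespace CL.TC.GJ2L2

noncomputable def rows0 : Tr ℕ := (.node (nat_lit 2) (.node (nat_lit 1) (.leaf (nat_lit 0xf7079b0c73d9997d40efc6affc4203f4944f4659f8d5ba198ff108fc6aa6bf883fc352fc6a9f5503db22fe353cdf8d4bf883fe351fc6a1d8d1fe1a553f6e6bb5083b9a17834afa825fc41c3f632ffc69fea0dbc3087f107e8e246b69837f106fc69db54bb919d7e34da7f8d33f1a5ff106f6c29f8d2ba1a2c0e4e1ddd43f999bfe349fe20df8d20d7f105f868df8d1fe19677326f86699bf1a37f105fc68bf8d138c1177332a7f8d0ff1a17a32df8655e0d03f88287f8a6df8d07d18cfc306fe20bf8d00d7f104f8677f8cfff19f7e33dfc6799bf19dff104fc675f8ce7998dfc31ca7f0c23c2847c52bfc671f0cb7f88207e266ff8cdfb98dfe336fe209bccb8d7f103ec631f8cd7f19a7c30afc6679b898c7f103f8641f8ccbbc04fe331a7d4cc3f1987c30cfe207d4c9ff197adfc65df8cb7f881fd60dfc659f8cae07652afc655f8ca7f19473b24fe2061ff8817c324fc64ff8c9bf192fd40fcdf8c93f8817e323fc645f8c87b18753fa823dcc47e183ff102fc641f8c7d6fe31efc63bfc40beb047e31cfc63703720d7e31afa829f8c67f8817e31835f8c5ff18b7c304fe203f8c57f18a2dfc627f8c4bf880fd605fc623f8c4207e30ffc61df8c37f1867e30bfe2021ff1857e309fc611f8c1ff880fe30635f8807f900fe305fc609f8c0ff18100))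 (.leaf (nat_lit 0xfc6c1ed4e3e18f7a354fe229e5454d71933d6663f0cfbf889ed354df054b769a2f6345fe227f58ffe197edb2381aed3f8197ebb41f8861b514bf88987f4641cd0d7dc21f8353fe227c8d48d7f112fac27bcd23b1a36d35eda6619ba998f1433f8673fc44b81a8f3a1a5bc4d1fb3a3ff112fac75dcd3fe313c0ea6a1e8d03f888f832bf4eadf2562072610fe221da927a30c74323e469f4fd98a76329fe221e4c6f4d997b82681e8c73919e7c334fe21fe4d5779adade66b1dcd63f887fd635faa2fccd0607033fe0675f0d77f1afff10fdc64a6b51ae6635cfe21df1883c50b6833681da8eb621ff541fec6adfc43b89909aecc1bfc437d99ef8441dc877e4cb69f771be2e7bc4d639990ff10dfae7c6bf88674349d8635a8d3b85887e35ecdd8d27f8866f32af6e2be90c3ea88d3fc6bbed07feb8bfb347f0699fc4303f9323e864fe50e3d988ff10cec6986ba985ff10bfac2bc2cb7719ff3359a7d7107bb9b7c328fe217d611b99a82dd2697c9533f885fd629f10a7f591e06885aeae57f0c9bf8857b339ecc1ab7bd9379526fe215f589fd19b7851781b0d3751acf694ffc6b9bd0cff88507fe213f582bf1adf2852e2691c8c2f37a62bfc6b5f0c8bf884ec33eeb06eb75b916f722fe213f588fb520f031681f8d6761a6f452ffc6b1ca4c7f88487)))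 (.leaf (nat_lit 0xfe281d59435baf6bc5adaebfacd7336f95fe08bffc4cf89aef4943d86c103c9adeb85bcccb5a8d83f8976ec3b35fc4b39c227255ffb067ed96fad2be6d74659dccbf892f134fd8ac1dd90a07a85ed46bdba14bf89270435f46bab73993ff123d46c194d7b49a4e734ba7fc4875b12f8355ed099d28ab99a8e6e9069e14d3f890f262ff6671d990e074b4aec695a692f71a6f435dfe2401fc22b74456eea63fc47fca21793385bce54fa2a9fc34cf34b3fc47fd61a9ae2ca9b2153de207f11edd49bbacfd6f2355e66abe60f3a4a1ff11eee6506bf88efd61ee2649b4d6f9d9e6c33dcdde9479a28fc350fe23bd15678d9d2ded271d0d83f88efd651e9253b0d3a06a33dfe237c9973a992f3737f0a734f92216f843d705dfc46b6d2871a465bb6c976b90ef457d6697fc46b69aa1afe233c4ca3a9acfd555eec57e60b336a928fe233b293741abe895ad06894f99abf7757f3239e4d0bea0eff1190fde4b7ab177f118ea66fcad13552d40db491c5d23a5a37043bfe231ca490d72539ea673f30b3f88bfc328ef43ab7f88b7d617ef477ccd2381a774329cdb98fbbc1f7c344fe22dd5c67d18f2de663fc8d77f88b7d645d3697c4d2607f115dc69dccd4fd19e75358e66bf9b89a77f115f4c95e1c73b1ae78356a7d0ca7f88a77330d467bd30d3a99153)))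
noncomputable def recs0 : Tr ℕ := (.leaf (nat_lit 0x1cc039806980d3))
noncomputable def rows : Tr ℕ := rows0
noncomputable def recs : Tr ℕ := recs0
noncomputable def ci0 : CI := ⟨[], (nat_lit 0), false, (.node (nat_lit 1) (.leaf Rule.defn) (.leaf Rule.copy)), (.leaf (XRule.rot (nat_lit 0) [] 14 0))⟩
noncomputable def ci7 : CI := ⟨[0], (nat_lit 26), false, (.node (nat_lit 8) (.node (nat_lit 4) (.node (nat_lit 2) (.node (nat_lit 1) (.leaf Rule.defn) (.leaf Rule.copy)) (.node (nat_lit 1) (.leaf (Rule.fwd [nat_lit 26] 14 0)) (.leaf (Rule.fwd [nat_lit 102, nat_lit 7, nat_lit 102, nat_lit 7, nat_lit 102] 10 0)))) (.node (nat_lit 2) (.node (nat_lit 1) (.leaf (Rule.fwd [nat_lit 7, nat_lit 64, nat_lit 26, nat_lit 45, nat_lit 83] 2 0)) (.leaf (Rule.fwd [nat_lit 45, nat_lit 102, nat_lit 45, nat_lit 26, nat_lit 26, nat_lit 45] 4 4))) (.node (nat_lit 1) (.leaf (Rule.fwd [nat_lit 64, nat_lit 102, nat_lit 64, nat_lit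 26, nat_lit 64, nat_lit 7] 5 2)) (.leaf (Rule.fwd [nat_lit 64, nat_lit 102, nat_lit 7, nat_lit 64, nat_lit 102] 8 0))))) (.node (nat_lit 2) (.node (nat_lit 1) (.leaf (Rule.fwd [nat_lit 64, nat_lit 7, nat_lit 83, nat_lit 64, nat_lit 102, nat_lit 45] 12 0)) (.leaf (Rule.fwd [nat_lit 83, nat_lit 64, nat_lit 102, nat_lit 45, nat_lit 7, nat_lit 64] 12 2))) (.node (nat_lit 1) (.leaf (Rule.fwd [nat_lit 7, nat_lit 64, nat_lit 102, nat_lit 64, nat_lit 26, nat_lit 64] 5 3)) (.leaf (Rule.fwd [nat_lit 64, nat_lit 26, nat_lit 45, nat_lit 83, nat_lit 7] 2 1))))), (.node (nat_lit 1) (.leaf XRule.defn) (.leaf XRule.defn))⟩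
noncomputable def ci26 : CI := ⟨[1], (nat_lit 7), false, (.node (nat_lit 8) (.node (nat_lit 4) (.node (nat_lit 2) (.node (nat_lit 1) (.leaf Rule.defn) (.leaf Rule.copy)) (.node (nat_lit 1) (.leaf (Rule.fwd [nat_lit 7] 14 0)) (.leaf (Rule.fwd [nat_lit 83, nat_lit 64, nat_lit 7, nat_lit 45, nat_lit 26] 3 1)))) (.node (nat_lit 2) (.node (nat_lit 1) (.leaf (Rule.fwd [nat_lit 102, nat_lit 45, nat_lit 26, nat_lit 102, nat_lit 45] 9 1)) (.leaf (Rule.fwd [nat_lit 45, nat_lit 83, nat_lit 7, nat_lit 7, nat_lit 64] 2 3))) (.node (nat_lit 1) (.leaf (Rule.fwd [nat_lit 45, nat_lit 26, nat_lit 64, nat_lit 102, nat_lit 45, nat_lit 83] 13 3)) (.leaf (Rule.fwd [nat_lit 64, nat_lit 102, nat_lit 45, nat_lit 83, nat_lit 26, nat_lit 45] 13 1))))) (.node (nat_lit 2) (.node (nat_lit 1) (.leaf (Rule.fwd [nat_lit 26, nat_lit 83, nat_lit 64, nat_lit 7, nat_lit 45] 3 2)) (.leaf (Rule.fwd [nat_lit 64, nat_lit 7, nat_lit 7, nat_lit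 64, nat_lit 102, nat_lit 64] 5 5))) (.node (nat_lit 1) (.leaf (Rule.fwd [nat_lit 102, nat_lit 26, nat_lit 102, nat_lit 26, nat_lit 102] 11 1)) (.leaf (Rule.fwd [nat_lit 26, nat_lit 45, nat_lit 7, nat_lit 45, nat_lit 102, nat_lit 45] 4 1))))), (.node (nat_lit 1) (.leaf XRule.defn) (.leaf XRule.defn))⟩
noncomputable def ci45 : CI := ⟨[2], (nat_lit 64), false, (.node (nat_lit 8) (.node (nat_lit 4) (.node (nat_lit 2) (.node (nat_lit 1) (.leaf Rule.defn) (.leaf Rule.copy)) (.node (nat_lit 1) (.leaf (Rule.fwd [nat_lit 64] 14 0)) (.leaf (Rule.fwd [nat_lit 83, nat_lit 7, nat_lit 7, nat_lit 64, nat_lit 26] 2 4)))) (.node (nat_lit 2) (.node (nat_lit 1) (.leaf (Rule.fwd [nat_lit 26, nat_lit 26, nat_lit 45, nat_lit 7, nat_lit 45, nat_lit 102] 4 0)) (.leaf (Rule.fwd [nat_lit 45, nat_lit 45] 6 0))) (.node (nat_lit 1) (.leaf (Rule.fwd [nat_lit 7, nat_lit 45, nat_lit 102, nat_lit 45, nat_lit 26, nat_lit 26] 4 3))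 (.leaf (Rule.fwd [nat_lit 26, nat_lit 102, nat_lit 45, nat_lit 26, nat_lit 102] 9 2))))) (.node (nat_lit 2) (.node (nat_lit 1) (.leaf (Rule.fwd [nat_lit 26, nat_lit 26, nat_lit 83, nat_lit 64, nat_lit 7] 3 3)) (.leaf (Rule.fwd [nat_lit 102, nat_lit 45, nat_lit 26, nat_lit 26, nat_lit 45, nat_lit 7] 4 5))) (.node (nat_lit 1) (.leaf (Rule.fwd [nat_lit 7, nat_lit 64, nat_lit 7, nat_lit 83, nat_lit 64, nat_lit 102] 12 6)) (.leaf (Rule.fwd [nat_lit 83, nat_lit 26, nat_lit 45, nat_lit 26, nat_lit 64, nat_lit 102] 13 5))))), (.node (nat_lit 1) (.leaf XRule.defn) (.leaf XRule.defn))⟩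
noncomputable def ci64 : CI := ⟨[3], (nat_lit 45), false, (.node (nat_lit 8) (.node (nat_lit 4) (.node (nat_lit 2) (.node (nat_lit 1) (.leaf Rule.defn) (.leaf Rule.copy)) (.node (nat_lit 1) (.leaf (Rule.fwd [nat_lit 45] 14 0)) (.leaf (Rule.fwd [nat_lit 26, nat_lit 45, nat_lit 83, nat_lit 7, nat_lit 7] 2 2)))) (.node (nat_lit 2) (.node (nat_lit 1) (.leaf (Rule.fwd [nat_lit 26, nat_lit 64, nat_lit 7, nat_lit 7, nat_lit 64, nat_lit 102] 5 6)) (.leaf (Rule.fwd [nat_lit 7, nat_lit 45, nat_lit 26, nat_lit 26, nat_lit 83] 3 5))) (.node (nat_lit 1) (.leaf (Rule.fwd [nat_lit 102, nat_lit 45, nat_lit 83, nat_lit 26, nat_lit 45, nat_lit 26] 13 0)) (.leaf (Rule.fwd [nat_lit 102, nat_lit 7, nat_lit 64, nat_lit 102, nat_lit 7] 8 1))))) (.node (nat_lit 2) (.node (nat_lit 1) (.leaf (Rule.fwd [nat_lit 7, nat_lit 7, nat_lit 64, nat_lit 102, nat_lit 64, nat_lit 26] 5 4)) (.leaf (Rule.fwd [nat_lit 102, nat_lit 45, nat_lit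 7, nat_lit 64, nat_lit 7, nat_lit 83] 12 4))) (.node (nat_lit 1) (.leaf (Rule.fwd [nat_lit 102, nat_lit 64, nat_lit 26, nat_lit 64, nat_lit 7, nat_lit 7] 5 1)) (.leaf (Rule.fwd [nat_lit 64, nat_lit 64] 7 0))))), (.node (nat_lit 1) (.leaf XRule.defn) (.leaf XRule.defn))⟩
noncomputable def ci83 : CI := ⟨[4], (nat_lit 83), true, (.node (nat_lit 4) (.node (nat_lit 2) (.node (nat_lit 1) (.leaf Rule.defn) (.leaf Rule.copy)) (.node (nat_lit 1) (.leaf (Rule.fwd [nat_lit 83] 14 0)) (.leaf (Rule.fwd [nat_lit 26, nat_lit 45, nat_lit 26, nat_lit 64, nat_lit 102, nat_lit 45] 13 4)))) (.node (nat_lit 2) (.node (nat_lit 1) (.leaf (Rule.fwd [nat_lit 64, nat_lit 102, nat_lit 45, nat_lit 7, nat_lit 64, nat_lit 7] 12 3)) (.leaf (Rule.fwd [nat_lit 102, nat_lit 83, nat_lit 102] 0 0))) (.node (nat_lit 1) (.leaf (Rule.fwd [nat_lit 7, nat_lit 7, nat_lit 64, nat_lit 26, nat_lit 45] 2 5)) (.leaf (Rule.fwd [nat_lit 64, nat_lit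 7, nat_lit 45, nat_lit 26, nat_lit 26] 3 0))))), (.node (nat_lit 1) (.leaf XRule.defn) (.leaf XRule.ax))⟩
noncomputable def ci102 : CI := ⟨[5], (nat_lit 102), true, (.node (nat_lit 8) (.node (nat_lit 4) (.node (nat_lit 2) (.node (nat_lit 1) (.leaf Rule.defn) (.leaf Rule.copy)) (.node (nat_lit 1) (.leaf (Rule.fwd [nat_lit 102] 14 0)) (.leaf (Rule.fwd [nat_lit 7, nat_lit 64, nat_lit 102, nat_lit 7, nat_lit 64] 8 2)))) (.node (nat_lit 2) (.node (nat_lit 1) (.leaf (Rule.fwd [nat_lit 64, nat_lit 26, nat_lit 64, nat_lit 7, nat_lit 7, nat_lit 64] 5 0)) (.leaf (Rule.fwd [nat_lit 45, nat_lit 7, nat_lit 64, nat_lit 7, nat_lit 83, nat_lit 64] 12 5))) (.node (nat_lit 1) (.leaf (Rule.fwd [nat_lit 45, nat_lit 26, nat_lit 102, nat_lit 45, nat_lit 26] 9 0)) (.leaf (Rule.fwd [nat_lit 26, nat_lit 102, nat_lit 26, nat_lit 102, nat_lit 26] 11 0))))) (.node (nat_lit 2) (.node (nat_lit 1) (.leaf (Rule.fwd [nat_lit 45,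 nat_lit 26, nat_lit 26, nat_lit 45, nat_lit 7, nat_lit 45] 4 6)) (.leaf (Rule.fwd [nat_lit 45, nat_lit 83, nat_lit 26, nat_lit 45, nat_lit 26, nat_lit 64] 13 6))) (.node (nat_lit 1) (.leaf (Rule.fwd [nat_lit 7, nat_lit 102, nat_lit 7, nat_lit 102, nat_lit 7] 10 1)) (.leaf (Rule.fwd [nat_lit 83, nat_lit 102, nat_lit 83] 0 1))))), (.node (nat_lit 1) (.leaf XRule.defn) (.leaf XRule.ax))⟩
noncomputable def outer : Tr CI := (.node (nat_lit 1) (.node (nat_lit 2) (.node (nat_lit 64) (.leaf ci0) (.leaf ci64)) (.node (nat_lit 4) (.leaf ci26) (.leaf ci102))) (.node (nat_lit 2) (.leaf ci45) (.node (nat_lit 4) (.leaf ci83) (.leaf ci7))))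
def cols : List ℕ := [nat_lit 7, nat_lit 26, nat_lit 45, nat_lit 64, nat_lit 83, nat_lit 102]
def invL : List ℕ := [1, 0, 3, 2, 4, 5]
def rels : List (List ℕ) := [[4, 5, 4, 5], [0, 0, 3, 1, 2, 4], [2, 1, 1, 2, 0, 2, 5], [2, 2, 2], [0, 3, 5, 0, 3, 5], [0, 5, 0, 5, 0, 5], [0, 3, 0, 4, 3, 5, 2]]
def subs : List (List ℕ) := [[4], [5]]
noncomputable def row (n : ℕ) : ℕ := rowOf (fun h => rows.get h) (nat_lit 5) (nat_lit 31) (nat_lit 121) (nat_lit 0x1ffffffffffffffffffffffffffffff) n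
noncomputable def xleaf (h : ℕ) : ℕ := recs.get h
noncomputable def mF : ℕ → ℕ := mainRow row (rowChk row xleaf outer (nat_lit 8) (nat_lit 255) (nat_lit 15) (nat_lit 12) (nat_lit 4095) (nat_lit 524287) (nat_lit 128) (nat_lit 96) (nat_lit 256) (nat_lit 7) (nat_lit 127) (nat_lit 15) (nat_lit 32767) (nat_lit 8) (nat_lit 255) cols)
noncomputable def xF : ℕ → ℕ → ℕ := xLeaf row xleaf outer (nat_lit 255) (nat_lit 12) (nat_lit 524287) (nat_lit 128) (nat_lit 96) (nat_lit 7) (nat_lit 127) (nat_lit 15) (nat_lit 32767) (nat_lit 32640) (nat_lit 8) (nat_lit 255) (nat_lit 10) (nat_lit 1023) (nat_lit 2) (nat_lit 3) (nat_lit 102) (nat_lit 12288) (nat_lit 128)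
noncomputable def cert : Cert := ⟨row, xleaf, outer, cols, nat_lit 8, nat_lit 255, nat_lit 15, nat_lit 12, nat_lit 4095, nat_lit 524287, nat_lit 128, nat_lit 96, nat_lit 256, nat_lit 7, nat_lit 127, nat_lit 15, nat_lit 32767, nat_lit 32640, nat_lit 8, nat_lit 255, nat_lit 10, nat_lit 1023, nat_lit 2, nat_lit 3, nat_lit 102, nat_lit 12288, nat_lit 128, nat_lit 19, nat_lit 128, nat_lit 1⟩
theorem tabok : tabOK (fun i => invL.getD i i) rels subs outer cols (nat_lit 7) (nat_lit 102) = true := by decide +kernel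
theorem m0 : rng mF (nat_lit 1) (nat_lit 96) = 0 := by decide +kernel
noncomputable def s0 : List ℕ := [nat_lit 0x401000000000000000000000000000000000000000000000000000000000000000000000000000000000000000000000000000000000000000000000000000000000000000000000000000000000000000000000000000000000000000000000000000000000000000000000000000000000000000000000000000000000000000000000000000000000000000000000000000000000000000000000000000]
theorem x0 : xs xF s0 (nat_lit 1) = 0 := by decide +kernel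
theorem mz0 : AllZ mF 1 (nat_lit 97) := (AllZ.step (AllZ.nil mF 1) (nat_lit 96) (nat_lit 97) rfl m0)
theorem xz0 : XZ xF (nat_lit 1) := (XZ.step (XZ.nil xF) s0 (nat_lit 1) (nat_lit 1) (by decide +kernel) x0)
/-- the certificate (96 points) is valid -/
theorem valid : cert.Valid (fun i => invL.getD i i) rels subs 6 :=
  ⟨by decide +kernel, tabok, by decide +kernel, mz0, xz0⟩
theorem cert_N : cert.N = 96 := rfl

end CL.TC.GJ2L2
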