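/-
Tables and a stabiliser chain for M12 on 24 points (generated by tools/pc/gm.py).
-/
import Cfsg.Agent.Known.PcGen

set_option autoImplicit false
set_option maxRecDepth 100000
set_option linter.all false

namespace CL.Pc.GM12
open Cfsg CL.Spor

noncomputable def T1 : ℕ := 0xacd6fa0e2172989bda022c8ed32080
noncomputable def T2 : ℕ := 0x5aaf3b1a29a3c8dab98228ce192200
noncomputable def T3 : ℕ := 0xaced438166538448942d7b2e344249
noncomputable def T4 : ℕ := 0x2d6f4b05623b9068bc039c14c23532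
noncomputable def T5 : ℕ := 0xacd6fa0e2172989bda022c8ed32080
noncomputable def T6 : ℕ := 0x5aaf3b1a29a3c8dab98228ce192200
noncomputable def T7 : ℕ := 0x3dd558a1697d2062cc82736c160e40
noncomputable def T8 : ℕ := 0xb168e5066d79cc38d612bb16912080
noncomputable def T9 : ℕ := 0x5d2ee79a2455930acc2838cac909a0
noncomputable def T10 : ℕ := 0xab97650e2c9d024bbda83c8b030920
noncomputable def T11 : ℕ := 0x7aa3439a64759a1adc695c0a264900
noncomputable def T12 : ℕ := 0x5397488aa6bbda33d9019c8b049180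
noncomputable def T13 : ℕ := 0x3de6f72169ad066b29ac890b214020
noncomputable def T14 : ℕ := 0xb2deea90e2a4d288aa12bb0a668c20
noncomputable def T15 : ℕ := 0xb46af9a6e37510d51c4c5c0a434820
noncomputable def T16 : ℕ := 0x8deae98ac6a3d883ae4d50ca482420
noncomputable def T17 : ℕ := 0xb5dd4799509d4895c5833c8ad40820
noncomputable def T18 : ℕ := 0xbae957b6289ba44b1cd0524ac18820
noncomputable def ivT : ℕ := 0x4a2f835cb62547414c320440
noncomputable def a1pT : ℕ := 0x66345a318
noncomputable def a1xT : ℕ := 0x10700a6002903084b50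
noncomputable def a1yT : ℕ := 0x135048302332640
noncomputable def a2pT : ℕ := 0x856575878750
noncomputable def a2xT : ℕ := 0x70a5002800100436b9
noncomputable def a2yT : ℕ := 0xa3e6a8d5d7b2ce5
noncomputable def a3pT : ℕ := 0xca9a9ccba90
noncomputable def a3xT : ℕ := 0x70023001408065a09
noncomputable def a3yT : ℕ := 0xa468106863521
noncomputable def a4pT : ℕ := 0x1ee6c1b07b9a0
noncomputable def a4xT : ℕ := 0x20059003806071040
noncomputable def a4yT : ℕ := 0x188219b24c062
noncomputable def a5pT : ℕ := 0x23194a20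
noncomputable def a5xT : ℕ := 0x23140280
noncomputable def a5yT : ℕ := 0xc9931a4
noncomputable def sel (c : ℕ) : ℕ := (cond (Nat.ble c 9) (cond (Nat.ble c 5) (cond (Nat.ble c 3) (cond (Nat.ble c 2) (cond (Nat.ble c 1) T1 T2) T3) (cond (Nat.ble c 4) T4 T5)) (cond (Nat.ble c 7) (cond (Nat.ble c 6) T6 T7) (cond (Nat.ble c 8) T8 T9))) (cond (Nat.ble c 14) (cond (Nat.ble c 12) (cond (Nat.ble c 11) (cond (Nat.ble c 10) T10 T11) T12) (cond (Nat.ble c 13) T13 T14)) (cond (Nat.ble c 16) (cond (Nat.ble c 15) T15 T16) (cond (Nat.ble c 17) T17 T18))))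
/-- The tables. -/
noncomputable def A (c i : ℕ) : ℕ := forceN c fun c => tget 5 0x1f (sel c) i
def df0 : List (ℕ × ℕ × ℕ) := [(2, 1, 1), (4, 3, 1), (5, 1, 0), (6, 5, 1), (7, 0x4082104, 0), (8, 7, 1), (9, 0x145, 0), (10, 9, 1), (11, 0x1471c7, 0), (12, 0xb, 1), (13, 0xc30a, 0), (14, 0xd, 1), (15, 0xc24b, 0), (16, 0xf, 1), (17, 0xe40e, 0), (18, 0xf34d, 0)]
def df : List (ℕ × ℕ × ℕ) := (df0 ++ [])
noncomputable def iv (i : ℕ) : ℕ := tget 5 0x1f ivT i
noncomputable def a1p (i : ℕ) : ℕ := tget 3 7 a1pT i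
noncomputable def a1x (i : ℕ) : ℕ := tget 4 0xf a1xT i
noncomputable def a1y (i : ℕ) : ℕ := tget 5 0x1f a1yT i
noncomputable def a1 : Lev := ⟨0, 0, 12, a1y, fun i => forceN (Nat.mod i 19) a1x, a1p, fun _ => 0⟩
noncomputable def a2p (i : ℕ) : ℕ := tget 4 0xf a2pT i
noncomputable def a2x (i : ℕ) : ℕ := tget 4 0xf a2xT i
noncomputable def a2y (i : ℕ) : ℕ := tget 5 0x1f a2yT i
noncomputable def a2 : Lev := ⟨5, 4, 12, a2y, fun i => forceN (Nat.mod i 19) a2x, a2p, fun _ => 0⟩
noncomputable def a3p (i : ℕ) : ℕ := tget 4 0xf a3pT i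
noncomputable def a3x (i : ℕ) : ℕ := tget 4 0xf a3xT i
noncomputable def a3y (i : ℕ) : ℕ := tget 5 0x1f a3yT i
noncomputable def a3 : Lev := ⟨1, 8, 11, a3y, fun i => forceN (Nat.mod i 18) a3x, a3p, fun _ => 0⟩
noncomputable def a4p (i : ℕ) : ℕ := tget 5 0x1f a4pT i
noncomputable def a4x (i : ℕ) : ℕ := tget 4 0xf a4xT i
noncomputable def a4y (i : ℕ) : ℕ := tget 5 0x1f a4yT i
noncomputable def a4 : Lev := ⟨2, 12, 10, a4y, fun i => forceN (Nat.mod i 17) a4x, a4p, fun _ => 0⟩
noncomputable def a5p (i : ℕ) : ℕ := tget 5 0x1f a5pT i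
noncomputable def a5x (i : ℕ) : ℕ := tget 3 7 a5xT i
noncomputable def a5y (i : ℕ) : ℕ := tget 5 0x1f a5yT i
noncomputable def a5 : Lev := ⟨4, 16, 6, a5y, fun i => forceN (Nat.mod i 10) a5x, a5p, fun _ => 0⟩
noncomputable def ach : List Lev := [a1, a2, a3, a4, a5]
noncomputable def als : List (Lev × ℕ) := [(a2, 0), (a3, 0), (a4, 0), (a5, 0)]
theorem df0_0 : allR (defsChk A 24 6 df0) 0 24 = true := by decide +kernel
theorem a1_fix : fixChk (A) 18 24 [] a1 = true := by decide +kernel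
theorem a1_pt_0 : allR (ptChk (A) 18 24 4 a1) 0 12 = true := by decide +kernel
theorem a2_fix : fixChk (A) 18 24 [0] a2 = true := by decide +kernel
theorem a2_pt_0 : allR (ptChk (A) 18 24 4 a2) 0 12 = true := by decide +kernel
theorem a3_fix : fixChk (A) 18 24 [5, 0] a3 = true := by decide +kernel
theorem a3_pt_0 : allR (ptChk (A) 18 24 4 a3) 0 11 = true := by decide +kernel
theorem a4_fix : fixChk (A) 18 24 [1, 5, 0] a4 = true := by decide +kernel
theorem a4_pt_0 : allR (ptChk (A) 18 24 4 a4) 0 10 = true := by decide +kernel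
theorem a5_fix : fixChk (A) 18 24 [2, 1, 5, 0] a5 = true := by decide +kernel
theorem a5_pt_0 : allR (ptChk (A) 18 24 4 a5) 0 6 = true := by decide +kernel
theorem df_ok : ∀ d ∈ df, ∀ i, 0 ≤ i → i < 24 → defChk2 A 24 6 d i = true :=
  defs_app (allR_step df0_0 (allR_end (by decide))) (fun _ h => nomatch h)
theorem ach_ok : ChainOk (A) 18 24 4 ach [] :=
  ChainOk.cons a1_fix (allR_step a1_pt_0 (allR_end (by decide))) (ChainOk.cons a2_fix (allR_step a2_pt_0 (allR_end (by decide))) (ChainOk.cons a3_fix (allR_step a3_pt_0 (allR_end (by decide))) (ChainOk.cons a4_fix (allR_step a4_pt_0 (allR_end (by decide))) (ChainOk.cons a5_fix (allR_step a5_pt_0 (allR_end (by decide))) (trivial)))))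
universe u
variable {G : Type u} {X : Type*} [Group G] [MulAction G X] {pt : ℕ → X} {x : ℕ → G}
/-- The input: an action with the tables of the letters [1, 3]. -/
abbrev Inp (G : Type u) {X : Type*} [Group G] [MulAction G X] (pt : ℕ → X) : Prop := Input G pt 24 A 10 95040
abbrev Ful (pt : ℕ → X) (x : ℕ → G) : Prop := Full pt 24 A 10 95040 18 18 4 ach [0, 5, 1, 2, 4] x
theorem full (I : Inp G pt) : ∃ x : ℕ → G, Ful pt x := I.full df_ok ach_ok (by decide +kernel)

end CL.Pc.GM12
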