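import Cfsg.Agent.Spor.TCSound

/-! coset enumeration certificate generated by tools/tc -/

set_option maxRecDepth 100000
set_option autoImplicit false
set_option linter.all false

namespace CL.TC.GM12L1

noncomputable def rows0 : Tr ℕ := (.leaf (nat_lit 0xfe205c500f8184ee404e080bd981f9a01e7304e6607ce0277182f4308e0613c980f72826d805e0813c0c0e99a502f9b05ff102ec807d0c27738274307f6807d142f9a85ec30ae4813b1c2b598572308d2e09a8c2b5a0549b628276309eaa11b8c17b981ee805dea0dfc40b61856d90ad6c07b602f6305eb30be8613a9c235185eb40b63ed409ea815b8c138b066f308eae17fc40b5b02f230cf2607c4c2f7302f0303e2a19bd01fab0570403de618dadc607d941f6182f430aee605c1c27a98476508ee80dfc40baa066c704d460ff141749857350bc860fe8c1543b8c17aa0472307e6a0fd4c33d181ea604eac17b90137282ff102e0c0dad81b5c0467605dc6139d41b2a8423b62036e306d860db641b71836f906dc80bb8c2bc18176508de60ff0c0fc2826a307fe205d900fb18266307216f507da805bd82b6c046f50adf019a8c2769836f607f6c09b4c277a867b308fa805b0c333183fb408fe20409d6615a541369866f709da617aa00b430669307f460bb541f59846d702fa805dcc1b4185ed30cfe205dd01839bd02392867530bee605e4c1fc2857a30be4619e0c27a3867d506d4615c4c338b84f5306fe203c503379848bff1866e305f0807f8c2f5b0278408fc615f8c27f18479406d8609f8c1fe182fc304fe203f8c1bf182fe3042178201f2403e4c07d100fa301f6403ecc07e100fc301fa403f4c07f100fe301fe403f8c0ff1817e401fa60200))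
noncomputable def recs0 : Tr ℕ := (.leaf (nat_lit 0x1a600d3006720339019300c4c060002ed016d00b1c056802a10147009ec04d00255))
noncomputable def rows : Tr ℕ := rows0
noncomputable def recs : Tr ℕ := recs0
noncomputable def ci0 : CI := ⟨[], (nat_lit 0), false, (.node (nat_lit 1) (.leaf Rule.defn) (.leaf Rule.copy)), (.leaf (XRule.rot (nat_lit 0) [] 46 0))⟩
noncomputable def ci9 : CI := ⟨[0], (nat_lit 28), false, (.node (nat_lit 4) (.node (nat_lit 2) (.node (nat_lit 1) (.leaf Rule.defn) (.leaf Rule.copy)) (.node (nat_lit 1) (.leaf (Rule.fwd [nat_lit 28] 46 0)) (.leaf (Rule.fwd [nat_lit 104] 32 0)))) (.leaf (Rule.fwd [nat_lit 9, nat_lit 47, nat_lit 47, nat_lit 123, nat_lit 47] 35 4))), (.node (nat_lit 1) (.leaf XRule.defn) (.leaf XRule.defn))⟩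
noncomputable def ci28 : CI := ⟨[1], (nat_lit 9), false, (.node (nat_lit 4) (.node (nat_lit 2) (.node (nat_lit 1) (.leaf Rule.defn) (.leaf Rule.copy)) (.node (nat_lit 1) (.leaf (Rule.fwd [nat_lit 9] 46 0)) (.leaf (Rule.fwd [nat_lit 85] 33 1)))) (.leaf (Rule.fwd [nat_lit 28, nat_lit 66, nat_lit 142, nat_lit 66, nat_lit 66] 34 2))), (.node (nat_lit 1) (.leaf XRule.defn) (.leaf XRule.defn))⟩
noncomputable def ci47 : CI := ⟨[2], (nat_lit 66), false, (.node (nat_lit 4) (.node (nat_lit 2) (.node (nat_lit 1) (.leaf Rule.defn) (.leaf Rule.copy)) (.node (nat_lit 1) (.leaf (Rule.fwd [nat_lit 66] 46 0)) (.leaf (Rule.fwd [nat_lit 47, nat_lit 123, nat_lit 47, nat_lit 9, nat_lit 9] 35 2)))) (.node (nat_lit 2) (.node (nat_lit 1) (.leaf (Rule.fwd [nat_lit 294, nat_lit 47, nat_lit 123, nat_lit 161, nat_lit 237, nat_lit 313] 38 0)) (.leaf (Rule.fwd [nat_lit 199, nat_lit 161, nat_lit 47, nat_lit 275, nat_lit 199] 37 4))) (.node (nat_lit 1)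 (.leaf (Rule.fwd [nat_lit 180, nat_lit 256, nat_lit 66, nat_lit 313, nat_lit 256, nat_lit 123, nat_lit 85] 45 4)) (.leaf (Rule.fwd [nat_lit 123, nat_lit 237, nat_lit 47, nat_lit 123, nat_lit 237] 42 0))))), (.node (nat_lit 1) (.leaf XRule.defn) (.leaf XRule.defn))⟩
noncomputable def ci66 : CI := ⟨[3], (nat_lit 47), false, (.node (nat_lit 4) (.node (nat_lit 2) (.node (nat_lit 1) (.leaf Rule.defn) (.leaf Rule.copy)) (.node (nat_lit 1) (.leaf (Rule.fwd [nat_lit 47] 46 0)) (.leaf (Rule.fwd [nat_lit 142, nat_lit 66, nat_lit 66, nat_lit 28, nat_lit 28] 34 4)))) (.node (nat_lit 1) (.leaf (Rule.fwd [nat_lit 275, nat_lit 66, nat_lit 313, nat_lit 256, nat_lit 180, nat_lit 142] 39 3)) (.leaf (Rule.fwd [nat_lit 180, nat_lit 218, nat_lit 66, nat_lit 218, nat_lit 294] 36 0)))), (.node (nat_lit 1) (.leaf XRule.defn) (.leaf XRule.defn))⟩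
noncomputable def ci85 : CI := ⟨[4], (nat_lit 104), true, (.node (nat_lit 4) (.node (nat_lit 2) (.node (nat_lit 1) (.leaf Rule.defn) (.leaf Rule.copy)) (.node (nat_lit 1) (.leaf (Rule.fwd [nat_lit 104] 46 0)) (.leaf (Rule.fwd [nat_lit 28] 33 0)))) (.node (nat_lit 2) (.node (nat_lit 1) (.leaf (Rule.fwd [nat_lit 85, nat_lit 180] 18 0)) (.leaf (Rule.fwd [nat_lit 275, nat_lit 123, nat_lit 275, nat_lit 256] 24 0))) (.node (nat_lit 1) (.leaf (Rule.fwd [nat_lit 180, nat_lit 85] 18 1)) (.leaf (Rule.fwd [nat_lit 123, nat_lit 85, nat_lit 294, nat_lit 237, nat_lit 142] 26 0))))), (.node (nat_lit 1) (.leaf XRule.defn) (.leaf XRule.ax))⟩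
noncomputable def ci104 : CI := ⟨[5], (nat_lit 85), true, (.node (nat_lit 4) (.node (nat_lit 2) (.node (nat_lit 1) (.leaf Rule.defn) (.leaf Rule.copy)) (.node (nat_lit 1) (.leaf (Rule.fwd [nat_lit 85] 46 0)) (.leaf (Rule.fwd [nat_lit 9] 32 1)))) (.node (nat_lit 2) (.node (nat_lit 1) (.leaf (Rule.fwd [nat_lit 104, nat_lit 161] 19 2)) (.leaf (Rule.fwd [nat_lit 237, nat_lit 294, nat_lit 142, nat_lit 294] 25 1))) (.leaf (Rule.fwd [nat_lit 275, nat_lit 85, nat_lit 313, nat_lit 256, nat_lit 123] 31 1)))), (.node (nat_lit 1) (.leaf XRule.defn) (.leaf XRule.ax))⟩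
noncomputable def ci123 : CI := ⟨[6], (nat_lit 142), true, (.node (nat_lit 4) (.node (nat_lit 2) (.node (nat_lit 1) (.leaf Rule.defn) (.leaf Rule.copy)) (.node (nat_lit 1) (.leaf (Rule.fwd [nat_lit 142] 46 0)) (.leaf (Rule.fwd [nat_lit 161, nat_lit 237, nat_lit 313, nat_lit 47, nat_lit 294, nat_lit 47] 38 3)))) (.node (nat_lit 2) (.node (nat_lit 1) (.leaf (Rule.fwd [nat_lit 104, nat_lit 275, nat_lit 85, nat_lit 313, nat_lit 256] 31 2)) (.leaf (Rule.fwd [nat_lit 123, nat_lit 85, nat_lit 218, nat_lit 123] 20 1))) (.node (nat_lit 1) (.leaf (Rule.fwd [nat_lit 275, nat_lit 256, nat_lit 85, nat_lit 275] 24 2)) (.leaf (Rule.fwd [nat_lit 256, nat_lit 123, nat_lit 256] 22 0))))), (.node (nat_lit 1) (.leaf XRule.defn) (.leaf XRule.ax))⟩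
noncomputable def ci142 : CI := ⟨[7], (nat_lit 123), true, (.node (nat_lit 4) (.node (nat_lit 2) (.node (nat_lit 1) (.leaf Rule.defn) (.leaf Rule.copy)) (.node (nat_lit 1) (.leaf (Rule.fwd [nat_lit 123] 46 0)) (.leaf (Rule.fwd [nat_lit 237, nat_lit 142, nat_lit 237] 23 1)))) (.node (nat_lit 1) (.leaf (Rule.fwd [nat_lit 66, nat_lit 66, nat_lit 28, nat_lit 28, nat_lit 66] 34 5)) (.leaf (Rule.fwd [nat_lit 66, nat_lit 275, nat_lit 66, nat_lit 313, nat_lit 256, nat_lit 180] 39 4)))), (.node (nat_lit 1) (.leaf XRule.defn) (.leaf XRule.ax))⟩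
noncomputable def ci161 : CI := ⟨[8], (nat_lit 180), true, (.node (nat_lit 8) (.node (nat_lit 4) (.node (nat_lit 2) (.node (nat_lit 1) (.leaf Rule.defn) (.leaf Rule.copy)) (.node (nat_lit 1) (.leaf (Rule.fwd [nat_lit 47, nat_lit 275, nat_lit 199, nat_lit 47, nat_lit 199] 37 2)) (.leaf (Rule.fwd [nat_lit 66, nat_lit 66, nat_lit 123, nat_lit 218, nat_lit 161, nat_lit 275, nat_lit 47] 40 1)))) (.node (nat_lit 2) (.node (nat_lit 1) (.leaf (Rule.fwd [nat_lit 180] 46 0)) (.leaf (Rule.fwd [nat_lit 104, nat_lit 104] 19 0))) (.node (nat_lit 1) (.leaf (Rule.fwd [nat_lit 237, nat_lit 199, nat_lit 199] 11 1)) (.leaf (Rule.fwd [nat_lit 161, nat_lit 161] 28 0))))) (.leaf (Rule.fwd [nat_lit 66, nat_lit 104, nat_lit 142, nat_lit 237, nat_lit 313, nat_lit 47, nat_lit 237] 44 2))), (.node (nat_lit 1) (.leaf XRule.defn) (.leaf XRule.ax))⟩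
noncomputable def ci180 : CI := ⟨[9], (nat_lit 161), true, (.node (nat_lit 4) (.node (nat_lit 2) (.node (nat_lit 1) (.leaf Rule.defn) (.leaf Rule.copy)) (.node (nat_lit 1) (.leaf (Rule.fwd [nat_lit 161] 46 0)) (.leaf (Rule.fwd [nat_lit 180, nat_lit 180] 29 0)))) (.node (nat_lit 1) (.leaf (Rule.fwd [nat_lit 199, nat_lit 142, nat_lit 47, nat_lit 47, nat_lit 180, nat_lit 66, nat_lit 294] 41 7)) (.leaf (Rule.fwd [nat_lit 256, nat_lit 180, nat_lit 199, nat_lit 256] 17 3)))), (.node (nat_lit 1) (.leaf XRule.defn) (.leaf XRule.ax))⟩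
noncomputable def ci199 : CI := ⟨[10], (nat_lit 218), true, (.node (nat_lit 4) (.node (nat_lit 2) (.node (nat_lit 1) (.leaf Rule.defn) (.leaf Rule.copy)) (.node (nat_lit 1) (.leaf (Rule.fwd [nat_lit 218] 46 0)) (.leaf (Rule.fwd [nat_lit 47, nat_lit 199, nat_lit 161, nat_lit 47, nat_lit 275] 37 5)))) (.node (nat_lit 1) (.leaf (Rule.fwd [nat_lit 256, nat_lit 180, nat_lit 256, nat_lit 180] 17 0)) (.leaf (Rule.fwd [nat_lit 294, nat_lit 180, nat_lit 313] 15 3)))), (.node (nat_lit 1) (.leaf XRule.defn) (.leaf XRule.ax))⟩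
noncomputable def ci218 : CI := ⟨[11], (nat_lit 199), true, (.node (nat_lit 4) (.node (nat_lit 2) (.node (nat_lit 1) (.leaf Rule.defn) (.leaf Rule.copy)) (.node (nat_lit 1) (.leaf (Rule.fwd [nat_lit 199] 46 0)) (.leaf (Rule.fwd [nat_lit 294, nat_lit 199, nat_lit 161] 12 2)))) (.node (nat_lit 1) (.leaf (Rule.fwd [nat_lit 161, nat_lit 237, nat_lit 161, nat_lit 237] 16 4)) (.leaf (Rule.fwd [nat_lit 275, nat_lit 199, nat_lit 180] 13 1)))), (.node (nat_lit 1) (.leaf XRule.defn) (.leaf XRule.ax))⟩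
noncomputable def ci237 : CI := ⟨[12], (nat_lit 256), true, (.node (nat_lit 8) (.node (nat_lit 4) (.node (nat_lit 2) (.node (nat_lit 1) (.leaf Rule.defn) (.leaf Rule.copy)) (.node (nat_lit 1) (.leaf (Rule.fwd [nat_lit 47, nat_lit 123, nat_lit 237, nat_lit 47, nat_lit 123] 42 2)) (.leaf (Rule.fwd [nat_lit 161, nat_lit 66, nat_lit 104, nat_lit 142, nat_lit 237, nat_lit 313, nat_lit 47] 44 1)))) (.node (nat_lit 2) (.node (nat_lit 1) (.leaf (Rule.fwd [nat_lit 199, nat_lit 199, nat_lit 161] 11 0)) (.leaf (Rule.fwd [nat_lit 237, nat_lit 275, nat_lit 332] 4 0))) (.node (nat_lit 1) (.leaf (Rule.fwd [nat_lit 275, nat_lit 237, nat_lit 313] 3 3)) (.leaf (Rule.fwd [nat_lit 256] 46 0))))) (.leaf (Rule.fwd [nat_lit 161, nat_lit 237, nat_lit 218, nat_lit 161] 16 1))), (.node (nat_lit 1) (.leaf XRule.defn) (.leaf XRule.ax))⟩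
noncomputable def ci256 : CI := ⟨[13], (nat_lit 237), true, (.node (nat_lit 4) (.node (nat_lit 2) (.node (nat_lit 1) (.leaf Rule.defn) (.leaf Rule.copy)) (.node (nat_lit 1) (.leaf (Rule.fwd [nat_lit 237] 46 0)) (.leaf (Rule.fwd [nat_lit 85, nat_lit 275, nat_lit 123, nat_lit 275] 24 4)))) (.node (nat_lit 1) (.leaf (Rule.fwd [nat_lit 256, nat_lit 256, nat_lit 256, nat_lit 256] 9 0)) (.leaf (Rule.fwd [nat_lit 180, nat_lit 256, nat_lit 180, nat_lit 199] 17 4)))), (.node (nat_lit 1) (.leaf XRule.defn) (.leaf XRule.ax))⟩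
noncomputable def ci275 : CI := ⟨[14], (nat_lit 294), true, (.node (nat_lit 8) (.node (nat_lit 4) (.node (nat_lit 2) (.node (nat_lit 1) (.leaf Rule.defn) (.leaf Rule.copy)) (.node (nat_lit 1) (.leaf (Rule.fwd [nat_lit 294] 46 0)) (.leaf (Rule.fwd [nat_lit 275, nat_lit 275] 6 0)))) (.node (nat_lit 2) (.node (nat_lit 1) (.leaf (Rule.fwd [nat_lit 199, nat_lit 180, nat_lit 218] 13 0)) (.leaf (Rule.fwd [nat_lit 218, nat_lit 313, nat_lit 161] 14 1))) (.node (nat_lit 1) (.leaf (Rule.fwd [nat_lit 85, nat_lit 313, nat_lit 256, nat_lit 123, nat_lit 104] 31 0)) (.leaf (Rule.fwd [nat_lit 256, nat_lit 85, nat_lit 275, nat_lit 123] 24 3))))) (.leaf (Rule.fwd [nat_lit 237, nat_lit 313, nat_lit 237] 3 2))), (.node (nat_lit 1) (.leaf XRule.defn) (.leaf XRule.ax))⟩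
noncomputable def ci294 : CI := ⟨[15], (nat_lit 275), true, (.node (nat_lit 4) (.node (nat_lit 2) (.node (nat_lit 1) (.leaf Rule.defn) (.leaf Rule.copy)) (.node (nat_lit 1) (.leaf (Rule.fwd [nat_lit 275] 46 0)) (.leaf (Rule.fwd [nat_lit 47, nat_lit 123, nat_lit 161, nat_lit 237, nat_lit 313, nat_lit 47] 38 1)))) (.node (nat_lit 1) (.leaf (Rule.fwd [nat_lit 199, nat_lit 161, nat_lit 218] 12 3)) (.leaf (Rule.fwd [nat_lit 256, nat_lit 313, nat_lit 256] 2 1)))), (.node (nat_lit 1) (.leaf XRule.defn) (.leaf XRule.ax))⟩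
noncomputable def ci313 : CI := ⟨[16], (nat_lit 313), true, (.node (nat_lit 4) (.node (nat_lit 2) (.node (nat_lit 1) (.leaf Rule.defn) (.leaf Rule.copy)) (.node (nat_lit 1) (.leaf (Rule.fwd [nat_lit 161, nat_lit 275, nat_lit 218] 14 3)) (.leaf (Rule.fwd [nat_lit 313] 46 0)))) (.node (nat_lit 1) (.leaf (Rule.fwd [nat_lit 237, nat_lit 275, nat_lit 237] 3 0)) (.leaf (Rule.fwd [nat_lit 199, nat_lit 294, nat_lit 180] 15 0)))), (.node (nat_lit 1) (.leaf XRule.defn) (.leaf XRule.ax))⟩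
noncomputable def ci332 : CI := ⟨[17], (nat_lit 332), true, (.node (nat_lit 4) (.node (nat_lit 2) (.node (nat_lit 1) (.leaf Rule.defn) (.leaf Rule.copy)) (.node (nat_lit 1) (.leaf (Rule.fwd [nat_lit 332] 46 0)) (.leaf (Rule.fwd [nat_lit 237, nat_lit 237, nat_lit 275] 4 3)))) (.leaf (Rule.fwd [nat_lit 294, nat_lit 256, nat_lit 256] 5 0))), (.node (nat_lit 1) (.leaf XRule.defn) (.leaf XRule.ax))⟩
noncomputable def outer : Tr CI := (.node (nat_lit 1) (.node (nat_lit 4) (.node (nat_lit 2) (.node (nat_lit 8) (.node (nat_lit 256) (.leaf ci0) (.leaf ci256)) (.leaf ci104)) (.node (nat_lit 8) (.leaf ci66) (.leaf ci218))) (.node (nat_lit 2) (.node (nat_lit 8) (.leaf ci180) (.node (nat_lit 16) (.leaf ci332) (.leaf ci28))) (.node (nat_lit 8) (.leaf ci294) (.leaf ci142)))) (.node (nat_lit 2) (.node (nat_lit 4) (.node (nat_lit 8) (.leaf ci161) (.node (nat_lit 16) (.leaf ci9) (.leaf ci313))) (.node (nat_lit 8) (.leaf ci85) (.leaf ci237)))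 (.node (nat_lit 4) (.node (nat_lit 8) (.leaf ci275) (.leaf ci123)) (.node (nat_lit 8) (.leaf ci199) (.leaf ci47)))))
def cols : List ℕ := [nat_lit 9, nat_lit 28, nat_lit 47, nat_lit 66, nat_lit 85, nat_lit 104, nat_lit 123, nat_lit 142, nat_lit 161, nat_lit 180, nat_lit 199, nat_lit 218, nat_lit 237, nat_lit 256, nat_lit 275, nat_lit 294, nat_lit 313, nat_lit 332]
def invL : List ℕ := [1, 0, 3, 2, 5, 4, 7, 6, 9, 8, 11, 10, 13, 12, 15, 14, 16, 17]
def rels : List (List ℕ) := [[16, 17, 16, 17, 16, 17], [13, 15, 13, 16], [12, 12, 14, 17], [14, 14, 14], [12, 12, 12, 12, 12], [9, 11, 11, 13], [10, 8, 11, 15], [8, 14, 11, 16], [8, 12, 8, 12, 11], [4, 4, 9], [6, 6, 6, 4, 11], [6, 13, 6, 13], [4, 14, 6, 14, 13], [4, 6, 4, 15, 12, 7], [8, 8, 8], [4, 7, 12, 16, 5, 15], [0, 5], [3, 3, 1, 1, 3, 7], [3, 9, 11, 3, 11, 15], [2, 15, 2, 6, 8, 12, 16], [2, 8, 3, 3, 6, 11, 8, 14], [2, 6, 12, 2, 6, 12], [2, 12, 8, 3, 5, 7, 12, 16]]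
def subs : List (List ℕ) := [[4], [5], [6], [7], [8], [9], [10], [11], [12], [13], [14], [15], [16], [17]]
noncomputable def row (n : ℕ) : ℕ := rowOf (fun h => rows.get h) (nat_lit 5) (nat_lit 31) (nat_lit 351) (nat_lit 0x7fffffffffffffffffffffffffffffffffffffffffffffffffffffffffffffffffffffffffffffffffffffff) n
noncomputable def xleaf (h : ℕ) : ℕ := recs.get h
noncomputable def mF : ℕ → ℕ := mainRow row (rowChk row xleaf outer (nat_lit 8) (nat_lit 255) (nat_lit 15) (nat_lit 12) (nat_lit 4095) (nat_lit 524287) (nat_lit 128) (nat_lit 12) (nat_lit 256) (nat_lit 9) (nat_lit 511) (nat_lit 17) (nat_lit 131071) (nat_lit 8) (nat_lit 255) cols)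
noncomputable def xF : ℕ → ℕ → ℕ := xLeaf row xleaf outer (nat_lit 255) (nat_lit 12) (nat_lit 524287) (nat_lit 128) (nat_lit 12) (nat_lit 9) (nat_lit 511) (nat_lit 17) (nat_lit 131071) (nat_lit 130560) (nat_lit 8) (nat_lit 255) (nat_lit 10) (nat_lit 1023) (nat_lit 2) (nat_lit 3) (nat_lit 332) (nat_lit 6144) (nat_lit 128)
noncomputable def cert : Cert := ⟨row, xleaf, outer, cols, nat_lit 8, nat_lit 255, nat_lit 15, nat_lit 12, nat_lit 4095, nat_lit 524287, nat_lit 128, nat_lit 12, nat_lit 256, nat_lit 9, nat_lit 511, nat_lit 17, nat_lit 131071, nat_lit 130560, nat_lit 8, nat_lit 255, nat_lit 10, nat_lit 1023, nat_lit 2, nat_lit 3, nat_lit 332, nat_lit 6144, nat_lit 128, nat_lit 19, nat_lit 128, nat_lit 1⟩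
theorem tabok : tabOK (fun i => invL.getD i i) rels subs outer cols (nat_lit 9) (nat_lit 332) = true := by decide +kernel
theorem m0 : rng mF (nat_lit 1) (nat_lit 12) = 0 := by decide +kernel
noncomputable def s0 : List ℕ := [nat_lit 0x401004010040100401000000000000000000000000000000000000000000000000000000000000000000000000000000000000000000000000000000000000000000000000000000000000000000000000000000000000000000000000000000000000000000000000000000000000000000000000000000000000000000000000000000000000000000000000000000000000000000000000000000000000]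
theorem x0 : xs xF s0 (nat_lit 1) = 0 := by decide +kernel
theorem mz0 : AllZ mF 1 (nat_lit 13) := (AllZ.step (AllZ.nil mF 1) (nat_lit 12) (nat_lit 13) rfl m0)
theorem xz0 : XZ xF (nat_lit 1) := (XZ.step (XZ.nil xF) s0 (nat_lit 1) (nat_lit 1) (by decide +kernel) x0)
/-- the certificate (12 points) is valid -/
theorem valid : cert.Valid (fun i => invL.getD i i) rels subs 18 :=
  ⟨by decide +kernel, tabok, by decide +kernel, mz0, xz0⟩
theorem cert_N : cert.N = 12 := rfl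

end CL.TC.GM12L1
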