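import Cfsg.Agent.Spor.TCSound

/-! coset enumeration certificate generated by tools/tc -/

set_option maxRecDepth 100000
set_option autoImplicit false
set_option linter.all false

namespace CL.TC.GM12L2

noncomputable def rows0 : Tr ℕ := (.leaf (nat_lit 0xd680fd101f9c0570505d8615b642f998371305e6c0fd902762866b30cdc615fc41413b0c2baa82ee40bdaa17b0c337a03ee804ea611c8c13c2036c50ad6613cdc1bf8820275a05eb50ad660bc94335982ed80ce0615c502bf881f5605d260bacc2f8b03ef40c346c402e2811e5413f8816d309dcc13d540f89837530ce660fb102f7283f7505f2606c7e8611c9427d181f4506fe205d5c13b305fa307e0e11bcc237183f0504da611b942169b0c33aa867a407f2a0fb8c2f8282fb408fe205d142791866d309dea11c980f81851efa30377403eaa11d540fba81f7402e4e13d1033b985f4504f6607fc40bc9827230b17ea505e8817c5c3363056f307d8e15c9c336981f430aec807fc40b53057e30cec61242ea607d1813d18178509e8611e8c0f84016d30be660dcd82f79847f101fc617e94185fd1013c18376606f6811ed013b1836e405e8613d4c17f1857f101f880de9027898390b6984f6302fc613ecc13b1837e308fc60fbcc13e2017b302fc60df8c17f880fd4010e7a201f6403ecc07e100fc301fa403f4c07f100fe301fe403f8c13f181fc302fc60400))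
noncomputable def recs0 : Tr ℕ := (.leaf (nat_lit 0x18000c0005da02ed016d00b1c056802a10147009ec04d00255))
noncomputable def rows : Tr ℕ := rows0
noncomputable def recs : Tr ℕ := recs0
noncomputable def ci0 : CI := ⟨[], (nat_lit 0), false, (.node (nat_lit 1) (.leaf Rule.defn) (.leaf Rule.copy)), (.leaf (XRule.rot (nat_lit 0) [] 32 0))⟩
noncomputable def ci9 : CI := ⟨[0], (nat_lit 28), false, (.node (nat_lit 4) (.node (nat_lit 2) (.node (nat_lit 1) (.leaf Rule.defn) (.leaf Rule.copy)) (.node (nat_lit 1) (.leaf (Rule.fwd [nat_lit 28] 32 0)) (.leaf (Rule.fwd [nat_lit 104, nat_lit 9] 18 1)))) (.leaf (Rule.fwd [nat_lit 47, nat_lit 9, nat_lit 218, nat_lit 161, nat_lit 66] 26 0))), (.node (nat_lit 1) (.leaf XRule.defn) (.leaf XRule.defn))⟩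
noncomputable def ci28 : CI := ⟨[1], (nat_lit 9), false, (.node (nat_lit 4) (.node (nat_lit 2) (.node (nat_lit 1) (.leaf Rule.defn) (.leaf Rule.copy)) (.node (nat_lit 1) (.leaf (Rule.fwd [nat_lit 9] 32 0)) (.leaf (Rule.fwd [nat_lit 199, nat_lit 9, nat_lit 237, nat_lit 180, nat_lit 47] 31 1)))) (.node (nat_lit 2) (.node (nat_lit 1) (.leaf (Rule.fwd [nat_lit 66, nat_lit 28, nat_lit 47, nat_lit 180, nat_lit 199] 27 3)) (.leaf (Rule.fwd [nat_lit 28, nat_lit 85] 19 2))) (.leaf (Rule.fwd [nat_lit 85, nat_lit 28] 19 1)))), (.node (nat_lit 1) (.leaf XRule.defn) (.leaf XRule.defn))⟩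
noncomputable def ci47 : CI := ⟨[2], (nat_lit 66), false, (.node (nat_lit 4) (.node (nat_lit 2) (.node (nat_lit 1) (.leaf Rule.defn) (.leaf Rule.copy)) (.node (nat_lit 1) (.leaf (Rule.fwd [nat_lit 66] 32 0)) (.leaf (Rule.fwd [nat_lit 47, nat_lit 9, nat_lit 142, nat_lit 47] 20 1)))) (.node (nat_lit 1) (.leaf (Rule.fwd [nat_lit 47, nat_lit 47, nat_lit 9, nat_lit 142] 20 0)) (.leaf (Rule.fwd [nat_lit 180, nat_lit 199, nat_lit 28, nat_lit 66, nat_lit 28] 27 0)))), (.node (nat_lit 1) (.leaf XRule.defn) (.leaf XRule.defn))⟩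
noncomputable def ci66 : CI := ⟨[3], (nat_lit 47), false, (.node (nat_lit 4) (.node (nat_lit 2) (.node (nat_lit 1) (.leaf Rule.defn) (.leaf Rule.copy)) (.node (nat_lit 1) (.leaf (Rule.fwd [nat_lit 47] 32 0)) (.leaf (Rule.fwd [nat_lit 161, nat_lit 66, nat_lit 161] 23 1)))) (.leaf (Rule.fwd [nat_lit 161, nat_lit 237, nat_lit 28, nat_lit 218, nat_lit 9] 30 1))), (.node (nat_lit 1) (.leaf XRule.defn) (.leaf XRule.defn))⟩
noncomputable def ci85 : CI := ⟨[4], (nat_lit 104), true, (.node (nat_lit 4) (.node (nat_lit 2) (.node (nat_lit 1) (.leaf Rule.defn) (.leaf Rule.copy)) (.node (nat_lit 1) (.leaf (Rule.fwd [nat_lit 104] 32 0)) (.leaf (Rule.fwd [nat_lit 28, nat_lit 28] 19 0)))) (.node (nat_lit 1) (.leaf (Rule.fwd [nat_lit 199, nat_lit 142, nat_lit 237] 14 0)) (.leaf (Rule.fwd [nat_lit 85, nat_lit 85] 28 0)))), (.node (nat_lit 1) (.leaf XRule.defn) (.leaf XRule.ax))⟩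
noncomputable def ci104 : CI := ⟨[5], (nat_lit 85), true, (.node (nat_lit 4) (.node (nat_lit 2) (.node (nat_lit 1) (.leaf Rule.defn) (.leaf Rule.copy)) (.node (nat_lit 1) (.leaf (Rule.fwd [nat_lit 85] 32 0)) (.leaf (Rule.fwd [nat_lit 9, nat_lit 9] 18 2)))) (.node (nat_lit 2) (.node (nat_lit 1) (.leaf (Rule.fwd [nat_lit 142, nat_lit 199, nat_lit 123] 13 2)) (.leaf (Rule.fwd [nat_lit 104, nat_lit 104] 29 0))) (.leaf (Rule.fwd [nat_lit 237, nat_lit 123, nat_lit 218] 15 1)))), (.node (nat_lit 1) (.leaf XRule.defn) (.leaf XRule.ax))⟩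
noncomputable def ci123 : CI := ⟨[6], (nat_lit 142), true, (.node (nat_lit 2) (.node (nat_lit 1) (.leaf Rule.defn) (.leaf Rule.copy)) (.node (nat_lit 1) (.leaf (Rule.fwd [nat_lit 142] 32 0)) (.leaf (Rule.fwd [nat_lit 85, nat_lit 142, nat_lit 218] 12 0)))), (.node (nat_lit 1) (.leaf XRule.defn) (.leaf XRule.ax))⟩
noncomputable def ci142 : CI := ⟨[7], (nat_lit 123), true, (.node (nat_lit 4) (.node (nat_lit 2) (.node (nat_lit 1) (.leaf Rule.defn) (.leaf Rule.copy)) (.node (nat_lit 1) (.leaf (Rule.fwd [nat_lit 123] 32 0)) (.leaf (Rule.fwd [nat_lit 180, nat_lit 104, nat_lit 142] 10 2)))) (.node (nat_lit 2) (.node (nat_lit 1) (.leaf (Rule.fwd [nat_lit 47, nat_lit 47, nat_lit 47, nat_lit 9] 20 4)) (.leaf (Rule.fwd [nat_lit 85, nat_lit 161, nat_lit 85, nat_lit 161] 16 4))) (.node (nat_lit 1) (.leaf (Rule.fwd [nat_lit 142, nat_lit 180, nat_lit 104] 10 1)) (.leaf (Rule.fwd [nat_lit 218, nat_lit 123, nat_lit 85] 12 2))))), (.node (nat_lit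 1) (.leaf XRule.defn) (.leaf XRule.ax))⟩
noncomputable def ci161 : CI := ⟨[8], (nat_lit 180), true, (.node (nat_lit 8) (.node (nat_lit 4) (.node (nat_lit 2) (.node (nat_lit 1) (.leaf Rule.defn) (.leaf Rule.copy)) (.node (nat_lit 1) (.leaf (Rule.fwd [nat_lit 180] 32 0)) (.leaf (Rule.fwd [nat_lit 199, nat_lit 161, nat_lit 237] 3 3)))) (.node (nat_lit 2) (.node (nat_lit 1) (.leaf (Rule.fwd [nat_lit 66, nat_lit 9, nat_lit 47, nat_lit 9, nat_lit 218] 26 4)) (.leaf (Rule.fwd [nat_lit 218, nat_lit 66, nat_lit 218, nat_lit 28] 25 0))) (.node (nat_lit 1) (.leaf (Rule.fwd [nat_lit 161, nat_lit 161, nat_lit 161, nat_lit 161] 8 0)) (.leaf (Rule.fwd [nat_lit 85, nat_lit 161, nat_lit 142, nat_lit 85] 16 1))))) (.leaf (Rule.fwd [nat_lit 142, nat_lit 85, nat_lit 161, nat_lit 85] 16 3))), (.node (nat_lit 1) (.leaf XRule.defn) (.leaf XRule.ax))⟩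
noncomputable def ci180 : CI := ⟨[9], (nat_lit 161), true, (.node (nat_lit 4) (.node (nat_lit 2) (.node (nat_lit 1) (.leaf Rule.defn) (.leaf Rule.copy)) (.node (nat_lit 1) (.leaf (Rule.fwd [nat_lit 161] 32 0)) (.leaf (Rule.fwd [nat_lit 47, nat_lit 180, nat_lit 47] 22 1)))) (.leaf (Rule.fwd [nat_lit 47, nat_lit 28, nat_lit 199, nat_lit 9, nat_lit 237] 31 3))), (.node (nat_lit 1) (.leaf XRule.defn) (.leaf XRule.ax))⟩
noncomputable def ci199 : CI := ⟨[10], (nat_lit 218), true, (.node (nat_lit 4) (.node (nat_lit 2) (.node (nat_lit 1) (.leaf Rule.defn) (.leaf Rule.copy)) (.node (nat_lit 1) (.leaf (Rule.fwd [nat_lit 47, nat_lit 199, nat_lit 180, nat_lit 9] 24 1)) (.leaf (Rule.fwd [nat_lit 180, nat_lit 9, nat_lit 199, nat_lit 47] 24 3)))) (.node (nat_lit 1) (.leaf (Rule.fwd [nat_lit 218] 32 0)) (.leaf (Rule.fwd [nat_lit 161, nat_lit 237, nat_lit 161] 3 2)))), (.node (nat_lit 1) (.leaf XRule.defn) (.leaf XRule.ax))⟩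
noncomputable def ci218 : CI := ⟨[11], (nat_lit 199), true, (.node (nat_lit 4) (.node (nat_lit 2) (.node (nat_lit 1) (.leaf Rule.defn) (.leaf Rule.copy)) (.node (nat_lit 1) (.leaf (Rule.fwd [nat_lit 199] 32 0)) (.leaf (Rule.fwd [nat_lit 123, nat_lit 85, nat_lit 142] 12 3)))) (.node (nat_lit 2) (.node (nat_lit 1) (.leaf (Rule.fwd [nat_lit 218, nat_lit 218] 7 0)) (.leaf (Rule.fwd [nat_lit 180, nat_lit 237, nat_lit 180] 2 1))) (.node (nat_lit 1) (.leaf (Rule.fwd [nat_lit 9, nat_lit 66, nat_lit 161, nat_lit 237, nat_lit 28] 30 5)) (.leaf (Rule.fwd [nat_lit 104, nat_lit 237, nat_lit 123] 15 2))))), (.node (nat_lit 1) (.leaf XRule.defn) (.leaf XRule.ax))⟩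
noncomputable def ci237 : CI := ⟨[12], (nat_lit 237), true, (.node (nat_lit 4) (.node (nat_lit 2) (.node (nat_lit 1) (.leaf Rule.defn) (.leaf Rule.copy)) (.node (nat_lit 1) (.leaf (Rule.fwd [nat_lit 28, nat_lit 218, nat_lit 9, nat_lit 66, nat_lit 161] 30 3)) (.leaf (Rule.fwd [nat_lit 237] 32 0)))) (.node (nat_lit 1) (.leaf (Rule.fwd [nat_lit 85, nat_lit 199, nat_lit 142] 14 3)) (.leaf (Rule.fwd [nat_lit 161, nat_lit 199, nat_lit 161] 3 0)))), (.node (nat_lit 1) (.leaf XRule.defn) (.leaf XRule.ax))⟩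
noncomputable def ci256 : CI := ⟨[13], (nat_lit 256), true, (.node (nat_lit 4) (.node (nat_lit 2) (.node (nat_lit 1) (.leaf Rule.defn) (.leaf Rule.copy)) (.node (nat_lit 1) (.leaf (Rule.fwd [nat_lit 161, nat_lit 161, nat_lit 199] 4 3)) (.leaf (Rule.fwd [nat_lit 256] 32 0)))) (.node (nat_lit 1) (.leaf (Rule.fwd [nat_lit 237, nat_lit 256, nat_lit 237, nat_lit 256, nat_lit 237] 0 1)) (.leaf (Rule.fwd [nat_lit 218, nat_lit 180, nat_lit 180] 5 0)))), (.node (nat_lit 1) (.leaf XRule.defn) (.leaf XRule.ax))⟩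
noncomputable def outer : Tr CI := (.node (nat_lit 1) (.node (nat_lit 8) (.node (nat_lit 2) (.node (nat_lit 4) (.node (nat_lit 256) (.leaf ci0) (.leaf ci256)) (.leaf ci180)) (.leaf ci66)) (.node (nat_lit 2) (.node (nat_lit 4) (.leaf ci104) (.leaf ci28)) (.node (nat_lit 4) (.leaf ci218) (.leaf ci142)))) (.node (nat_lit 2) (.node (nat_lit 4) (.node (nat_lit 8) (.leaf ci161) (.leaf ci9)) (.node (nat_lit 8) (.leaf ci85) (.leaf ci237))) (.node (nat_lit 4) (.leaf ci123) (.node (nat_lit 8) (.leaf ci199) (.leaf ci47)))))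
def cols : List ℕ := [nat_lit 9, nat_lit 28, nat_lit 47, nat_lit 66, nat_lit 85, nat_lit 104, nat_lit 123, nat_lit 142, nat_lit 161, nat_lit 180, nat_lit 199, nat_lit 218, nat_lit 237, nat_lit 256]
def invL : List ℕ := [1, 0, 3, 2, 5, 4, 7, 6, 9, 8, 11, 10, 12, 13]
def rels : List (List ℕ) := [[12, 13, 12, 13, 12, 13], [9, 11, 9, 12], [8, 8, 10, 13], [10, 10, 10], [8, 8, 8, 8, 8], [5, 7, 7, 9], [6, 4, 7, 11], [4, 10, 7, 12], [4, 8, 4, 8, 7], [0, 0, 5], [2, 2, 2, 0, 7], [2, 9, 2, 9], [0, 10, 2, 10, 9], [0, 2, 0, 11, 8, 3], [4, 4, 4], [0, 3, 8, 12, 1, 11]]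
def subs : List (List ℕ) := [[4], [5], [6], [7], [8], [9], [10], [11], [12], [13]]
noncomputable def row (n : ℕ) : ℕ := rowOf (fun h => rows.get h) (nat_lit 5) (nat_lit 31) (nat_lit 275) (nat_lit 0x7ffffffffffffffffffffffffffffffffffffffffffffffffffffffffffffffffffff) n
noncomputable def xleaf (h : ℕ) : ℕ := recs.get h
noncomputable def mF : ℕ → ℕ := mainRow row (rowChk row xleaf outer (nat_lit 8) (nat_lit 255) (nat_lit 15) (nat_lit 12) (nat_lit 4095) (nat_lit 524287) (nat_lit 128) (nat_lit 12) (nat_lit 256) (nat_lit 9) (nat_lit 511) (nat_lit 17) (nat_lit 131071) (nat_lit 8) (nat_lit 255) cols)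
noncomputable def xF : ℕ → ℕ → ℕ := xLeaf row xleaf outer (nat_lit 255) (nat_lit 12) (nat_lit 524287) (nat_lit 128) (nat_lit 12) (nat_lit 9) (nat_lit 511) (nat_lit 17) (nat_lit 131071) (nat_lit 130560) (nat_lit 8) (nat_lit 255) (nat_lit 10) (nat_lit 1023) (nat_lit 2) (nat_lit 3) (nat_lit 256) (nat_lit 6144) (nat_lit 128)
noncomputable def cert : Cert := ⟨row, xleaf, outer, cols, nat_lit 8, nat_lit 255, nat_lit 15, nat_lit 12, nat_lit 4095, nat_lit 524287, nat_lit 128, nat_lit 12, nat_lit 256, nat_lit 9, nat_lit 511, nat_lit 17, nat_lit 131071, nat_lit 130560, nat_lit 8, nat_lit 255, nat_lit 10, nat_lit 1023, nat_lit 2, nat_lit 3, nat_lit 256, nat_lit 6144, nat_lit 128, nat_lit 19, nat_lit 128, nat_lit 1⟩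
theorem tabok : tabOK (fun i => invL.getD i i) rels subs outer cols (nat_lit 9) (nat_lit 256) = true := by decide +kernel
theorem m0 : rng mF (nat_lit 1) (nat_lit 12) = 0 := by decide +kernel
noncomputable def s0 : List ℕ := [nat_lit 0x401004010040100000000000000000000000000000000000000000000000000000000000000000000000000000000000000000000000000000000000000000000000000000000000000000000000000000000000000000000000000000000000000000000000000000000000000000000000000000000000000000000000000000000000000000000000000000000000000000000000000000000000000000]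
theorem x0 : xs xF s0 (nat_lit 1) = 0 := by decide +kernel
theorem mz0 : AllZ mF 1 (nat_lit 13) := (AllZ.step (AllZ.nil mF 1) (nat_lit 12) (nat_lit 13) rfl m0)
theorem xz0 : XZ xF (nat_lit 1) := (XZ.step (XZ.nil xF) s0 (nat_lit 1) (nat_lit 1) (by decide +kernel) x0)
/-- the certificate (12 points) is valid -/
theorem valid : cert.Valid (fun i => invL.getD i i) rels subs 14 :=
  ⟨by decide +kernel, tabok, by decide +kernel, mz0, xz0⟩
theorem cert_N : cert.N = 12 := rfl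

end CL.TC.GM12L2
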