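import Cfsg.Agent.Spor.TCSound

/-! coset enumeration certificate generated by tools/tc -/

set_option maxRecDepth 100000
set_option autoImplicit false
set_option linter.all false

namespace CL.TC.GM12L3

noncomputable def rows0 : Tr ℕ := (.leaf (nat_lit 0x3f881f2508ec60dd98279182f4507e3011d9427898472706b3daa15b182bf881f5608e660db4c27b383f7508de615c102a37b18270409ea617ed01b73057f103ea617d4c1fea02f330754fe205c4c2fa18576403e860fe0c13b1857030bf080dc9c2ecf9a82ff102e260fc9c1f9985f5408ecc13d4c2ba284f8505a0d880de4c13d184f770bfe205d102bea01fd405e2617dcc219f9183fb303f6609ed80bd2027360bf860dfc407b983fc3092eee813e901bd9817c505f2a11e4c17f880fc303f6609f101107f185fc405ea611f8c2bf184f8402faa09f0c1bb1817f10108fc611f8c1fd182fc404ee607f8c1bc9817a502fe203dd80c6fe100fd201fa603f8807f180ff201fc60bf8c13f181fe30200))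
noncomputable def recs0 : Tr ℕ := (.leaf (nat_lit 0x1b301b301a001a0018d017a01670154))
noncomputable def rows : Tr ℕ := rows0
noncomputable def recs : Tr ℕ := recs0
noncomputable def ci0 : CI := ⟨[], (nat_lit 0), false, (.node (nat_lit 1) (.leaf Rule.defn) (.leaf Rule.copy)), (.leaf (XRule.rot (nat_lit 0) [] 18 0))⟩
noncomputable def ci8 : CI := ⟨[0], (nat_lit 27), false, (.node (nat_lit 4) (.node (nat_lit 2) (.node (nat_lit 1) (.leaf Rule.defn) (.leaf Rule.copy)) (.node (nat_lit 1) (.leaf (Rule.fwd [nat_lit 27] 18 0)) (.leaf (Rule.fwd [nat_lit 65, nat_lit 141, nat_lit 46] 12 1)))) (.node (nat_lit 2) (.node (nat_lit 1) (.leaf (Rule.fwd [nat_lit 122, nat_lit 65, nat_lit 160] 14 0)) (.leaf (Rule.fwd [nat_lit 84, nat_lit 46, nat_lit 46] 11 1))) (.leaf (Rule.fwd [nat_lit 84, nat_lit 65, nat_lit 8, nat_lit 84] 16 2)))), (.node (nat_lit 1) (.leaf XRule.defn) (.leaf XRule.defn))⟩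
noncomputable def ci27 : CI := ⟨[1], (nat_lit 8), false, (.node (nat_lit 4) (.node (nat_lit 2) (.node (nat_lit 1) (.leaf Rule.defn) (.leaf Rule.copy)) (.node (nat_lit 1) (.leaf (Rule.fwd [nat_lit 8] 18 0)) (.leaf (Rule.fwd [nat_lit 46, nat_lit 103, nat_lit 27, nat_lit 103] 17 1)))) (.leaf (Rule.fwd [nat_lit 65, nat_lit 122, nat_lit 46] 13 2))), (.node (nat_lit 1) (.leaf XRule.defn) (.leaf XRule.defn))⟩
noncomputable def ci46 : CI := ⟨[2], (nat_lit 65), false, (.node (nat_lit 4) (.node (nat_lit 2) (.node (nat_lit 1) (.leaf Rule.defn) (.leaf Rule.copy)) (.node (nat_lit 1) (.leaf (Rule.fwd [nat_lit 65] 18 0)) (.leaf (Rule.fwd [nat_lit 46, nat_lit 8, nat_lit 84] 11 3)))) (.leaf (Rule.fwd [nat_lit 27, nat_lit 65, nat_lit 122] 13 3))), (.node (nat_lit 1) (.leaf XRule.defn) (.leaf XRule.defn))⟩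
noncomputable def ci65 : CI := ⟨[3], (nat_lit 46), false, (.node (nat_lit 4) (.node (nat_lit 2) (.node (nat_lit 1) (.leaf Rule.defn) (.leaf Rule.copy)) (.node (nat_lit 1) (.leaf (Rule.fwd [nat_lit 46] 18 0)) (.leaf (Rule.fwd [nat_lit 8, nat_lit 84, nat_lit 8, nat_lit 84] 16 4)))) (.node (nat_lit 2) (.node (nat_lit 1) (.leaf (Rule.fwd [nat_lit 65, nat_lit 103, nat_lit 27] 10 1)) (.leaf (Rule.fwd [nat_lit 122, nat_lit 46, nat_lit 27] 13 1))) (.node (nat_lit 1) (.leaf (Rule.fwd [nat_lit 160, nat_lit 8, nat_lit 122] 14 2)) (.leaf (Rule.fwd [nat_lit 141, nat_lit 46, nat_lit 8] 12 2))))), (.node (nat_lit 1) (.leaf XRule.defn) (.leaf XRule.defn))⟩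
noncomputable def ci84 : CI := ⟨[4], (nat_lit 103), true, (.node (nat_lit 4) (.node (nat_lit 2) (.node (nat_lit 1) (.leaf Rule.defn) (.leaf Rule.copy)) (.node (nat_lit 1) (.leaf (Rule.fwd [nat_lit 103] 18 0)) (.leaf (Rule.fwd [nat_lit 122, nat_lit 84, nat_lit 160] 3 3)))) (.node (nat_lit 1) (.leaf (Rule.fwd [nat_lit 84, nat_lit 122, nat_lit 179] 4 0)) (.leaf (Rule.fwd [nat_lit 84, nat_lit 84, nat_lit 84, nat_lit 84] 8 0)))), (.node (nat_lit 1) (.leaf XRule.defn) (.leaf XRule.ax))⟩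
noncomputable def ci103 : CI := ⟨[5], (nat_lit 84), true, (.node (nat_lit 4) (.node (nat_lit 2) (.node (nat_lit 1) (.leaf Rule.defn) (.leaf Rule.copy)) (.node (nat_lit 1) (.leaf (Rule.fwd [nat_lit 84] 18 0)) (.leaf (Rule.fwd [nat_lit 27, nat_lit 65, nat_lit 65] 10 3)))) (.node (nat_lit 1) (.leaf (Rule.fwd [nat_lit 179, nat_lit 141, nat_lit 103] 5 1)) (.leaf (Rule.fwd [nat_lit 27, nat_lit 46, nat_lit 103, nat_lit 27] 17 2)))), (.node (nat_lit 1) (.leaf XRule.defn) (.leaf XRule.ax))⟩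
noncomputable def ci122 : CI := ⟨[6], (nat_lit 141), true, (.node (nat_lit 4) (.node (nat_lit 2) (.node (nat_lit 1) (.leaf Rule.defn) (.leaf Rule.copy)) (.node (nat_lit 1) (.leaf (Rule.fwd [nat_lit 141] 18 0)) (.leaf (Rule.fwd [nat_lit 65, nat_lit 160, nat_lit 8] 14 1)))) (.node (nat_lit 2) (.node (nat_lit 1) (.leaf (Rule.fwd [nat_lit 46, nat_lit 27, nat_lit 65] 13 0)) (.leaf (Rule.fwd [nat_lit 122, nat_lit 122] 6 0))) (.leaf (Rule.fwd [nat_lit 179, nat_lit 84, nat_lit 84] 4 2)))), (.node (nat_lit 1) (.leaf XRule.defn) (.leaf XRule.ax))⟩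
noncomputable def ci141 : CI := ⟨[7], (nat_lit 122), true, (.node (nat_lit 2) (.node (nat_lit 1) (.leaf Rule.defn) (.leaf Rule.copy)) (.leaf (Rule.fwd [nat_lit 122] 18 0))), (.node (nat_lit 1) (.leaf XRule.defn) (.leaf XRule.ax))⟩
noncomputable def ci160 : CI := ⟨[8], (nat_lit 160), true, (.node (nat_lit 4) (.node (nat_lit 2) (.node (nat_lit 1) (.leaf Rule.defn) (.leaf Rule.copy)) (.node (nat_lit 1) (.leaf (Rule.fwd [nat_lit 160] 18 0)) (.leaf (Rule.fwd [nat_lit 46, nat_lit 141, nat_lit 27] 15 0)))) (.node (nat_lit 1) (.leaf (Rule.fwd [nat_lit 179, nat_lit 160, nat_lit 179, nat_lit 160, nat_lit 179] 0 0)) (.leaf (Rule.fwd [nat_lit 84, nat_lit 122, nat_lit 84] 3 0)))), (.node (nat_lit 1) (.leaf XRule.defn) (.leaf XRule.ax))⟩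
noncomputable def ci179 : CI := ⟨[9], (nat_lit 179), true, (.node (nat_lit 4) (.node (nat_lit 2) (.node (nat_lit 1) (.leaf Rule.defn) (.leaf Rule.copy)) (.node (nat_lit 1) (.leaf (Rule.fwd [nat_lit 179] 18 0)) (.leaf (Rule.fwd [nat_lit 84, nat_lit 84, nat_lit 122] 4 3)))) (.leaf (Rule.fwd [nat_lit 141, nat_lit 103, nat_lit 103] 5 0))), (.node (nat_lit 1) (.leaf XRule.defn) (.leaf XRule.ax))⟩
noncomputable def outer : Tr CI := (.node (nat_lit 1) (.node (nat_lit 8) (.node (nat_lit 4) (.node (nat_lit 32) (.leaf ci0) (.leaf ci160)) (.leaf ci84)) (.node (nat_lit 2) (.leaf ci8) (.node (nat_lit 4) (.leaf ci122) (.leaf ci46)))) (.node (nat_lit 2) (.node (nat_lit 4) (.leaf ci65) (.leaf ci141)) (.node (nat_lit 4) (.node (nat_lit 8) (.leaf ci179) (.leaf ci27)) (.leaf ci103))))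
def cols : List ℕ := [nat_lit 8, nat_lit 27, nat_lit 46, nat_lit 65, nat_lit 84, nat_lit 103, nat_lit 122, nat_lit 141, nat_lit 160, nat_lit 179]
def invL : List ℕ := [1, 0, 3, 2, 5, 4, 7, 6, 8, 9]
def rels : List (List ℕ) := [[8, 9, 8, 9, 8, 9], [5, 7, 5, 8], [4, 4, 6, 9], [6, 6, 6], [4, 4, 4, 4, 4], [1, 3, 3, 5], [2, 0, 3, 7], [0, 6, 3, 8], [0, 4, 0, 4, 3]]
def subs : List (List ℕ) := [[4], [5], [6], [7], [8], [9]]
noncomputable def row (n : ℕ) : ℕ := rowOf (fun h => rows.get h) (nat_lit 5) (nat_lit 31) (nat_lit 198) (nat_lit 0x3fffffffffffffffffffffffffffffffffffffffffffffffff) n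
noncomputable def xleaf (h : ℕ) : ℕ := recs.get h
noncomputable def mF : ℕ → ℕ := mainRow row (rowChk row xleaf outer (nat_lit 8) (nat_lit 255) (nat_lit 15) (nat_lit 12) (nat_lit 4095) (nat_lit 524287) (nat_lit 128) (nat_lit 11) (nat_lit 256) (nat_lit 8) (nat_lit 255) (nat_lit 16) (nat_lit 65535) (nat_lit 8) (nat_lit 255) cols)
noncomputable def xF : ℕ → ℕ → ℕ := xLeaf row xleaf outer (nat_lit 255) (nat_lit 12) (nat_lit 524287) (nat_lit 128) (nat_lit 11) (nat_lit 8) (nat_lit 255) (nat_lit 16) (nat_lit 65535) (nat_lit 65280) (nat_lit 8) (nat_lit 255) (nat_lit 10) (nat_lit 1023) (nat_lit 2) (nat_lit 3) (nat_lit 179) (nat_lit 2816) (nat_lit 128)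
noncomputable def cert : Cert := ⟨row, xleaf, outer, cols, nat_lit 8, nat_lit 255, nat_lit 15, nat_lit 12, nat_lit 4095, nat_lit 524287, nat_lit 128, nat_lit 11, nat_lit 256, nat_lit 8, nat_lit 255, nat_lit 16, nat_lit 65535, nat_lit 65280, nat_lit 8, nat_lit 255, nat_lit 10, nat_lit 1023, nat_lit 2, nat_lit 3, nat_lit 179, nat_lit 2816, nat_lit 128, nat_lit 19, nat_lit 128, nat_lit 1⟩
theorem tabok : tabOK (fun i => invL.getD i i) rels subs outer cols (nat_lit 8) (nat_lit 179) = true := by decide +kernel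
theorem m0 : rng mF (nat_lit 1) (nat_lit 11) = 0 := by decide +kernel
noncomputable def s0 : List ℕ := [nat_lit 0x401004010000000000000000000000000000000000000000000000000000000000000000000000000000000000000000000000000000000000000000000000000000000000000000000000000000000000000000000000000000000000000000000000000000000000000000000000000000000000000000000000000000000000000000000000000000000000000000000000000000000000000000000000]
theorem x0 : xs xF s0 (nat_lit 1) = 0 := by decide +kernel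
theorem mz0 : AllZ mF 1 (nat_lit 12) := (AllZ.step (AllZ.nil mF 1) (nat_lit 11) (nat_lit 12) rfl m0)
theorem xz0 : XZ xF (nat_lit 1) := (XZ.step (XZ.nil xF) s0 (nat_lit 1) (nat_lit 1) (by decide +kernel) x0)
/-- the certificate (11 points) is valid -/
theorem valid : cert.Valid (fun i => invL.getD i i) rels subs 10 :=
  ⟨by decide +kernel, tabok, by decide +kernel, mz0, xz0⟩
theorem cert_N : cert.N = 11 := rfl

end CL.TC.GM12L3
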