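import Cfsg.Agent.Spor.TCSound

/-! coset enumeration certificate generated by tools/tc -/

set_option maxRecDepth 100000
set_option autoImplicit false
set_option linter.all false

namespace CL.TC.GM12L4

noncomputable def rows0 : Tr ℕ := (.leaf (nat_lit 0x38b09fe4179c07eb823d507f4c1a7f2a15ea0470613c604f8a0dfc8207fb413cb09e8c2bcb07f6c17f9030ffc8173807ea8472615df027961587cb05e2c13dc03fe40bdc0aeec255faa0df9857c609fc80fc605f2842bf8c239406fe407ed05fcc27b3077bf201f260ff1817a60df9847f2021ff307f700bf306fb00ff901fb014cfe403fd00fe60bf9827e607f98100))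
noncomputable def recs0 : Tr ℕ := (.leaf (nat_lit 0x1c2038406780cf))
noncomputable def rows : Tr ℕ := rows0
noncomputable def recs : Tr ℕ := recs0
noncomputable def ci0 : CI := ⟨[], (nat_lit 0), false, (.node (nat_lit 1) (.leaf Rule.defn) (.leaf Rule.copy)), (.leaf (XRule.rot (nat_lit 0) [] 10 0))⟩
noncomputable def ci7 : CI := ⟨[0], (nat_lit 25), false, (.node (nat_lit 4) (.node (nat_lit 2) (.node (nat_lit 1) (.leaf Rule.defn) (.leaf Rule.copy)) (.node (nat_lit 1) (.leaf (Rule.fwd [nat_lit 25] 10 0)) (.leaf (Rule.fwd [nat_lit 43, nat_lit 97, nat_lit 7] 4 1)))) (.leaf (Rule.fwd [nat_lit 7, nat_lit 7, nat_lit 7, nat_lit 7] 8 0))), (.node (nat_lit 1) (.leaf XRule.defn) (.leaf XRule.defn))⟩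
noncomputable def ci25 : CI := ⟨[1], (nat_lit 7), false, (.node (nat_lit 4) (.node (nat_lit 2) (.node (nat_lit 1) (.leaf Rule.defn) (.leaf Rule.copy)) (.node (nat_lit 1) (.leaf (Rule.fwd [nat_lit 7] 10 0)) (.leaf (Rule.fwd [nat_lit 79, nat_lit 25, nat_lit 61] 2 2)))) (.node (nat_lit 1) (.leaf (Rule.fwd [nat_lit 97, nat_lit 61, nat_lit 25] 5 1)) (.leaf (Rule.fwd [nat_lit 25, nat_lit 25, nat_lit 25, nat_lit 25] 9 0)))), (.node (nat_lit 1) (.leaf XRule.defn) (.leaf XRule.defn))⟩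
noncomputable def ci43 : CI := ⟨[2], (nat_lit 61), false, (.node (nat_lit 4) (.node (nat_lit 2) (.node (nat_lit 1) (.leaf Rule.defn) (.leaf Rule.copy)) (.node (nat_lit 1) (.leaf (Rule.fwd [nat_lit 61] 10 0)) (.leaf (Rule.fwd [nat_lit 7, nat_lit 79, nat_lit 7] 3 2)))) (.node (nat_lit 1) (.leaf (Rule.fwd [nat_lit 43, nat_lit 43] 6 0)) (.leaf (Rule.fwd [nat_lit 97, nat_lit 7, nat_lit 7] 4 2)))), (.node (nat_lit 1) (.leaf XRule.defn) (.leaf XRule.defn))⟩
noncomputable def ci61 : CI := ⟨[3], (nat_lit 43), false, (.node (nat_lit 4) (.node (nat_lit 2) (.node (nat_lit 1) (.leaf Rule.defn) (.leaf Rule.copy)) (.node (nat_lit 1) (.leaf (Rule.fwd [nat_lit 43] 10 0)) (.leaf (Rule.fwd [nat_lit 61, nat_lit 61] 7 0)))) (.leaf (Rule.fwd [nat_lit 25, nat_lit 25, nat_lit 97] 5 3))), (.node (nat_lit 1) (.leaf XRule.defn) (.leaf XRule.defn))⟩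
noncomputable def ci79 : CI := ⟨[4], (nat_lit 79), true, (.node (nat_lit 2) (.node (nat_lit 1) (.leaf Rule.defn) (.leaf Rule.copy)) (.node (nat_lit 1) (.leaf (Rule.fwd [nat_lit 79] 10 0)) (.leaf (Rule.fwd [nat_lit 25, nat_lit 61, nat_lit 25] 2 3)))), (.node (nat_lit 1) (.leaf XRule.defn) (.leaf XRule.ax))⟩
noncomputable def ci97 : CI := ⟨[5], (nat_lit 97), true, (.node (nat_lit 4) (.node (nat_lit 2) (.node (nat_lit 1) (.leaf Rule.defn) (.leaf Rule.copy)) (.node (nat_lit 1) (.leaf (Rule.fwd [nat_lit 97] 10 0)) (.leaf (Rule.fwd [nat_lit 7, nat_lit 7, nat_lit 43] 4 3)))) (.leaf (Rule.fwd [nat_lit 61, nat_lit 25, nat_lit 25] 5 0))), (.node (nat_lit 1) (.leaf XRule.defn) (.leaf XRule.ax))⟩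
noncomputable def outer : Tr CI := (.node (nat_lit 2) (.node (nat_lit 8) (.node (nat_lit 1) (.leaf ci0) (.leaf ci97)) (.node (nat_lit 4) (.leaf ci25) (.leaf ci61))) (.node (nat_lit 4) (.leaf ci43) (.node (nat_lit 8) (.leaf ci7) (.leaf ci79))))
def cols : List ℕ := [nat_lit 7, nat_lit 25, nat_lit 43, nat_lit 61, nat_lit 79, nat_lit 97]
def invL : List ℕ := [1, 0, 3, 2, 4, 5]
def rels : List (List ℕ) := [[4, 5, 4, 5, 4, 5], [1, 3, 1, 4], [0, 0, 2, 5], [2, 2, 2], [0, 0, 0, 0, 0]]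
def subs : List (List ℕ) := [[4], [5]]
noncomputable def row (n : ℕ) : ℕ := rowOf (fun h => rows.get h) (nat_lit 5) (nat_lit 31) (nat_lit 115) (nat_lit 0x7ffffffffffffffffffffffffffff) n
noncomputable def xleaf (h : ℕ) : ℕ := recs.get h
noncomputable def mF : ℕ → ℕ := mainRow row (rowChk row xleaf outer (nat_lit 8) (nat_lit 255) (nat_lit 7) (nat_lit 11) (nat_lit 2047) (nat_lit 262143) (nat_lit 128) (nat_lit 10) (nat_lit 256) (nat_lit 7) (nat_lit 127) (nat_lit 15) (nat_lit 32767) (nat_lit 8) (nat_lit 255) cols)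
noncomputable def xF : ℕ → ℕ → ℕ := xLeaf row xleaf outer (nat_lit 255) (nat_lit 11) (nat_lit 262143) (nat_lit 128) (nat_lit 10) (nat_lit 7) (nat_lit 127) (nat_lit 15) (nat_lit 32767) (nat_lit 32640) (nat_lit 8) (nat_lit 255) (nat_lit 10) (nat_lit 1023) (nat_lit 2) (nat_lit 3) (nat_lit 97) (nat_lit 1280) (nat_lit 128)
noncomputable def cert : Cert := ⟨row, xleaf, outer, cols, nat_lit 8, nat_lit 255, nat_lit 7, nat_lit 11, nat_lit 2047, nat_lit 262143, nat_lit 128, nat_lit 10, nat_lit 256, nat_lit 7, nat_lit 127, nat_lit 15, nat_lit 32767, nat_lit 32640, nat_lit 8, nat_lit 255, nat_lit 10, nat_lit 1023, nat_lit 2, nat_lit 3, nat_lit 97, nat_lit 1280, nat_lit 128, nat_lit 18, nat_lit 128, nat_lit 1⟩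
theorem tabok : tabOK (fun i => invL.getD i i) rels subs outer cols (nat_lit 7) (nat_lit 97) = true := by decide +kernel
theorem m0 : rng mF (nat_lit 1) (nat_lit 10) = 0 := by decide +kernel
noncomputable def s0 : List ℕ := [nat_lit 0x401000000000000000000000000000000000000000000000000000000000000000000000000000000000000000000000000000000000000000000000000000000000000000000000000000000000000000000000000000000000000000000000000000000000000000000000000000000000000000000000000000000000000000000000000000000000000000000000000000000000000000000000000000]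
theorem x0 : xs xF s0 (nat_lit 1) = 0 := by decide +kernel
theorem mz0 : AllZ mF 1 (nat_lit 11) := (AllZ.step (AllZ.nil mF 1) (nat_lit 10) (nat_lit 11) rfl m0)
theorem xz0 : XZ xF (nat_lit 1) := (XZ.step (XZ.nil xF) s0 (nat_lit 1) (nat_lit 1) (by decide +kernel) x0)
/-- the certificate (10 points) is valid -/
theorem valid : cert.Valid (fun i => invL.getD i i) rels subs 6 :=
  ⟨by decide +kernel, tabok, by decide +kernel, mz0, xz0⟩
theorem cert_N : cert.N = 10 := rfl

end CL.TC.GM12L4
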