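import Cfsg.Agent.Spor.TCSound

/-! coset enumeration certificate generated by tools/tc -/

set_option maxRecDepth 100000
set_option autoImplicit false
set_option linter.all false

namespace CL.TC.GM12L5

noncomputable def rows0 : Tr ℕ := (.leaf (nat_lit 0xfb017f9041be306fe40c6fe40bf30663f901fcc158fcc13f9011bf303fcc080))
noncomputable def recs0 : Tr ℕ := (.leaf (nat_lit 0x0))
noncomputable def rows : Tr ℕ := rows0
noncomputable def recs : Tr ℕ := recs0
noncomputable def ci0 : CI := ⟨[], (nat_lit 0), false, (.node (nat_lit 1) (.leaf Rule.defn) (.leaf Rule.copy)), (.leaf (XRule.rot (nat_lit 0) [] 2 0))⟩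
noncomputable def ci6 : CI := ⟨[0], (nat_lit 6), false, (.node (nat_lit 2) (.node (nat_lit 1) (.leaf Rule.defn) (.leaf Rule.copy)) (.leaf (Rule.fwd [nat_lit 6] 2 0))), (.node (nat_lit 1) (.leaf XRule.defn) (.leaf XRule.defn))⟩
noncomputable def ci24 : CI := ⟨[1], (nat_lit 24), false, (.node (nat_lit 2) (.node (nat_lit 1) (.leaf Rule.defn) (.leaf Rule.copy)) (.node (nat_lit 1) (.leaf (Rule.fwd [nat_lit 24] 2 0)) (.leaf (Rule.fwd [nat_lit 6, nat_lit 24, nat_lit 6, nat_lit 24, nat_lit 6] 0 1)))), (.node (nat_lit 1) (.leaf XRule.defn) (.leaf XRule.defn))⟩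
noncomputable def outer : Tr CI := (.node (nat_lit 2) (.node (nat_lit 8) (.leaf ci0) (.leaf ci24)) (.leaf ci6))
def cols : List ℕ := [nat_lit 6, nat_lit 24]
def invL : List ℕ := [0, 1]
def rels : List (List ℕ) := [[0, 1, 0, 1, 0, 1]]
def subs : List (List ℕ) := []
noncomputable def row (n : ℕ) : ℕ := rowOf (fun h => rows.get h) (nat_lit 5) (nat_lit 31) (nat_lit 42) (nat_lit 0x3ffffffffff) n
noncomputable def xleaf (h : ℕ) : ℕ := recs.get h
noncomputable def mF : ℕ → ℕ := mainRow row (rowChk row xleaf outer (nat_lit 8) (nat_lit 255) (nat_lit 7) (nat_lit 11) (nat_lit 2047) (nat_lit 262143) (nat_lit 128) (nat_lit 6) (nat_lit 256) (nat_lit 6) (nat_lit 63) (nat_lit 14) (nat_lit 16383) (nat_lit 8) (nat_lit 255) cols)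
noncomputable def xF : ℕ → ℕ → ℕ := xLeaf row xleaf outer (nat_lit 255) (nat_lit 11) (nat_lit 262143) (nat_lit 128) (nat_lit 6) (nat_lit 6) (nat_lit 63) (nat_lit 14) (nat_lit 16383) (nat_lit 16320) (nat_lit 8) (nat_lit 255) (nat_lit 10) (nat_lit 1023) (nat_lit 2) (nat_lit 3) (nat_lit 24) (nat_lit 384) (nat_lit 128)
noncomputable def cert : Cert := ⟨row, xleaf, outer, cols, nat_lit 8, nat_lit 255, nat_lit 7, nat_lit 11, nat_lit 2047, nat_lit 262143, nat_lit 128, nat_lit 6, nat_lit 256, nat_lit 6, nat_lit 63, nat_lit 14, nat_lit 16383, nat_lit 16320, nat_lit 8, nat_lit 255, nat_lit 10, nat_lit 1023, nat_lit 2, nat_lit 3, nat_lit 24, nat_lit 384, nat_lit 128, nat_lit 18, nat_lit 128, nat_lit 1⟩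
theorem tabok : tabOK (fun i => invL.getD i i) rels subs outer cols (nat_lit 6) (nat_lit 24) = true := by decide +kernel
theorem m0 : rng mF (nat_lit 1) (nat_lit 6) = 0 := by decide +kernel
noncomputable def s0 : List ℕ := [nat_lit 0x0]
theorem x0 : xs xF s0 (nat_lit 1) = 0 := by decide +kernel
theorem mz0 : AllZ mF 1 (nat_lit 7) := (AllZ.step (AllZ.nil mF 1) (nat_lit 6) (nat_lit 7) rfl m0)
theorem xz0 : XZ xF (nat_lit 1) := (XZ.step (XZ.nil xF) s0 (nat_lit 1) (nat_lit 1) (by decide +kernel) x0)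
/-- the certificate (6 points) is valid -/
theorem valid : cert.Valid (fun i => invL.getD i i) rels subs 2 :=
  ⟨by decide +kernel, tabok, by decide +kernel, mz0, xz0⟩
theorem cert_N : cert.N = 6 := rfl

end CL.TC.GM12L5
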