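/-
Tables and a stabiliser chain for M22 on 24 points (generated by tools/pc/gm.py).
-/
import Cfsg.Agent.Known.PcGen

set_option autoImplicit false
set_option maxRecDepth 100000
set_option linter.all false

namespace CL.Pc.GM22
open Cfsg CL.Spor

noncomputable def T1 : ℕ := 0xb99a49a6d0455caa14e29458b1bc20
noncomputable def T2 : ℕ := 0xbc5cb99cd0136a52324f4d9541a020
noncomputable def T3 : ℕ := 0xbd44485a47621cd198345ccaf52620
noncomputable def T4 : ℕ := 0xbcac8344332358f38c4e828b45d520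
noncomputable def T5 : ℕ := 0xb99a49a6d0455caa14e29458b1bc20
noncomputable def T6 : ℕ := 0xbc5cb99cd0136a52324f4d9541a020
noncomputable def T7 : ℕ := 0xbd08d49e161be53aa1428b1c559820
noncomputable def T8 : ℕ := 0xbc176634f1716861a66a908957a020
noncomputable def T9 : ℕ := 0xbc28653a56ab09119e654bd6d40820
noncomputable def T10 : ℕ := 0xbc1f54c5963488e2cce35510d58820
noncomputable def T11 : ℕ := 0xbca763d1c868d8f51209a98ab88820
noncomputable def T12 : ℕ := 0xbd0f2ad869645ed22d10998aa70820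
noncomputable def T13 : ℕ := 0xbbeb23b5ca6169682d0434e2918820
noncomputable def T14 : ℕ := 0xbb2ad350abb464f5408999dc818820
noncomputable def T15 : ℕ := 0xbd987929cda948f4ccd442e3018820
noncomputable def T16 : ℕ := 0xbd9e854ca46461534967a25cd18820
noncomputable def T17 : ℕ := 0xb9166425d0996d4554ef9322d18820
noncomputable def T18 : ℕ := 0xbb54c79cb044486aae534d1d618820
noncomputable def T19 : ℕ := 0xbc12ba18ad946c79b11553dc418820
noncomputable def T20 : ℕ := 0xbb5135bdd63160aa1ea964a2418820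
noncomputable def ivT : ℕ := 0x13a464f835cb62547414c320440
noncomputable def a2pT : ℕ := 0x128e231b46345a318
noncomputable def a2xT : ℕ := 0x19070c485ca934b42a21aaf89407
noncomputable def a2yT : ℕ := 0xad6387424d557a170b184794521
noncomputable def a3pT : ℕ := 0x578787865768658778650
noncomputable def a3xT : ℕ := 0x109510f115897116188d53300ed
noncomputable def a3yT : ℕ := 0x1224cf482ead49591b0dca33d02
noncomputable def a4pT : ℕ := 0xabcc9a99a9cbcb9cba90
noncomputable def a4xT : ℕ := 0x6a88888d8b09d2274ca603e50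
noncomputable def a4yT : ℕ := 0x355f4b1e6d64930510b172163
noncomputable def a5pT : ℕ := 0x835d183e5183e307b9a0
noncomputable def a5xT : ℕ := 0xc04903ead216b005f78
noncomputable def a5yT : ℕ := 0xab15232df3a1ed06a504
noncomputable def a6pT : ℕ := 0x5260
noncomputable def a6xT : ℕ := 0x210
noncomputable def a6yT : ℕ := 0x3a25
noncomputable def sel (c : ℕ) : ℕ := (cond (Nat.ble c 10) (cond (Nat.ble c 5) (cond (Nat.ble c 3) (cond (Nat.ble c 2) (cond (Nat.ble c 1) T1 T2) T3) (cond (Nat.ble c 4) T4 T5)) (cond (Nat.ble c 8) (cond (Nat.ble c 7) (cond (Nat.ble c 6) T6 T7) T8) (cond (Nat.ble c 9) T9 T10))) (cond (Nat.ble c 15) (cond (Nat.ble c 13) (cond (Nat.ble c 12) (cond (Nat.ble c 11) T11 T12) T13) (cond (Nat.ble c 14) T14 T15)) (cond (Nat.ble c 18) (cond (Nat.ble c 17) (cond (Nat.ble c 16) T16 T17) T18) (cond (Nat.ble c 19) T19 T20))))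
/-- The tables. -/
noncomputable def A (c i : ℕ) : ℕ := forceN c fun c => tget 5 0x1f (sel c) i
def df0 : List (ℕ × ℕ × ℕ) := [(2, 1, 1), (4, 3, 1), (5, 1, 0), (6, 5, 1), (7, 0xc2101101104, 0), (8, 7, 1), (9, 0x148, 0), (10, 9, 1), (11, 0x62051c5, 0), (12, 0xb, 1), (13, 0x2c924b, 0), (14, 0xd, 1), (15, 0x28b24c28c, 0), (16, 0xf, 1), (17, 0x24b24c24c, 0), (18, 0x11, 1), (19, 0x3d1, 0), (20, 0x13, 1)]
def df : List (ℕ × ℕ × ℕ) := (df0 ++ [])
noncomputable def iv (i : ℕ) : ℕ := tget 5 0x1f ivT i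
noncomputable def a1 : Lev := ⟨0, 0, 1, fun _ => 0, fun _ => 0, fun _ => 0, fun _ => 0⟩
noncomputable def a2p (i : ℕ) : ℕ := tget 3 7 a2pT i
noncomputable def a2x (i : ℕ) : ℕ := tget 5 0x1f a2xT i
noncomputable def a2y (i : ℕ) : ℕ := tget 5 0x1f a2yT i
noncomputable def a2 : Lev := ⟨1, 0, 22, a2y, fun i => forceN (Nat.mod i 22) a2x, a2p, fun _ => 0⟩
noncomputable def a3p (i : ℕ) : ℕ := tget 4 0xf a3pT i
noncomputable def a3x (i : ℕ) : ℕ := tget 5 0x1f a3xT i
noncomputable def a3y (i : ℕ) : ℕ := tget 5 0x1f a3yT i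
noncomputable def a3 : Lev := ⟨2, 4, 21, a3y, fun i => forceN (Nat.mod i 21) a3x, a3p, fun _ => 0⟩
noncomputable def a4p (i : ℕ) : ℕ := tget 4 0xf a4pT i
noncomputable def a4x (i : ℕ) : ℕ := tget 5 0x1f a4xT i
noncomputable def a4y (i : ℕ) : ℕ := tget 5 0x1f a4yT i
noncomputable def a4 : Lev := ⟨3, 8, 20, a4y, fun i => forceN (Nat.mod i 20) a4x, a4p, fun _ => 0⟩
noncomputable def a5p (i : ℕ) : ℕ := tget 5 0x1f a5pT i
noncomputable def a5x (i : ℕ) : ℕ := tget 4 0xf a5xT i
noncomputable def a5y (i : ℕ) : ℕ := tget 5 0x1f a5yT i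
noncomputable def a5 : Lev := ⟨4, 12, 16, a5y, fun i => forceN (Nat.mod i 19) a5x, a5p, fun _ => 0⟩
noncomputable def a6p (i : ℕ) : ℕ := tget 5 0x1f a6pT i
noncomputable def a6x (i : ℕ) : ℕ := tget 2 3 a6xT i
noncomputable def a6y (i : ℕ) : ℕ := tget 5 0x1f a6yT i
noncomputable def a6 : Lev := ⟨5, 18, 3, a6y, fun i => forceN (Nat.mod i 5) a6x, a6p, fun _ => 0⟩
noncomputable def ach : List Lev := [a1, a2, a3, a4, a5, a6]
noncomputable def als : List (Lev × ℕ) := [(a2, 0), (a3, 0), (a4, 0), (a5, 0), (a6, 0)]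
theorem df0_0 : allR (defsChk A 24 9 df0) 0 24 = true := by decide +kernel
theorem a1_fix : fixChk (A) 20 24 [] a1 = true := by decide +kernel
theorem a1_pt_0 : allR (ptChk (A) 20 24 5 a1) 0 1 = true := by decide +kernel
theorem a2_fix : fixChk (A) 20 24 [0] a2 = true := by decide +kernel
theorem a2_pt_0 : allR (ptChk (A) 20 24 5 a2) 0 22 = true := by decide +kernel
theorem a3_fix : fixChk (A) 20 24 [1, 0] a3 = true := by decide +kernel
theorem a3_pt_0 : allR (ptChk (A) 20 24 5 a3) 0 21 = true := by decide +kernel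
theorem a4_fix : fixChk (A) 20 24 [2, 1, 0] a4 = true := by decide +kernel
theorem a4_pt_0 : allR (ptChk (A) 20 24 5 a4) 0 20 = true := by decide +kernel
theorem a5_fix : fixChk (A) 20 24 [3, 2, 1, 0] a5 = true := by decide +kernel
theorem a5_pt_0 : allR (ptChk (A) 20 24 5 a5) 0 16 = true := by decide +kernel
theorem a6_fix : fixChk (A) 20 24 [4, 3, 2, 1, 0] a6 = true := by decide +kernel
theorem a6_pt_0 : allR (ptChk (A) 20 24 5 a6) 0 3 = true := by decide +kernel
theorem df_ok : ∀ d ∈ df, ∀ i, 0 ≤ i → i < 24 → defChk2 A 24 9 d i = true :=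
  defs_app (allR_step df0_0 (allR_end (by decide))) (fun _ h => nomatch h)
theorem ach_ok : ChainOk (A) 20 24 5 ach [] :=
  ChainOk.cons a1_fix (allR_step a1_pt_0 (allR_end (by decide))) (ChainOk.cons a2_fix (allR_step a2_pt_0 (allR_end (by decide))) (ChainOk.cons a3_fix (allR_step a3_pt_0 (allR_end (by decide))) (ChainOk.cons a4_fix (allR_step a4_pt_0 (allR_end (by decide))) (ChainOk.cons a5_fix (allR_step a5_pt_0 (allR_end (by decide))) (ChainOk.cons a6_fix (allR_step a6_pt_0 (allR_end (by decide))) (trivial))))))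
universe u
variable {G : Type u} {X : Type*} [Group G] [MulAction G X] {pt : ℕ → X} {x : ℕ → G}
/-- The input: an action with the tables of the letters [1, 3]. -/
abbrev Inp (G : Type u) {X : Type*} [Group G] [MulAction G X] (pt : ℕ → X) : Prop := Input G pt 24 A 10 443520
abbrev Ful (pt : ℕ → X) (x : ℕ → G) : Prop := Full pt 24 A 10 443520 20 20 5 ach [0, 1, 2, 3, 4, 5] x
theorem full (I : Inp G pt) : ∃ x : ℕ → G, Ful pt x := I.full df_ok ach_ok (by decide +kernel)

end CL.Pc.GM22
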