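import Cfsg.Agent.Spor.TCSound

/-! coset enumeration certificate generated by tools/tc -/

set_option maxRecDepth 100000
set_option autoImplicit false
set_option linter.all false

namespace CL.TC.GM22L1

noncomputable def rows0 : Tr ℕ := (.leaf (nat_lit 0x36983ef604de623fc4137303ee411c060d8e453598adea09c322381447038a5c906b8627a0c2adb84db30ac0627a142a7384c16fa036f310ae61f8d4277a89ff104ba61384c27630b63505c4e2780c2b0985d230dc0a2169446f384d880db4e2100ae61f8944b2984e5605c8c21b5023118b5ea06c500d88c12f989fa305fe2097cc5afd0963311a8a215cc46c409635114775610fe20784c3be1896e315c2813c8c4f9b09e3608b661f84c57030a60312c46238a02aeb8b54304ac61b80c2b0b0b57f098a5940ffa8278d03b0982ff103c261dc0c1f8288e580ec2c198582f0c05e1613bf22378c52fa845980bba6235cc5227c8c479a88f0304e0c2dbd45b9183f3310fe2078cc3b798961816c0a2d8d84f138664714bc62562852c98ae2314bca24edec807d104f0987f0715cb2118d053a181f4511e860ffc40f0985e380cac61d48c36f98ad460df46154cc52c9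8ad130d63da812b0e2961857140858a0ed680d58c16c3045ca13ace1168c0ed6075a609fe20759c3ea987da605a660f60c3ecb079ef098461409c46258984ee1835740fc460f8944b218964411b261fbcc23f881d7810ab2137d832db85db305bec1380c311d4ac368a06cf60d9c61b520369a06d330da8e1b5ec36b186d030da301b4e442ad02d3310a702b5e84ff881d2810ae62a2fdce05b102b51856b402ce615a940b61857f102d6619b1c33118860512c2623a0c2af18768509c88198cc330b876630976e980bd0817e0c2fca05e730bd0a17b0c2f6c05fc30afe20580c4b148862715c0625d102f9985d8312b461dd0c2faa05b1f6b0679402d2605ad03341816860cda605b5433f8817d40bbce0db14274a8661415d2e2d84c4ee30b7b410ce62d8544db58a83b320467505cca298984f120ade515c560974c5b148aed40afe205f1016c987e730ca861d74c56d18b6740cbc61ca1cf2138a03b2201da306dce2991042b987dea05aa61f88c4f718766603c460dfc40b8301e2606b900f78c4b7181da3063df6304dce2dccc1fa203f1311da82dc504b1c0775303ea821c8c13e1827f102e2809c8c1f9a03d490fb6611d141f9983a3b048add405b68116600f6407dd80eba6298685afc8261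314be6057542ad98b63508c261184c0ff8815d504b6c117d80c857a41b130ae4314cc61388c0f13095d308aea1fc90178982f9314c4a2b50c37d984fb504fa8057143ac987f9304fe20409dc62ddcc1ff18b71511e0809bd0130984fe315c6e2978c1bd983f3407e060ff8c53ea017a305b860d5584ff8817a5050e7e313ea82160c1b19847e312c6e0bf8c47aa087e310eca0f94c22dd87fe30ffc61d8a81b79847e30dfe20378c1b7a840bfd2856d40cd4619a982b49866930afc619b9c2bf185fe30afc6138281bf1847e307f860bf0c13f880fe306fc60bf8c1085dcc07c100f8301f2403e4c07d100fa301f6403ecc07e100fc301fa403f4c07f100fe301fe403f8c0ff1817e401fa60200))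
noncomputable def recs0 : Tr ℕ := (.leaf (nat_lit 0x1b900d7c06980339019300c4c060002ed016d00b1c056802a10147009ec04d00255))
noncomputable def rows : Tr ℕ := rows0
noncomputable def recs : Tr ℕ := recs0
noncomputable def ci0 : CI := ⟨[], (nat_lit 0), false, (.node (nat_lit 1) (.leaf Rule.defn) (.leaf Rule.copy)), (.leaf (XRule.rot (nat_lit 0) [] 68 0))⟩
noncomputable def ci9 : CI := ⟨[0], (nat_lit 28), false, (.node (nat_lit 4) (.node (nat_lit 2) (.node (nat_lit 1) (.leaf Rule.defn) (.leaf Rule.copy)) (.node (nat_lit 1) (.leaf (Rule.fwd [nat_lit 28] 68 0)) (.leaf (Rule.fwd [nat_lit 218, nat_lit 47, nat_lit 370, nat_lit 218, nat_lit 66, nat_lit 199] 48 0)))) (.node (nat_lit 2) (.node (nat_lit 1) (.leaf (Rule.fwd [nat_lit 104] 44 0)) (.leaf (Rule.fwd [nat_lit 370, nat_lit 142, nat_lit 180, nat_lit 275, nat_lit 161] 66 0))) (.leaf (Rule.fwd [nat_lit 294, nat_lit 142, nat_lit 142, nat_lit 199, nat_lit 256] 56 0)))), (.node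 (nat_lit 1) (.leaf XRule.defn) (.leaf XRule.defn))⟩
noncomputable def ci28 : CI := ⟨[1], (nat_lit 9), false, (.node (nat_lit 4) (.node (nat_lit 2) (.node (nat_lit 1) (.leaf Rule.defn) (.leaf Rule.copy)) (.node (nat_lit 1) (.leaf (Rule.fwd [nat_lit 9] 68 0)) (.leaf (Rule.fwd [nat_lit 85] 45 1)))) (.node (nat_lit 2) (.node (nat_lit 1) (.leaf (Rule.fwd [nat_lit 218, nat_lit 47, nat_lit 199, nat_lit 351, nat_lit 66, nat_lit 199] 49 1)) (.leaf (Rule.fwd [nat_lit 180, nat_lit 294, nat_lit 161, nat_lit 123, nat_lit 351] 67 1))) (.node (nat_lit 1) (.leaf (Rule.fwd [nat_lit 237, nat_lit 218, nat_lit 123, nat_lit 123, nat_lit 275] 57 1)) (.leaf (Rule.fwd [nat_lit 47, nat_lit 123, nat_lit 218, nat_lit 47, nat_lit 351, nat_lit 237, nat_lit 142] 55 1))))), (.node (nat_lit 1) (.leaf XRule.defn) (.leaf XRule.defn))⟩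
noncomputable def ci47 : CI := ⟨[2], (nat_lit 66), false, (.node (nat_lit 4) (.node (nat_lit 2) (.node (nat_lit 1) (.leaf Rule.defn) (.leaf Rule.copy)) (.node (nat_lit 1) (.leaf (Rule.fwd [nat_lit 66] 68 0)) (.leaf (Rule.fwd [nat_lit 199, nat_lit 47, nat_lit 199, nat_lit 47, nat_lit 199] 62 0)))) (.node (nat_lit 2) (.node (nat_lit 1) (.leaf (Rule.fwd [nat_lit 294, nat_lit 123, nat_lit 351, nat_lit 66, nat_lit 237, nat_lit 370] 52 0)) (.leaf (Rule.fwd [nat_lit 370, nat_lit 142, nat_lit 275, nat_lit 66, nat_lit 351, nat_lit 256] 53 5))) (.node (nat_lit 1) (.leaf (Rule.fwd [nat_lit 199, nat_lit 351, nat_lit 66, nat_lit 199, nat_lit 28, nat_lit 218] 49 6)) (.leaf (Rule.fwd [nat_lit 9, nat_lit 351, nat_lit 142, nat_lit 66, nat_lit 351, nat_lit 199] 50 6))))), (.node (nat_lit 1) (.leaf XRule.defn) (.leaf XRule.defn))⟩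
noncomputable def ci66 : CI := ⟨[3], (nat_lit 47), false, (.node (nat_lit 8) (.node (nat_lit 4) (.node (nat_lit 2) (.node (nat_lit 1) (.leaf Rule.defn) (.leaf Rule.copy)) (.node (nat_lit 1) (.leaf (Rule.fwd [nat_lit 47] 68 0)) (.leaf (Rule.fwd [nat_lit 237, nat_lit 370, nat_lit 47, nat_lit 294, nat_lit 123, nat_lit 351] 52 4)))) (.node (nat_lit 2) (.node (nat_lit 1) (.leaf (Rule.fwd [nat_lit 199, nat_lit 28, nat_lit 218, nat_lit 47, nat_lit 199, nat_lit 351] 49 3)) (.leaf (Rule.fwd [nat_lit 351, nat_lit 199, nat_lit 47, nat_lit 9, nat_lit 351, nat_lit 142] 50 3))) (.node (nat_lit 1) (.leaf (Rule.fwd [nat_lit 199, nat_lit 142, nat_lit 66, nat_lit 9, nat_lit 123, nat_lit 256, nat_lit 370] 54 4)) (.leaf (Rule.fwd [nat_lit 351, nat_lit 256, nat_lit 47, nat_lit 370, nat_lit 142, nat_lit 275] 53 1))))) (.node (nat_lit 1) (.leaf (Rule.fwd [nat_lit 199, nat_lit 9, nat_lit 218, nat_lit 47, nat_lit 370, nat_lit 218] 48 5)) (.leaf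 (Rule.fwd [nat_lit 218, nat_lit 370, nat_lit 47, nat_lit 123, nat_lit 370, nat_lit 28] 51 0)))), (.node (nat_lit 1) (.leaf XRule.defn) (.leaf XRule.defn))⟩
noncomputable def ci85 : CI := ⟨[4], (nat_lit 104), true, (.node (nat_lit 4) (.node (nat_lit 2) (.node (nat_lit 1) (.leaf Rule.defn) (.leaf Rule.copy)) (.node (nat_lit 1) (.leaf (Rule.fwd [nat_lit 104] 68 0)) (.leaf (Rule.fwd [nat_lit 28] 45 0)))) (.node (nat_lit 2) (.node (nat_lit 1) (.leaf (Rule.fwd [nat_lit 180, nat_lit 142] 28 1)) (.leaf (Rule.fwd [nat_lit 123, nat_lit 294, nat_lit 161, nat_lit 123, nat_lit 351] 36 0))) (.node (nat_lit 1) (.leaf (Rule.fwd [nat_lit 142, nat_lit 104, nat_lit 218, nat_lit 85, nat_lit 123] 30 2)) (.leaf (Rule.fwd [nat_lit 85, nat_lit 85] 32 0))))), (.node (nat_lit 1) (.leaf XRule.defn) (.leaf XRule.ax))⟩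
noncomputable def ci104 : CI := ⟨[5], (nat_lit 85), true, (.node (nat_lit 8) (.node (nat_lit 4) (.node (nat_lit 2) (.node (nat_lit 1) (.leaf Rule.defn) (.leaf Rule.copy)) (.node (nat_lit 1) (.leaf (Rule.fwd [nat_lit 85] 68 0)) (.leaf (Rule.fwd [nat_lit 9] 44 1)))) (.node (nat_lit 2) (.node (nat_lit 1) (.leaf (Rule.fwd [nat_lit 104, nat_lit 104] 33 0)) (.leaf (Rule.fwd [nat_lit 199, nat_lit 85, nat_lit 123, nat_lit 104, nat_lit 142] 31 1))) (.node (nat_lit 1) (.leaf (Rule.fwd [nat_lit 313, nat_lit 104, nat_lit 313] 35 1)) (.leaf (Rule.fwd [nat_lit 218, nat_lit 85, nat_lit 123, nat_lit 85, nat_lit 142] 30 4))))) (.node (nat_lit 1) (.leaf (Rule.fwd [nat_lit 370, nat_lit 142, nat_lit 180, nat_lit 275, nat_lit 142] 37 1)) (.leaf (Rule.fwd [nat_lit 123, nat_lit 161] 29 2)))), (.node (nat_lit 1) (.leaf XRule.defn) (.leaf XRule.ax))⟩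
noncomputable def ci123 : CI := ⟨[6], (nat_lit 142), true, (.node (nat_lit 8) (.node (nat_lit 4) (.node (nat_lit 2) (.node (nat_lit 1) (.leaf Rule.defn) (.leaf Rule.copy)) (.node (nat_lit 1) (.leaf (Rule.fwd [nat_lit 142] 68 0)) (.leaf (Rule.fwd [nat_lit 161, nat_lit 104] 29 1)))) (.node (nat_lit 2) (.node (nat_lit 1) (.leaf (Rule.fwd [nat_lit 370, nat_lit 28, nat_lit 66, nat_lit 218, nat_lit 370, nat_lit 47] 51 3)) (.leaf (Rule.fwd [nat_lit 123, nat_lit 275, nat_lit 28, nat_lit 237, nat_lit 218] 57 4))) (.node (nat_lit 1) (.leaf (Rule.fwd [nat_lit 85, nat_lit 142, nat_lit 104, nat_lit 218, nat_lit 85] 30 1)) (.leaf (Rule.fwd [nat_lit 199, nat_lit 142, nat_lit 294, nat_lit 161, nat_lit 351] 64 0))))) (.node (nat_lit 1) (.leaf (Rule.fwd [nat_lit 275, nat_lit 28, nat_lit 237, nat_lit 218, nat_lit 123] 57 3)) (.leaf (Rule.fwd [nat_lit 218, nat_lit 47, nat_lit 351, nat_lit 237, nat_lit 142, nat_lit 28, nat_lit 47] 55 7)))),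 (.node (nat_lit 1) (.leaf XRule.defn) (.leaf XRule.ax))⟩
noncomputable def ci142 : CI := ⟨[7], (nat_lit 123), true, (.node (nat_lit 8) (.node (nat_lit 4) (.node (nat_lit 2) (.node (nat_lit 1) (.leaf Rule.defn) (.leaf Rule.copy)) (.node (nat_lit 1) (.leaf (Rule.fwd [nat_lit 123] 68 0)) (.leaf (Rule.fwd [nat_lit 85, nat_lit 180] 28 0)))) (.node (nat_lit 2) (.node (nat_lit 1) (.leaf (Rule.fwd [nat_lit 275, nat_lit 66, nat_lit 351, nat_lit 256, nat_lit 47, nat_lit 370] 53 3)) (.leaf (Rule.fwd [nat_lit 351, nat_lit 180, nat_lit 332, nat_lit 123, nat_lit 199] 42 2))) (.node (nat_lit 1) (.leaf (Rule.fwd [nat_lit 294, nat_lit 161, nat_lit 351, nat_lit 123, nat_lit 199] 64 2)) (.leaf (Rule.fwd [nat_lit 104, nat_lit 370, nat_lit 142, nat_lit 180, nat_lit 275] 37 2))))) (.leaf (Rule.fwd [nat_lit 199, nat_lit 256, nat_lit 9, nat_lit 294, nat_lit 142] 56 3))), (.node (nat_lit 1) (.leaf XRule.defn) (.leaf XRule.ax))⟩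
noncomputable def ci161 : CI := ⟨[8], (nat_lit 180), true, (.node (nat_lit 8) (.node (nat_lit 4) (.node (nat_lit 2) (.node (nat_lit 1) (.leaf Rule.defn) (.leaf Rule.copy)) (.node (nat_lit 1) (.leaf (Rule.fwd [nat_lit 104, nat_lit 123] 29 0)) (.leaf (Rule.fwd [nat_lit 199, nat_lit 256, nat_lit 199, nat_lit 161] 16 2)))) (.node (nat_lit 2) (.node (nat_lit 1) (.leaf (Rule.fwd [nat_lit 180] 68 0)) (.leaf (Rule.fwd [nat_lit 9, nat_lit 370, nat_lit 142, nat_lit 180, nat_lit 275] 66 5))) (.node (nat_lit 1) (.leaf (Rule.fwd [nat_lit 351, nat_lit 123, nat_lit 199, nat_lit 142, nat_lit 294] 64 4)) (.leaf (Rule.fwd [nat_lit 123, nat_lit 351, nat_lit 85, nat_lit 123, nat_lit 294] 36 3))))) (.node (nat_lit 2) (.node (nat_lit 1) (.leaf (Rule.fwd [nat_lit 161, nat_lit 199, nat_lit 256, nat_lit 199] 16 1)) (.leaf (Rule.fwd [nat_lit 199, nat_lit 294, nat_lit 161, nat_lit 256, nat_lit 332] 26 0))) (.node (nat_lit 1) (.leaf (Rule.fwd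 [nat_lit 218, nat_lit 161, nat_lit 199, nat_lit 161, nat_lit 332, nat_lit 218] 20 1)) (.leaf (Rule.fwd [nat_lit 237, nat_lit 180, nat_lit 180, nat_lit 199, nat_lit 161] 40 1))))), (.node (nat_lit 1) (.leaf XRule.defn) (.leaf XRule.ax))⟩
noncomputable def ci180 : CI := ⟨[9], (nat_lit 161), true, (.node (nat_lit 8) (.node (nat_lit 4) (.node (nat_lit 2) (.node (nat_lit 1) (.leaf Rule.defn) (.leaf Rule.copy)) (.node (nat_lit 1) (.leaf (Rule.fwd [nat_lit 161] 68 0)) (.leaf (Rule.fwd [nat_lit 218, nat_lit 237, nat_lit 218, nat_lit 180] 17 2)))) (.node (nat_lit 2) (.node (nat_lit 1) (.leaf (Rule.fwd [nat_lit 180, nat_lit 294, nat_lit 256, nat_lit 218, nat_lit 313] 61 2)) (.leaf (Rule.fwd [nat_lit 180, nat_lit 218, nat_lit 237, nat_lit 218] 17 3))) (.node (nat_lit 1) (.leaf (Rule.fwd [nat_lit 180, nat_lit 218, nat_lit 161, nat_lit 161, nat_lit 256] 41 2)) (.leaf (Rule.fwd [nat_lit 313, nat_lit 237, nat_lit 180, nat_lit 275,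 nat_lit 218] 27 1))))) (.leaf (Rule.fwd [nat_lit 294, nat_lit 218, nat_lit 180, nat_lit 218, nat_lit 161, nat_lit 199] 18 5))), (.node (nat_lit 1) (.leaf XRule.defn) (.leaf XRule.ax))⟩
noncomputable def ci199 : CI := ⟨[10], (nat_lit 218), true, (.node (nat_lit 8) (.node (nat_lit 4) (.node (nat_lit 2) (.node (nat_lit 1) (.leaf Rule.defn) (.leaf Rule.copy)) (.node (nat_lit 1) (.leaf (Rule.fwd [nat_lit 218] 68 0)) (.leaf (Rule.fwd [nat_lit 199, nat_lit 199] 22 0)))) (.node (nat_lit 2) (.node (nat_lit 1) (.leaf (Rule.fwd [nat_lit 142, nat_lit 66, nat_lit 9, nat_lit 123, nat_lit 256, nat_lit 370, nat_lit 66] 54 5)) (.leaf (Rule.fwd [nat_lit 370, nat_lit 199, nat_lit 313] 24 2))) (.node (nat_lit 1) (.leaf (Rule.fwd [nat_lit 237, nat_lit 199, nat_lit 237] 58 0)) (.leaf (Rule.fwd [nat_lit 161, nat_lit 161, nat_lit 199, nat_lit 256] 16 0))))) (.node (nat_lit 1) (.leaf (Rule.fwd [nat_lit 294, nat_lit 161, nat_lit 256, nat_lit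 332, nat_lit 161] 26 1)) (.leaf (Rule.fwd [nat_lit 142, nat_lit 351, nat_lit 180, nat_lit 332, nat_lit 123] 42 1)))), (.node (nat_lit 1) (.leaf XRule.defn) (.leaf XRule.ax))⟩
noncomputable def ci218 : CI := ⟨[11], (nat_lit 199), true, (.node (nat_lit 8) (.node (nat_lit 4) (.node (nat_lit 2) (.node (nat_lit 1) (.leaf Rule.defn) (.leaf Rule.copy)) (.node (nat_lit 1) (.leaf (Rule.fwd [nat_lit 199] 68 0)) (.leaf (Rule.fwd [nat_lit 85, nat_lit 123, nat_lit 85, nat_lit 142, nat_lit 104] 30 5)))) (.node (nat_lit 2) (.node (nat_lit 1) (.leaf (Rule.fwd [nat_lit 256, nat_lit 218, nat_lit 256] 59 1)) (.leaf (Rule.fwd [nat_lit 332, nat_lit 218, nat_lit 351] 25 3))) (.node (nat_lit 1) (.leaf (Rule.fwd [nat_lit 161, nat_lit 199, nat_lit 180, nat_lit 294, nat_lit 218, nat_lit 180] 18 2)) (.leaf (Rule.fwd [nat_lit 123, nat_lit 123, nat_lit 275, nat_lit 28, nat_lit 237] 57 5))))) (.node (nat_lit 2) (.node (nat_lit 1) (.leaf (Rule.fwd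 [nat_lit 180, nat_lit 199, nat_lit 161, nat_lit 199, nat_lit 275, nat_lit 161] 19 5)) (.leaf (Rule.fwd [nat_lit 161, nat_lit 218, nat_lit 161, nat_lit 199, nat_lit 161, nat_lit 332] 20 0))) (.leaf (Rule.fwd [nat_lit 47, nat_lit 199, nat_lit 351, nat_lit 66, nat_lit 199, nat_lit 28] 49 0)))), (.node (nat_lit 1) (.leaf XRule.defn) (.leaf XRule.ax))⟩
noncomputable def ci237 : CI := ⟨[12], (nat_lit 256), true, (.node (nat_lit 8) (.node (nat_lit 4) (.node (nat_lit 2) (.node (nat_lit 1) (.leaf Rule.defn) (.leaf Rule.copy)) (.node (nat_lit 1) (.leaf (Rule.fwd [nat_lit 256] 68 0)) (.leaf (Rule.fwd [nat_lit 370, nat_lit 47, nat_lit 294, nat_lit 123, nat_lit 351, nat_lit 66] 52 5)))) (.node (nat_lit 2) (.node (nat_lit 1) (.leaf (Rule.fwd [nat_lit 237, nat_lit 237] 4 0)) (.leaf (Rule.fwd [nat_lit 351, nat_lit 237, nat_lit 351] 14 0))) (.node (nat_lit 1) (.leaf (Rule.fwd [nat_lit 218, nat_lit 123, nat_lit 123, nat_lit 275, nat_lit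 28] 57 0)) (.leaf (Rule.fwd [nat_lit 199, nat_lit 237, nat_lit 199] 58 1))))) (.node (nat_lit 2) (.node (nat_lit 1) (.leaf (Rule.fwd [nat_lit 294, nat_lit 237, nat_lit 294] 10 0)) (.leaf (Rule.fwd [nat_lit 218, nat_lit 180, nat_lit 180, nat_lit 218] 17 0))) (.leaf (Rule.fwd [nat_lit 332, nat_lit 237, nat_lit 332] 12 0)))), (.node (nat_lit 1) (.leaf XRule.defn) (.leaf XRule.ax))⟩
noncomputable def ci256 : CI := ⟨[13], (nat_lit 237), true, (.node (nat_lit 4) (.node (nat_lit 2) (.node (nat_lit 1) (.leaf Rule.defn) (.leaf Rule.copy)) (.node (nat_lit 1) (.leaf (Rule.fwd [nat_lit 237] 68 0)) (.leaf (Rule.fwd [nat_lit 275, nat_lit 256, nat_lit 275] 11 1)))) (.leaf (Rule.fwd [nat_lit 218, nat_lit 313, nat_lit 180, nat_lit 180, nat_lit 294] 61 5))), (.node (nat_lit 1) (.leaf XRule.defn) (.leaf XRule.ax))⟩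
noncomputable def ci275 : CI := ⟨[14], (nat_lit 294), true, (.node (nat_lit 4) (.node (nat_lit 2) (.node (nat_lit 1) (.leaf Rule.defn) (.leaf Rule.copy)) (.node (nat_lit 1) (.leaf (Rule.fwd [nat_lit 161, nat_lit 161, nat_lit 332, nat_lit 199, nat_lit 237] 60 5)) (.leaf (Rule.fwd [nat_lit 294] 68 0)))) (.node (nat_lit 2) (.node (nat_lit 1) (.leaf (Rule.fwd [nat_lit 370, nat_lit 313] 2 1)) (.leaf (Rule.fwd [nat_lit 275, nat_lit 275] 6 0))) (.node (nat_lit 1) (.leaf (Rule.fwd [nat_lit 332, nat_lit 275, nat_lit 332] 38 0)) (.leaf (Rule.fwd [nat_lit 218, nat_lit 180, nat_lit 313, nat_lit 237, nat_lit 180] 27 3))))), (.node (nat_lit 1) (.leaf XRule.defn) (.leaf XRule.ax))⟩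
noncomputable def ci294 : CI := ⟨[15], (nat_lit 275), true, (.node (nat_lit 8) (.node (nat_lit 4) (.node (nat_lit 2) (.node (nat_lit 1) (.leaf Rule.defn) (.leaf Rule.copy)) (.node (nat_lit 1) (.leaf (Rule.fwd [nat_lit 275] 68 0)) (.leaf (Rule.fwd [nat_lit 161, nat_lit 123, nat_lit 351, nat_lit 85, nat_lit 123] 36 2)))) (.node (nat_lit 2) (.node (nat_lit 1) (.leaf (Rule.fwd [nat_lit 313, nat_lit 294, nat_lit 313] 39 1)) (.leaf (Rule.fwd [nat_lit 294, nat_lit 294] 7 0))) (.node (nat_lit 1) (.leaf (Rule.fwd [nat_lit 142, nat_lit 142, nat_lit 199, nat_lit 256, nat_lit 9] 56 1)) (.leaf (Rule.fwd [nat_lit 123, nat_lit 351, nat_lit 66, nat_lit 237, nat_lit 370, nat_lit 47] 52 1))))) (.node (nat_lit 1) (.leaf (Rule.fwd [nat_lit 161, nat_lit 256, nat_lit 332, nat_lit 161, nat_lit 199] 26 2)) (.leaf (Rule.fwd [nat_lit 218, nat_lit 180, nat_lit 218, nat_lit 161, nat_lit 199, nat_lit 180] 18 6)))), (.node (nat_lit 1) (.leaf XRule.defn)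 (.leaf XRule.ax))⟩
noncomputable def ci313 : CI := ⟨[16], (nat_lit 332), true, (.node (nat_lit 4) (.node (nat_lit 2) (.node (nat_lit 1) (.leaf Rule.defn) (.leaf Rule.copy)) (.node (nat_lit 1) (.leaf (Rule.fwd [nat_lit 332] 68 0)) (.leaf (Rule.fwd [nat_lit 199, nat_lit 370, nat_lit 199] 24 1)))) (.node (nat_lit 2) (.node (nat_lit 1) (.leaf (Rule.fwd [nat_lit 275, nat_lit 370] 2 0)) (.leaf (Rule.fwd [nat_lit 313, nat_lit 313] 8 0))) (.node (nat_lit 1) (.leaf (Rule.fwd [nat_lit 256, nat_lit 313, nat_lit 256] 13 0)) (.leaf (Rule.fwd [nat_lit 161, nat_lit 370, nat_lit 123, nat_lit 218, nat_lit 142] 43 0))))), (.node (nat_lit 1) (.leaf XRule.defn) (.leaf XRule.ax))⟩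
noncomputable def ci332 : CI := ⟨[17], (nat_lit 313), true, (.node (nat_lit 4) (.node (nat_lit 2) (.node (nat_lit 1) (.leaf Rule.defn) (.leaf Rule.copy)) (.node (nat_lit 1) (.leaf (Rule.fwd [nat_lit 313] 68 0)) (.leaf (Rule.fwd [nat_lit 351, nat_lit 294] 3 1)))) (.node (nat_lit 1) (.leaf (Rule.fwd [nat_lit 85, nat_lit 332, nat_lit 85] 34 1)) (.leaf (Rule.fwd [nat_lit 123, nat_lit 199, nat_lit 142, nat_lit 351, nat_lit 180] 42 5)))), (.node (nat_lit 1) (.leaf XRule.defn) (.leaf XRule.ax))⟩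
noncomputable def ci351 : CI := ⟨[18], (nat_lit 370), true, (.node (nat_lit 4) (.node (nat_lit 2) (.node (nat_lit 1) (.leaf Rule.defn) (.leaf Rule.copy)) (.node (nat_lit 1) (.leaf (Rule.fwd [nat_lit 142, nat_lit 66, nat_lit 351, nat_lit 199, nat_lit 47, nat_lit 9] 50 1)) (.leaf (Rule.fwd [nat_lit 370] 68 0)))) (.node (nat_lit 2) (.node (nat_lit 1) (.leaf (Rule.fwd [nat_lit 237, nat_lit 351, nat_lit 237] 14 1)) (.leaf (Rule.fwd [nat_lit 294, nat_lit 332] 3 0))) (.node (nat_lit 1) (.leaf (Rule.fwd [nat_lit 351, nat_lit 351] 0 0)) (.leaf (Rule.fwd [nat_lit 218, nat_lit 332, nat_lit 218] 25 0))))), (.node (nat_lit 1) (.leaf XRule.defn) (.leaf XRule.ax))⟩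
noncomputable def ci370 : CI := ⟨[19], (nat_lit 351), true, (.node (nat_lit 8) (.node (nat_lit 4) (.node (nat_lit 2) (.node (nat_lit 1) (.leaf Rule.defn) (.leaf Rule.copy)) (.node (nat_lit 1) (.leaf (Rule.fwd [nat_lit 351] 68 0)) (.leaf (Rule.fwd [nat_lit 47, nat_lit 123, nat_lit 370, nat_lit 28, nat_lit 66, nat_lit 218] 51 5)))) (.node (nat_lit 2) (.node (nat_lit 1) (.leaf (Rule.fwd [nat_lit 218, nat_lit 66, nat_lit 199, nat_lit 9, nat_lit 218, nat_lit 47] 48 3)) (.leaf (Rule.fwd [nat_lit 370, nat_lit 370] 1 0))) (.node (nat_lit 1) (.leaf (Rule.fwd [nat_lit 66, nat_lit 199, nat_lit 142, nat_lit 66, nat_lit 9, nat_lit 123, nat_lit 256] 54 3)) (.leaf (Rule.fwd [nat_lit 199, nat_lit 313, nat_lit 199] 24 3))))) (.node (nat_lit 2) (.node (nat_lit 1) (.leaf (Rule.fwd [nat_lit 180, nat_lit 275, nat_lit 123, nat_lit 218, nat_lit 142] 65 0)) (.leaf (Rule.fwd [nat_lit 142, nat_lit 180, nat_lit 275, nat_lit 161, nat_lit 9] 66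 1))) (.leaf (Rule.fwd [nat_lit 142, nat_lit 275, nat_lit 66, nat_lit 351, nat_lit 256, nat_lit 47] 53 4)))), (.node (nat_lit 1) (.leaf XRule.defn) (.leaf XRule.ax))⟩
noncomputable def outer : Tr CI := (.node (nat_lit 1) (.node (nat_lit 2) (.node (nat_lit 4) (.node (nat_lit 8) (.node (nat_lit 256) (.leaf ci0) (.leaf ci256)) (.leaf ci104)) (.node (nat_lit 8) (.leaf ci180) (.node (nat_lit 16) (.leaf ci332) (.leaf ci28)))) (.node (nat_lit 4) (.node (nat_lit 8) (.node (nat_lit 16) (.leaf ci66) (.leaf ci370)) (.leaf ci218)) (.node (nat_lit 8) (.leaf ci294) (.leaf ci142)))) (.node (nat_lit 2) (.node (nat_lit 4) (.node (nat_lit 8) (.leaf ci161) (.node (nat_lit 16) (.leaf ci9) (.leaf ci313))) (.node (nat_lit 8) (.leaf ci85) (.leaf ci237))) (.node (nat_lit 4) (.node (nat_lit 8) (.leaf ci275) (.leaf ci123)) (.node (nat_lit 8) (.leaf ci199) (.node (nat_lit 16) (.leaf ci47) (.leaf ci351))))))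
def cols : List ℕ := [nat_lit 9, nat_lit 28, nat_lit 47, nat_lit 66, nat_lit 85, nat_lit 104, nat_lit 123, nat_lit 142, nat_lit 161, nat_lit 180, nat_lit 199, nat_lit 218, nat_lit 237, nat_lit 256, nat_lit 275, nat_lit 294, nat_lit 313, nat_lit 332, nat_lit 351, nat_lit 370]
def invL : List ℕ := [1, 0, 3, 2, 5, 4, 7, 6, 9, 8, 11, 10, 13, 12, 15, 14, 17, 16, 19, 18]
def rels : List (List ℕ) := [[18, 18, 18], [16, 14, 19], [12, 12, 12], [14, 14, 14], [16, 16, 16], [12, 15, 12, 15], [12, 17, 12, 17], [12, 18, 12, 18], [10, 8, 8, 10, 13], [11, 9, 11, 8, 10, 9, 15], [11, 8, 11, 8, 10, 8, 17], [10, 10, 10], [10, 16, 10, 19], [8, 10, 15, 8, 13, 17], [7, 4, 9], [4, 6, 4, 7, 5, 11], [4, 4, 4], [4, 17, 4, 17], [4, 6, 15, 8, 6, 18], [14, 17, 14, 17], [8, 8, 12, 9, 9, 10], [6, 10, 7, 18, 9, 17], [0, 5], [3, 3, 0, 3, 0, 3, 1, 2, 7], [0, 11, 2, 19, 11, 3, 10], [0, 18, 7, 3, 18, 10, 2], [2, 15, 6, 18, 3, 12, 19], [0, 6, 13, 19, 3,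 10, 7, 3], [0, 15, 7, 7, 10, 13], [10, 12, 10, 12], [8, 8, 17, 10, 12, 14], [2, 10, 2, 10, 2, 10], [6, 10, 7, 15, 8, 18], [0, 19, 7, 9, 14, 8]]
def subs : List (List ℕ) := [[4], [5], [6], [7], [8], [9], [10], [11], [12], [13], [14], [15], [16], [17], [18], [19]]
noncomputable def row (n : ℕ) : ℕ := rowOf (fun h => rows.get h) (nat_lit 5) (nat_lit 31) (nat_lit 389) (nat_lit 0x1fffffffffffffffffffffffffffffffffffffffffffffffffffffffffffffffffffffffffffffffffffffffffffffffff) n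
noncomputable def xleaf (h : ℕ) : ℕ := recs.get h
noncomputable def mF : ℕ → ℕ := mainRow row (rowChk row xleaf outer (nat_lit 8) (nat_lit 255) (nat_lit 15) (nat_lit 12) (nat_lit 4095) (nat_lit 524287) (nat_lit 128) (nat_lit 22) (nat_lit 256) (nat_lit 9) (nat_lit 511) (nat_lit 17) (nat_lit 131071) (nat_lit 8) (nat_lit 255) cols)
noncomputable def xF : ℕ → ℕ → ℕ := xLeaf row xleaf outer (nat_lit 255) (nat_lit 12) (nat_lit 524287) (nat_lit 128) (nat_lit 22) (nat_lit 9) (nat_lit 511) (nat_lit 17) (nat_lit 131071) (nat_lit 130560) (nat_lit 8) (nat_lit 255) (nat_lit 10) (nat_lit 1023) (nat_lit 2) (nat_lit 3) (nat_lit 370) (nat_lit 11264) (nat_lit 128)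
noncomputable def cert : Cert := ⟨row, xleaf, outer, cols, nat_lit 8, nat_lit 255, nat_lit 15, nat_lit 12, nat_lit 4095, nat_lit 524287, nat_lit 128, nat_lit 22, nat_lit 256, nat_lit 9, nat_lit 511, nat_lit 17, nat_lit 131071, nat_lit 130560, nat_lit 8, nat_lit 255, nat_lit 10, nat_lit 1023, nat_lit 2, nat_lit 3, nat_lit 370, nat_lit 11264, nat_lit 128, nat_lit 19, nat_lit 128, nat_lit 1⟩
theorem tabok : tabOK (fun i => invL.getD i i) rels subs outer cols (nat_lit 9) (nat_lit 370) = true := by decide +kernel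
theorem m0 : rng mF (nat_lit 1) (nat_lit 22) = 0 := by decide +kernel
noncomputable def s0 : List ℕ := [nat_lit 0x401004010040100401000000000000000000000000000000000000000000000000000000000000000000000000000000000000000000000000000000000000000000000000000000000000000000000000000000000000000000000000000000000000000000000000000000000000000000000000000000000000000000000000000000000000000000000000000000000000000000000000000000000000]
theorem x0 : xs xF s0 (nat_lit 1) = 0 := by decide +kernel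
theorem mz0 : AllZ mF 1 (nat_lit 23) := (AllZ.step (AllZ.nil mF 1) (nat_lit 22) (nat_lit 23) rfl m0)
theorem xz0 : XZ xF (nat_lit 1) := (XZ.step (XZ.nil xF) s0 (nat_lit 1) (nat_lit 1) (by decide +kernel) x0)
/-- the certificate (22 points) is valid -/
theorem valid : cert.Valid (fun i => invL.getD i i) rels subs 20 :=
  ⟨by decide +kernel, tabok, by decide +kernel, mz0, xz0⟩
theorem cert_N : cert.N = 22 := rfl

end CL.TC.GM22L1
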