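import Cfsg.Agent.Spor.TCSound

/-! coset enumeration certificate generated by tools/tc -/

set_option maxRecDepth 100000
set_option autoImplicit false
set_option linter.all false

namespace CL.TC.GM22L2

noncomputable def rows0 : Tr ℕ := (.leaf (nat_lit 0x1cd84b8985f2307c6a1bfc4137187e360dc522188c471c06e770ec060b810171283e6311c2624dabc60d7903bb20762506bc61d6dc1af18759306c0e0b76c1b1384dd30cbc62780c43f8825e80a0e74609c261bbd43fb3067c312fe207bcc2f81827230bde60f8d8375287e170cbec2980c3eeb0631fb305f2315e8613d1413f881fd513ce611c603391866490acca0fa1413030560308c4c2b60c45b5b0c476b88f630ace6119cc233b087f103dcc1f80c371b8ae1308c86119101f298759812cee2ab4cc615d8c2372886d310cc623b0c23098ae160df861ffc40f51856c50ac2c2974c2aea885c3103def307dea07b98337189ef515dcc09b4c477c01ff103fac21a4c4f4b05e730bc261b794330b09a3ae98a5f306c460dd4c52dc835f714b300d7e85343876730efe20798c573208e0706f861be8c24d189c4f1184e2315c8e0f8a0331185e0310c462b88c570d0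8df30bc46278983ff881fc409fac1c2ffe205e5413a989ed30ff861784c37818966308d0c15ce04af38a5b906bc61180c4ee189dd30f9372715ea625fc40bba81e380dfa819c4c138289f1407e6e27a0c3f0406df309d081fd982fa985c03398467610d2e11dd0478b857030ae2613fc40b19896730cd6621ad842f3885f312ba6297cc11438d8379989f7504eac25d181fa98172302e4c15e4c23f8815e606c2629850130305fb70ef661a7beea21a202b4308e830adaa21a18473a8668712fe205e94272b08e2711c2a257d433c983fb3064777403e0c1f8cc379b0af5502e6613dcc1fc203f0513e0617fc40b298961315c6623f0c1bd2041a304075f914c26298e03ad18a5a30eb4e2960c3ae18a5e505b461974c26f9877f102f8a11f581c5f78c16fc82dd305bd20be5017c182de305be80b74c1af98a61515f6807fc40af98afb305f8a0a42f0619e900b998976309da61ff8c578a09f270bf0609e501339897c302fe20380c2704057e314216e30fec60fd8c2fc1817e313fc625b8c3ff188fe310fc61fe8c17f1877e30dfa803f0c0bf880827c9827e30cf2807f8c2fb284f4307fc615cd427f184fe308fa809f8c1ff1837e305fe203f500c39e4c07d100fa301f6403ecc07e100fc301fa403f4c07f100fe301fe403f0c0ff1827e303fc60400))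
noncomputable def recs0 : Tr ℕ := (.leaf (nat_lit 0x19300c4c060002ed016d00b1c056802a10147009ec04d00255))
noncomputable def rows : Tr ℕ := rows0
noncomputable def recs : Tr ℕ := recs0
noncomputable def ci0 : CI := ⟨[], (nat_lit 0), false, (.node (nat_lit 1) (.leaf Rule.defn) (.leaf Rule.copy)), (.leaf (XRule.rot (nat_lit 0) [] 44 0))⟩
noncomputable def ci9 : CI := ⟨[0], (nat_lit 28), false, (.node (nat_lit 4) (.node (nat_lit 2) (.node (nat_lit 1) (.leaf Rule.defn) (.leaf Rule.copy)) (.node (nat_lit 1) (.leaf (Rule.fwd [nat_lit 28] 44 0)) (.leaf (Rule.fwd [nat_lit 9, nat_lit 9] 32 0)))) (.node (nat_lit 2) (.node (nat_lit 1) (.leaf (Rule.fwd [nat_lit 66, nat_lit 28, nat_lit 142, nat_lit 9, nat_lit 47] 30 2)) (.leaf (Rule.fwd [nat_lit 104, nat_lit 66] 28 1))) (.node (nat_lit 1) (.leaf (Rule.fwd [nat_lit 256, nat_lit 9, nat_lit 256] 34 0)) (.leaf (Rule.fwd [nat_lit 47, nat_lit 28, nat_lit 66, nat_lit 28, nat_lit 123] 31 5))))),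 (.node (nat_lit 1) (.leaf XRule.defn) (.leaf XRule.defn))⟩
noncomputable def ci28 : CI := ⟨[1], (nat_lit 9), false, (.node (nat_lit 4) (.node (nat_lit 2) (.node (nat_lit 1) (.leaf Rule.defn) (.leaf Rule.copy)) (.node (nat_lit 1) (.leaf (Rule.fwd [nat_lit 9] 44 0)) (.leaf (Rule.fwd [nat_lit 123, nat_lit 9, nat_lit 47, nat_lit 28, nat_lit 66] 31 1)))) (.node (nat_lit 2) (.node (nat_lit 1) (.leaf (Rule.fwd [nat_lit 142, nat_lit 9, nat_lit 47, nat_lit 9, nat_lit 66] 30 4)) (.leaf (Rule.fwd [nat_lit 237, nat_lit 28, nat_lit 237] 35 1))) (.node (nat_lit 1) (.leaf (Rule.fwd [nat_lit 28, nat_lit 28] 33 0)) (.leaf (Rule.fwd [nat_lit 294, nat_lit 66, nat_lit 104, nat_lit 199, nat_lit 66] 37 1))))), (.node (nat_lit 1) (.leaf XRule.defn) (.leaf XRule.defn))⟩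
noncomputable def ci47 : CI := ⟨[2], (nat_lit 66), false, (.node (nat_lit 4) (.node (nat_lit 2) (.node (nat_lit 1) (.leaf Rule.defn) (.leaf Rule.copy)) (.node (nat_lit 1) (.leaf (Rule.fwd [nat_lit 66] 44 0)) (.leaf (Rule.fwd [nat_lit 85, nat_lit 28] 29 1)))) (.node (nat_lit 2) (.node (nat_lit 1) (.leaf (Rule.fwd [nat_lit 218, nat_lit 85, nat_lit 47, nat_lit 275, nat_lit 9] 36 1)) (.leaf (Rule.fwd [nat_lit 142, nat_lit 66, nat_lit 237, nat_lit 85, nat_lit 294] 43 3))) (.leaf (Rule.fwd [nat_lit 28, nat_lit 66, nat_lit 28, nat_lit 123, nat_lit 9] 31 4)))), (.node (nat_lit 1) (.leaf XRule.defn) (.leaf XRule.defn))⟩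
noncomputable def ci66 : CI := ⟨[3], (nat_lit 47), false, (.node (nat_lit 4) (.node (nat_lit 2) (.node (nat_lit 1) (.leaf Rule.defn) (.leaf Rule.copy)) (.node (nat_lit 1) (.leaf (Rule.fwd [nat_lit 47] 44 0)) (.leaf (Rule.fwd [nat_lit 9, nat_lit 104] 28 0)))) (.node (nat_lit 2) (.node (nat_lit 1) (.leaf (Rule.fwd [nat_lit 275, nat_lit 104, nat_lit 256, nat_lit 47, nat_lit 123] 42 2)) (.leaf (Rule.fwd [nat_lit 104, nat_lit 199, nat_lit 66, nat_lit 28, nat_lit 294] 37 5))) (.leaf (Rule.fwd [nat_lit 237, nat_lit 85, nat_lit 294, nat_lit 47, nat_lit 142] 43 1)))), (.node (nat_lit 1) (.leaf XRule.defn) (.leaf XRule.defn))⟩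
noncomputable def ci85 : CI := ⟨[4], (nat_lit 104), true, (.node (nat_lit 8) (.node (nat_lit 4) (.node (nat_lit 2) (.node (nat_lit 1) (.leaf Rule.defn) (.leaf Rule.copy)) (.node (nat_lit 1) (.leaf (Rule.fwd [nat_lit 104] 44 0)) (.leaf (Rule.fwd [nat_lit 28, nat_lit 47] 29 0)))) (.node (nat_lit 2) (.node (nat_lit 1) (.leaf (Rule.fwd [nat_lit 180, nat_lit 256, nat_lit 85, nat_lit 123, nat_lit 218] 26 3)) (.leaf (Rule.fwd [nat_lit 123, nat_lit 180, nat_lit 123, nat_lit 85] 16 2))) (.node (nat_lit 1) (.leaf (Rule.fwd [nat_lit 256, nat_lit 142, nat_lit 85, nat_lit 142, nat_lit 85, nat_lit 123] 20 5)) (.leaf (Rule.fwd [nat_lit 123, nat_lit 218, nat_lit 85, nat_lit 180, nat_lit 256] 26 0))))) (.leaf (Rule.fwd [nat_lit 142, nat_lit 104, nat_lit 123, nat_lit 85, nat_lit 123, nat_lit 199] 19 6))), (.node (nat_lit 1) (.leaf XRule.defn) (.leaf XRule.ax))⟩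
noncomputable def ci104 : CI := ⟨[5], (nat_lit 85), true, (.node (nat_lit 4) (.node (nat_lit 2) (.node (nat_lit 1) (.leaf Rule.defn) (.leaf Rule.copy)) (.node (nat_lit 1) (.leaf (Rule.fwd [nat_lit 85] 44 0)) (.leaf (Rule.fwd [nat_lit 66, nat_lit 9] 28 2)))) (.node (nat_lit 2) (.node (nat_lit 1) (.leaf (Rule.fwd [nat_lit 142, nat_lit 85, nat_lit 85, nat_lit 180, nat_lit 104] 41 1)) (.leaf (Rule.fwd [nat_lit 237, nat_lit 161, nat_lit 104, nat_lit 199, nat_lit 142] 27 1))) (.leaf (Rule.fwd [nat_lit 142, nat_lit 104, nat_lit 123, nat_lit 104, nat_lit 123, nat_lit 237] 21 6)))), (.node (nat_lit 1) (.leaf XRule.defn) (.leaf XRule.ax))⟩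
noncomputable def ci123 : CI := ⟨[6], (nat_lit 142), true, (.node (nat_lit 8) (.node (nat_lit 4) (.node (nat_lit 2) (.node (nat_lit 1) (.leaf Rule.defn) (.leaf Rule.copy)) (.node (nat_lit 1) (.leaf (Rule.fwd [nat_lit 142] 44 0)) (.leaf (Rule.fwd [nat_lit 66, nat_lit 275, nat_lit 104, nat_lit 256, nat_lit 47] 42 1)))) (.node (nat_lit 2) (.node (nat_lit 1) (.leaf (Rule.fwd [nat_lit 9, nat_lit 47, nat_lit 28, nat_lit 66, nat_lit 28] 31 0)) (.leaf (Rule.fwd [nat_lit 123, nat_lit 123] 22 0))) (.node (nat_lit 1) (.leaf (Rule.fwd [nat_lit 294, nat_lit 123, nat_lit 237] 24 2)) (.leaf (Rule.fwd [nat_lit 237, nat_lit 123, nat_lit 294] 24 0))))) (.node (nat_lit 2) (.node (nat_lit 1) (.leaf (Rule.fwd [nat_lit 85, nat_lit 256, nat_lit 142, nat_lit 85, nat_lit 142, nat_lit 85] 20 4)) (.leaf (Rule.fwd [nat_lit 85, nat_lit 85, nat_lit 123, nat_lit 180] 16 0))) (.leaf (Rule.fwd [nat_lit 237, nat_lit 104, nat_lit 142, nat_lit 104, nat_lit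 123, nat_lit 104] 21 1)))), (.node (nat_lit 1) (.leaf XRule.defn) (.leaf XRule.ax))⟩
noncomputable def ci142 : CI := ⟨[7], (nat_lit 123), true, (.node (nat_lit 4) (.node (nat_lit 2) (.node (nat_lit 1) (.leaf Rule.defn) (.leaf Rule.copy)) (.node (nat_lit 1) (.leaf (Rule.fwd [nat_lit 123] 44 0)) (.leaf (Rule.fwd [nat_lit 104, nat_lit 104, nat_lit 142, nat_lit 161] 17 4)))) (.node (nat_lit 2) (.node (nat_lit 1) (.leaf (Rule.fwd [nat_lit 142, nat_lit 142] 23 0)) (.leaf (Rule.fwd [nat_lit 85, nat_lit 142, nat_lit 85, nat_lit 123, nat_lit 85, nat_lit 256] 20 0))) (.leaf (Rule.fwd [nat_lit 104, nat_lit 123, nat_lit 85, nat_lit 123, nat_lit 199, nat_lit 85] 19 5)))), (.node (nat_lit 1) (.leaf XRule.defn) (.leaf XRule.ax))⟩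
noncomputable def ci161 : CI := ⟨[8], (nat_lit 180), true, (.node (nat_lit 8) (.node (nat_lit 4) (.node (nat_lit 2) (.node (nat_lit 1) (.leaf Rule.defn) (.leaf Rule.copy)) (.node (nat_lit 1) (.leaf (Rule.fwd [nat_lit 180] 44 0)) (.leaf (Rule.fwd [nat_lit 104, nat_lit 104, nat_lit 123, nat_lit 85, nat_lit 85] 40 2)))) (.node (nat_lit 2) (.node (nat_lit 1) (.leaf (Rule.fwd [nat_lit 218, nat_lit 161, nat_lit 218] 10 0)) (.leaf (Rule.fwd [nat_lit 161, nat_lit 161] 4 0))) (.node (nat_lit 1) (.leaf (Rule.fwd [nat_lit 256, nat_lit 161, nat_lit 256] 12 0)) (.leaf (Rule.fwd [nat_lit 275, nat_lit 161, nat_lit 275] 14 0))))) (.node (nat_lit 1) (.leaf (Rule.fwd [nat_lit 104, nat_lit 199, nat_lit 142, nat_lit 104, nat_lit 237] 27 5)) (.leaf (Rule.fwd [nat_lit 142, nat_lit 104, nat_lit 104, nat_lit 142] 17 0)))), (.node (nat_lit 1) (.leaf XRule.defn) (.leaf XRule.ax))⟩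
noncomputable def ci180 : CI := ⟨[9], (nat_lit 161), true, (.node (nat_lit 4) (.node (nat_lit 2) (.node (nat_lit 1) (.leaf Rule.defn) (.leaf Rule.copy)) (.node (nat_lit 1) (.leaf (Rule.fwd [nat_lit 161] 44 0)) (.leaf (Rule.fwd [nat_lit 294, nat_lit 180, nat_lit 294] 15 1)))) (.node (nat_lit 2) (.node (nat_lit 1) (.leaf (Rule.fwd [nat_lit 123, nat_lit 85, nat_lit 85, nat_lit 123] 16 4)) (.leaf (Rule.fwd [nat_lit 237, nat_lit 180, nat_lit 237] 13 1))) (.node (nat_lit 1) (.leaf (Rule.fwd [nat_lit 256, nat_lit 85, nat_lit 123, nat_lit 218, nat_lit 85] 26 4)) (.leaf (Rule.fwd [nat_lit 104, nat_lit 104, nat_lit 142, nat_lit 85, nat_lit 85] 41 3))))), (.node (nat_lit 1) (.leaf XRule.defn) (.leaf XRule.ax))⟩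
noncomputable def ci199 : CI := ⟨[10], (nat_lit 218), true, (.node (nat_lit 4) (.node (nat_lit 2) (.node (nat_lit 1) (.leaf Rule.defn) (.leaf Rule.copy)) (.node (nat_lit 1) (.leaf (Rule.fwd [nat_lit 218] 44 0)) (.leaf (Rule.fwd [nat_lit 294, nat_lit 237] 2 1)))) (.node (nat_lit 2) (.node (nat_lit 1) (.leaf (Rule.fwd [nat_lit 199, nat_lit 199] 6 0)) (.leaf (Rule.fwd [nat_lit 256, nat_lit 199, nat_lit 256] 38 0))) (.leaf (Rule.fwd [nat_lit 142, nat_lit 104, nat_lit 237, nat_lit 161, nat_lit 104] 27 3)))), (.node (nat_lit 1) (.leaf XRule.defn) (.leaf XRule.ax))⟩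
noncomputable def ci218 : CI := ⟨[11], (nat_lit 199), true, (.node (nat_lit 8) (.node (nat_lit 4) (.node (nat_lit 2) (.node (nat_lit 1) (.leaf Rule.defn) (.leaf Rule.copy)) (.node (nat_lit 1) (.leaf (Rule.fwd [nat_lit 199] 44 0)) (.leaf (Rule.fwd [nat_lit 85, nat_lit 47, nat_lit 275, nat_lit 9, nat_lit 47] 36 2)))) (.node (nat_lit 2) (.node (nat_lit 1) (.leaf (Rule.fwd [nat_lit 256, nat_lit 275] 3 2)) (.leaf (Rule.fwd [nat_lit 218, nat_lit 218] 7 0))) (.node (nat_lit 1) (.leaf (Rule.fwd [nat_lit 161, nat_lit 218, nat_lit 161] 10 1)) (.leaf (Rule.fwd [nat_lit 237, nat_lit 218, nat_lit 237] 39 1))))) (.leaf (Rule.fwd [nat_lit 142, nat_lit 104, nat_lit 142, nat_lit 85, nat_lit 123, nat_lit 104] 18 6))), (.node (nat_lit 1) (.leaf XRule.defn) (.leaf XRule.ax))⟩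
noncomputable def ci237 : CI := ⟨[12], (nat_lit 256), true, (.node (nat_lit 8) (.node (nat_lit 4) (.node (nat_lit 2) (.node (nat_lit 1) (.leaf Rule.defn) (.leaf Rule.copy)) (.node (nat_lit 1) (.leaf (Rule.fwd [nat_lit 256] 44 0)) (.leaf (Rule.fwd [nat_lit 180, nat_lit 237, nat_lit 180] 13 0)))) (.node (nat_lit 2) (.node (nat_lit 1) (.leaf (Rule.fwd [nat_lit 237, nat_lit 237] 8 0)) (.leaf (Rule.fwd [nat_lit 218, nat_lit 237, nat_lit 218] 39 0))) (.node (nat_lit 1) (.leaf (Rule.fwd [nat_lit 85, nat_lit 294, nat_lit 47, nat_lit 142, nat_lit 66] 43 0)) (.leaf (Rule.fwd [nat_lit 28, nat_lit 237, nat_lit 28] 35 0))))) (.leaf (Rule.fwd [nat_lit 161, nat_lit 104, nat_lit 199, nat_lit 142, nat_lit 104] 27 0))), (.node (nat_lit 1) (.leaf XRule.defn) (.leaf XRule.ax))⟩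
noncomputable def ci256 : CI := ⟨[13], (nat_lit 237), true, (.node (nat_lit 4) (.node (nat_lit 2) (.node (nat_lit 1) (.leaf Rule.defn) (.leaf Rule.copy)) (.node (nat_lit 1) (.leaf (Rule.fwd [nat_lit 237] 44 0)) (.leaf (Rule.fwd [nat_lit 9, nat_lit 256, nat_lit 9] 34 1)))) (.node (nat_lit 2) (.node (nat_lit 1) (.leaf (Rule.fwd [nat_lit 142, nat_lit 275, nat_lit 142] 25 2)) (.leaf (Rule.fwd [nat_lit 256, nat_lit 256] 9 0))) (.leaf (Rule.fwd [nat_lit 142, nat_lit 85, nat_lit 142, nat_lit 85, nat_lit 123, nat_lit 85] 20 6)))), (.node (nat_lit 1) (.leaf XRule.defn) (.leaf XRule.ax))⟩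
noncomputable def ci275 : CI := ⟨[14], (nat_lit 294), true, (.node (nat_lit 8) (.node (nat_lit 4) (.node (nat_lit 2) (.node (nat_lit 1) (.leaf Rule.defn) (.leaf Rule.copy)) (.node (nat_lit 1) (.leaf (Rule.fwd [nat_lit 294] 44 0)) (.leaf (Rule.fwd [nat_lit 9, nat_lit 47, nat_lit 218, nat_lit 85, nat_lit 47] 36 5)))) (.node (nat_lit 2) (.node (nat_lit 1) (.leaf (Rule.fwd [nat_lit 275, nat_lit 275] 0 0)) (.leaf (Rule.fwd [nat_lit 142, nat_lit 256, nat_lit 142] 25 0))) (.node (nat_lit 1) (.leaf (Rule.fwd [nat_lit 161, nat_lit 275, nat_lit 161] 14 1)) (.leaf (Rule.fwd [nat_lit 218, nat_lit 256] 3 0))))) (.leaf (Rule.fwd [nat_lit 104, nat_lit 256, nat_lit 47, nat_lit 123, nat_lit 66] 42 3))), (.node (nat_lit 1) (.leaf XRule.defn) (.leaf XRule.ax))⟩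
noncomputable def ci294 : CI := ⟨[15], (nat_lit 275), true, (.node (nat_lit 4) (.node (nat_lit 2) (.node (nat_lit 1) (.leaf Rule.defn) (.leaf Rule.copy)) (.node (nat_lit 1) (.leaf (Rule.fwd [nat_lit 275] 44 0)) (.leaf (Rule.fwd [nat_lit 47, nat_lit 142, nat_lit 66, nat_lit 237, nat_lit 85] 43 4)))) (.node (nat_lit 2) (.node (nat_lit 1) (.leaf (Rule.fwd [nat_lit 123, nat_lit 237, nat_lit 123] 24 3)) (.leaf (Rule.fwd [nat_lit 237, nat_lit 199] 2 2))) (.node (nat_lit 1) (.leaf (Rule.fwd [nat_lit 294, nat_lit 294] 1 0)) (.leaf (Rule.fwd [nat_lit 66, nat_lit 104, nat_lit 199, nat_lit 66, nat_lit 28] 37 0))))), (.node (nat_lit 1) (.leaf XRule.defn) (.leaf XRule.ax))⟩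
noncomputable def outer : Tr CI := (.node (nat_lit 1) (.node (nat_lit 2) (.node (nat_lit 4) (.node (nat_lit 8) (.node (nat_lit 256) (.leaf ci0) (.leaf ci256)) (.leaf ci104)) (.node (nat_lit 8) (.leaf ci180) (.leaf ci28))) (.node (nat_lit 4) (.node (nat_lit 8) (.leaf ci66) (.leaf ci218)) (.node (nat_lit 8) (.leaf ci294) (.leaf ci142)))) (.node (nat_lit 2) (.node (nat_lit 4) (.node (nat_lit 8) (.leaf ci161) (.leaf ci9)) (.node (nat_lit 8) (.leaf ci85) (.leaf ci237))) (.node (nat_lit 4) (.node (nat_lit 8) (.leaf ci275) (.leaf ci123)) (.node (nat_lit 8) (.leaf ci199) (.leaf ci47)))))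
def cols : List ℕ := [nat_lit 9, nat_lit 28, nat_lit 47, nat_lit 66, nat_lit 85, nat_lit 104, nat_lit 123, nat_lit 142, nat_lit 161, nat_lit 180, nat_lit 199, nat_lit 218, nat_lit 237, nat_lit 256, nat_lit 275, nat_lit 294]
def invL : List ℕ := [1, 0, 3, 2, 5, 4, 7, 6, 9, 8, 11, 10, 13, 12, 15, 14]
def rels : List (List ℕ) := [[14, 14, 14], [12, 10, 15], [8, 8, 8], [10, 10, 10], [12, 12, 12], [8, 11, 8, 11], [8, 13, 8, 13], [8, 14, 8, 14], [6, 4, 4, 6, 9], [7, 5, 7, 4, 6, 5, 11], [7, 4, 7, 4, 6, 4, 13], [6, 6, 6], [6, 12, 6, 15], [4, 6, 11, 4, 9, 13], [3, 0, 5], [0, 2, 0, 3, 1, 7], [0, 0, 0], [0, 13, 0, 13], [0, 2, 11, 4, 2, 14], [10, 13, 10, 13], [4, 4, 8, 5, 5, 6], [2, 6, 3, 14, 5, 13]]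
def subs : List (List ℕ) := [[4], [5], [6], [7], [8], [9], [10], [11], [12], [13], [14], [15]]
noncomputable def row (n : ℕ) : ℕ := rowOf (fun h => rows.get h) (nat_lit 5) (nat_lit 31) (nat_lit 313) (nat_lit 0x1ffffffffffffffffffffffffffffffffffffffffffffffffffffffffffffffffffffffffffffff) n
noncomputable def xleaf (h : ℕ) : ℕ := recs.get h
noncomputable def mF : ℕ → ℕ := mainRow row (rowChk row xleaf outer (nat_lit 8) (nat_lit 255) (nat_lit 15) (nat_lit 12) (nat_lit 4095) (nat_lit 524287) (nat_lit 128) (nat_lit 21) (nat_lit 256) (nat_lit 9) (nat_lit 511) (nat_lit 17) (nat_lit 131071) (nat_lit 8) (nat_lit 255) cols)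
noncomputable def xF : ℕ → ℕ → ℕ := xLeaf row xleaf outer (nat_lit 255) (nat_lit 12) (nat_lit 524287) (nat_lit 128) (nat_lit 21) (nat_lit 9) (nat_lit 511) (nat_lit 17) (nat_lit 131071) (nat_lit 130560) (nat_lit 8) (nat_lit 255) (nat_lit 10) (nat_lit 1023) (nat_lit 2) (nat_lit 3) (nat_lit 294) (nat_lit 10752) (nat_lit 128)
noncomputable def cert : Cert := ⟨row, xleaf, outer, cols, nat_lit 8, nat_lit 255, nat_lit 15, nat_lit 12, nat_lit 4095, nat_lit 524287, nat_lit 128, nat_lit 21, nat_lit 256, nat_lit 9, nat_lit 511, nat_lit 17, nat_lit 131071, nat_lit 130560, nat_lit 8, nat_lit 255, nat_lit 10, nat_lit 1023, nat_lit 2, nat_lit 3, nat_lit 294, nat_lit 10752, nat_lit 128, nat_lit 19, nat_lit 128, nat_lit 1⟩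
theorem tabok : tabOK (fun i => invL.getD i i) rels subs outer cols (nat_lit 9) (nat_lit 294) = true := by decide +kernel
theorem m0 : rng mF (nat_lit 1) (nat_lit 21) = 0 := by decide +kernel
noncomputable def s0 : List ℕ := [nat_lit 0x401004010040100000000000000000000000000000000000000000000000000000000000000000000000000000000000000000000000000000000000000000000000000000000000000000000000000000000000000000000000000000000000000000000000000000000000000000000000000000000000000000000000000000000000000000000000000000000000000000000000000000000000000000]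
theorem x0 : xs xF s0 (nat_lit 1) = 0 := by decide +kernel
theorem mz0 : AllZ mF 1 (nat_lit 22) := (AllZ.step (AllZ.nil mF 1) (nat_lit 21) (nat_lit 22) rfl m0)
theorem xz0 : XZ xF (nat_lit 1) := (XZ.step (XZ.nil xF) s0 (nat_lit 1) (nat_lit 1) (by decide +kernel) x0)
/-- the certificate (21 points) is valid -/
theorem valid : cert.Valid (fun i => invL.getD i i) rels subs 16 :=
  ⟨by decide +kernel, tabok, by decide +kernel, mz0, xz0⟩
theorem cert_N : cert.N = 21 := rfl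

end CL.TC.GM22L2
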