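import Cfsg.Agent.Spor.TCSound

/-! coset enumeration certificate generated by tools/tc -/

set_option maxRecDepth 100000
set_option autoImplicit false
set_option linter.all false

namespace CL.TC.GM22L3

noncomputable def rows0 : Tr ℕ := (.leaf (nat_lit 0xd6611ad84f5c04e9413fe211b4c275988ed60ad6e19acc4b4984e97098dd4629cd023418a6f309ce627a1c4f49896f70ce0615e0c47f884785081bd261fb942f6b886e30ad4e1d98c3359866a813d8a29a4c333982ff10408d8a19cd4436c05f5607d861ba4c3f82056c514f2827c982bf8827d4051be4623a8c3373056c312f4a0ffc40fa185ee30ddae21b0c4361856a30c7ad4817a904b5401e830ed5023a0c37518467303fe207c8c275186ec30b41fe205a8c1f4b07eb803f8619a4c4b4a076830ed6617a903744066930ad9da607f0c2be1867f102d2e1fb58477a886d30bd261dacc2f5b03eb90fa0d6c21acc47f8817d50dcee25f543b7189ec712d4c25a8c535b886730eb3da625a4c3f6183ec311f8615fc40b7306f5610d901bb1c3b6a07f16077afaa1bbd00f7a896d310fe205f502f618a6f311e2623c504f52076d7108dd6e13a8c278289ea314dc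a29b8c23f88175507e6c1fccc0f418a6a81467e4627b1c535b046a308dec13f8c536981eb40ff860ffc40bb989fe3132ed6c1dacc0ba188ed70bf6807e4c43a184f6402fe205f50238185ea30d41e2609c8c17ba02f5504e2c0bd54139a02eb404e660dd141bf8816b3031be680decc13c98276306e2609c0c1b498272306f8609fc407e188e86122ef880bc901ba1837a405e860dc941751836a505fe203f5017f1897e31141dc615b983751876930ffc621e8c1f4207ee608e8a13f8c3f62837f10108d8a0ff8c3bf186fe30cfc617f8c2ba983fe309fc611f8c1ff880fe3061bf6603f0807e180fd201fa603f8807f180ff201fc60bf8c13f181fe30200))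
noncomputable def recs0 : Tr ℕ := (.leaf (nat_lit 0x1d901c601b301a0018d017a01670154))
noncomputable def rows : Tr ℕ := rows0
noncomputable def recs : Tr ℕ := recs0
noncomputable def ci0 : CI := ⟨[], (nat_lit 0), false, (.node (nat_lit 1) (.leaf Rule.defn) (.leaf Rule.copy)), (.leaf (XRule.rot (nat_lit 0) [] 28 0))⟩
noncomputable def ci8 : CI := ⟨[0], (nat_lit 27), false, (.node (nat_lit 8) (.node (nat_lit 4) (.node (nat_lit 2) (.node (nat_lit 1) (.leaf Rule.defn) (.leaf Rule.copy)) (.node (nat_lit 1) (.leaf (Rule.fwd [nat_lit 27] 28 0)) (.leaf (Rule.fwd [nat_lit 46, nat_lit 103, nat_lit 46, nat_lit 8] 16 2)))) (.node (nat_lit 2) (.node (nat_lit 1) (.leaf (Rule.fwd [nat_lit 46, nat_lit 27, nat_lit 141, nat_lit 65, nat_lit 27, nat_lit 65] 18 3)) (.leaf (Rule.fwd [nat_lit 65, nat_lit 27, nat_lit 46, nat_lit 8, nat_lit 46, nat_lit 122] 19 6))) (.node (nat_lit 1) (.leaf (Rule.fwd [nat_lit 179, nat_lit 65, nat_lit 8, nat_lit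 65, nat_lit 8, nat_lit 46] 20 5)) (.leaf (Rule.fwd [nat_lit 103, nat_lit 179, nat_lit 8, nat_lit 46, nat_lit 141] 26 3))))) (.leaf (Rule.fwd [nat_lit 65, nat_lit 8, nat_lit 46, nat_lit 8, nat_lit 179, nat_lit 65] 20 1))), (.node (nat_lit 1) (.leaf XRule.defn) (.leaf XRule.defn))⟩
noncomputable def ci27 : CI := ⟨[1], (nat_lit 8), false, (.node (nat_lit 4) (.node (nat_lit 2) (.node (nat_lit 1) (.leaf Rule.defn) (.leaf Rule.copy)) (.node (nat_lit 1) (.leaf (Rule.fwd [nat_lit 8] 28 0)) (.leaf (Rule.fwd [nat_lit 65, nat_lit 84, nat_lit 65, nat_lit 27] 17 2)))) (.node (nat_lit 2) (.node (nat_lit 1) (.leaf (Rule.fwd [nat_lit 46, nat_lit 27, nat_lit 46, nat_lit 160, nat_lit 27, nat_lit 65] 21 4)) (.leaf (Rule.fwd [nat_lit 122, nat_lit 65, nat_lit 27, nat_lit 160, nat_lit 84] 27 4))) (.node (nat_lit 1) (.leaf (Rule.fwd [nat_lit 65, nat_lit 27, nat_lit 46, nat_lit 27, nat_lit 46, nat_lit 160] 21 6)) (.leaf (Rule.fwd [nat_lit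 46, nat_lit 160, nat_lit 27, nat_lit 65, nat_lit 27, nat_lit 46] 21 2))))), (.node (nat_lit 1) (.leaf XRule.defn) (.leaf XRule.defn))⟩
noncomputable def ci46 : CI := ⟨[2], (nat_lit 65), false, (.node (nat_lit 4) (.node (nat_lit 2) (.node (nat_lit 1) (.leaf Rule.defn) (.leaf Rule.copy)) (.node (nat_lit 1) (.leaf (Rule.fwd [nat_lit 65] 28 0)) (.leaf (Rule.fwd [nat_lit 46, nat_lit 46] 22 0)))) (.node (nat_lit 2) (.node (nat_lit 1) (.leaf (Rule.fwd [nat_lit 122, nat_lit 8, nat_lit 65, nat_lit 27, nat_lit 46, nat_lit 8] 19 1)) (.leaf (Rule.fwd [nat_lit 141, nat_lit 8, nat_lit 103, nat_lit 179, nat_lit 8] 26 1))) (.leaf (Rule.fwd [nat_lit 217, nat_lit 46, nat_lit 160] 24 2)))), (.node (nat_lit 1) (.leaf XRule.defn) (.leaf XRule.defn))⟩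
noncomputable def ci65 : CI := ⟨[3], (nat_lit 46), false, (.node (nat_lit 4) (.node (nat_lit 2) (.node (nat_lit 1) (.leaf Rule.defn) (.leaf Rule.copy)) (.node (nat_lit 1) (.leaf (Rule.fwd [nat_lit 46] 28 0)) (.leaf (Rule.fwd [nat_lit 27, nat_lit 46, nat_lit 27, nat_lit 46, nat_lit 160, nat_lit 27] 21 5)))) (.node (nat_lit 2) (.node (nat_lit 1) (.leaf (Rule.fwd [nat_lit 84, nat_lit 65, nat_lit 27, nat_lit 27] 17 1)) (.leaf (Rule.fwd [nat_lit 65, nat_lit 65] 23 0))) (.node (nat_lit 1) (.leaf (Rule.fwd [nat_lit 179, nat_lit 65, nat_lit 198] 25 3)) (.leaf (Rule.fwd [nat_lit 198, nat_lit 65, nat_lit 179] 25 1))))), (.node (nat_lit 1) (.leaf XRule.defn) (.leaf XRule.defn))⟩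
noncomputable def ci84 : CI := ⟨[4], (nat_lit 103), true, (.node (nat_lit 4) (.node (nat_lit 2) (.node (nat_lit 1) (.leaf Rule.defn) (.leaf Rule.copy)) (.node (nat_lit 1) (.leaf (Rule.fwd [nat_lit 103] 28 0)) (.leaf (Rule.fwd [nat_lit 65, nat_lit 27, nat_lit 27, nat_lit 65] 17 0)))) (.node (nat_lit 2) (.node (nat_lit 1) (.leaf (Rule.fwd [nat_lit 84, nat_lit 84] 4 0)) (.leaf (Rule.fwd [nat_lit 141, nat_lit 84, nat_lit 141] 10 0))) (.node (nat_lit 1) (.leaf (Rule.fwd [nat_lit 179, nat_lit 84, nat_lit 179] 12 0)) (.leaf (Rule.fwd [nat_lit 27, nat_lit 122, nat_lit 65, nat_lit 27, nat_lit 160] 27 5))))), (.node (nat_lit 1) (.leaf XRule.defn) (.leaf XRule.ax))⟩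
noncomputable def ci103 : CI := ⟨[5], (nat_lit 84), true, (.node (nat_lit 4) (.node (nat_lit 2) (.node (nat_lit 1) (.leaf Rule.defn) (.leaf Rule.copy)) (.node (nat_lit 1) (.leaf (Rule.fwd [nat_lit 84] 28 0)) (.leaf (Rule.fwd [nat_lit 46, nat_lit 8, nat_lit 8, nat_lit 46] 16 4)))) (.node (nat_lit 1) (.leaf (Rule.fwd [nat_lit 217, nat_lit 103, nat_lit 217] 15 1)) (.leaf (Rule.fwd [nat_lit 103, nat_lit 103] 5 0)))), (.node (nat_lit 1) (.leaf XRule.defn) (.leaf XRule.ax))⟩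
noncomputable def ci122 : CI := ⟨[6], (nat_lit 141), true, (.node (nat_lit 4) (.node (nat_lit 2) (.node (nat_lit 1) (.leaf Rule.defn) (.leaf Rule.copy)) (.node (nat_lit 1) (.leaf (Rule.fwd [nat_lit 141] 28 0)) (.leaf (Rule.fwd [nat_lit 122, nat_lit 122] 6 0)))) (.node (nat_lit 2) (.node (nat_lit 1) (.leaf (Rule.fwd [nat_lit 217, nat_lit 160] 2 1)) (.leaf (Rule.fwd [nat_lit 103, nat_lit 122, nat_lit 103] 11 0))) (.leaf (Rule.fwd [nat_lit 8, nat_lit 65, nat_lit 27, nat_lit 46, nat_lit 8, nat_lit 46] 19 0)))), (.node (nat_lit 1) (.leaf XRule.defn) (.leaf XRule.ax))⟩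
noncomputable def ci141 : CI := ⟨[7], (nat_lit 122), true, (.node (nat_lit 4) (.node (nat_lit 2) (.node (nat_lit 1) (.leaf Rule.defn) (.leaf Rule.copy)) (.node (nat_lit 1) (.leaf (Rule.fwd [nat_lit 122] 28 0)) (.leaf (Rule.fwd [nat_lit 8, nat_lit 103, nat_lit 179, nat_lit 8, nat_lit 46] 26 2)))) (.node (nat_lit 2) (.node (nat_lit 1) (.leaf (Rule.fwd [nat_lit 141, nat_lit 141] 7 0)) (.leaf (Rule.fwd [nat_lit 179, nat_lit 198] 3 2))) (.node (nat_lit 1) (.leaf (Rule.fwd [nat_lit 65, nat_lit 27, nat_lit 65, nat_lit 8, nat_lit 46, nat_lit 27] 18 6)) (.leaf (Rule.fwd [nat_lit 84, nat_lit 141, nat_lit 84] 10 1))))), (.node (nat_lit 1) (.leaf XRule.defn) (.leaf XRule.ax))⟩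
noncomputable def ci160 : CI := ⟨[8], (nat_lit 179), true, (.node (nat_lit 4) (.node (nat_lit 2) (.node (nat_lit 1) (.leaf Rule.defn) (.leaf Rule.copy)) (.node (nat_lit 1) (.leaf (Rule.fwd [nat_lit 179] 28 0)) (.leaf (Rule.fwd [nat_lit 46, nat_lit 217, nat_lit 46] 24 1)))) (.node (nat_lit 2) (.node (nat_lit 1) (.leaf (Rule.fwd [nat_lit 160, nat_lit 160] 8 0)) (.leaf (Rule.fwd [nat_lit 84, nat_lit 27, nat_lit 122, nat_lit 65, nat_lit 27] 27 0))) (.node (nat_lit 1) (.leaf (Rule.fwd [nat_lit 103, nat_lit 160, nat_lit 103] 13 0)) (.leaf (Rule.fwd [nat_lit 27, nat_lit 65, nat_lit 27, nat_lit 46, nat_lit 27, nat_lit 46] 21 0))))), (.node (nat_lit 1) (.leaf XRule.defn) (.leaf XRule.ax))⟩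
noncomputable def ci179 : CI := ⟨[9], (nat_lit 160), true, (.node (nat_lit 4) (.node (nat_lit 2) (.node (nat_lit 1) (.leaf Rule.defn) (.leaf Rule.copy)) (.node (nat_lit 1) (.leaf (Rule.fwd [nat_lit 160] 28 0)) (.leaf (Rule.fwd [nat_lit 65, nat_lit 8, nat_lit 65, nat_lit 8, nat_lit 46, nat_lit 8] 20 6)))) (.node (nat_lit 2) (.node (nat_lit 1) (.leaf (Rule.fwd [nat_lit 8, nat_lit 46, nat_lit 141, nat_lit 8, nat_lit 103] 26 5)) (.leaf (Rule.fwd [nat_lit 198, nat_lit 141] 3 1))) (.node (nat_lit 1) (.leaf (Rule.fwd [nat_lit 179, nat_lit 179] 9 0)) (.leaf (Rule.fwd [nat_lit 84, nat_lit 179, nat_lit 84] 12 1))))), (.node (nat_lit 1) (.leaf XRule.defn) (.leaf XRule.ax))⟩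
noncomputable def ci198 : CI := ⟨[10], (nat_lit 217), true, (.node (nat_lit 4) (.node (nat_lit 2) (.node (nat_lit 1) (.leaf Rule.defn) (.leaf Rule.copy)) (.node (nat_lit 1) (.leaf (Rule.fwd [nat_lit 217] 28 0)) (.leaf (Rule.fwd [nat_lit 65, nat_lit 179, nat_lit 65] 25 0)))) (.node (nat_lit 2) (.node (nat_lit 1) (.leaf (Rule.fwd [nat_lit 141, nat_lit 179] 3 0)) (.leaf (Rule.fwd [nat_lit 198, nat_lit 198] 0 0))) (.leaf (Rule.fwd [nat_lit 84, nat_lit 198, nat_lit 84] 14 1)))), (.node (nat_lit 1) (.leaf XRule.defn) (.leaf XRule.ax))⟩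
noncomputable def ci217 : CI := ⟨[11], (nat_lit 198), true, (.node (nat_lit 4) (.node (nat_lit 2) (.node (nat_lit 1) (.leaf Rule.defn) (.leaf Rule.copy)) (.node (nat_lit 1) (.leaf (Rule.fwd [nat_lit 198] 28 0)) (.leaf (Rule.fwd [nat_lit 46, nat_lit 160, nat_lit 46] 24 3)))) (.node (nat_lit 2) (.node (nat_lit 1) (.leaf (Rule.fwd [nat_lit 160, nat_lit 122] 2 2)) (.leaf (Rule.fwd [nat_lit 217, nat_lit 217] 1 0))) (.leaf (Rule.fwd [nat_lit 103, nat_lit 217, nat_lit 103] 15 0)))), (.node (nat_lit 1) (.leaf XRule.defn) (.leaf XRule.ax))⟩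
noncomputable def outer : Tr CI := (.node (nat_lit 1) (.node (nat_lit 2) (.node (nat_lit 4) (.node (nat_lit 8) (.node (nat_lit 32) (.leaf ci0) (.leaf ci160)) (.leaf ci8)) (.leaf ci84)) (.node (nat_lit 4) (.leaf ci122) (.node (nat_lit 8) (.leaf ci198) (.leaf ci46)))) (.node (nat_lit 2) (.node (nat_lit 4) (.node (nat_lit 8) (.leaf ci65) (.leaf ci217)) (.leaf ci141)) (.node (nat_lit 4) (.node (nat_lit 8) (.leaf ci179) (.leaf ci27)) (.leaf ci103))))
def cols : List ℕ := [nat_lit 8, nat_lit 27, nat_lit 46, nat_lit 65, nat_lit 84, nat_lit 103, nat_lit 122, nat_lit 141, nat_lit 160, nat_lit 179, nat_lit 198, nat_lit 217]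
def invL : List ℕ := [1, 0, 3, 2, 5, 4, 7, 6, 9, 8, 11, 10]
def rels : List (List ℕ) := [[10, 10, 10], [8, 6, 11], [4, 4, 4], [6, 6, 6], [8, 8, 8], [4, 7, 4, 7], [4, 9, 4, 9], [4, 10, 4, 10], [2, 0, 0, 2, 5], [3, 1, 3, 0, 2, 1, 7], [3, 0, 3, 0, 2, 0, 9], [2, 2, 2], [2, 8, 2, 11], [0, 2, 7, 0, 5, 9]]
def subs : List (List ℕ) := [[4], [5], [6], [7], [8], [9], [10], [11]]
noncomputable def row (n : ℕ) : ℕ := rowOf (fun h => rows.get h) (nat_lit 5) (nat_lit 31) (nat_lit 236) (nat_lit 0xfffffffffffffffffffffffffffffffffffffffffffffffffffffffffff) n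
noncomputable def xleaf (h : ℕ) : ℕ := recs.get h
noncomputable def mF : ℕ → ℕ := mainRow row (rowChk row xleaf outer (nat_lit 8) (nat_lit 255) (nat_lit 15) (nat_lit 12) (nat_lit 4095) (nat_lit 524287) (nat_lit 128) (nat_lit 20) (nat_lit 256) (nat_lit 8) (nat_lit 255) (nat_lit 16) (nat_lit 65535) (nat_lit 8) (nat_lit 255) cols)
noncomputable def xF : ℕ → ℕ → ℕ := xLeaf row xleaf outer (nat_lit 255) (nat_lit 12) (nat_lit 524287) (nat_lit 128) (nat_lit 20) (nat_lit 8) (nat_lit 255) (nat_lit 16) (nat_lit 65535) (nat_lit 65280) (nat_lit 8) (nat_lit 255) (nat_lit 10) (nat_lit 1023) (nat_lit 2) (nat_lit 3) (nat_lit 217) (nat_lit 5120) (nat_lit 128)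
noncomputable def cert : Cert := ⟨row, xleaf, outer, cols, nat_lit 8, nat_lit 255, nat_lit 15, nat_lit 12, nat_lit 4095, nat_lit 524287, nat_lit 128, nat_lit 20, nat_lit 256, nat_lit 8, nat_lit 255, nat_lit 16, nat_lit 65535, nat_lit 65280, nat_lit 8, nat_lit 255, nat_lit 10, nat_lit 1023, nat_lit 2, nat_lit 3, nat_lit 217, nat_lit 5120, nat_lit 128, nat_lit 19, nat_lit 128, nat_lit 1⟩
theorem tabok : tabOK (fun i => invL.getD i i) rels subs outer cols (nat_lit 8) (nat_lit 217) = true := by decide +kernel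
theorem m0 : rng mF (nat_lit 1) (nat_lit 20) = 0 := by decide +kernel
noncomputable def s0 : List ℕ := [nat_lit 0x401004010000000000000000000000000000000000000000000000000000000000000000000000000000000000000000000000000000000000000000000000000000000000000000000000000000000000000000000000000000000000000000000000000000000000000000000000000000000000000000000000000000000000000000000000000000000000000000000000000000000000000000000000]
theorem x0 : xs xF s0 (nat_lit 1) = 0 := by decide +kernel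
theorem mz0 : AllZ mF 1 (nat_lit 21) := (AllZ.step (AllZ.nil mF 1) (nat_lit 20) (nat_lit 21) rfl m0)
theorem xz0 : XZ xF (nat_lit 1) := (XZ.step (XZ.nil xF) s0 (nat_lit 1) (nat_lit 1) (by decide +kernel) x0)
/-- the certificate (20 points) is valid -/
theorem valid : cert.Valid (fun i => invL.getD i i) rels subs 12 :=
  ⟨by decide +kernel, tabok, by decide +kernel, mz0, xz0⟩
theorem cert_N : cert.N = 20 := rfl

end CL.TC.GM22L3
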