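import Cfsg.Agent.Spor.TCSound

/-! coset enumeration certificate generated by tools/tc -/

set_option maxRecDepth 100000
set_option autoImplicit false
set_option linter.all false

namespace CL.TC.GM22L4

noncomputable def rows0 : Tr ℕ := (.leaf (nat_lit 0xf4c3fc409eec1fd50cf0c2fc40df9c37f90608f3027db10ecc23bb0bf702bc60efe413e4081af1823e40cf8c37f903eec3fce0af381fd30950ef81fbc0afe40fec0eeec43d50bfb41bdb1062fb03bb408f2c43bd07fe40fd409fb017cb0a3ef740ff902f183fe308f2c37ce10f582fcb0b74f1037e407f8c27f902f0c3bd30ff5c33e60550f3043c40ffe40bec0af2c33dd03f743bcd0762ef433bc0efb02fbe0ff8c1ff902f6c3fed042cfb02bb40decc33c510fe40bec08f0c27c30e3eef817e404f9417f901ecc1bbe06fcc43e30d50ed813b406fb007db06f8c13f901f6c2be30c2cfb01bac05eac13b504fe407ec05f8c23f30f3ef8c0bd40bfcc3bf30df4c27f30cf8c0bf90108fcc2feb03fcc2bf309fcc23f307fe407ec031afcc07fa01fcc1be305fcc17f304fcc0ff30200))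
noncomputable def recs0 : Tr ℕ := (.leaf (nat_lit 0x1860174))
noncomputable def rows : Tr ℕ := rows0
noncomputable def recs : Tr ℕ := recs0
noncomputable def ci0 : CI := ⟨[], (nat_lit 0), false, (.node (nat_lit 1) (.leaf Rule.defn) (.leaf Rule.copy)), (.leaf (XRule.rot (nat_lit 0) [] 16 0))⟩
noncomputable def ci8 : CI := ⟨[0], (nat_lit 26), false, (.node (nat_lit 4) (.node (nat_lit 2) (.node (nat_lit 1) (.leaf Rule.defn) (.leaf Rule.copy)) (.node (nat_lit 1) (.leaf (Rule.fwd [nat_lit 26] 16 0)) (.leaf (Rule.fwd [nat_lit 8, nat_lit 8] 4 0)))) (.node (nat_lit 1) (.leaf (Rule.fwd [nat_lit 62, nat_lit 8, nat_lit 62] 10 0)) (.leaf (Rule.fwd [nat_lit 98, nat_lit 8, nat_lit 98] 12 0)))), (.node (nat_lit 1) (.leaf XRule.defn) (.leaf XRule.defn))⟩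
noncomputable def ci26 : CI := ⟨[1], (nat_lit 8), false, (.node (nat_lit 4) (.node (nat_lit 2) (.node (nat_lit 1) (.leaf Rule.defn) (.leaf Rule.copy)) (.node (nat_lit 1) (.leaf (Rule.fwd [nat_lit 8] 16 0)) (.leaf (Rule.fwd [nat_lit 44, nat_lit 26, nat_lit 44] 11 1)))) (.node (nat_lit 2) (.node (nat_lit 1) (.leaf (Rule.fwd [nat_lit 80, nat_lit 26, nat_lit 80] 13 1)) (.leaf (Rule.fwd [nat_lit 134, nat_lit 26, nat_lit 134] 15 1))) (.leaf (Rule.fwd [nat_lit 26, nat_lit 26] 5 0)))), (.node (nat_lit 1) (.leaf XRule.defn) (.leaf XRule.defn))⟩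
noncomputable def ci44 : CI := ⟨[2], (nat_lit 62), false, (.node (nat_lit 4) (.node (nat_lit 2) (.node (nat_lit 1) (.leaf Rule.defn) (.leaf Rule.copy)) (.node (nat_lit 1) (.leaf (Rule.fwd [nat_lit 62] 16 0)) (.leaf (Rule.fwd [nat_lit 44, nat_lit 44] 6 0)))) (.node (nat_lit 1) (.leaf (Rule.fwd [nat_lit 134, nat_lit 80] 2 1)) (.leaf (Rule.fwd [nat_lit 26, nat_lit 44, nat_lit 26] 11 0)))), (.node (nat_lit 1) (.leaf XRule.defn) (.leaf XRule.defn))⟩
noncomputable def ci62 : CI := ⟨[3], (nat_lit 44), false, (.node (nat_lit 2) (.node (nat_lit 1) (.leaf Rule.defn) (.leaf Rule.copy)) (.node (nat_lit 1) (.leaf (Rule.fwd [nat_lit 44] 16 0)) (.leaf (Rule.fwd [nat_lit 8, nat_lit 62, nat_lit 8] 10 1)))), (.node (nat_lit 1) (.leaf XRule.defn) (.leaf XRule.defn))⟩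
noncomputable def ci80 : CI := ⟨[4], (nat_lit 98), false, (.node (nat_lit 4) (.node (nat_lit 2) (.node (nat_lit 1) (.leaf Rule.defn) (.leaf Rule.copy)) (.node (nat_lit 1) (.leaf (Rule.fwd [nat_lit 98] 16 0)) (.leaf (Rule.fwd [nat_lit 80, nat_lit 80] 8 0)))) (.node (nat_lit 1) (.leaf (Rule.fwd [nat_lit 26, nat_lit 80, nat_lit 26] 13 0)) (.leaf (Rule.fwd [nat_lit 44, nat_lit 134] 2 0)))), (.node (nat_lit 1) (.leaf XRule.defn) (.leaf XRule.defn))⟩
noncomputable def ci98 : CI := ⟨[5], (nat_lit 80), false, (.node (nat_lit 4) (.node (nat_lit 2) (.node (nat_lit 1) (.leaf Rule.defn) (.leaf Rule.copy)) (.node (nat_lit 1) (.leaf (Rule.fwd [nat_lit 80] 16 0)) (.leaf (Rule.fwd [nat_lit 116, nat_lit 62] 3 1)))) (.node (nat_lit 1) (.leaf (Rule.fwd [nat_lit 98, nat_lit 98] 9 0)) (.leaf (Rule.fwd [nat_lit 8, nat_lit 98, nat_lit 8] 12 1)))), (.node (nat_lit 1) (.leaf XRule.defn) (.leaf XRule.defn))⟩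
noncomputable def ci116 : CI := ⟨[6], (nat_lit 134), true, (.node (nat_lit 2) (.node (nat_lit 1) (.leaf Rule.defn) (.leaf Rule.copy)) (.node (nat_lit 1) (.leaf (Rule.fwd [nat_lit 8, nat_lit 116, nat_lit 8] 14 1)) (.leaf (Rule.fwd [nat_lit 134] 16 0)))), (.node (nat_lit 1) (.leaf XRule.defn) (.leaf XRule.ax))⟩
noncomputable def ci134 : CI := ⟨[7], (nat_lit 116), true, (.node (nat_lit 4) (.node (nat_lit 2) (.node (nat_lit 1) (.leaf Rule.defn) (.leaf Rule.copy)) (.node (nat_lit 1) (.leaf (Rule.fwd [nat_lit 116] 16 0)) (.leaf (Rule.fwd [nat_lit 80, nat_lit 44] 2 2)))) (.node (nat_lit 1) (.leaf (Rule.fwd [nat_lit 134, nat_lit 134] 1 0)) (.leaf (Rule.fwd [nat_lit 26, nat_lit 134, nat_lit 26] 15 0)))), (.node (nat_lit 1) (.leaf XRule.defn) (.leaf XRule.ax))⟩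
noncomputable def outer : Tr CI := (.node (nat_lit 2) (.node (nat_lit 4) (.node (nat_lit 8) (.node (nat_lit 16) (.leaf ci0) (.leaf ci80)) (.leaf ci8)) (.node (nat_lit 8) (.leaf ci116) (.leaf ci44))) (.node (nat_lit 4) (.node (nat_lit 8) (.leaf ci98) (.leaf ci26)) (.node (nat_lit 8) (.leaf ci134) (.leaf ci62))))
def cols : List ℕ := [nat_lit 8, nat_lit 26, nat_lit 44, nat_lit 62, nat_lit 80, nat_lit 98, nat_lit 116, nat_lit 134]
def invL : List ℕ := [1, 0, 3, 2, 5, 4, 7, 6]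
def rels : List (List ℕ) := [[6, 6, 6], [4, 2, 7], [0, 0, 0], [2, 2, 2], [4, 4, 4], [0, 3, 0, 3], [0, 5, 0, 5], [0, 6, 0, 6]]
def subs : List (List ℕ) := [[6], [7]]
noncomputable def row (n : ℕ) : ℕ := rowOf (fun h => rows.get h) (nat_lit 5) (nat_lit 31) (nat_lit 152) (nat_lit 0xffffffffffffffffffffffffffffffffffffff) n
noncomputable def xleaf (h : ℕ) : ℕ := recs.get h
noncomputable def mF : ℕ → ℕ := mainRow row (rowChk row xleaf outer (nat_lit 8) (nat_lit 255) (nat_lit 7) (nat_lit 11) (nat_lit 2047) (nat_lit 262143) (nat_lit 128) (nat_lit 16) (nat_lit 256) (nat_lit 8) (nat_lit 255) (nat_lit 16) (nat_lit 65535) (nat_lit 8) (nat_lit 255) cols)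
noncomputable def xF : ℕ → ℕ → ℕ := xLeaf row xleaf outer (nat_lit 255) (nat_lit 11) (nat_lit 262143) (nat_lit 128) (nat_lit 16) (nat_lit 8) (nat_lit 255) (nat_lit 16) (nat_lit 65535) (nat_lit 65280) (nat_lit 8) (nat_lit 255) (nat_lit 10) (nat_lit 1023) (nat_lit 2) (nat_lit 3) (nat_lit 134) (nat_lit 4096) (nat_lit 128)
noncomputable def cert : Cert := ⟨row, xleaf, outer, cols, nat_lit 8, nat_lit 255, nat_lit 7, nat_lit 11, nat_lit 2047, nat_lit 262143, nat_lit 128, nat_lit 16, nat_lit 256, nat_lit 8, nat_lit 255, nat_lit 16, nat_lit 65535, nat_lit 65280, nat_lit 8, nat_lit 255, nat_lit 10, nat_lit 1023, nat_lit 2, nat_lit 3, nat_lit 134, nat_lit 4096, nat_lit 128, nat_lit 18, nat_lit 128, nat_lit 1⟩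
theorem tabok : tabOK (fun i => invL.getD i i) rels subs outer cols (nat_lit 8) (nat_lit 134) = true := by decide +kernel
theorem m0 : rng mF (nat_lit 1) (nat_lit 16) = 0 := by decide +kernel
noncomputable def s0 : List ℕ := [nat_lit 0x400000000000000000000000000000000000000000000000000000000000000000000000000000000000000000000000000000000000000000000000000000000000000000000000000000000000000000000000000000000000000000000000000000000000000000000000000000000000000000000000000000000000000000000000000000000000000000000000000000000000000000000000000000]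
theorem x0 : xs xF s0 (nat_lit 1) = 0 := by decide +kernel
theorem mz0 : AllZ mF 1 (nat_lit 17) := (AllZ.step (AllZ.nil mF 1) (nat_lit 16) (nat_lit 17) rfl m0)
theorem xz0 : XZ xF (nat_lit 1) := (XZ.step (XZ.nil xF) s0 (nat_lit 1) (nat_lit 1) (by decide +kernel) x0)
/-- the certificate (16 points) is valid -/
theorem valid : cert.Valid (fun i => invL.getD i i) rels subs 8 :=
  ⟨by decide +kernel, tabok, by decide +kernel, mz0, xz0⟩
theorem cert_N : cert.N = 16 := rfl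

end CL.TC.GM22L4
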