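/-
A cover of McL: checks (generated by tools/pc/gm.py).
-/
import Cfsg.Agent.Known.GMcLC3A

set_option autoImplicit false
set_option maxRecDepth 100000
set_option linter.all false

namespace CL.Pc.GMcL
open Cfsg CL.Spor

namespace C3
theorem c0_0 : allL (netRel 73728 17 0 ns lm (23 + 1) 37 0) (PG.takeL 37 (RL)) = true := by decide +kernel
theorem c0_1 : allL (netRel 73728 17 0 ns lm (23 + 1) 37 0) (PG.takeL 16 (PG.dropL 37 (RL))) = true := by decide +kernel
theorem c0_2 : allL (netRel 73728 17 0 ns lm (23 + 1) 37 0) (PG.takeL 15 (PG.dropL 16 (PG.dropL 37 (RL)))) = true := by decide +kernel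
theorem c0_3 : allL (netRel 73728 17 0 ns lm (23 + 1) 37 0) (PG.dropL 15 (PG.dropL 16 (PG.dropL 37 (RL)))) = true := by decide +kernel
theorem c1_0 : allL (netRel 73728 17 0 ns lm (23 + 1) 37 1) (PG.takeL 37 (RL)) = true := by decide +kernel
theorem c1_1 : allL (netRel 73728 17 0 ns lm (23 + 1) 37 1) (PG.takeL 16 (PG.dropL 37 (RL))) = true := by decide +kernel
theorem c1_2 : allL (netRel 73728 17 0 ns lm (23 + 1) 37 1) (PG.takeL 15 (PG.dropL 16 (PG.dropL 37 (RL)))) = true := by decide +kernel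
theorem c1_3 : allL (netRel 73728 17 0 ns lm (23 + 1) 37 1) (PG.dropL 15 (PG.dropL 16 (PG.dropL 37 (RL)))) = true := by decide +kernel
theorem c2_0 : allL (netRel 73728 17 0 ns lm (23 + 1) 37 2) (PG.takeL 37 (RL)) = true := by decide +kernel
theorem c2_1 : allL (netRel 73728 17 0 ns lm (23 + 1) 37 2) (PG.takeL 16 (PG.dropL 37 (RL))) = true := by decide +kernel
theorem c2_2 : allL (netRel 73728 17 0 ns lm (23 + 1) 37 2) (PG.takeL 15 (PG.dropL 16 (PG.dropL 37 (RL)))) = true := by decide +kernel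
theorem c2_3 : allL (netRel 73728 17 0 ns lm (23 + 1) 37 2) (PG.dropL 15 (PG.dropL 16 (PG.dropL 37 (RL)))) = true := by decide +kernel
theorem c3_0 : allL (netRel 73728 17 0 ns lm (23 + 1) 37 3) (PG.takeL 37 (RL)) = true := by decide +kernel
theorem c3_1 : allL (netRel 73728 17 0 ns lm (23 + 1) 37 3) (PG.takeL 16 (PG.dropL 37 (RL))) = true := by decide +kernel
theorem c3_2 : allL (netRel 73728 17 0 ns lm (23 + 1) 37 3) (PG.takeL 15 (PG.dropL 16 (PG.dropL 37 (RL)))) = true := by decide +kernel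
theorem c3_3 : allL (netRel 73728 17 0 ns lm (23 + 1) 37 3) (PG.dropL 15 (PG.dropL 16 (PG.dropL 37 (RL)))) = true := by decide +kernel
theorem c4_0 : allL (netRel 73728 17 0 ns lm (23 + 1) 37 4) (PG.takeL 37 (RL)) = true := by decide +kernel
theorem c4_1 : allL (netRel 73728 17 0 ns lm (23 + 1) 37 4) (PG.takeL 16 (PG.dropL 37 (RL))) = true := by decide +kernel
theorem c4_2 : allL (netRel 73728 17 0 ns lm (23 + 1) 37 4) (PG.takeL 15 (PG.dropL 16 (PG.dropL 37 (RL)))) = true := by decide +kernel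
theorem c4_3 : allL (netRel 73728 17 0 ns lm (23 + 1) 37 4) (PG.dropL 15 (PG.dropL 16 (PG.dropL 37 (RL)))) = true := by decide +kernel
theorem c5_0 : allL (netRel 73728 17 0 ns lm (23 + 1) 37 5) (PG.takeL 37 (RL)) = true := by decide +kernel
theorem c5_1 : allL (netRel 73728 17 0 ns lm (23 + 1) 37 5) (PG.takeL 16 (PG.dropL 37 (RL))) = true := by decide +kernel
theorem c5_2 : allL (netRel 73728 17 0 ns lm (23 + 1) 37 5) (PG.takeL 15 (PG.dropL 16 (PG.dropL 37 (RL)))) = true := by decide +kernel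
theorem c5_3 : allL (netRel 73728 17 0 ns lm (23 + 1) 37 5) (PG.dropL 15 (PG.dropL 16 (PG.dropL 37 (RL)))) = true := by decide +kernel
theorem c6_0 : allL (netRel 73728 17 0 ns lm (23 + 1) 37 6) (PG.takeL 37 (RL)) = true := by decide +kernel
theorem c6_1 : allL (netRel 73728 17 0 ns lm (23 + 1) 37 6) (PG.takeL 16 (PG.dropL 37 (RL))) = true := by decide +kernel
theorem c6_2 : allL (netRel 73728 17 0 ns lm (23 + 1) 37 6) (PG.takeL 15 (PG.dropL 16 (PG.dropL 37 (RL)))) = true := by decide +kernel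
end C3

end CL.Pc.GMcL
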