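/-
A cover of McL (generated by tools/pc/gm.py).
-/
import Cfsg.Agent.Known.GMcLC3K0
import Cfsg.Agent.Known.GMcLC3K1
import Cfsg.Agent.Known.GMcLC3K2

set_option autoImplicit false
set_option maxRecDepth 100000
set_option linter.all false

namespace CL.Pc.GMcL
open Cfsg CL.Spor

namespace C3
theorem RL_ok : ∀ t < 17, ∀ p ∈ RL, netRel 73728 17 0 ns lm (23 + 1) 37 t p = true :=
  below_step (forall_take_drop 37 ((allL_iff _ _).1 c16_0) (forall_take_drop 16 ((allL_iff _ _).1 c16_1) (forall_take_drop 15 ((allL_iff _ _).1 c16_2) ((allL_iff _ _).1 c16_3)))) (below_step (forall_take_drop 37 ((allL_iff _ _).1 c15_0) (forall_take_drop 16 ((allL_iff _ _).1 c15_1) (forall_take_drop 15 ((allL_iff _ _).1 c15_2) ((allL_iff _ _).1 c15_3)))) (below_step (forall_take_drop 37 ((allL_iff _ _).1 c14_0) (forall_take_drop 16 ((allL_iff _ _).1 c14_1) (forall_take_drop 15 ((allL_iff _ _).1 c14_2) ((allL_iff _ _).1 c14_3)))) (below_step (forall_take_drop 37 ((allL_iff _ _).1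 c13_0) (forall_take_drop 16 ((allL_iff _ _).1 c13_1) (forall_take_drop 15 ((allL_iff _ _).1 c13_2) ((allL_iff _ _).1 c13_3)))) (below_step (forall_take_drop 37 ((allL_iff _ _).1 c12_0) (forall_take_drop 16 ((allL_iff _ _).1 c12_1) (forall_take_drop 15 ((allL_iff _ _).1 c12_2) ((allL_iff _ _).1 c12_3)))) (below_step (forall_take_drop 37 ((allL_iff _ _).1 c11_0) (forall_take_drop 16 ((allL_iff _ _).1 c11_1) (forall_take_drop 15 ((allL_iff _ _).1 c11_2) ((allL_iff _ _).1 c11_3)))) (below_step (forall_take_drop 37 ((allL_iff _ _).1 c10_0) (forall_take_drop 16 ((allL_iff _ _).1 c10_1) (forall_take_drop 15 ((allL_iff _ _).1 c10_2) ((allL_iff _ _).1 c10_3)))) (below_step (forall_take_drop 37 ((allL_iff _ _).1 c9_0) (forall_take_drop 16 ((allL_iff _ _).1 c9_1) (forall_take_drop 15 ((allL_iff _ _).1 c9_2) ((allL_iff _ _).1 c9_3)))) (below_step (forall_take_drop 37 ((allL_iff _ _).1 c8_0) (forall_take_drop 16 ((allL_iff _ _).1 c8_1) (forall_take_drop 15 ((allL_iff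 _ _).1 c8_2) ((allL_iff _ _).1 c8_3)))) (below_step (forall_take_drop 37 ((allL_iff _ _).1 c7_0) (forall_take_drop 16 ((allL_iff _ _).1 c7_1) (forall_take_drop 15 ((allL_iff _ _).1 c7_2) ((allL_iff _ _).1 c7_3)))) (below_step (forall_take_drop 37 ((allL_iff _ _).1 c6_0) (forall_take_drop 16 ((allL_iff _ _).1 c6_1) (forall_take_drop 15 ((allL_iff _ _).1 c6_2) ((allL_iff _ _).1 c6_3)))) (below_step (forall_take_drop 37 ((allL_iff _ _).1 c5_0) (forall_take_drop 16 ((allL_iff _ _).1 c5_1) (forall_take_drop 15 ((allL_iff _ _).1 c5_2) ((allL_iff _ _).1 c5_3)))) (below_step (forall_take_drop 37 ((allL_iff _ _).1 c4_0) (forall_take_drop 16 ((allL_iff _ _).1 c4_1) (forall_take_drop 15 ((allL_iff _ _).1 c4_2) ((allL_iff _ _).1 c4_3)))) (below_step (forall_take_drop 37 ((allL_iff _ _).1 c3_0) (forall_take_drop 16 ((allL_iff _ _).1 c3_1) (forall_take_drop 15 ((allL_iff _ _).1 c3_2) ((allL_iff _ _).1 c3_3)))) (below_step (forall_take_drop 37 ((allL_iff _ _).1 c2_0)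 (forall_take_drop 16 ((allL_iff _ _).1 c2_1) (forall_take_drop 15 ((allL_iff _ _).1 c2_2) ((allL_iff _ _).1 c2_3)))) (below_step (forall_take_drop 37 ((allL_iff _ _).1 c1_0) (forall_take_drop 16 ((allL_iff _ _).1 c1_1) (forall_take_drop 15 ((allL_iff _ _).1 c1_2) ((allL_iff _ _).1 c1_3)))) (below_step (forall_take_drop 37 ((allL_iff _ _).1 c0_0) (forall_take_drop 16 ((allL_iff _ _).1 c0_1) (forall_take_drop 15 ((allL_iff _ _).1 c0_2) ((allL_iff _ _).1 c0_3)))) (below_end)))))))))))))))))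
universe u
variable {G : Type u} {X : Type*} [Group G] [MulAction G X] {pt : ℕ → X} {x : ℕ → G}
theorem cover (h : Ful pt x) : Cover G (Multiplicative (ZMod 3)) :=
  h.cover1 pres (by decide) rs_ok (i := 0) (by decide +kernel) (by decide +kernel) RL_ok
end C3

end CL.Pc.GMcL
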