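import Cfsg.Agent.Spor.TCSound

/-! coset enumeration certificate generated by tools/tc -/

set_option maxRecDepth 100000
set_option autoImplicit false
set_option linter.all false

namespace CL.TC.GPo73L2

noncomputable def rows0 : Tr ℕ := (.node (nat_lit 4) (.node (nat_lit 2) (.node (nat_lit 1) (.leaf (nat_lit 0xe071066286680c83d4619a4320eb18877241ffc204d4a075319af18c2b2a441a63263318f1f0c7c986308e709b1aca03f50a5fbce48eb397e9b5237860ca7345db193248c7ff869fc482ccfa247f8408c06345e638fa184d390605d6c71e3318f18dc85e061ef250f772a61c0c44d867b70309ab2109940f7f869e71636ff0813e0c28e0a4dfc34e9228143afb03ea2c09e259f308c275ca24a373de1291630cdff869c7051148c2622d9295c60d98b3ffe1a6ff8408096233f39a269c0cfdf869a67417b2a0d1b2c689a28f5232abd1971f8ceed0830f85232e182940c87fc204fc34c87bc980785065fe101e51997b8c3548641a4320e3184358c2b6c615b64054bb8ff224cbf86989a314b71909e0cfb2fd050d7f080f520cbe0a1bd0332f82013a9413ac61ad890d5a4936f0cb16e64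8e6349523116a28de9c655fc34bd134a433ace09ca310542107b20419d211fe101ef186781c33f8696d0325d1186340cc9f8695a8331fe1a53f0d26db9cb0c54316aa0cb751c4cb832dabc89ff0d252463ffc348da19abf8407f8690a4e0caa1a13f0d1ff868efc346a1e9982f58e0aa6326d8182ac209b2463fb032cfe1a33b0c19fc203fc345d85937f0d14b0e38fc344fe1a21a8cda9cf040273185759c1be0615ec310ee1842fac17b9005f2304dd194b0a00b85861fe101fe1a1eb8ca75c609fc3431779942b7860be860b741887c982d9c665d8310ec486f08c2390c20b8a0dff080ef3cb1f868586322fe1a11d0c9472a4340fe1a0e80cdd5c65ea0a3ffe1a0aa0c9ff8681fc3403b40be20ca1f867ffc33f7d207bf8407f867dca4088cde0c7b4061da4a03e25877f0cf8f863e6e31db9407bf0cf7f867a663217e19e630cdffc203fc33c461883d903e48ae329fe19dff0cedf8675ba3385419d3f0ce970a53fc339fe19cbf0ce3f86706a316fe19bff0cddf866dfe101827f8405a060ef83076b4817e0c217460bcc30ce25057418cb90604c03027e19b331c0b6060bd232f64185150c7559d65087f080b78c0bf4a11d6302f1300f79c2dbc621c880ddf182bf0cd7dc859fc3353d308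b194a3f8669fc334513b941fbcc05f04017c183bf8405b4620d230752190788c099466594620f91827c989700a3efc333fe199aba45305da302fd20474a423fc202fa707ea403ff0ccba4620d6806d3616ff0cc965e57f8326fe198ea189eddc2dfc33146b5a01ba8616c6705ec301318c17cc609fe1016a183a90c83f8661ac4277e1983f0cbff865eb090efe1977f0cb8dbfc32ddf5132e8c99f865abe62cfe1966fb43fdcc17fc32c7e195ff84057c605fc32b7e195598c5ff8654fc329a1f10c438860dbeb0ae4503710c0978616bcc08e2580f10c05fc2029231fe41813f0ca5f8651b2808fe1943f0c9e9caa6057e193aa8c2ff864db2b0bfe193168c4f6460ab45055a186f02021f864bfe1012618c97b439f864afc32497690c8338641d430cf81827c9813d061ae8606fa205bc100bf8648fc323ff080bd101edc63bfc323436116c202c726ab04334909a4078a86427431e7e19177a00edc63b7231eae78f7f0c89f8643fc3217e1907f8405f8640fc31f8cde100f446137931f3c28f7f0c7db8608fc31efe18f3f0c77f863afc31cfe18e3f0c6ffc202fc31b7e18d7f0c6848fc319af90cbf0c65f86315c3157e18c3f0c5ff862efc316fe18b3f0c57f862afc314fe18a3f0c4ffc202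fc31307b7181dc0a10dc307ec404350c23e0602f030277182768c2d80616fc312e5184703019f8624fe100fe188ff0c4433ee30b771887f0c438d20bd6306f92817b8c35c8e0ffc31061204729423f861fca805ff0807f0c3df861dfc30e123c0c37f861bfc30d79180fd1007f8619e030878280b08c17f8618fc30bfe185bf0c2bf8614fc309fe184bf840209fc308f7183ff0c21f860ffc3077e1837c900b8d80bee301fe1833f0c17f860afc304fe1823f0c0ffc201fc30307bc8803e4601f4200fa1807d8803ec601f8200fc1807e8803f4601fc200fe1807f8803f8605fc3027e180ff0c0400)) (.leaf (nat_lit 0x684202da215a8d04dc6676e34137199d80d02dda766e331b71a2194ce0e70826e34bb721d9b8d0ed56a2fe10402638d412a88c94e464a3a4a40d172068b9560bca687e5343129e0bfc36bca928650c36f20cd78e587f0820b9da61e7a63e3b181de8c3bfc2077061ebfa889fa026e86a47b4122c910d7b074e064a683553f5881f8c1efd6b274338469eb4278067c82c3e3718f9d8c0ffc207fc36b3a8821d0c44a06385a3043a421a0cc8b0467782b3b3f19b9c0d58f06a30f331821a503ceea08623213b19bdb2cdee0622fe103fc1b41f988abc6cf76311b439b9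a18409482e6ed242c5c18f6d8a4570322b61a91c0c44e36137494c7f081dc2811f86d5583663cc88920d4ae147870a04b81a49b0cfec64cb1d241b50ebda7f86d4fc369931b3bf0da4adacc56d4a2e18fbf840e9dcc6563111771712b184ad81132545a1d59872b12395631cab18e564c72806372a3577e1b47f0da1fc2071ef672e929bf0d9ea24544cf482e21b3f0d9c9c50321b2baa940d50c86aa6065930d32bf0d9ab46a354321b480914ac7ac947bfe103a6296958c2ef58216053c174b8cf4662c2fc3667e1b2de110cef4a74281cb21a1938d0df86ca6453e7f081d0d974e9c4947360ab695de0c42728e74144699e6a8cf266859a3474689ddf0d1df86c97833a7e1b2200c53f86c78434aff081e08d050064f96712921c0c56c86697075cb41ae1d1958c06ab44358bb20b188d76fca677ed27bf19d56d582906ad523162d18b3f840e096083eb058b5a8cfadc62d6a35fb5187188c38cd62a5d5173e1941b0c65258b89853afe1b198983ffc2077252587bf840ca345551915291957e0c64a1e8f58318ab48c1720fa98c7d5835efe1b1550ca7f86c45254cac19d138d43595e318ff081970c0df4a335302aab5155aac5ae6e9a48347b798d1b8d00dbcb46b05e2c19653a81498c485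2313d1182464c062a5a32abc50abf840cb5c334c361c419fa30ce2ba6ab8c931ef4a058ed1125c2650361a41a9e48c49055635a261a3d60c5cb148ffc361a9e9c7f840cb527d54319af1ad588d7ed26856630e2a1939348509861f4ef1036da945ed867e6c44d321871d0d35fc20665a3eb840bdb8c5edc8807430a36ead95611ed200caa7269e1acff0d84f05a5172dc8c1ab8e2c18b45a338af18b570d68b4634fe10337199bf0d82c86539c32a251a4bf0d809c6a64831e2c57ac5ac46bf5e31a331afdc4468d0632612177f0819a3168ca2b4f835db6484bf0d7ebcc919c3497e1af9b0c1cc674355b052ad83ca0c902c623167e1af7f0d79f86bb7431abf1a3bf840cb8688790312a80d58b56ff86ba5ca1aa1dc986ad4654771562e52d7f0d72cc650fc35c7e1addc98cdfc2066ac41b022aff0d6df86b530d3d371a4150d569c605152718cd8ac62be80676318be79f578ce3f86b46431a281a3df0c8d2c666fe1037e1ace730b1408a04835697680d0148663a9027cc19bb68d034b295a154ad09203b10bd064369e34d7f081a6d0dd3981b9c33ad6183ff0d6472424142280a108c508c628485142218a11c8508462844514231a6ff0d62aae7446a3b2518c3f840c846534a4338cd42d2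2b06916432fa9209d40c4eb8a0a5430c27a16940d40a084b50636261a4934917fc20666351aa78c920cb448fc3581d29a3f0d5ec969d643421d1898f1c4c928236a336a4224ff0d5df86ad9344ea98a3e40c63fc20668e2387a60caf51a8aa43454c319260d2150690b0323df19b3b9491fc205a432d53196e50c83f86acfc355ca18d9c2d349c90337cab9be35531e8824f23122fb10ab0c3af063e78352231a2598c71f069d7f3427c191bf840b28a31fc3550cff0d52786a342344fe1aa1c8c86d069c516422019b518c4df86a74cf36bcc0f3f0d4df86a54ec48b8195bf840a096c9113919eddd548e683bfc352392079f0c7ced23d7381e371877f0d46b3a3a7631dbc59cde0c21fc205fc35107b1a017fc204f050277285ba9c2bb4e15d8a1065199781821f86a1dc6497e1a82fad2cf864aaa54c3d28dde0c7144))) (.node (nat_lit 1) (.leaf (nat_lit 0xa8a305152864bdaf8ce528e36bdd511edaca560696a65455919b2ead2d7466bfe106a31b051915ba887c384661768a8becf027a630fd11a4750c3f79a8cb702752197e998bf44e56b63247f08364d5ae654af54366b51aaee14a272ac341d1193eb8cc73067fb050a59b1d7f0dbfd4629a8641c021d9f8d931307e6a3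516a2847f841ae4abbb042c8cc990ba6cc6d3b73c9b7301c0cf2672c037c54191ac118d527c6af4a36abac1f0c8db46ccb054362391b0bf841a097652e391b21e0d7b04ec77835eb51a8bf0dbcbc6ab98f3148193df1038f8663b0328967b44b0c75fc20d7c53987bf841955618ba32cdd6062ea8996205aa834652193aa492549692a4307558932a3c4aa0a9350346151b40b8d6159ba3265a616698c3174659fe106581962b8cb7690a04c313d34096b21415a46ab0e27211b2928c7095e2768934c16c98b37885bb232d5e1832f1cb565817fe106585136d95198461fbe726d8813bb0c20ac6795a719571979bb8aadbacb2c5f4a4aa0d4158e8cb435056193aca4b5fc20cb0326df406aeb13f74615ba330cd18a90c52725486a2540b1a6a44b3e84b9b2484b192e7391558664a436dd16a7e4b5af246d7fe10654622ac0c1c756d44a5453e19ed50c6e879a94fd171b288d3f3466c943354f725a7c52d30648b0c48561a4280cbffc20cbed36321aecd319ce46c872b119c9310aab9a314e319a818c952066d869a543192a787122d86b22a25d055b6e1d950ce2c466dfe10636196542034335835ab81b1db3c56ee6c8a8334a41ac55c982d066972f34b71a1d30d873f02e53062a9525d38c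72f5aa1fe106026c182560c74b03385881d2b1ced58687be431d7811ad8c24d967e7a35a2b50cd9a85d60c16aa332ff0831118501e92350d11b6e9adb7268d7c43305a1982bbcd970647c6c25dc1a82f242dfc20ba2348ad3b6550d2878ec07c96b1cac28ed6e070b233a59191ac8ce778a51ba328d219bac8d0b310b89453fd94172cc53588610fe105db197cd15a03356a282f18b178d6ebacab6435bbd7a6da3056ae8c17c55e457051f90695ac8354361b239a9745369c693fe105826830ff4c629a532f521a0261d2b57014c8442d479d238d1cf86359312e4742569c8e74c60e9e3477f082e0986c1ef8326d51937f84155464eac6275a197eb9cb148692a712dd51836ba0cb5c65aae32ca91a755c460e484352c6ecbfe949d51e17acf2757185ff841545e91a6348d93162b8cb378659b230d7d283ab8c2f5062f4c352b01afdb8c3d05bc62d5e5832f0c197065ba630c591a83f84157468bb890fdf3a32d911951620a832dfe1b7571cfaa068f7a937b6e9ac97892649c32bd71a2a630af5946b92a6be2194b38d2da4a194e313f8183ff84148e6c26c35eb818d350c8a5d74a253a6a91dd4f6fc6457e33dbf1b59d8c8af466f7433e2c5ab5c8d28f46b27321f414209fac42eca15fe10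5024c21b9f86dc4e36c1e1924fd0926b47a5036a152339d8d96a98aa3e368a31af9bd13c7c6d87231bff0828c8d521e94b24497b5e68d43f86db9ce50db1a7f42cc9d86259b32b5c397ff8413e0c8bb430d316b1ff0db4d863c4a31921ea188f58661c8d4b576186a9d2d65425b8330551a2ae94a5fc209ee448615a5af8d18a469b6ae34b3189948d829ce433856aa1f030eb5c673b4a28ea2a16d8ced80670ac329bf90a9fa0edec61ca51407f0827e904928e958a33c921ca948e6a3b6a31dc019ee01494f184afe10440ab5b00c3af863c6e34cc018f56b5a310815a230d6b292e10c12db36969a41b4ceb5a8c08445e3221ee21998d74ef0a66e56aff0821121125c6a94c3652c1addc352ca4689484422714a070e06a9508593a388d48d50a46aa598552b30e110d663c6ce5631f241aa3f8410a521c7a363416209c0c9c5d5e92130187990c10c943c56c0430e1f170c48b06425b22134704d50c3dfc208fc36cb231d180ceec066a7090d9ca9941344e209e604d3488298c334da1ba700dd340369a01f2460fa6f30cb289648c4130675fe104464a17f0db033)) (.leaf (nat_lit 0xa2514cf1a568910338c95a6827d11a0eacceffc2149e314b820c9b0c5f446467e342c539edfada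cfd86f94a4ab1a78c9f46c819a34acf18526a4bd3867f9e93fcf19d668d05246515eb5cb7428bf84292c61d6e3523728ee7a0d85d6460e39a071bb85ed5a7e6833f331afd80d1ecc6718a518d0737da8ca7fc2148632f2b828d93940dd8a49093a1c978c68da8346715fbd39f5e0cfac462f7a3152d18cd60c60d4ebf4a319c6199de8d04b464c54c4ebd286ff8428097831f4018f70a87bfc213c230eb81a9178c84ed44a7756b3118dcecda86dcd07232eb21a91c8ce6e469ad2330469b8c76e864a74f1140892a0c48b4061d723527f084dbdc3cc461e5546d1c1ae988c712928388340445aa9f9caec63081b9ed2b8ce50c5dcae483662b1b44c8c9255ada2e36d171b6bf8426a7cd22fd571718ac9c998558ae3236921d2193c7065d5235f39397505580746b056351a64a4d8118c646c25836cb9d267f8426a869e5922cc62119b8d225d58a3c2eb9e168cf1dc678f053c3429e198cf0b8a785a33c2c434978d4ed46aa666597f084db8c76bc638f644f123e0ceb54673fe109501a1ef8dbf506808a31b479a3a44d930241c8a333bb3321c8d76c4a428461eb51a5d70d792fae328ff084ab9ce754653aea3a5c211aa8d05346956c3203e1919f8cbc886286a32ac018f5b0c8099ea55e438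d13e94ef7c646c2a6fdf29c3f842522cc9b032f5d1a0a84cfe91cb1810414b18d204c6b3cc299ab20da325ae194105aca3a5a9946b8ca758676ae329ff084aac024f5e36a6327c7198a40d2efc671523145151c188c851c67e5a919bc290d0f58676ad33bda7946c1c8d4866e8a364ff084aa490ef18698236452193e08d8ee8e7c763113d197250d30c640c58a01ac598d78e86727683938dae268ccd04cc86a34bab1b07f8424d86726f839311a590a5b0ac6c15cd4421d30d86d062e48347ae30b974168c262a5031847c0c5a58fdfc2127a3332b7156068e8b861f8a345ae19d972d509ce642359714ed0ca379212bc33ac91a3aec10756287c2e2331190220d0ee86acfe10955437e80ce8ece3eb833097649848e06d692312451b5a58d30d463c7871e47a075f1094e868d4b454c7284db0d474c61afe1093c1931f0d0033a4831d1985240d93446819af14d31b7e994e72d085a7128ca1a0a08d37306299f3337f084998c78ac6d18041e921091809c6be3432eb25af9b993ca54b23634eb620990b846946234e3633718791c17c806c06502ab6505ff842409947364e31aa80cade866a9cd2b56194ab39214c6dbc0d12a7189ed20c178656fe108a81b492910d3867f5a31c97658d2d346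969b230d119ae924d72866aaa325cd619379543fc210a8c1049335ef28c0d0eb9413572a1adda8dae9c948354f9a7e68cd92de56f6636519a2a5a4d735c6a98335511a46db431fc210aa32d321ae188ca1246a862a211c9b0d70b9ab56671ad55951dc990f74c77325db81951ae4a8e469a76339d7ab7dc2168d06473636e33196bf8420093434e9f1a64e0c4c506a53436327baf908d94594c46834e9f1b47f0dc0746d3799521d1a70fc55ffc2102886287a4ad0b306368631b4a1a09c3881a0a6370b204c8b7e60d2b188777c31acc425e3ccfbfc20f88342a418a168d9e4896633332a2258cc55c6889c6314ed1c970d36e062b5e355be69c5c145d3866e986153d723578d8eb468cfe107827424cba461ac030de9306b32437fc20ed060ae7184732c435864ecc707e3186e8c1b758e53bc66fa11b52f9504f09834552aa4308c975069096312e71922bbcaf406a198335ff083ae2d43a5419a074f9b6b70c8d96b5a9f98364a7288cdd60a5ea6c14d51a0e50d9378653ce333b8710270dbf146317075b361b79fd4b955219fe1073c22f55956e336235dccb99998d77346669a7443b1b2268d592c65c6395baf82de414e8ec62cde340921ac5c0d11fc20e9a64507ab14c33066baef23dd1a5ab0c8f546dbbce4fcf1986844c348641fe106de716300c2ca86cf473685d21c1ab57e87))))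 (.node (nat_lit 2) (.node (nat_lit 1) (.leaf (nat_lit 0x9081fd5896298d176da58a83465b5a4ad3898a4a27b232d55196aeb0a56c68cfe110b119f96c9bb6c6759e31517660cad49a569c3354b1a7e6293f74661b9224498b5e80caf70658fe10fcf199300d20788ae5835c953b8160cc8874633c9f2300fe980d866d4a45f231b3548d7c952893e357a242a4d9d4cd8649fe10f22522d594f3e86784ee5c174d94d0510c4563633d1a1188c4c7246d37b583521a158d32de0984ad6848189be9448a467d552277f0879e99181e38c4e1e73191d588650cd383621e1acdaac4669aa936a60271a13f843a866e052369181a68f18d09c6d72ed6d21d51136c64b65f26f2d32d963dbcbf8667832824aac5d8d8f08a6e49414421b2568d6ab465054a23ab1ad7f843a0968c4d3518bdc0c38ed42ffe10e30d2d1b90aaa0ec3703195028a5d34d3606517e36f351a64ca938dc6257493e4153114aa24af412341e1abca0d609cac444354ac3274a0d4ae18455cc4c2c1a8dc0cf2a06336cc4d7f0870b0d5e1e8e44c451892015ad3086f7c36b3918efb0c3d2a8989234c2d1a65b0d3b2eed88e30ed41887f84372ca737c6638cd88dbccc6de6235b331a5da2d2ec46b58834436c9c9d8d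91260746cd5e38910258ccebc6b65032a7f0869b24ee1e98935e3191e744d750647bc630ce195a70cada0c4bb30305c1983f843378621c0323b71911934e4ec6cbb233aa1e6252b38c7fa14404b193e68d013c629a2314cd419e718ed05c838e3474388da30c9f51681fe10cc91a0248c8c333036aa54b80b31aa7e8e0435682752b97c94ca863a70546ba5129515491061d4c3662b59496c170686ccfe10c8252296499ca859655363a8ce8d66786933fc49a5b31928cf2848cf463133cd235f0dac806584e32dff0865438a01ea864656722ef0cb15468b9231fff0862d0d414c65ba6b276d188688cb7d0e1a4e413cf38b531c5c916dd7251dbc138c4f7461f5a513d2187e934bf5244da0326ff08628291739a8ba4e3552214a70c3e986235c316b821e5a0d6cc696a484c195e88cc934c25aad325519b2a984b5c6569c76df6191eb90ad85e9ffe10c2518e5ab544b12c37091597522d1e956714f118271b0d58c60c4a7e4e319a5d0c928c389cec9529152918bd39d57fc21850313181b494b098488c747461a0a40d0b3a23690942bfa8da520e12124f8c33bc8325603058a1ec38835ed0413e50d0704ac7fe10c0253b51a8a0cb5296d195b09615b4986ad3be6e371a510c5a6650b07683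7a83335d8d26b06bc783337f086150d661ea63494918fe48c7f552a0aa32c55896ee8cbf68659fe10bda1932f0c9981a47b8b5029616db3108f069d5ce332c6c2d1751ca0aa34949a0feb31254861f92a1fcf1a46f3499fc2179a348a5189fb8c9118e714234f1818e8b8d4a9c9a93253909698c4b34657b0625d61a8680cd548660acc23d5536eaa5b7fc217a632ba4195d38d8b30662543651c909d12894234cc65241aa524d948468446363238b3520d3c8464448912241b452550dfc2174a3542342b1530884866a44325aed90ccd30662b043345ea5dc8d7acc6b65ea51281b0dc1c80c06315ee16393989c9942b4672fe10b8269ace754cdfaa323537b7e8b4ef44681af429d319cea0ce1150707052a332aed00d62e1640fe10b4f2b6dc8d90332c3679819e8d0d4cec637767659b5b08e8c88a303766e1bb31b5918d668c6897231ea419b130dbdfc2169032c07a40ccf25e8e58320471a3a40c6d8c64fd23235a794650cdcf46c775256404a0198c6115a67fe10ab41a8e28c823326762191ac11bd9acd6267c64ea7188d129125c6a5563622f1ac941138f86247c656b51a315a0308c644fe10a826b98bd226c9fe10a431b26b34c770670a454053197aab902d062b8034ac622f6a8ca12d48e9233d9d4b71d31bd2f8c31b36b1023d51ce1a4096933d6b9dbf842939e7fbcf3abf19d6598dcfb67d703204268da00c957866580321b6e99c2940680a033fee38a692cdcc7440a4a43d41a0ff8428f86bc5a35bf0418b70c6328ac9a634ad0196143d74b1))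 (.leaf (nat_lit 0x403369e1a78f0d3c7c6793432e9e1aa4c0cba6869c383551a5b2cca94a7c6c22e557ff08b90acda7c6b03a3291218197ec867d65816b638d1a1c5a9a8c368b3f301afd8e97eca6306833eff08b5c3158aa0aa4f154b419858a09a724e55f2a79e5460da9069e62336aaea7930cd0c4ab246b66a61b5120d508866d48824a472c973594a86adfe116825a8d58f685c7525c3d3971d8d8eebc88fe116308ad5c0d6ab4a3370b5ac5723a28d06ddc4b6035e453b25d8cc6db64c5e3429c93d18a990b14ed62ff08b18d56af465056e60b51a5dfcd02d06326436fb16af56c91abca775a3633c1928c4d2a62623443432ed98d76e06694e362b2b8d7f8459f482d7036fba69dd90d0e5dee06672b321b7dc0cbcb13645d258344f0d4e946d140353b42910e8dc05e8c23fb6e1b7b710399e806373b83db6436d10d4e9c681fe1160258b172dc6355e35aff08ad70d6aa7cc161555b5b3794b562b867f5c46f2e52d560d6eb609f66335a11b613956b1a6e634b91af5b8d90dd8ac6a71aff08adb8ce4e6eac6a3562b4b1658ca2ad2c19031a2c1a519b8d49869e4cd53bc1bad6ec1e505e955b3a94160d56a74c56635b30198bf8456b90815c3312deae548d92c062c5a4222a198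d594d6b160c5b32925d80d36caade5834db44adda0d8ec52a26944437198d81945fc22b6a3179893398192ed4e91303571c9694a8c0eb95a334afaae568c56c06bc6574bb9a2f578d7adc6bd611182efa6d68d72686ccfe115a61ae56253633587182a8b0d45d86b46715e3172f48b978d34cc62dfe1153e214d88c5adc6696a3192552a533564916c64cf6cac509d94986b2483549ea24d0ad46ac6c63f04e23a10d3259490886423659b1ac0da184908c3fe1152b7a34f9c5e3346349a7190d3d166bc63860355296a8d40cda846af6035f2d2a8d83d08c86787c525251ad118d7dfc2297c31f078f8ce4846c5433391f1b1528d788f0354bb2a281ae518d37fc2284633aa1221cfb1908cec527331115b3ce8d489cfe1131c3a94d210856c99f83579a1a74f40f2810aa3472e9c9298c0d1a76caf38759bb18fcd0cba6105b40c6056502d5ffc2264e34cfd2ac0fa932546a52c352a08a7912564808c44062e961b00e0d60786683032f975264cbd47442aa57141a98e8cf4688cc2c33d1650e530d28506dc39453ff0898b2db85867a363701f19ace8d3e656b62833d2711355a994ad4a356a21ab51d55aa86d94ed46a11b519b1b0ae6d8563253d1a13f844c886604a71aa528a95bd7c5d6c4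5eba18adcd98ee46356c35c4ea98998d44da2b87035c391a1608d8edc6bf77738361b23f844ae5c3d443448cddb458b86b75e3162d62dd68ca0bc6b96391ab09999864b8b46555a318a61a3d78c57fc22550367ab20adb10be48626552b1a4d88c70c56b26731c2b190d53886758c03e3581d9b4d48c92d703e6c53c271aa148d7ffc2248633d87bf844695cb372721a61b292d9128f2993fb6024a174c8d389066f4234f211b2cc1488986bf4835a1a292510da35940351a990e128d26aa643fe1119a197528d88a06ca4f751a522f8f0d94bd2d94ab21a6222541554b46719473541478d9c7eeba26b67218ae918da2646a67431b9b1ab950da4c2478fe111ab1b29491968d0ba36369a51ae12a46287323661baa18ae15ca8ecf5036cae1a50d494e58ed5743221a1a78d8d61fc2235a31c981a88b0daa790d5507171c928d32806cd36358221b18ab4d05f2af2dd57953a64c4d08606c04636b25c0ecd258c9d84dfe111984a2d28cec3370322ba1889c8c95fc2226e91dbae1edc9cf8f6c247761f291a5190d9aec6685436a3849fd9b8f8792b16c33f4690a550986ca3f511a01acda8d26b1e7950359261aa173071fc222583593759bd6c132d24275433f181abdaa50a9c5eb51311a8992144ba8a25a351344ab1b60b8b86886035b2f1ad958caada45e6c33fb41a40ccd4dfc2226832007a514a53a248a03304d1922621b7246d7aeb456e19ae8d0c96c664fe110cf1b6e48c7ee06886c36da848cde0ca887)))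 (.leaf (nat_lit 0x3cb70191b4120d28588d03c34a1e8ae901db06dad3410667f09a0ec9a6726ae4034e167b54b0d76618cd2834fa72b11bf80675a8343e029de90d0ffc25ea88374f498e58ccee4ebb9e33f3362f2b0cd374665a83382f1b6599d76f06464bae1a6da552eac69b6235b7f0971b51909c6c56835cad1ae56a98b0389a6e431a73a1a38daee4683283623c1135ba8a0dd4236eab1b75655bab0add5636ea11b7513dba8a8dd4236ea71b75415bab06a0fe12628193918d24332e324a05b4bf8492786d23906c1c1a34c0d96786ba2ac57151ab8d0d74546d62ee669c71a4d0cc8552c438341cbe3a9af48652a50294b1a87f84914e857ad030cd1a42a28d95068aa834550199684142de2a16a35d1a4b4e70d0f055a36ca81a34c0d9eac68d304612743514bdaa62c7a2833d2919ecc40f46aa5d43c627f09212ada25869c4c366921711b4ba4cc2f261294a9968d9e7d8d357256af233d08d9eb5679363617f090970d50846cb58329251ad1815be723eb6c28c92500da46c6dc3ee691f1b80cbd84c86ad4386a451b3550d5a78ccc9434c2019c901093fc24144f5c87a30db7206609032448398240ca52064b94f50c8195e40d3ffc23f9522bc8197e40cd7220de76d643639a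d435389c7c96b3f1a61ca4defca988d037ff08f602094e867c7e322a4a295a390cfd0932d06e3e1a0220d92f465254361bc0c9d28546942e3681d1b54f49aaa06da32368b61910a8d4c9965dfe11d9f5b50d8da65cca62a3701b6314e8d4c873e76a1c19112ac75f06d3fe11d29512530db4806d8451569c19f13c17cacaa43c36a9f3b4ce0cae716ce44f32c14d0c887063a4b6227f08ebe9da8606cb3c36ca01a34d0dc0706e0383551c9354f60d0726a73c36a1618fcc8db71a3e969219360f8db8786d83f76e7f08e928da0acca732561251b1958cf0a8e9c5033d211b414b4d868a7a32547bc1219a2446ce4835d245a9d34d74694d558d3d192343f847280a49409342c19152ed12906da2a32e233aa5624dcb128a68187b54d55c0806942a370267b4932d99fc23930368a41a77e9478616c43433e22198514da4646512cf2db18ba90c662da40365ae3b6548d4cac6cc22367228b6570db27c6ba40349ff08e586c78a58ab56e30ae219c80d627220853921a9c949a2386ce1f26712db3ca2874406cb283248e18e4840865eece2c367191958b8d6dfc2393636a078e0d8c8868442952a53310c0d39fc2384964f221af910d12ce2a48ce6c161b7138d1aad25f7631fa76368b8dc0f034c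537f08dd68db29587a32357251b4161d9e7c6e05431d2d30ed2ad889d4943a36c1219e8dc96a6c66036b4a510c358485ccf42346ba1a1bf846e674dc33b69bc29248999c890b332360281a9d115526a26444d6caa5329e1d2d0540359a51a253c5468c6894ec54a2c1a178c70946b3534541f82a3f846e9e64458f53ad1af9124b4aca8a52365a1e3a5932486e8e341cb918e241071ae738e33ac719dff846d0085e4c347aac2de1cd37158d692340cd419220d7ab174d63b832e1d58b8e86697432a351b79e3cc4f0c97803394289cff846c786b17433bba1b5dbbd58e92877462b21dc8d90e06ac7272a3c4af600cb8d54b678334bc326d28d8b098ac7c842c291cff846cc1866603243d1a6200d1c5d3ad66acca74e8d386ee6846452a42a2561166bc67948349a841b5331a4646a54c31d3e790ff8468b96bc4635a0cd2a58a986bc45258a61af105d62a14bb5035ba6731d46dbcb06de5435c281953f8466a0e8a443589319a0d0daa5d24342221a7098d3a74c9c48366a6aaa130d32b28842a334241b30f8d5e806da2e3682b6177f8466550de2836e0cd3a8e29c6b45235a7f08c14111e9e8314a35fa3195538d349da5452d442ba94138d1ca623146359ab535958d211a2e365961b64c0c6e5c6da30346981b60d0d0c606d22c35d1c8364d48f2686b3405602418e910c97fc22f74b2e8794ad82a0ec14e360a9430540d82a86545035caa1af150ca1fc22e58d392c18d550d708863748d302a211d614e49c))))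
noncomputable def recs0 : Tr ℕ := (.leaf (nat_lit 0xd64035900d10032f00c68030500bc002db00b1802b100a700287009c8025d))
noncomputable def rows : Tr ℕ := rows0
noncomputable def recs : Tr ℕ := recs0
noncomputable def ci0 : CI := ⟨[], (nat_lit 0), false, (.node (nat_lit 1) (.leaf Rule.defn) (.leaf Rule.copy)), (.leaf (XRule.rot (nat_lit 0) [] 68 0))⟩
noncomputable def ci9 : CI := ⟨[0], (nat_lit 30), false, (.node (nat_lit 8) (.node (nat_lit 4) (.node (nat_lit 2) (.node (nat_lit 1) (.leaf Rule.defn) (.leaf Rule.copy)) (.node (nat_lit 1) (.leaf (Rule.fwd [nat_lit 30] 68 0)) (.leaf (Rule.fwd [nat_lit 93, nat_lit 51, nat_lit 51, nat_lit 51, nat_lit 51] 41 1)))) (.node (nat_lit 2) (.node (nat_lit 1) (.leaf (Rule.fwd [nat_lit 219, nat_lit 51, nat_lit 303, nat_lit 261, nat_lit 303, nat_lit 93] 54 0)) (.leaf (Rule.fwd [nat_lit 93, nat_lit 93, nat_lit 261, nat_lit 30, nat_lit 261] 44 0))) (.node (nat_lit 1) (.leaf (Rule.fwd [nat_lit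 282, nat_lit 114, nat_lit 114, nat_lit 30, nat_lit 282] 45 5)) (.leaf (Rule.fwd [nat_lit 93, nat_lit 177, nat_lit 51, nat_lit 219, nat_lit 324, nat_lit 261] 50 0))))) (.node (nat_lit 4) (.node (nat_lit 2) (.node (nat_lit 1) (.leaf (Rule.fwd [nat_lit 177, nat_lit 261, nat_lit 9, nat_lit 93, nat_lit 198, nat_lit 93] 52 4)) (.leaf (Rule.fwd [nat_lit 282, nat_lit 303, nat_lit 219, nat_lit 51, nat_lit 345, nat_lit 93] 56 0))) (.node (nat_lit 1) (.leaf (Rule.fwd [nat_lit 9, nat_lit 51, nat_lit 9, nat_lit 51, nat_lit 51, nat_lit 156, nat_lit 9] 42 1)) (.leaf (Rule.fwd [nat_lit 51, nat_lit 51, nat_lit 156, nat_lit 9, nat_lit 9, nat_lit 9, nat_lit 51] 42 4)))) (.node (nat_lit 2) (.node (nat_lit 1) (.leaf (Rule.fwd [nat_lit 93, nat_lit 198, nat_lit 93, nat_lit 9, nat_lit 177, nat_lit 261] 52 0)) (.leaf (Rule.fwd [nat_lit 51, nat_lit 9, nat_lit 51, nat_lit 51, nat_lit 156, nat_lit 9, nat_lit 9] 42 2))) (.leaf (Rule.fwd [nat_lit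 9, nat_lit 9, nat_lit 51, nat_lit 9, nat_lit 51, nat_lit 51, nat_lit 156] 42 0))))), (.node (nat_lit 1) (.leaf XRule.defn) (.leaf XRule.defn))⟩
noncomputable def ci30 : CI := ⟨[1], (nat_lit 9), false, (.node (nat_lit 8) (.node (nat_lit 4) (.node (nat_lit 2) (.node (nat_lit 1) (.leaf Rule.defn) (.leaf Rule.copy)) (.node (nat_lit 1) (.leaf (Rule.fwd [nat_lit 9] 68 0)) (.leaf (Rule.fwd [nat_lit 282, nat_lit 9, nat_lit 282, nat_lit 114, nat_lit 114] 45 1)))) (.node (nat_lit 2) (.node (nat_lit 1) (.leaf (Rule.fwd [nat_lit 114, nat_lit 324, nat_lit 282, nat_lit 324, nat_lit 72, nat_lit 240] 55 1)) (.leaf (Rule.fwd [nat_lit 114, nat_lit 345, nat_lit 72, nat_lit 240, nat_lit 324, nat_lit 261] 57 1))) (.node (nat_lit 1) (.leaf (Rule.fwd [nat_lit 282, nat_lit 303, nat_lit 240, nat_lit 72, nat_lit 198, nat_lit 114] 51 1)) (.leaf (Rule.fwd [nat_lit 114, nat_lit 177, nat_lit 114, nat_lit 30, nat_lit 282, nat_lit 198] 53 5)))))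 (.node (nat_lit 4) (.node (nat_lit 2) (.node (nat_lit 1) (.leaf (Rule.fwd [nat_lit 282, nat_lit 198, nat_lit 30, nat_lit 114, nat_lit 177, nat_lit 114] 53 1)) (.leaf (Rule.fwd [nat_lit 30, nat_lit 135, nat_lit 72, nat_lit 72, nat_lit 30, nat_lit 72, nat_lit 30] 43 2))) (.node (nat_lit 1) (.leaf (Rule.fwd [nat_lit 30, nat_lit 30, nat_lit 135, nat_lit 72, nat_lit 72, nat_lit 30, nat_lit 72] 43 3)) (.leaf (Rule.fwd [nat_lit 72, nat_lit 72, nat_lit 72, nat_lit 72, nat_lit 114] 40 0)))) (.node (nat_lit 2) (.node (nat_lit 1) (.leaf (Rule.fwd [nat_lit 135, nat_lit 72, nat_lit 72, nat_lit 30, nat_lit 72, nat_lit 30, nat_lit 30] 43 1)) (.leaf (Rule.fwd [nat_lit 261, nat_lit 9, nat_lit 93, nat_lit 93, nat_lit 261] 44 4))) (.leaf (Rule.fwd [nat_lit 72, nat_lit 30, nat_lit 30, nat_lit 30, nat_lit 135, nat_lit 72, nat_lit 72] 43 5))))), (.node (nat_lit 1) (.leaf XRule.defn) (.leaf XRule.defn))⟩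
noncomputable def ci51 : CI := ⟨[2], (nat_lit 72), false, (.node (nat_lit 16) (.node (nat_lit 8) (.node (nat_lit 4) (.node (nat_lit 2) (.node (nat_lit 1) (.leaf Rule.defn) (.leaf Rule.copy)) (.node (nat_lit 1) (.leaf (Rule.fwd [nat_lit 72] 68 0)) (.leaf (Rule.fwd [nat_lit 51, nat_lit 51, nat_lit 9, nat_lit 93, nat_lit 51] 41 4)))) (.node (nat_lit 2) (.node (nat_lit 1) (.leaf (Rule.fwd [nat_lit 51, nat_lit 282, nat_lit 72, nat_lit 72, nat_lit 261] 65 5)) (.leaf (Rule.fwd [nat_lit 240, nat_lit 51, nat_lit 303, nat_lit 303, nat_lit 240] 46 0))) (.node (nat_lit 1) (.leaf (Rule.fwd [nat_lit 303, nat_lit 261, nat_lit 303, nat_lit 93, nat_lit 9, nat_lit 219] 54 2)) (.leaf (Rule.fwd [nat_lit 282, nat_lit 72, nat_lit 72, nat_lit 261, nat_lit 51] 65 4))))) (.node (nat_lit 4) (.node (nat_lit 2) (.node (nat_lit 1) (.leaf (Rule.fwd [nat_lit 9, nat_lit 93, nat_lit 51, nat_lit 51, nat_lit 51] 41 2)) (.leaf (Rule.fwd [nat_lit 51,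 nat_lit 261, nat_lit 72, nat_lit 72, nat_lit 282] 64 0))) (.node (nat_lit 1) (.leaf (Rule.fwd [nat_lit 261, nat_lit 72, nat_lit 72, nat_lit 282, nat_lit 51] 64 1)) (.leaf (Rule.fwd [nat_lit 9, nat_lit 51, nat_lit 51, nat_lit 156, nat_lit 9, nat_lit 9, nat_lit 9] 42 3)))) (.node (nat_lit 2) (.node (nat_lit 1) (.leaf (Rule.fwd [nat_lit 219, nat_lit 324, nat_lit 261, nat_lit 9, nat_lit 93, nat_lit 177] 50 3)) (.leaf (Rule.fwd [nat_lit 345, nat_lit 93, nat_lit 9, nat_lit 282, nat_lit 303, nat_lit 219] 56 4))) (.node (nat_lit 1) (.leaf (Rule.fwd [nat_lit 51, nat_lit 9, nat_lit 93, nat_lit 51, nat_lit 51] 41 3)) (.leaf (Rule.fwd [nat_lit 51, nat_lit 51, nat_lit 51, nat_lit 9, nat_lit 93] 41 5)))))) (.node (nat_lit 2) (.node (nat_lit 1) (.leaf (Rule.fwd [nat_lit 303, nat_lit 303, nat_lit 240, nat_lit 51, nat_lit 240] 46 2)) (.leaf (Rule.fwd [nat_lit 51, nat_lit 156, nat_lit 9, nat_lit 9, nat_lit 9, nat_lit 51, nat_lit 9]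 42 5))) (.leaf (Rule.fwd [nat_lit 156, nat_lit 9, nat_lit 9, nat_lit 9, nat_lit 51, nat_lit 9, nat_lit 51] 42 6)))), (.node (nat_lit 1) (.leaf XRule.defn) (.leaf XRule.defn))⟩
noncomputable def ci72 : CI := ⟨[3], (nat_lit 51), false, (.node (nat_lit 16) (.node (nat_lit 8) (.node (nat_lit 4) (.node (nat_lit 2) (.node (nat_lit 1) (.leaf Rule.defn) (.leaf Rule.copy)) (.node (nat_lit 1) (.leaf (Rule.fwd [nat_lit 51] 68 0)) (.leaf (Rule.fwd [nat_lit 72, nat_lit 72, nat_lit 114, nat_lit 30, nat_lit 72] 40 2)))) (.node (nat_lit 2) (.node (nat_lit 1) (.leaf (Rule.fwd [nat_lit 282, nat_lit 51, nat_lit 51, nat_lit 261, nat_lit 72] 64 4)) (.leaf (Rule.fwd [nat_lit 219, nat_lit 72, nat_lit 219, nat_lit 324, nat_lit 324] 47 3))) (.node (nat_lit 1) (.leaf (Rule.fwd [nat_lit 198, nat_lit 114, nat_lit 30, nat_lit 282, nat_lit 303, nat_lit 240] 51 4)) (.leaf (Rule.fwd [nat_lit 72, nat_lit 72, nat_lit 72, nat_lit 114, nat_lit 30]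 40 1))))) (.node (nat_lit 4) (.node (nat_lit 2) (.node (nat_lit 1) (.leaf (Rule.fwd [nat_lit 219, nat_lit 324, nat_lit 324, nat_lit 72, nat_lit 219] 47 1)) (.leaf (Rule.fwd [nat_lit 72, nat_lit 261, nat_lit 51, nat_lit 51, nat_lit 282] 65 2))) (.node (nat_lit 1) (.leaf (Rule.fwd [nat_lit 114, nat_lit 30, nat_lit 72, nat_lit 72, nat_lit 72] 40 4)) (.leaf (Rule.fwd [nat_lit 261, nat_lit 51, nat_lit 51, nat_lit 282, nat_lit 72] 65 1)))) (.node (nat_lit 2) (.node (nat_lit 1) (.leaf (Rule.fwd [nat_lit 240, nat_lit 324, nat_lit 261, nat_lit 30, nat_lit 114, nat_lit 345] 57 5)) (.leaf (Rule.fwd [nat_lit 30, nat_lit 30, nat_lit 30, nat_lit 135, nat_lit 72, nat_lit 72, nat_lit 30] 43 4))) (.node (nat_lit 1) (.leaf (Rule.fwd [nat_lit 30, nat_lit 72, nat_lit 30, nat_lit 30, nat_lit 30, nat_lit 135, nat_lit 72] 43 6)) (.leaf (Rule.fwd [nat_lit 240, nat_lit 30, nat_lit 114, nat_lit 324, nat_lit 282, nat_lit 324] 55 3)))))) (.node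 (nat_lit 2) (.node (nat_lit 1) (.leaf (Rule.fwd [nat_lit 72, nat_lit 282, nat_lit 51, nat_lit 51, nat_lit 261] 64 3)) (.leaf (Rule.fwd [nat_lit 72, nat_lit 30, nat_lit 72, nat_lit 30, nat_lit 30, nat_lit 30, nat_lit 135] 43 7))) (.leaf (Rule.fwd [nat_lit 72, nat_lit 114, nat_lit 30, nat_lit 72, nat_lit 72] 40 3)))), (.node (nat_lit 1) (.leaf XRule.defn) (.leaf XRule.defn))⟩
noncomputable def ci93 : CI := ⟨[4], (nat_lit 114), true, (.node (nat_lit 16) (.node (nat_lit 8) (.node (nat_lit 4) (.node (nat_lit 2) (.node (nat_lit 1) (.leaf Rule.defn) (.leaf Rule.copy)) (.node (nat_lit 1) (.leaf (Rule.fwd [nat_lit 114] 68 0)) (.leaf (Rule.fwd [nat_lit 261, nat_lit 30, nat_lit 261, nat_lit 9, nat_lit 93] 44 2)))) (.node (nat_lit 2) (.node (nat_lit 1) (.leaf (Rule.fwd [nat_lit 51, nat_lit 51, nat_lit 51, nat_lit 51, nat_lit 9] 41 0)) (.leaf (Rule.fwd [nat_lit 93, nat_lit 93, nat_lit 93, nat_lit 93] 48 0))) (.node (nat_lit 1)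 (.leaf (Rule.fwd [nat_lit 324, nat_lit 324, nat_lit 114, nat_lit 114, nat_lit 156, nat_lit 240] 67 5)) (.leaf (Rule.fwd [nat_lit 156, nat_lit 261, nat_lit 303, nat_lit 93, nat_lit 303, nat_lit 177] 32 0))))) (.node (nat_lit 4) (.node (nat_lit 2) (.node (nat_lit 1) (.leaf (Rule.fwd [nat_lit 282, nat_lit 240, nat_lit 93, nat_lit 156, nat_lit 177, nat_lit 324] 28 4)) (.leaf (Rule.fwd [nat_lit 93, nat_lit 303, nat_lit 303, nat_lit 114, nat_lit 219, nat_lit 135] 66 0))) (.node (nat_lit 1) (.leaf (Rule.fwd [nat_lit 135, nat_lit 135, nat_lit 93, nat_lit 135, nat_lit 198] 18 0)) (.leaf (Rule.fwd [nat_lit 135, nat_lit 219, nat_lit 114, nat_lit 156, nat_lit 156, nat_lit 93] 21 2)))) (.node (nat_lit 2) (.node (nat_lit 1) (.leaf (Rule.fwd [nat_lit 177, nat_lit 156, nat_lit 240, nat_lit 156, nat_lit 93] 26 1)) (.leaf (Rule.fwd [nat_lit 303, nat_lit 177, nat_lit 93, nat_lit 156, nat_lit 261, nat_lit 303] 32 4))) (.node (nat_lit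 1) (.leaf (Rule.fwd [nat_lit 156, nat_lit 177, nat_lit 324, nat_lit 93, nat_lit 282, nat_lit 240] 28 0)) (.leaf (Rule.fwd [nat_lit 135, nat_lit 198, nat_lit 93, nat_lit 135, nat_lit 135] 18 3)))))) (.node (nat_lit 8) (.node (nat_lit 4) (.node (nat_lit 2) (.node (nat_lit 1) (.leaf (Rule.fwd [nat_lit 261, nat_lit 93, nat_lit 261] 24 0)) (.leaf (Rule.fwd [nat_lit 177, nat_lit 51, nat_lit 219, nat_lit 324, nat_lit 261, nat_lit 9] 50 1))) (.node (nat_lit 1) (.leaf (Rule.fwd [nat_lit 9, nat_lit 219, nat_lit 51, nat_lit 303, nat_lit 261, nat_lit 303] 54 6)) (.leaf (Rule.fwd [nat_lit 93, nat_lit 261, nat_lit 30, nat_lit 261, nat_lit 9] 44 1)))) (.node (nat_lit 2) (.node (nat_lit 1) (.leaf (Rule.fwd [nat_lit 156, nat_lit 219, nat_lit 114, nat_lit 219, nat_lit 261, nat_lit 198] 30 0)) (.leaf (Rule.fwd [nat_lit 9, nat_lit 177, nat_lit 261, nat_lit 9, nat_lit 93, nat_lit 198] 52 3))) (.node (nat_lit 1) (.leaf (Rule.fwd [nat_lit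 93, nat_lit 177, nat_lit 156, nat_lit 240, nat_lit 156] 26 0)) (.leaf (Rule.fwd [nat_lit 240, nat_lit 135, nat_lit 114, nat_lit 177, nat_lit 282, nat_lit 240] 31 4))))) (.node (nat_lit 4) (.node (nat_lit 2) (.node (nat_lit 1) (.leaf (Rule.fwd [nat_lit 198, nat_lit 93, nat_lit 9, nat_lit 177, nat_lit 261, nat_lit 9] 52 1)) (.leaf (Rule.fwd [nat_lit 177, nat_lit 324, nat_lit 156, nat_lit 240, nat_lit 303, nat_lit 135] 38 0))) (.node (nat_lit 1) (.leaf (Rule.fwd [nat_lit 303, nat_lit 303, nat_lit 114, nat_lit 219, nat_lit 135, nat_lit 93] 66 1)) (.leaf (Rule.fwd [nat_lit 240, nat_lit 156, nat_lit 114, nat_lit 114, nat_lit 135, nat_lit 135] 20 5)))) (.leaf (Rule.fwd [nat_lit 219, nat_lit 135, nat_lit 93, nat_lit 219, nat_lit 135] 34 0))))), (.node (nat_lit 1) (.leaf XRule.defn) (.leaf XRule.ax))⟩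
noncomputable def ci114 : CI := ⟨[5], (nat_lit 93), true, (.node (nat_lit 16) (.node (nat_lit 8) (.node (nat_lit 4) (.node (nat_lit 2) (.node (nat_lit 1) (.leaf Rule.defn) (.leaf Rule.copy)) (.node (nat_lit 1) (.leaf (Rule.fwd [nat_lit 93] 68 0)) (.leaf (Rule.fwd [nat_lit 219, nat_lit 135, nat_lit 93, nat_lit 93, nat_lit 303, nat_lit 303] 66 4)))) (.node (nat_lit 2) (.node (nat_lit 1) (.leaf (Rule.fwd [nat_lit 282, nat_lit 114, nat_lit 282] 25 1)) (.leaf (Rule.fwd [nat_lit 156, nat_lit 156, nat_lit 114, nat_lit 177, nat_lit 156] 19 4))) (.node (nat_lit 1) (.leaf (Rule.fwd [nat_lit 219, nat_lit 261, nat_lit 198, nat_lit 93, nat_lit 156, nat_lit 219] 30 3)) (.leaf (Rule.fwd [nat_lit 30, nat_lit 282, nat_lit 303, nat_lit 240, nat_lit 72, nat_lit 198] 51 2))))) (.node (nat_lit 4) (.node (nat_lit 2) (.node (nat_lit 1) (.leaf (Rule.fwd [nat_lit 114, nat_lit 30, nat_lit 282, nat_lit 9, nat_lit 282] 45 3)) (.leaf (Rule.fwd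 [nat_lit 219, nat_lit 261, nat_lit 114, nat_lit 303, nat_lit 198, nat_lit 135] 29 1))) (.node (nat_lit 1) (.leaf (Rule.fwd [nat_lit 198, nat_lit 324, nat_lit 114, nat_lit 324, nat_lit 282, nat_lit 135] 33 1)) (.leaf (Rule.fwd [nat_lit 135, nat_lit 219, nat_lit 135, nat_lit 198, nat_lit 114] 27 1)))) (.node (nat_lit 2) (.node (nat_lit 1) (.leaf (Rule.fwd [nat_lit 114, nat_lit 135, nat_lit 219, nat_lit 135, nat_lit 198] 27 2)) (.leaf (Rule.fwd [nat_lit 156, nat_lit 240, nat_lit 93, nat_lit 324, nat_lit 324, nat_lit 114] 67 1))) (.node (nat_lit 1) (.leaf (Rule.fwd [nat_lit 135, nat_lit 135, nat_lit 93, nat_lit 240, nat_lit 156, nat_lit 114] 20 2)) (.leaf (Rule.fwd [nat_lit 303, nat_lit 198, nat_lit 135, nat_lit 114, nat_lit 219, nat_lit 261] 29 5)))))) (.node (nat_lit 8) (.node (nat_lit 4) (.node (nat_lit 2) (.node (nat_lit 1) (.leaf (Rule.fwd [nat_lit 324, nat_lit 282, nat_lit 135, nat_lit 114, nat_lit 198, nat_lit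 324] 33 5)) (.leaf (Rule.fwd [nat_lit 114, nat_lit 114, nat_lit 114, nat_lit 114] 49 0))) (.node (nat_lit 1) (.leaf (Rule.fwd [nat_lit 156, nat_lit 240, nat_lit 114, nat_lit 156, nat_lit 240] 35 1)) (.leaf (Rule.fwd [nat_lit 177, nat_lit 156, nat_lit 114, nat_lit 156, nat_lit 156] 19 1)))) (.node (nat_lit 2) (.node (nat_lit 1) (.leaf (Rule.fwd [nat_lit 324, nat_lit 282, nat_lit 324, nat_lit 72, nat_lit 240, nat_lit 30] 55 0)) (.leaf (Rule.fwd [nat_lit 345, nat_lit 72, nat_lit 240, nat_lit 324, nat_lit 261, nat_lit 30] 57 0))) (.node (nat_lit 1) (.leaf (Rule.fwd [nat_lit 30, nat_lit 72, nat_lit 72, nat_lit 72, nat_lit 72] 40 5)) (.leaf (Rule.fwd [nat_lit 177, nat_lit 114, nat_lit 30, nat_lit 282, nat_lit 198, nat_lit 30] 53 4))))) (.node (nat_lit 4) (.node (nat_lit 2) (.node (nat_lit 1) (.leaf (Rule.fwd [nat_lit 30, nat_lit 282, nat_lit 198, nat_lit 30, nat_lit 114, nat_lit 177] 53 2)) (.leaf (Rule.fwd [nat_lit 30,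 nat_lit 282, nat_lit 9, nat_lit 282, nat_lit 114] 45 2))) (.node (nat_lit 1) (.leaf (Rule.fwd [nat_lit 114, nat_lit 156, nat_lit 240, nat_lit 93, nat_lit 324, nat_lit 324] 67 2)) (.leaf (Rule.fwd [nat_lit 156, nat_lit 156, nat_lit 93, nat_lit 93, nat_lit 135, nat_lit 219] 21 6)))) (.node (nat_lit 2) (.node (nat_lit 1) (.leaf (Rule.fwd [nat_lit 156, nat_lit 324, nat_lit 219, nat_lit 135, nat_lit 303, nat_lit 198] 39 1)) (.leaf (Rule.fwd [nat_lit 114, nat_lit 135, nat_lit 135, nat_lit 93, nat_lit 240, nat_lit 156] 20 1))) (.leaf (Rule.fwd [nat_lit 177, nat_lit 282, nat_lit 240, nat_lit 93, nat_lit 240, nat_lit 135] 31 1)))))), (.node (nat_lit 1) (.leaf XRule.defn) (.leaf XRule.ax))⟩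
noncomputable def ci135 : CI := ⟨[6], (nat_lit 156), true, (.node (nat_lit 16) (.node (nat_lit 8) (.node (nat_lit 4) (.node (nat_lit 2) (.node (nat_lit 1) (.leaf Rule.defn) (.leaf Rule.copy)) (.node (nat_lit 1) (.leaf (Rule.fwd [nat_lit 156] 68 0)) (.leaf (Rule.fwd [nat_lit 93, nat_lit 135, nat_lit 198, nat_lit 93, nat_lit 135] 18 2)))) (.node (nat_lit 2) (.node (nat_lit 1) (.leaf (Rule.fwd [nat_lit 177, nat_lit 135, nat_lit 177] 22 0)) (.leaf (Rule.fwd [nat_lit 114, nat_lit 219, nat_lit 261, nat_lit 114, nat_lit 303, nat_lit 198] 29 2))) (.node (nat_lit 1) (.leaf (Rule.fwd [nat_lit 114, nat_lit 177, nat_lit 282, nat_lit 240, nat_lit 93, nat_lit 240] 31 2)) (.leaf (Rule.fwd [nat_lit 219, nat_lit 135, nat_lit 198, nat_lit 114, nat_lit 114] 27 0))))) (.node (nat_lit 4) (.node (nat_lit 2) (.node (nat_lit 1) (.leaf (Rule.fwd [nat_lit 219, nat_lit 114, nat_lit 156, nat_lit 156, nat_lit 93, nat_lit 93] 21 1)) (.leaf (Rule.fwd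 [nat_lit 93, nat_lit 177, nat_lit 324, nat_lit 156, nat_lit 240, nat_lit 303] 38 6))) (.node (nat_lit 1) (.leaf (Rule.fwd [nat_lit 198, nat_lit 93, nat_lit 135, nat_lit 135, nat_lit 93] 18 4)) (.leaf (Rule.fwd [nat_lit 135, nat_lit 93, nat_lit 240, nat_lit 156, nat_lit 114, nat_lit 114] 20 3)))) (.node (nat_lit 2) (.node (nat_lit 1) (.leaf (Rule.fwd [nat_lit 135, nat_lit 93, nat_lit 135, nat_lit 198, nat_lit 93] 18 1)) (.leaf (Rule.fwd [nat_lit 93, nat_lit 93, nat_lit 303, nat_lit 303, nat_lit 114, nat_lit 219] 66 6))) (.node (nat_lit 1) (.leaf (Rule.fwd [nat_lit 114, nat_lit 198, nat_lit 324, nat_lit 114, nat_lit 324, nat_lit 282] 33 2)) (.leaf (Rule.fwd [nat_lit 303, nat_lit 198, nat_lit 114, nat_lit 156, nat_lit 324, nat_lit 219] 39 4)))))) (.node (nat_lit 2) (.node (nat_lit 1) (.leaf (Rule.fwd [nat_lit 93, nat_lit 219, nat_lit 135, nat_lit 93, nat_lit 219] 34 2)) (.leaf (Rule.fwd [nat_lit 93, nat_lit 240, nat_lit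 156, nat_lit 114, nat_lit 114, nat_lit 135] 20 4))) (.node (nat_lit 1) (.leaf (Rule.fwd [nat_lit 198, nat_lit 114, nat_lit 114, nat_lit 135, nat_lit 219] 27 4)) (.leaf (Rule.fwd [nat_lit 72, nat_lit 72, nat_lit 30, nat_lit 72, nat_lit 30, nat_lit 30, nat_lit 30] 43 0))))), (.node (nat_lit 1) (.leaf XRule.defn) (.leaf XRule.ax))⟩
noncomputable def ci156 : CI := ⟨[7], (nat_lit 135), true, (.node (nat_lit 16) (.node (nat_lit 8) (.node (nat_lit 4) (.node (nat_lit 2) (.node (nat_lit 1) (.leaf Rule.defn) (.leaf Rule.copy)) (.node (nat_lit 1) (.leaf (Rule.fwd [nat_lit 135] 68 0)) (.leaf (Rule.fwd [nat_lit 198, nat_lit 156, nat_lit 198] 23 1)))) (.node (nat_lit 2) (.node (nat_lit 1) (.leaf (Rule.fwd [nat_lit 177, nat_lit 324, nat_lit 93, nat_lit 282, nat_lit 240, nat_lit 93] 28 1)) (.leaf (Rule.fwd [nat_lit 240, nat_lit 303, nat_lit 135, nat_lit 93, nat_lit 177, nat_lit 324] 38 3))) (.node (nat_lit 1) (.leaf (Rule.fwd [nat_lit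 114, nat_lit 114, nat_lit 135, nat_lit 135, nat_lit 93, nat_lit 240] 20 0)) (.leaf (Rule.fwd [nat_lit 240, nat_lit 156, nat_lit 93, nat_lit 93, nat_lit 177] 26 3))))) (.node (nat_lit 4) (.node (nat_lit 2) (.node (nat_lit 1) (.leaf (Rule.fwd [nat_lit 156, nat_lit 93, nat_lit 93, nat_lit 135, nat_lit 219, nat_lit 114] 21 5)) (.leaf (Rule.fwd [nat_lit 219, nat_lit 114, nat_lit 219, nat_lit 261, nat_lit 198, nat_lit 93] 30 1))) (.node (nat_lit 1) (.leaf (Rule.fwd [nat_lit 114, nat_lit 156, nat_lit 156, nat_lit 114, nat_lit 177] 19 5)) (.leaf (Rule.fwd [nat_lit 240, nat_lit 93, nat_lit 324, nat_lit 324, nat_lit 114, nat_lit 114] 67 0)))) (.node (nat_lit 2) (.node (nat_lit 1) (.leaf (Rule.fwd [nat_lit 156, nat_lit 114, nat_lit 177, nat_lit 156, nat_lit 114] 19 3)) (.leaf (Rule.fwd [nat_lit 261, nat_lit 303, nat_lit 93, nat_lit 303, nat_lit 177, nat_lit 93] 32 1))) (.node (nat_lit 1) (.leaf (Rule.fwd [nat_lit 240, nat_lit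 114, nat_lit 156, nat_lit 240, nat_lit 114] 35 0)) (.leaf (Rule.fwd [nat_lit 324, nat_lit 219, nat_lit 135, nat_lit 303, nat_lit 198, nat_lit 114] 39 0)))))) (.node (nat_lit 2) (.node (nat_lit 1) (.leaf (Rule.fwd [nat_lit 114, nat_lit 177, nat_lit 156, nat_lit 114, nat_lit 156] 19 2)) (.leaf (Rule.fwd [nat_lit 93, nat_lit 93, nat_lit 177, nat_lit 156, nat_lit 240] 26 5))) (.node (nat_lit 1) (.leaf (Rule.fwd [nat_lit 93, nat_lit 93, nat_lit 135, nat_lit 219, nat_lit 114, nat_lit 156] 21 4)) (.leaf (Rule.fwd [nat_lit 9, nat_lit 9, nat_lit 9, nat_lit 51, nat_lit 9, nat_lit 51, nat_lit 51] 42 7))))), (.node (nat_lit 1) (.leaf XRule.defn) (.leaf XRule.ax))⟩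
noncomputable def ci177 : CI := ⟨[8], (nat_lit 198), true, (.node (nat_lit 16) (.node (nat_lit 8) (.node (nat_lit 4) (.node (nat_lit 2) (.node (nat_lit 1) (.leaf Rule.defn) (.leaf Rule.copy)) (.node (nat_lit 1) (.leaf (Rule.fwd [nat_lit 198] 68 0)) (.leaf (Rule.fwd [nat_lit 51, nat_lit 219, nat_lit 324, nat_lit 261, nat_lit 9, nat_lit 93] 50 2)))) (.node (nat_lit 2) (.node (nat_lit 1) (.leaf (Rule.fwd [nat_lit 135, nat_lit 177, nat_lit 135] 22 1)) (.leaf (Rule.fwd [nat_lit 240, nat_lit 198, nat_lit 219, nat_lit 219, nat_lit 324] 8 0))) (.node (nat_lit 1) (.leaf (Rule.fwd [nat_lit 219, nat_lit 198, nat_lit 303, nat_lit 240, nat_lit 240] 9 3)) (.leaf (Rule.fwd [nat_lit 282, nat_lit 240, nat_lit 240, nat_lit 324, nat_lit 282] 58 0))))) (.node (nat_lit 4) (.node (nat_lit 2) (.node (nat_lit 1) (.leaf (Rule.fwd [nat_lit 93, nat_lit 156, nat_lit 261, nat_lit 303, nat_lit 93, nat_lit 303] 32 6)) (.leaf (Rule.fwd [nat_lit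 177, nat_lit 219, nat_lit 282, nat_lit 240] 6 1))) (.node (nat_lit 1) (.leaf (Rule.fwd [nat_lit 219, nat_lit 282, nat_lit 240, nat_lit 177] 6 2)) (.leaf (Rule.fwd [nat_lit 156, nat_lit 240, nat_lit 156, nat_lit 93, nat_lit 93] 26 2)))) (.node (nat_lit 2) (.node (nat_lit 1) (.leaf (Rule.fwd [nat_lit 156, nat_lit 114, nat_lit 156, nat_lit 156, nat_lit 114] 19 0)) (.leaf (Rule.fwd [nat_lit 114, nat_lit 30, nat_lit 282, nat_lit 198, nat_lit 30, nat_lit 114] 53 3))) (.node (nat_lit 1) (.leaf (Rule.fwd [nat_lit 261, nat_lit 9, nat_lit 93, nat_lit 198, nat_lit 93, nat_lit 9] 52 5)) (.leaf (Rule.fwd [nat_lit 282, nat_lit 240, nat_lit 93, nat_lit 240, nat_lit 135, nat_lit 114] 31 0)))))) (.node (nat_lit 8) (.node (nat_lit 4) (.node (nat_lit 2) (.node (nat_lit 1) (.leaf (Rule.fwd [nat_lit 261, nat_lit 177, nat_lit 324, nat_lit 219] 10 0)) (.leaf (Rule.fwd [nat_lit 219, nat_lit 324, nat_lit 219, nat_lit 324, nat_lit 324] 62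 0))) (.node (nat_lit 1) (.leaf (Rule.fwd [nat_lit 324, nat_lit 219, nat_lit 177, nat_lit 261] 10 2)) (.leaf (Rule.fwd [nat_lit 282, nat_lit 219, nat_lit 303, nat_lit 240] 12 0)))) (.node (nat_lit 2) (.node (nat_lit 1) (.leaf (Rule.fwd [nat_lit 177, nat_lit 177, nat_lit 303, nat_lit 345, nat_lit 324] 14 0)) (.leaf (Rule.fwd [nat_lit 303, nat_lit 345, nat_lit 324, nat_lit 177, nat_lit 177] 14 2))) (.node (nat_lit 1) (.leaf (Rule.fwd [nat_lit 219, nat_lit 261, nat_lit 345, nat_lit 240, nat_lit 261] 36 0)) (.leaf (Rule.fwd [nat_lit 177, nat_lit 303, nat_lit 345, nat_lit 324, nat_lit 177] 14 1))))) (.node (nat_lit 2) (.node (nat_lit 1) (.leaf (Rule.fwd [nat_lit 177, nat_lit 345, nat_lit 198, nat_lit 198, nat_lit 345] 16 0)) (.leaf (Rule.fwd [nat_lit 324, nat_lit 93, nat_lit 282, nat_lit 240, nat_lit 93, nat_lit 156] 28 2))) (.leaf (Rule.fwd [nat_lit 324, nat_lit 156, nat_lit 240, nat_lit 303, nat_lit 135, nat_lit 93]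 38 1))))), (.node (nat_lit 1) (.leaf XRule.defn) (.leaf XRule.ax))⟩
noncomputable def ci198 : CI := ⟨[9], (nat_lit 177), true, (.node (nat_lit 16) (.node (nat_lit 8) (.node (nat_lit 4) (.node (nat_lit 2) (.node (nat_lit 1) (.leaf Rule.defn) (.leaf Rule.copy)) (.node (nat_lit 1) (.leaf (Rule.fwd [nat_lit 177] 68 0)) (.leaf (Rule.fwd [nat_lit 93, nat_lit 9, nat_lit 177, nat_lit 261, nat_lit 9, nat_lit 93] 52 2)))) (.node (nat_lit 2) (.node (nat_lit 1) (.leaf (Rule.fwd [nat_lit 30, nat_lit 114, nat_lit 177, nat_lit 114, nat_lit 30, nat_lit 282] 53 6)) (.leaf (Rule.fwd [nat_lit 156, nat_lit 198, nat_lit 156] 23 0))) (.node (nat_lit 1) (.leaf (Rule.fwd [nat_lit 303, nat_lit 240, nat_lit 240, nat_lit 177, nat_lit 219] 9 1)) (.leaf (Rule.fwd [nat_lit 240, nat_lit 303, nat_lit 198, nat_lit 282] 11 1))))) (.node (nat_lit 4) (.node (nat_lit 2) (.node (nat_lit 1) (.leaf (Rule.fwd [nat_lit 303, nat_lit 303, nat_lit 240, nat_lit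 303, nat_lit 240] 63 1)) (.leaf (Rule.fwd [nat_lit 198, nat_lit 198, nat_lit 303, nat_lit 345, nat_lit 324] 15 3))) (.node (nat_lit 1) (.leaf (Rule.fwd [nat_lit 93, nat_lit 156, nat_lit 219, nat_lit 114, nat_lit 219, nat_lit 261] 30 6)) (.leaf (Rule.fwd [nat_lit 282, nat_lit 198, nat_lit 240, nat_lit 303] 11 3)))) (.node (nat_lit 2) (.node (nat_lit 1) (.leaf (Rule.fwd [nat_lit 324, nat_lit 114, nat_lit 324, nat_lit 282, nat_lit 135, nat_lit 114] 33 0)) (.leaf (Rule.fwd [nat_lit 114, nat_lit 156, nat_lit 324, nat_lit 219, nat_lit 135, nat_lit 303] 39 2))) (.node (nat_lit 1) (.leaf (Rule.fwd [nat_lit 219, nat_lit 219, nat_lit 324, nat_lit 177, nat_lit 240] 8 2)) (.leaf (Rule.fwd [nat_lit 198, nat_lit 303, nat_lit 345, nat_lit 324, nat_lit 198] 15 2)))))) (.node (nat_lit 8) (.node (nat_lit 4) (.node (nat_lit 2) (.node (nat_lit 1) (.leaf (Rule.fwd [nat_lit 219, nat_lit 261, nat_lit 240, nat_lit 198] 7 2)) (.leaf (Rule.fwd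 [nat_lit 345, nat_lit 177, nat_lit 177, nat_lit 345, nat_lit 198] 16 4))) (.node (nat_lit 1) (.leaf (Rule.fwd [nat_lit 198, nat_lit 345, nat_lit 177, nat_lit 177, nat_lit 345] 16 3)) (.leaf (Rule.fwd [nat_lit 114, nat_lit 30, nat_lit 282, nat_lit 303, nat_lit 240, nat_lit 72] 51 3)))) (.node (nat_lit 2) (.node (nat_lit 1) (.leaf (Rule.fwd [nat_lit 261, nat_lit 303, nat_lit 219, nat_lit 219, nat_lit 261] 59 1)) (.leaf (Rule.fwd [nat_lit 219, nat_lit 324, nat_lit 240, nat_lit 261] 13 1))) (.node (nat_lit 1) (.leaf (Rule.fwd [nat_lit 135, nat_lit 114, nat_lit 219, nat_lit 261, nat_lit 114, nat_lit 303] 29 3)) (.leaf (Rule.fwd [nat_lit 114, nat_lit 114, nat_lit 135, nat_lit 219, nat_lit 135] 27 3))))) (.node (nat_lit 1) (.leaf (Rule.fwd [nat_lit 93, nat_lit 135, nat_lit 135, nat_lit 93, nat_lit 135] 18 5)) (.leaf (Rule.fwd [nat_lit 303, nat_lit 345, nat_lit 324, nat_lit 198, nat_lit 198] 15 1))))), (.node (nat_lit 1)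 (.leaf XRule.defn) (.leaf XRule.ax))⟩
noncomputable def ci219 : CI := ⟨[10], (nat_lit 240), true, (.node (nat_lit 16) (.node (nat_lit 8) (.node (nat_lit 4) (.node (nat_lit 2) (.node (nat_lit 1) (.leaf Rule.defn) (.leaf Rule.copy)) (.node (nat_lit 1) (.leaf (Rule.fwd [nat_lit 240] 68 0)) (.leaf (Rule.fwd [nat_lit 51, nat_lit 303, nat_lit 261, nat_lit 303, nat_lit 93, nat_lit 9] 54 1)))) (.node (nat_lit 2) (.node (nat_lit 1) (.leaf (Rule.fwd [nat_lit 261, nat_lit 198, nat_lit 261, nat_lit 303, nat_lit 219] 59 3)) (.leaf (Rule.fwd [nat_lit 219, nat_lit 219, nat_lit 219, nat_lit 219, nat_lit 219] 60 0))) (.node (nat_lit 1) (.leaf (Rule.fwd [nat_lit 177, nat_lit 261, nat_lit 177, nat_lit 324] 10 4)) (.leaf (Rule.fwd [nat_lit 72, nat_lit 219, nat_lit 324, nat_lit 324, nat_lit 72] 47 2))))) (.node (nat_lit 4) (.node (nat_lit 2) (.node (nat_lit 1) (.leaf (Rule.fwd [nat_lit 324, nat_lit 219, nat_lit 324, nat_lit 324, nat_lit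 177] 62 1)) (.leaf (Rule.fwd [nat_lit 219, nat_lit 324, nat_lit 177, nat_lit 240, nat_lit 198] 8 3))) (.node (nat_lit 1) (.leaf (Rule.fwd [nat_lit 114, nat_lit 219, nat_lit 261, nat_lit 198, nat_lit 93, nat_lit 156] 30 2)) (.leaf (Rule.fwd [nat_lit 324, nat_lit 177, nat_lit 240, nat_lit 198, nat_lit 219] 8 4)))) (.node (nat_lit 2) (.node (nat_lit 1) (.leaf (Rule.fwd [nat_lit 135, nat_lit 93, nat_lit 219, nat_lit 135, nat_lit 93] 34 1)) (.leaf (Rule.fwd [nat_lit 135, nat_lit 93, nat_lit 93, nat_lit 303, nat_lit 303, nat_lit 114] 66 5))) (.node (nat_lit 1) (.leaf (Rule.fwd [nat_lit 135, nat_lit 198, nat_lit 114, nat_lit 114, nat_lit 135] 27 5)) (.leaf (Rule.fwd [nat_lit 303, nat_lit 240, nat_lit 177, nat_lit 282] 12 2)))))) (.node (nat_lit 8) (.node (nat_lit 4) (.node (nat_lit 2) (.node (nat_lit 1) (.leaf (Rule.fwd [nat_lit 324, nat_lit 324, nat_lit 177, nat_lit 219, nat_lit 324] 62 3)) (.leaf (Rule.fwd [nat_lit 114,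 nat_lit 156, nat_lit 156, nat_lit 93, nat_lit 93, nat_lit 135] 21 0))) (.node (nat_lit 1) (.leaf (Rule.fwd [nat_lit 261, nat_lit 345, nat_lit 240, nat_lit 261, nat_lit 177] 36 1)) (.leaf (Rule.fwd [nat_lit 324, nat_lit 324, nat_lit 72, nat_lit 219, nat_lit 72] 47 0)))) (.node (nat_lit 2) (.node (nat_lit 1) (.leaf (Rule.fwd [nat_lit 219, nat_lit 261, nat_lit 198, nat_lit 261, nat_lit 303] 59 4)) (.leaf (Rule.fwd [nat_lit 261, nat_lit 198, nat_lit 93, nat_lit 156, nat_lit 219, nat_lit 114] 30 4))) (.node (nat_lit 1) (.leaf (Rule.fwd [nat_lit 198, nat_lit 303, nat_lit 240, nat_lit 240, nat_lit 177] 9 2)) (.leaf (Rule.fwd [nat_lit 261, nat_lit 114, nat_lit 303, nat_lit 198, nat_lit 135, nat_lit 114] 29 0))))) (.node (nat_lit 4) (.node (nat_lit 2) (.node (nat_lit 1) (.leaf (Rule.fwd [nat_lit 324, nat_lit 261, nat_lit 9, nat_lit 93, nat_lit 177, nat_lit 51] 50 4)) (.leaf (Rule.fwd [nat_lit 324, nat_lit 240, nat_lit 261,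 nat_lit 198] 13 0))) (.node (nat_lit 1) (.leaf (Rule.fwd [nat_lit 345, nat_lit 282, nat_lit 240, nat_lit 198, nat_lit 282] 37 5)) (.leaf (Rule.fwd [nat_lit 135, nat_lit 303, nat_lit 198, nat_lit 114, nat_lit 156, nat_lit 324] 39 5)))) (.node (nat_lit 1) (.leaf (Rule.fwd [nat_lit 261, nat_lit 240, nat_lit 198, nat_lit 198] 7 1)) (.leaf (Rule.fwd [nat_lit 282, nat_lit 240, nat_lit 177, nat_lit 177] 6 3)))))), (.node (nat_lit 1) (.leaf XRule.defn) (.leaf XRule.ax))⟩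
noncomputable def ci240 : CI := ⟨[11], (nat_lit 219), true, (.node (nat_lit 16) (.node (nat_lit 8) (.node (nat_lit 4) (.node (nat_lit 2) (.node (nat_lit 1) (.leaf Rule.defn) (.leaf Rule.copy)) (.node (nat_lit 1) (.leaf (Rule.fwd [nat_lit 219] 68 0)) (.leaf (Rule.fwd [nat_lit 72, nat_lit 198, nat_lit 114, nat_lit 30, nat_lit 282, nat_lit 303] 51 5)))) (.node (nat_lit 2) (.node (nat_lit 1) (.leaf (Rule.fwd [nat_lit 51, nat_lit 303, nat_lit 303, nat_lit 240, nat_lit 51] 46 1)) (.leaf (Rule.fwd [nat_lit 303, nat_lit 240, nat_lit 198, nat_lit 303, nat_lit 303] 63 4))) (.node (nat_lit 1) (.leaf (Rule.fwd [nat_lit 261, nat_lit 198, nat_lit 219, nat_lit 324] 13 3)) (.leaf (Rule.fwd [nat_lit 261, nat_lit 177, nat_lit 219, nat_lit 261, nat_lit 345] 36 4))))) (.node (nat_lit 4) (.node (nat_lit 2) (.node (nat_lit 1) (.leaf (Rule.fwd [nat_lit 177, nat_lit 219, nat_lit 198, nat_lit 303, nat_lit 240] 9 4)) (.leaf (Rule.fwd [nat_lit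 156, nat_lit 114, nat_lit 114, nat_lit 135, nat_lit 135, nat_lit 93] 20 6))) (.node (nat_lit 1) (.leaf (Rule.fwd [nat_lit 156, nat_lit 93, nat_lit 93, nat_lit 177, nat_lit 156] 26 4)) (.leaf (Rule.fwd [nat_lit 198, nat_lit 198, nat_lit 219, nat_lit 261] 7 4)))) (.node (nat_lit 2) (.node (nat_lit 1) (.leaf (Rule.fwd [nat_lit 177, nat_lit 177, nat_lit 219, nat_lit 282] 6 0)) (.leaf (Rule.fwd [nat_lit 177, nat_lit 282, nat_lit 219, nat_lit 303] 12 4))) (.node (nat_lit 1) (.leaf (Rule.fwd [nat_lit 114, nat_lit 156, nat_lit 240, nat_lit 114, nat_lit 156] 35 2)) (.leaf (Rule.fwd [nat_lit 198, nat_lit 282, nat_lit 219, nat_lit 345, nat_lit 282] 37 2)))))) (.node (nat_lit 8) (.node (nat_lit 4) (.node (nat_lit 2) (.node (nat_lit 1) (.leaf (Rule.fwd [nat_lit 240, nat_lit 324, nat_lit 282, nat_lit 177, nat_lit 282] 58 2)) (.leaf (Rule.fwd [nat_lit 198, nat_lit 219, nat_lit 219, nat_lit 324, nat_lit 177] 8 1))) (.node (nat_lit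 1) (.leaf (Rule.fwd [nat_lit 303, nat_lit 135, nat_lit 93, nat_lit 177, nat_lit 324, nat_lit 156] 38 4)) (.leaf (Rule.fwd [nat_lit 93, nat_lit 324, nat_lit 324, nat_lit 114, nat_lit 114, nat_lit 156] 67 6)))) (.node (nat_lit 2) (.node (nat_lit 1) (.leaf (Rule.fwd [nat_lit 30, nat_lit 114, nat_lit 324, nat_lit 282, nat_lit 324, nat_lit 72] 55 2)) (.leaf (Rule.fwd [nat_lit 324, nat_lit 261, nat_lit 30, nat_lit 114, nat_lit 345, nat_lit 72] 57 4))) (.node (nat_lit 1) (.leaf (Rule.fwd [nat_lit 303, nat_lit 198, nat_lit 282, nat_lit 198] 11 0)) (.leaf (Rule.fwd [nat_lit 240, nat_lit 240, nat_lit 240, nat_lit 240, nat_lit 240] 61 0))))) (.node (nat_lit 4) (.node (nat_lit 2) (.node (nat_lit 1) (.leaf (Rule.fwd [nat_lit 51, nat_lit 240, nat_lit 51, nat_lit 303, nat_lit 303] 46 5)) (.leaf (Rule.fwd [nat_lit 135, nat_lit 114, nat_lit 177, nat_lit 282, nat_lit 240, nat_lit 93] 31 3))) (.node (nat_lit 1) (.leaf (Rule.fwd [nat_lit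 324, nat_lit 282, nat_lit 177, nat_lit 282, nat_lit 240] 58 3)) (.leaf (Rule.fwd [nat_lit 198, nat_lit 303, nat_lit 303, nat_lit 240, nat_lit 303] 63 2)))) (.node (nat_lit 1) (.leaf (Rule.fwd [nat_lit 93, nat_lit 156, nat_lit 177, nat_lit 324, nat_lit 93, nat_lit 282] 28 6)) (.leaf (Rule.fwd [nat_lit 240, nat_lit 177, nat_lit 219, nat_lit 198, nat_lit 303] 9 5)))))), (.node (nat_lit 1) (.leaf XRule.defn) (.leaf XRule.ax))⟩
noncomputable def ci261 : CI := ⟨[12], (nat_lit 282), true, (.node (nat_lit 16) (.node (nat_lit 8) (.node (nat_lit 4) (.node (nat_lit 2) (.node (nat_lit 1) (.leaf Rule.defn) (.leaf Rule.copy)) (.node (nat_lit 1) (.leaf (Rule.fwd [nat_lit 282] 68 0)) (.leaf (Rule.fwd [nat_lit 9, nat_lit 93, nat_lit 93, nat_lit 261, nat_lit 30] 44 5)))) (.node (nat_lit 2) (.node (nat_lit 1) (.leaf (Rule.fwd [nat_lit 72, nat_lit 72, nat_lit 282, nat_lit 51, nat_lit 51] 64 2)) (.leaf (Rule.fwd [nat_lit 93, nat_lit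 261, nat_lit 93] 24 1))) (.node (nat_lit 1) (.leaf (Rule.fwd [nat_lit 261, nat_lit 261] 2 0)) (.leaf (Rule.fwd [nat_lit 198, nat_lit 219, nat_lit 324, nat_lit 240] 13 2))))) (.node (nat_lit 4) (.node (nat_lit 2) (.node (nat_lit 1) (.leaf (Rule.fwd [nat_lit 177, nat_lit 219, nat_lit 261, nat_lit 345, nat_lit 240] 36 5)) (.leaf (Rule.fwd [nat_lit 324, nat_lit 345] 1 2))) (.node (nat_lit 1) (.leaf (Rule.fwd [nat_lit 177, nat_lit 324, nat_lit 219, nat_lit 177] 10 1)) (.leaf (Rule.fwd [nat_lit 303, nat_lit 219, nat_lit 219, nat_lit 261, nat_lit 198] 59 0)))) (.node (nat_lit 2) (.node (nat_lit 1) (.leaf (Rule.fwd [nat_lit 240, nat_lit 198, nat_lit 198, nat_lit 219] 7 0)) (.leaf (Rule.fwd [nat_lit 114, nat_lit 303, nat_lit 198, nat_lit 135, nat_lit 114, nat_lit 219] 29 6))) (.node (nat_lit 1) (.leaf (Rule.fwd [nat_lit 345, nat_lit 240, nat_lit 261, nat_lit 177, nat_lit 219] 36 2)) (.leaf (Rule.fwd [nat_lit 198, nat_lit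 261, nat_lit 303, nat_lit 219, nat_lit 219] 59 2)))))) (.node (nat_lit 4) (.node (nat_lit 2) (.node (nat_lit 1) (.leaf (Rule.fwd [nat_lit 9, nat_lit 93, nat_lit 198, nat_lit 93, nat_lit 9, nat_lit 177] 52 6)) (.leaf (Rule.fwd [nat_lit 198, nat_lit 93, nat_lit 156, nat_lit 219, nat_lit 114, nat_lit 219] 30 5))) (.node (nat_lit 1) (.leaf (Rule.fwd [nat_lit 30, nat_lit 261, nat_lit 9, nat_lit 93, nat_lit 93] 44 3)) (.leaf (Rule.fwd [nat_lit 303, nat_lit 93, nat_lit 303, nat_lit 177, nat_lit 93, nat_lit 156] 32 2)))) (.node (nat_lit 2) (.node (nat_lit 1) (.leaf (Rule.fwd [nat_lit 51, nat_lit 51, nat_lit 282, nat_lit 72, nat_lit 72] 65 0)) (.leaf (Rule.fwd [nat_lit 9, nat_lit 93, nat_lit 177, nat_lit 51, nat_lit 219, nat_lit 324] 50 6))) (.leaf (Rule.fwd [nat_lit 303, nat_lit 93, nat_lit 9, nat_lit 219, nat_lit 51, nat_lit 303] 54 4))))), (.node (nat_lit 1) (.leaf XRule.defn) (.leaf XRule.ax))⟩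
noncomputable def ci282 : CI := ⟨[13], (nat_lit 261), true, (.node (nat_lit 16) (.node (nat_lit 8) (.node (nat_lit 4) (.node (nat_lit 2) (.node (nat_lit 1) (.leaf Rule.defn) (.leaf Rule.copy)) (.node (nat_lit 1) (.leaf (Rule.fwd [nat_lit 261] 68 0)) (.leaf (Rule.fwd [nat_lit 51, nat_lit 51, nat_lit 261, nat_lit 72, nat_lit 72] 64 5)))) (.node (nat_lit 2) (.node (nat_lit 1) (.leaf (Rule.fwd [nat_lit 345, nat_lit 303] 0 1)) (.leaf (Rule.fwd [nat_lit 240, nat_lit 177, nat_lit 177, nat_lit 219] 6 4))) (.node (nat_lit 1) (.leaf (Rule.fwd [nat_lit 114, nat_lit 282, nat_lit 114] 25 0)) (.leaf (Rule.fwd [nat_lit 198, nat_lit 240, nat_lit 303, nat_lit 198] 11 2))))) (.node (nat_lit 4) (.node (nat_lit 2) (.node (nat_lit 1) (.leaf (Rule.fwd [nat_lit 282, nat_lit 282] 3 0)) (.leaf (Rule.fwd [nat_lit 240, nat_lit 93, nat_lit 156, nat_lit 177, nat_lit 324, nat_lit 93] 28 5))) (.node (nat_lit 1) (.leaf (Rule.fwd [nat_lit 9, nat_lit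 282, nat_lit 114, nat_lit 114, nat_lit 30] 45 0)) (.leaf (Rule.fwd [nat_lit 135, nat_lit 114, nat_lit 198, nat_lit 324, nat_lit 114, nat_lit 324] 33 3)))) (.node (nat_lit 2) (.node (nat_lit 1) (.leaf (Rule.fwd [nat_lit 114, nat_lit 114, nat_lit 30, nat_lit 282, nat_lit 9] 45 4)) (.leaf (Rule.fwd [nat_lit 177, nat_lit 282, nat_lit 240, nat_lit 240, nat_lit 324] 58 5))) (.node (nat_lit 1) (.leaf (Rule.fwd [nat_lit 240, nat_lit 240, nat_lit 324, nat_lit 282, nat_lit 177] 58 1)) (.leaf (Rule.fwd [nat_lit 324, nat_lit 72, nat_lit 240, nat_lit 30, nat_lit 114, nat_lit 324] 55 5)))))) (.node (nat_lit 4) (.node (nat_lit 2) (.node (nat_lit 1) (.leaf (Rule.fwd [nat_lit 72, nat_lit 72, nat_lit 261, nat_lit 51, nat_lit 51] 65 3)) (.leaf (Rule.fwd [nat_lit 303, nat_lit 219, nat_lit 51, nat_lit 345, nat_lit 93, nat_lit 9] 56 1))) (.node (nat_lit 1) (.leaf (Rule.fwd [nat_lit 198, nat_lit 30, nat_lit 114, nat_lit 177, nat_lit 114,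 nat_lit 30] 53 0)) (.leaf (Rule.fwd [nat_lit 219, nat_lit 303, nat_lit 240, nat_lit 177] 12 1)))) (.node (nat_lit 2) (.node (nat_lit 1) (.leaf (Rule.fwd [nat_lit 219, nat_lit 345, nat_lit 282, nat_lit 240, nat_lit 198] 37 0)) (.leaf (Rule.fwd [nat_lit 303, nat_lit 240, nat_lit 72, nat_lit 198, nat_lit 114, nat_lit 30] 51 0))) (.leaf (Rule.fwd [nat_lit 240, nat_lit 198, nat_lit 282, nat_lit 219, nat_lit 345] 37 3))))), (.node (nat_lit 1) (.leaf XRule.defn) (.leaf XRule.ax))⟩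
noncomputable def ci303 : CI := ⟨[14], (nat_lit 324), true, (.node (nat_lit 16) (.node (nat_lit 8) (.node (nat_lit 4) (.node (nat_lit 2) (.node (nat_lit 1) (.leaf Rule.defn) (.leaf Rule.copy)) (.node (nat_lit 1) (.leaf (Rule.fwd [nat_lit 324] 68 0)) (.leaf (Rule.fwd [nat_lit 219, nat_lit 51, nat_lit 345, nat_lit 93, nat_lit 9, nat_lit 282] 56 2)))) (.node (nat_lit 2) (.node (nat_lit 1) (.leaf (Rule.fwd [nat_lit 240, nat_lit 51, nat_lit 240, nat_lit 51, nat_lit 303] 46 4)) (.leaf (Rule.fwd [nat_lit 93, nat_lit 9, nat_lit 219, nat_lit 51, nat_lit 303, nat_lit 261] 54 5))) (.node (nat_lit 1) (.leaf (Rule.fwd [nat_lit 282, nat_lit 345] 0 0)) (.leaf (Rule.fwd [nat_lit 240, nat_lit 177, nat_lit 282, nat_lit 219] 12 3))))) (.node (nat_lit 4) (.node (nat_lit 2) (.node (nat_lit 1) (.leaf (Rule.fwd [nat_lit 345, nat_lit 324, nat_lit 177, nat_lit 177, nat_lit 177] 14 3)) (.leaf (Rule.fwd [nat_lit 240, nat_lit 72, nat_lit 198,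 nat_lit 114, nat_lit 30, nat_lit 282] 51 6))) (.node (nat_lit 1) (.leaf (Rule.fwd [nat_lit 177, nat_lit 93, nat_lit 156, nat_lit 261, nat_lit 303, nat_lit 93] 32 5)) (.leaf (Rule.fwd [nat_lit 303, nat_lit 240, nat_lit 51, nat_lit 240, nat_lit 51] 46 3)))) (.node (nat_lit 2) (.node (nat_lit 1) (.leaf (Rule.fwd [nat_lit 198, nat_lit 114, nat_lit 156, nat_lit 324, nat_lit 219, nat_lit 135] 39 3)) (.leaf (Rule.fwd [nat_lit 198, nat_lit 135, nat_lit 114, nat_lit 219, nat_lit 261, nat_lit 114] 29 4))) (.node (nat_lit 1) (.leaf (Rule.fwd [nat_lit 219, nat_lit 219, nat_lit 261, nat_lit 198, nat_lit 261] 59 5)) (.leaf (Rule.fwd [nat_lit 240, nat_lit 240, nat_lit 177, nat_lit 219, nat_lit 198] 9 0)))))) (.node (nat_lit 8) (.node (nat_lit 4) (.node (nat_lit 2) (.node (nat_lit 1) (.leaf (Rule.fwd [nat_lit 135, nat_lit 93, nat_lit 177, nat_lit 324, nat_lit 156, nat_lit 240] 38 5)) (.leaf (Rule.fwd [nat_lit 240, nat_lit 303, nat_lit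 240, nat_lit 198, nat_lit 303] 63 5))) (.node (nat_lit 1) (.leaf (Rule.fwd [nat_lit 303, nat_lit 303, nat_lit 303] 4 0)) (.leaf (Rule.fwd [nat_lit 240, nat_lit 198, nat_lit 303, nat_lit 303, nat_lit 240] 63 3)))) (.node (nat_lit 2) (.node (nat_lit 1) (.leaf (Rule.fwd [nat_lit 198, nat_lit 282, nat_lit 198, nat_lit 240] 11 4)) (.leaf (Rule.fwd [nat_lit 93, nat_lit 303, nat_lit 177, nat_lit 93, nat_lit 156, nat_lit 261] 32 3))) (.node (nat_lit 1) (.leaf (Rule.fwd [nat_lit 303, nat_lit 240, nat_lit 303, nat_lit 240, nat_lit 198] 63 0)) (.leaf (Rule.fwd [nat_lit 114, nat_lit 219, nat_lit 135, nat_lit 93, nat_lit 93, nat_lit 303] 66 3))))) (.node (nat_lit 1) (.leaf (Rule.fwd [nat_lit 303, nat_lit 114, nat_lit 219, nat_lit 135, nat_lit 93, nat_lit 93] 66 2)) (.leaf (Rule.fwd [nat_lit 345, nat_lit 324, nat_lit 198, nat_lit 198, nat_lit 198] 15 0))))), (.node (nat_lit 1) (.leaf XRule.defn) (.leaf XRule.ax))⟩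
noncomputable def ci324 : CI := ⟨[15], (nat_lit 303), true, (.node (nat_lit 16) (.node (nat_lit 8) (.node (nat_lit 4) (.node (nat_lit 2) (.node (nat_lit 1) (.leaf Rule.defn) (.leaf Rule.copy)) (.node (nat_lit 1) (.leaf (Rule.fwd [nat_lit 303] 68 0)) (.leaf (Rule.fwd [nat_lit 345, nat_lit 261] 1 1)))) (.node (nat_lit 2) (.node (nat_lit 1) (.leaf (Rule.fwd [nat_lit 240, nat_lit 261, nat_lit 198, nat_lit 219] 13 4)) (.leaf (Rule.fwd [nat_lit 324, nat_lit 324, nat_lit 324] 5 0))) (.node (nat_lit 1) (.leaf (Rule.fwd [nat_lit 282, nat_lit 177, nat_lit 282, nat_lit 240, nat_lit 240] 58 4)) (.leaf (Rule.fwd [nat_lit 198, nat_lit 198, nat_lit 198, nat_lit 303, nat_lit 345] 15 4))))) (.node (nat_lit 4) (.node (nat_lit 2) (.node (nat_lit 1) (.leaf (Rule.fwd [nat_lit 156, nat_lit 240, nat_lit 303, nat_lit 135, nat_lit 93, nat_lit 177] 38 2)) (.leaf (Rule.fwd [nat_lit 219, nat_lit 135, nat_lit 303, nat_lit 198, nat_lit 114, nat_lit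 156] 39 6))) (.node (nat_lit 1) (.leaf (Rule.fwd [nat_lit 114, nat_lit 114, nat_lit 156, nat_lit 240, nat_lit 93, nat_lit 324] 67 3)) (.leaf (Rule.fwd [nat_lit 177, nat_lit 177, nat_lit 177, nat_lit 303, nat_lit 345] 14 5)))) (.node (nat_lit 2) (.node (nat_lit 1) (.leaf (Rule.fwd [nat_lit 177, nat_lit 240, nat_lit 198, nat_lit 219, nat_lit 219] 8 5)) (.leaf (Rule.fwd [nat_lit 177, nat_lit 219, nat_lit 324, nat_lit 219, nat_lit 324] 62 5))) (.node (nat_lit 1) (.leaf (Rule.fwd [nat_lit 219, nat_lit 177, nat_lit 261, nat_lit 177] 10 3)) (.leaf (Rule.fwd [nat_lit 261, nat_lit 9, nat_lit 93, nat_lit 177, nat_lit 51, nat_lit 219] 50 5)))))) (.node (nat_lit 8) (.node (nat_lit 4) (.node (nat_lit 2) (.node (nat_lit 1) (.leaf (Rule.fwd [nat_lit 114, nat_lit 324, nat_lit 282, nat_lit 135, nat_lit 114, nat_lit 198] 33 6)) (.leaf (Rule.fwd [nat_lit 324, nat_lit 114, nat_lit 114, nat_lit 156, nat_lit 240, nat_lit 93] 67 4))) (.node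 (nat_lit 1) (.leaf (Rule.fwd [nat_lit 324, nat_lit 177, nat_lit 219, nat_lit 324, nat_lit 219] 62 4)) (.leaf (Rule.fwd [nat_lit 282, nat_lit 135, nat_lit 114, nat_lit 198, nat_lit 324, nat_lit 114] 33 4)))) (.node (nat_lit 2) (.node (nat_lit 1) (.leaf (Rule.fwd [nat_lit 219, nat_lit 324, nat_lit 324, nat_lit 177, nat_lit 219] 62 2)) (.leaf (Rule.fwd [nat_lit 282, nat_lit 324, nat_lit 72, nat_lit 240, nat_lit 30, nat_lit 114] 55 6))) (.node (nat_lit 1) (.leaf (Rule.fwd [nat_lit 261, nat_lit 30, nat_lit 114, nat_lit 345, nat_lit 72, nat_lit 240] 57 3)) (.leaf (Rule.fwd [nat_lit 72, nat_lit 219, nat_lit 72, nat_lit 219, nat_lit 324] 47 4))))) (.node (nat_lit 1) (.leaf (Rule.fwd [nat_lit 93, nat_lit 282, nat_lit 240, nat_lit 93, nat_lit 156, nat_lit 177] 28 3)) (.leaf (Rule.fwd [nat_lit 72, nat_lit 240, nat_lit 30, nat_lit 114, nat_lit 324, nat_lit 282] 55 4))))), (.node (nat_lit 1) (.leaf XRule.defn) (.leaf XRule.ax))⟩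
noncomputable def ci345 : CI := ⟨[16], (nat_lit 345), true, (.node (nat_lit 8) (.node (nat_lit 4) (.node (nat_lit 2) (.node (nat_lit 1) (.leaf Rule.defn) (.leaf Rule.copy)) (.node (nat_lit 1) (.leaf (Rule.fwd [nat_lit 345] 68 0)) (.leaf (Rule.fwd [nat_lit 72, nat_lit 240, nat_lit 324, nat_lit 261, nat_lit 30, nat_lit 114] 57 6)))) (.node (nat_lit 2) (.node (nat_lit 1) (.leaf (Rule.fwd [nat_lit 303, nat_lit 282] 0 2)) (.leaf (Rule.fwd [nat_lit 261, nat_lit 324] 1 0))) (.node (nat_lit 1) (.leaf (Rule.fwd [nat_lit 198, nat_lit 198, nat_lit 345, nat_lit 177, nat_lit 177] 16 2)) (.leaf (Rule.fwd [nat_lit 282, nat_lit 240, nat_lit 198, nat_lit 282, nat_lit 219] 37 4))))) (.node (nat_lit 4) (.node (nat_lit 2) (.node (nat_lit 1) (.leaf (Rule.fwd [nat_lit 324, nat_lit 177, nat_lit 177, nat_lit 177, nat_lit 303] 14 4)) (.leaf (Rule.fwd [nat_lit 240, nat_lit 261, nat_lit 177, nat_lit 219, nat_lit 261] 36 3))) (.node (nat_lit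 1) (.leaf (Rule.fwd [nat_lit 177, nat_lit 177, nat_lit 345, nat_lit 198, nat_lit 198] 16 5)) (.leaf (Rule.fwd [nat_lit 324, nat_lit 198, nat_lit 198, nat_lit 198, nat_lit 303] 15 5)))) (.leaf (Rule.fwd [nat_lit 93, nat_lit 9, nat_lit 282, nat_lit 303, nat_lit 219, nat_lit 51] 56 5)))), (.node (nat_lit 1) (.leaf XRule.defn) (.leaf XRule.ax))⟩
noncomputable def outer : Tr CI := (.node (nat_lit 1) (.node (nat_lit 2) (.node (nat_lit 4) (.node (nat_lit 8) (.node (nat_lit 16) (.leaf ci0) (.leaf ci240)) (.leaf ci72)) (.node (nat_lit 8) (.leaf ci324) (.leaf ci156))) (.node (nat_lit 4) (.node (nat_lit 8) (.leaf ci114) (.leaf ci282)) (.node (nat_lit 8) (.leaf ci198) (.leaf ci30)))) (.node (nat_lit 2) (.node (nat_lit 4) (.node (nat_lit 8) (.leaf ci177) (.node (nat_lit 16) (.leaf ci9) (.leaf ci345))) (.node (nat_lit 8) (.leaf ci261) (.leaf ci93))) (.node (nat_lit 4) (.node (nat_lit 8) (.leaf ci51) (.leaf ci219)) (.node (nat_lit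 8) (.leaf ci135) (.leaf ci303)))))
def cols : List ℕ := [nat_lit 9, nat_lit 30, nat_lit 51, nat_lit 72, nat_lit 93, nat_lit 114, nat_lit 135, nat_lit 156, nat_lit 177, nat_lit 198, nat_lit 219, nat_lit 240, nat_lit 261, nat_lit 282, nat_lit 303, nat_lit 324, nat_lit 345]
def invL : List ℕ := [1, 0, 3, 2, 5, 4, 7, 6, 9, 8, 11, 10, 13, 12, 15, 14, 16]
def rels : List (List ℕ) := [[14, 13, 16], [12, 12, 12], [14, 14, 14, 14], [11, 8, 8, 10, 13], [8, 11, 9, 10, 10, 15], [8, 12, 8, 15, 10], [8, 13, 10, 14, 11], [8, 8, 8, 14, 16, 15], [8, 8, 16, 9, 9, 16], [4, 6, 6, 4, 6, 9], [7, 5, 5, 6, 6, 4, 11], [6, 8, 6, 8], [4, 12, 4, 12], [4, 4, 8, 7, 11, 7], [4, 7, 8, 15, 4, 13, 11], [4, 7, 10, 5, 10, 12, 9], [4, 7, 12, 14, 4, 14, 8], [4, 10, 6, 4, 10, 6], [8, 10, 12, 16, 11, 12], [4, 8, 15, 7, 11, 14, 6], [1, 3, 3, 3, 3, 5], [0, 0, 0, 2, 0, 2, 2, 7], [0, 4, 4, 12, 1, 12], [2, 11, 2, 14, 14, 11], [4, 4, 4, 4, 4], [0, 4, 8, 2, 10,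 15, 12], [0, 4, 9, 4, 0, 8, 12], [0, 10, 2, 14, 12, 14, 4], [0, 13, 14, 10, 2, 16, 4], [8, 13, 11, 11, 15, 13], [10, 10, 10, 10, 10, 10], [8, 10, 15, 10, 15, 15], [2, 2, 12, 3, 3, 13], [4, 4, 14, 14, 5, 10, 6]]
def subs : List (List ℕ) := [[4], [5], [6], [7], [8], [9], [10], [11], [12], [13], [14], [15], [16]]
noncomputable def row (n : ℕ) : ℕ := rowOf (fun h => rows.get h) (nat_lit 5) (nat_lit 31) (nat_lit 366) (nat_lit 0x3fffffffffffffffffffffffffffffffffffffffffffffffffffffffffffffffffffffffffffffffffffffffffff) n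
noncomputable def xleaf (h : ℕ) : ℕ := recs.get h
noncomputable def mF : ℕ → ℕ := mainRow row (rowChk row xleaf outer (nat_lit 9) (nat_lit 511) (nat_lit 31) (nat_lit 14) (nat_lit 16383) (nat_lit 2097151) (nat_lit 128) (nat_lit 224) (nat_lit 256) (nat_lit 9) (nat_lit 511) (nat_lit 18) (nat_lit 262143) (nat_lit 8) (nat_lit 255) cols)
noncomputable def xF : ℕ → ℕ → ℕ := xLeaf row xleaf outer (nat_lit 511) (nat_lit 14) (nat_lit 2097151) (nat_lit 128) (nat_lit 224) (nat_lit 9) (nat_lit 511) (nat_lit 18) (nat_lit 262143) (nat_lit 261632) (nat_lit 8) (nat_lit 255) (nat_lit 10) (nat_lit 1023) (nat_lit 2) (nat_lit 3) (nat_lit 345) (nat_lit 114688) (nat_lit 128)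
noncomputable def cert : Cert := ⟨row, xleaf, outer, cols, nat_lit 9, nat_lit 511, nat_lit 31, nat_lit 14, nat_lit 16383, nat_lit 2097151, nat_lit 128, nat_lit 224, nat_lit 256, nat_lit 9, nat_lit 511, nat_lit 18, nat_lit 262143, nat_lit 261632, nat_lit 8, nat_lit 255, nat_lit 10, nat_lit 1023, nat_lit 2, nat_lit 3, nat_lit 345, nat_lit 114688, nat_lit 128, nat_lit 21, nat_lit 128, nat_lit 1⟩
theorem tabok : tabOK (fun i => invL.getD i i) rels subs outer cols (nat_lit 9) (nat_lit 345) = true := by decide +kernel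
theorem m0 : rng mF (nat_lit 1) (nat_lit 224) = 0 := by decide +kernel
noncomputable def s0 : List ℕ := [nat_lit 0x401004010040100400000000000000000000000000000000000000000000000000000000000000000000000000000000000000000000000000000000000000000000000000000000000000000000000000000000000000000000000000000000000000000000000000000000000000000000000000000000000000000000000000000000000000000000000000000000000000000000000000000000000000]
theorem x0 : xs xF s0 (nat_lit 1) = 0 := by decide +kernel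
theorem mz0 : AllZ mF 1 (nat_lit 225) := (AllZ.step (AllZ.nil mF 1) (nat_lit 224) (nat_lit 225) rfl m0)
theorem xz0 : XZ xF (nat_lit 1) := (XZ.step (XZ.nil xF) s0 (nat_lit 1) (nat_lit 1) (by decide +kernel) x0)
/-- the certificate (224 points) is valid -/
theorem valid : cert.Valid (fun i => invL.getD i i) rels subs 17 :=
  ⟨by decide +kernel, tabok, by decide +kernel, mz0, xz0⟩
theorem cert_N : cert.N = 224 := rfl

end CL.TC.GPo73L2
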