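import Cfsg.Agent.Spor.TCSound

/-! coset enumeration certificate generated by tools/tc -/

set_option maxRecDepth 100000
set_option autoImplicit false
set_option linter.all false

namespace CL.TC.GPo73L3

noncomputable def rows0 : Tr ℕ := (.node (nat_lit 2) (.node (nat_lit 1) (.leaf (nat_lit 0xb6334b6332b051fba93ab0330b6331b050db6338b630fb650bfe105f8330b232318d830fd719059397d939a57197d7186d760bd9720d918a7c183cf3a37c1a47f08282640c6650c626250240c623b1369406edac4628d3a38d3bf0d3ab8d17f8417e0c603b4d009fc2091c6373503b3063b3da894c847e862b5482341e994c61d4c83b4863ae58a71c8c31b9e304f831bfe1049434a906488e321943249a9248ec448aa19a262c54cb30dc820ec730e7f0827d28e4c823d118f4a1915172661188d379d5119563318af698d363a102aac626911268d269c09bf841268d1e68d2a928ee7b84e98c5e80d31032543d3864319e9b4482b44681fc20924699306813068141a2df06514987d10638958ea18a831a9661efc34d92b1efc34c92326a8b24fe104b2333ae324fa51ef83482cd71a0d738455198d719b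d41875618fd7183d7185d9299ff08251585fe1a5d470d1179183729cc780c2318cc780d0718cebc8c33d0c37c9cde930de78c665c12bf8410133064345289446874d2814063365a49ec62564e23ecc3b54e1b64629fc209546821dda30bcc33bc833bec738a233ce0941a6e3cb471ffe103b4815b4330a6321a630a2cde199de3985e283d631af1185625196e19c7f081d541e4e18d581a1d0385561869b629d2bd908ff0d2a50c8e58ce7e1857f0d26cb10ec0d23f0d23f840ff0d1e80ce8638c649946498ca4b94623988236863df06735063b6062bfc20789037b0613b52764592328a433efc346f263eaa33fae336fc3459232da8d2eb230efa523f4306fe10304ff0817419bfa281f81847c186f8387f7187dc5907619c7e1a25c199fe1a1d2815be7e0c33e0d07f840aaac5f70cdf78c0f90c0f89433a2036a1476d284368cdff0d09a3c462dfc205f8683f4a1fd86115c6416143fcc61dec82df86815062b5d22758642e5fa40eda303e0737f4403fe102f4516d6634e0608e030ea032efc33ff832cfc33e54ee38a68304d119e6c404e629dff0816019962599d838bd018bda1907e19ed2184a573182af14cea94d791c4ea8cd6e30c2d24c360ceff840be0cbff0cf2a305278c4cb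39ca13b86719c61798677ac617f8677f8675fc205a5469f8673f066f4da17b54226de4337e2516ac317ee40df260ffc338f8402fc337de30cfc336fe102c0429fc33518e8197dd189fe19a7e199fe1995840bfe198fe1987e197ff0817d20ffe19760193916b141bf0cb6b0cb2c0cabf0cb3f0caff0cabf0ca7f0ca3f0c9ff0c9bf840bd9c403b2d60b3064b34c49f864bf8649f8647f8645f0609f8643f8641fc203f863ff863c31a431da081cfc31dfc31cfc31bfc31afc319fc318fa505fe101fc317fc316fc31522ee381f9187ee4867b1817918673407702877e18a7e189fe1897e188fe1887f080827f0c3ff0c3bf0c37f0c33e100fd8c23f0c2ff0c2bf0c27f0c23f0c1ff8407f0c183bec403ec603f0403f0603f4403f4603f8403f8603fc403f860bf8609f8607f860400)) (.leaf (nat_lit 0x9e4449631e8c31aa4919a4315ac42192f4a9ad199b019a082bfe10da8431a253f18d71a2ce19470414563085021f4e19f49895d01a16e19b7f0864b1a1501a0561951163a0fa38d169b04278cffc0c4248d0a7bcfe8312e599469a88e7c133f843288c643b386972c6972c6a12947b2467b2c69f3866d41a595da8b392a12c65940677fc21609aa63ca460bb0838a4c14a6338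a4314a8337a8313ac341fe10a9e847a28289644e22e519c6530a6738a65185e7384e519a7f084e5198ed485562a0d118d6c188d159ea06f8cca88cd6f94ced0cc2e0c83f84272185b120bf10cca90c6ec1d228bc4a78cb52b31073146953064730e2550647f48232e69d39a4b3944f31e51fc2132465bb068e31cc53bae33cde909a853cea314dea13fe108ee40fb8920b4321a2a49b2335b2c4540f32846f18675307ef3875848bd579e6b197f818b7f0847d284d118b561a4ee407166424da38cb238cb668d4668cb6798f6c104379cfeb3d2e70d1bf8422ca88e60d446354861506154927559215546275505f486834066549461606554589ffc211696701db8720fe107b8430d482fb031fd430ccc73bd0309cac319ef2d9a325b0b24a2f4372df489de19d5d1857c1997f083dc199dd419d818be1185dd307da48c50293d91992a7020eb414bee1483f841fe94cf0ac2f08c4f1a8ea8b8d678d3e70c8ad24ce93cb97b90c6358c2f9062d906839122dfc20f7144190669996772ce955065d886374c68095a8335b6334ba313b2420b683ab230ab630aa2335fe107b6714ac32b9eb51fa4202ce9203d818fe71995820fe919a6c21bd419aff083e119d441a6fd305491a7546111b660ca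6720a648d3e5b0ba50cba40d4298d1a98c425c4b6a9cc68b43288ccbf841c1360a552146dfc20d3966d586a33905930c512865d28e213864d3866941c7529e72d1a6351ae80690936fe106b052a94b469a32dacf459e33d98f3d9234ea031cfa60c5ed5415cd527d1614d2327d5414c819fff083584144f195575984f1a051187d2192206b8cb698d47f0d46b8cb2ca81bf841ab8d0a81caeb8d1a7352ecacd6b9cfe9346d2b3565d406573465d506572869f28697358974168dfc20d3d887306833868b7c6105994610de33f9e83fb2a45a63469632dfc350fe106ae32bfa41996339a4522a033c36d2213d2193d3313d3493d2193d46a4cf1a1cd19ce1192c9212ff08361383cf1998c61991e925225911e81d2240c8a5106290c6ab8c8ea8d0ff841a7b8b642d1a639348b30c4b8862334c0bf0649fc20b5c691386438924f3467339c692064f19e9bf869ea9c851198305cca11fe105fa525ae843b03159721ca6318b0b189831ca682bae3345ecb511cd31cfa1895549ccb5095218eff082c61a6d86937c1885219f5a4105819b2066108a58d1e6a1224a49a99123f84165c9366c1325b46e7a0cab0d2e98cbe88ca12b34e2b592933d6332569d5c6873ca4b54681fc20b20839e86936cc715d61b516286d)))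 (.leaf (nat_lit 0x150e59fc25551a555ca5b3966d5068b24c9f2867d1ce852868f2e09b3606d38660e59e5509893da6d429034ba0a42fe12892b2e983509ab509ad459a33d9644294a494ac74a7ca4174c195cb694d1195c81a8cc79ece1a7cf2a7d019ad02197f092ce8a307651d2630d0e4291240d0e40c8650ce630d1e4487a3487a528b3f847a50cf2514bc63508351463334a931863dfc231286453c689366911d247286a31545f2c64d1464aa98eb4c9034c9264c9674c9434c94e19fe118a031b983229c33e9e31da281a9a34440cf41ecd1a14c79ed4321493284c194cb814d519b4f19f574914d195571a27f08b82620c4bf844a328e630d2a3ad2a40d0259c727246a40d1e63d0a50cc65310650c59cb2469d3069b5464339a3538689fc2254c64f3e28940a8940671ece43246a15ca6e9594a4898322a2326a43229e3268e31cb0d25b2d129834dae33afe112fa418fa51f18c21934a1934c411481a3c9323c74a74b18dc9a254e28d4e19e4b728ed31cff0890264a91bf844260d16a10a2a0d16a14ba48cb2c24aa78ca670c7e79cda68d3e38c99cb6087f3548d21c7d54e8d60651fc221550a35867b546596143d306a1606713d652959c3408e34ea03159ec499831aa114d9c31d9e3499c3498c31cfe10f9c54cb0d4b18ce3a1d240ac74a758390c952750713d6192564135818959489ce194d019a7f0878263990a90d427312e78d4298d2ec38aa530fa30d468bcfe618fe58d2bf843a50d403b60c2ffc21bf481dc4a2d950634ce6bbc6295dc796063f35c535467758a2b24694e5)))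
noncomputable def recs0 : Tr ℕ := (.leaf (nat_lit 0x5f202f9017280b44057a02a9014a80a0404da0259))
noncomputable def rows : Tr ℕ := rows0
noncomputable def recs : Tr ℕ := recs0
noncomputable def ci0 : CI := ⟨[], (nat_lit 0), false, (.node (nat_lit 1) (.leaf Rule.defn) (.leaf Rule.copy)), (.leaf (XRule.rot (nat_lit 0) [] 40 0))⟩
noncomputable def ci9 : CI := ⟨[0], (nat_lit 29), false, (.node (nat_lit 16) (.node (nat_lit 8) (.node (nat_lit 4) (.node (nat_lit 2) (.node (nat_lit 1) (.leaf Rule.defn) (.leaf Rule.copy)) (.node (nat_lit 1) (.leaf (Rule.fwd [nat_lit 29] 40 0)) (.leaf (Rule.fwd [nat_lit 49, nat_lit 49, nat_lit 9, nat_lit 49, nat_lit 109] 18 0)))) (.node (nat_lit 2) (.node (nat_lit 1) (.leaf (Rule.fwd [nat_lit 9, nat_lit 49, nat_lit 129, nat_lit 29, nat_lit 69, nat_lit 69] 21 3)) (.leaf (Rule.fwd [nat_lit 169, nat_lit 9, nat_lit 169] 24 0))) (.node (nat_lit 1) (.leaf (Rule.fwd [nat_lit 49, nat_lit 129, nat_lit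 29, nat_lit 69, nat_lit 69, nat_lit 9] 21 2)) (.leaf (Rule.fwd [nat_lit 89, nat_lit 229, nat_lit 69, nat_lit 149, nat_lit 209, nat_lit 49] 38 0))))) (.node (nat_lit 4) (.node (nat_lit 2) (.node (nat_lit 1) (.leaf (Rule.fwd [nat_lit 129, nat_lit 49, nat_lit 9, nat_lit 129, nat_lit 49] 34 0)) (.leaf (Rule.fwd [nat_lit 69, nat_lit 169, nat_lit 209, nat_lit 9, nat_lit 209, nat_lit 89] 32 0))) (.node (nat_lit 1) (.leaf (Rule.fwd [nat_lit 89, nat_lit 69, nat_lit 149, nat_lit 69, nat_lit 9] 26 1)) (.leaf (Rule.fwd [nat_lit 149, nat_lit 49, nat_lit 29, nat_lit 89, nat_lit 189, nat_lit 149] 31 4)))) (.node (nat_lit 2) (.node (nat_lit 1) (.leaf (Rule.fwd [nat_lit 9, nat_lit 89, nat_lit 69, nat_lit 149, nat_lit 69] 26 0)) (.leaf (Rule.fwd [nat_lit 209, nat_lit 89, nat_lit 9, nat_lit 69, nat_lit 169, nat_lit 209] 32 4))) (.node (nat_lit 1) (.leaf (Rule.fwd [nat_lit 69, nat_lit 89, nat_lit 229, nat_lit 9, nat_lit 189, nat_lit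 149] 28 0)) (.leaf (Rule.fwd [nat_lit 69, nat_lit 129, nat_lit 29, nat_lit 129, nat_lit 169, nat_lit 109] 30 0)))))) (.leaf (Rule.fwd [nat_lit 49, nat_lit 109, nat_lit 9, nat_lit 49, nat_lit 49] 18 3))), (.node (nat_lit 1) (.leaf XRule.defn) (.leaf XRule.defn))⟩
noncomputable def ci29 : CI := ⟨[1], (nat_lit 9), false, (.node (nat_lit 8) (.node (nat_lit 4) (.node (nat_lit 2) (.node (nat_lit 1) (.leaf Rule.defn) (.leaf Rule.copy)) (.node (nat_lit 1) (.leaf (Rule.fwd [nat_lit 9] 40 0)) (.leaf (Rule.fwd [nat_lit 89, nat_lit 69, nat_lit 29, nat_lit 69, nat_lit 69] 19 1)))) (.node (nat_lit 2) (.node (nat_lit 1) (.leaf (Rule.fwd [nat_lit 29, nat_lit 49, nat_lit 129, nat_lit 49, nat_lit 109] 27 2)) (.leaf (Rule.fwd [nat_lit 49, nat_lit 49, nat_lit 9, nat_lit 149, nat_lit 69, nat_lit 29] 20 2))) (.node (nat_lit 1) (.leaf (Rule.fwd [nat_lit 69, nat_lit 229, nat_lit 129, nat_lit 49, nat_lit 209, nat_lit 109] 39 1)) (.leaf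 (Rule.fwd [nat_lit 69, nat_lit 149, nat_lit 29, nat_lit 69, nat_lit 149] 35 1))))) (.node (nat_lit 4) (.node (nat_lit 2) (.node (nat_lit 1) (.leaf (Rule.fwd [nat_lit 129, nat_lit 169, nat_lit 109, nat_lit 9, nat_lit 69, nat_lit 129] 30 3)) (.leaf (Rule.fwd [nat_lit 29, nat_lit 49, nat_lit 49, nat_lit 9, nat_lit 149, nat_lit 69] 20 1))) (.node (nat_lit 1) (.leaf (Rule.fwd [nat_lit 189, nat_lit 29, nat_lit 189] 25 1)) (.leaf (Rule.fwd [nat_lit 69, nat_lit 69, nat_lit 29, nat_lit 89, nat_lit 69] 19 4)))) (.node (nat_lit 2) (.node (nat_lit 1) (.leaf (Rule.fwd [nat_lit 49, nat_lit 129, nat_lit 49, nat_lit 109, nat_lit 29] 27 1)) (.leaf (Rule.fwd [nat_lit 229, nat_lit 189, nat_lit 49, nat_lit 29, nat_lit 109, nat_lit 229] 33 5))) (.node (nat_lit 1) (.leaf (Rule.fwd [nat_lit 89, nat_lit 189, nat_lit 149, nat_lit 9, nat_lit 149, nat_lit 49] 31 1)) (.leaf (Rule.fwd [nat_lit 69, nat_lit 69, nat_lit 9, nat_lit 9, nat_lit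 49, nat_lit 129] 21 6)))))), (.node (nat_lit 1) (.leaf XRule.defn) (.leaf XRule.defn))⟩
noncomputable def ci49 : CI := ⟨[2], (nat_lit 69), false, (.node (nat_lit 8) (.node (nat_lit 4) (.node (nat_lit 2) (.node (nat_lit 1) (.leaf Rule.defn) (.leaf Rule.copy)) (.node (nat_lit 1) (.leaf (Rule.fwd [nat_lit 69] 40 0)) (.leaf (Rule.fwd [nat_lit 9, nat_lit 49, nat_lit 109, nat_lit 9, nat_lit 49] 18 2)))) (.node (nat_lit 2) (.node (nat_lit 1) (.leaf (Rule.fwd [nat_lit 129, nat_lit 49, nat_lit 109, nat_lit 29, nat_lit 29] 27 0)) (.leaf (Rule.fwd [nat_lit 89, nat_lit 49, nat_lit 89] 22 0))) (.node (nat_lit 1) (.leaf (Rule.fwd [nat_lit 109, nat_lit 29, nat_lit 29, nat_lit 49, nat_lit 129] 27 4)) (.leaf (Rule.fwd [nat_lit 9, nat_lit 149, nat_lit 69, nat_lit 29, nat_lit 29, nat_lit 49] 20 4))))) (.node (nat_lit 4) (.node (nat_lit 2) (.node (nat_lit 1) (.leaf (Rule.fwd [nat_lit 29, nat_lit 129, nat_lit 169, nat_lit 29, nat_lit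 209, nat_lit 109] 29 2)) (.leaf (Rule.fwd [nat_lit 9, nat_lit 89, nat_lit 229, nat_lit 69, nat_lit 149, nat_lit 209] 38 6))) (.node (nat_lit 1) (.leaf (Rule.fwd [nat_lit 9, nat_lit 129, nat_lit 49, nat_lit 9, nat_lit 129] 34 2)) (.leaf (Rule.fwd [nat_lit 29, nat_lit 109, nat_lit 229, nat_lit 29, nat_lit 229, nat_lit 189] 33 2)))) (.node (nat_lit 2) (.node (nat_lit 1) (.leaf (Rule.fwd [nat_lit 129, nat_lit 29, nat_lit 69, nat_lit 69, nat_lit 9, nat_lit 9] 21 1)) (.leaf (Rule.fwd [nat_lit 29, nat_lit 89, nat_lit 189, nat_lit 149, nat_lit 9, nat_lit 149] 31 2))) (.node (nat_lit 1) (.leaf (Rule.fwd [nat_lit 49, nat_lit 9, nat_lit 149, nat_lit 69, nat_lit 29, nat_lit 29] 20 3)) (.leaf (Rule.fwd [nat_lit 109, nat_lit 9, nat_lit 49, nat_lit 49, nat_lit 9] 18 4)))))), (.node (nat_lit 1) (.leaf XRule.defn) (.leaf XRule.defn))⟩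
noncomputable def ci69 : CI := ⟨[3], (nat_lit 49), false, (.node (nat_lit 8) (.node (nat_lit 4) (.node (nat_lit 2) (.node (nat_lit 1) (.leaf Rule.defn) (.leaf Rule.copy)) (.node (nat_lit 1) (.leaf (Rule.fwd [nat_lit 49] 40 0)) (.leaf (Rule.fwd [nat_lit 149, nat_lit 69, nat_lit 9, nat_lit 9, nat_lit 89] 26 3)))) (.node (nat_lit 2) (.node (nat_lit 1) (.leaf (Rule.fwd [nat_lit 109, nat_lit 69, nat_lit 109] 23 1)) (.leaf (Rule.fwd [nat_lit 149, nat_lit 209, nat_lit 49, nat_lit 9, nat_lit 89, nat_lit 229] 38 3))) (.node (nat_lit 1) (.leaf (Rule.fwd [nat_lit 229, nat_lit 129, nat_lit 49, nat_lit 209, nat_lit 109, nat_lit 29] 39 0)) (.leaf (Rule.fwd [nat_lit 29, nat_lit 89, nat_lit 69, nat_lit 29, nat_lit 69] 19 2))))) (.node (nat_lit 4) (.node (nat_lit 2) (.node (nat_lit 1) (.leaf (Rule.fwd [nat_lit 149, nat_lit 29, nat_lit 69, nat_lit 149, nat_lit 29] 35 0)) (.leaf (Rule.fwd [nat_lit 129, nat_lit 29, nat_lit 129,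 nat_lit 169, nat_lit 109, nat_lit 9] 30 1))) (.node (nat_lit 1) (.leaf (Rule.fwd [nat_lit 9, nat_lit 9, nat_lit 89, nat_lit 69, nat_lit 149] 26 5)) (.leaf (Rule.fwd [nat_lit 69, nat_lit 29, nat_lit 89, nat_lit 69, nat_lit 29] 19 3)))) (.node (nat_lit 2) (.node (nat_lit 1) (.leaf (Rule.fwd [nat_lit 9, nat_lit 9, nat_lit 49, nat_lit 129, nat_lit 29, nat_lit 69] 21 4)) (.leaf (Rule.fwd [nat_lit 29, nat_lit 29, nat_lit 49, nat_lit 49, nat_lit 9, nat_lit 149] 20 0))) (.leaf (Rule.fwd [nat_lit 29, nat_lit 69, nat_lit 69, nat_lit 29, nat_lit 89] 19 5))))), (.node (nat_lit 1) (.leaf XRule.defn) (.leaf XRule.defn))⟩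
noncomputable def ci89 : CI := ⟨[4], (nat_lit 109), true, (.node (nat_lit 16) (.node (nat_lit 8) (.node (nat_lit 4) (.node (nat_lit 2) (.node (nat_lit 1) (.leaf Rule.defn) (.leaf Rule.copy)) (.node (nat_lit 1) (.leaf (Rule.fwd [nat_lit 109] 40 0)) (.leaf (Rule.fwd [nat_lit 9, nat_lit 69, nat_lit 169, nat_lit 209, nat_lit 9, nat_lit 209] 32 6)))) (.node (nat_lit 2) (.node (nat_lit 1) (.leaf (Rule.fwd [nat_lit 49, nat_lit 89, nat_lit 49] 22 1)) (.leaf (Rule.fwd [nat_lit 229, nat_lit 69, nat_lit 149, nat_lit 209, nat_lit 49, nat_lit 9] 38 1))) (.node (nat_lit 1) (.leaf (Rule.fwd [nat_lit 89, nat_lit 129, nat_lit 189, nat_lit 149] 6 1)) (.leaf (Rule.fwd [nat_lit 89, nat_lit 89, nat_lit 209, nat_lit 249, nat_lit 229] 14 0))))) (.node (nat_lit 4) (.node (nat_lit 2) (.node (nat_lit 1) (.leaf (Rule.fwd [nat_lit 189, nat_lit 129, nat_lit 209, nat_lit 149] 12 0)) (.leaf (Rule.fwd [nat_lit 189, nat_lit 149, nat_lit 9,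 nat_lit 149, nat_lit 49, nat_lit 29] 31 0))) (.node (nat_lit 1) (.leaf (Rule.fwd [nat_lit 169, nat_lit 89, nat_lit 229, nat_lit 129] 10 0)) (.leaf (Rule.fwd [nat_lit 89, nat_lit 209, nat_lit 249, nat_lit 229, nat_lit 89] 14 1)))) (.node (nat_lit 2) (.node (nat_lit 1) (.leaf (Rule.fwd [nat_lit 69, nat_lit 29, nat_lit 69, nat_lit 69, nat_lit 29] 19 0)) (.leaf (Rule.fwd [nat_lit 129, nat_lit 109, nat_lit 209, nat_lit 149, nat_lit 149] 9 3))) (.node (nat_lit 1) (.leaf (Rule.fwd [nat_lit 69, nat_lit 149, nat_lit 69, nat_lit 9, nat_lit 9] 26 2)) (.leaf (Rule.fwd [nat_lit 229, nat_lit 9, nat_lit 189, nat_lit 149, nat_lit 9, nat_lit 69] 28 2)))))) (.node (nat_lit 1) (.leaf (Rule.fwd [nat_lit 129, nat_lit 189, nat_lit 149, nat_lit 89] 6 2)) (.leaf (Rule.fwd [nat_lit 249, nat_lit 109, nat_lit 109, nat_lit 249, nat_lit 89] 16 1)))), (.node (nat_lit 1) (.leaf XRule.defn) (.leaf XRule.ax))⟩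
noncomputable def ci109 : CI := ⟨[5], (nat_lit 89), true, (.node (nat_lit 16) (.node (nat_lit 8) (.node (nat_lit 4) (.node (nat_lit 2) (.node (nat_lit 1) (.leaf Rule.defn) (.leaf Rule.copy)) (.node (nat_lit 1) (.leaf (Rule.fwd [nat_lit 89] 40 0)) (.leaf (Rule.fwd [nat_lit 189, nat_lit 129, nat_lit 249, nat_lit 189, nat_lit 149] 37 1)))) (.node (nat_lit 2) (.node (nat_lit 1) (.leaf (Rule.fwd [nat_lit 249, nat_lit 89, nat_lit 89, nat_lit 249, nat_lit 109] 16 4)) (.leaf (Rule.fwd [nat_lit 129, nat_lit 169, nat_lit 149, nat_lit 109] 7 2))) (.node (nat_lit 1) (.leaf (Rule.fwd [nat_lit 69, nat_lit 109, nat_lit 69] 23 0)) (.leaf (Rule.fwd [nat_lit 109, nat_lit 129, nat_lit 169, nat_lit 149] 7 3))))) (.node (nat_lit 4) (.node (nat_lit 2) (.node (nat_lit 1) (.leaf (Rule.fwd [nat_lit 49, nat_lit 29, nat_lit 129, nat_lit 169, nat_lit 29, nat_lit 209] 29 3)) (.leaf (Rule.fwd [nat_lit 129, nat_lit 229, nat_lit 149, nat_lit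 169] 13 1))) (.node (nat_lit 1) (.leaf (Rule.fwd [nat_lit 189, nat_lit 109, nat_lit 149, nat_lit 209] 11 3)) (.leaf (Rule.fwd [nat_lit 9, nat_lit 49, nat_lit 49, nat_lit 9, nat_lit 49] 18 5)))) (.node (nat_lit 2) (.node (nat_lit 1) (.leaf (Rule.fwd [nat_lit 229, nat_lit 29, nat_lit 229, nat_lit 189, nat_lit 49, nat_lit 29] 33 0)) (.leaf (Rule.fwd [nat_lit 209, nat_lit 249, nat_lit 229, nat_lit 109, nat_lit 109] 15 1))) (.node (nat_lit 1) (.leaf (Rule.fwd [nat_lit 149, nat_lit 209, nat_lit 109, nat_lit 189] 11 1)) (.leaf (Rule.fwd [nat_lit 29, nat_lit 29, nat_lit 49, nat_lit 129, nat_lit 49] 27 3)))))) (.node (nat_lit 2) (.node (nat_lit 1) (.leaf (Rule.fwd [nat_lit 209, nat_lit 149, nat_lit 149, nat_lit 89, nat_lit 129] 9 1)) (.leaf (Rule.fwd [nat_lit 9, nat_lit 69, nat_lit 129, nat_lit 29, nat_lit 129, nat_lit 169] 30 6))) (.node (nat_lit 1) (.leaf (Rule.fwd [nat_lit 129, nat_lit 129, nat_lit 229, nat_lit 89,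 nat_lit 149] 8 2)) (.leaf (Rule.fwd [nat_lit 29, nat_lit 69, nat_lit 229, nat_lit 129, nat_lit 49, nat_lit 209] 39 2))))), (.node (nat_lit 1) (.leaf XRule.defn) (.leaf XRule.ax))⟩
noncomputable def ci129 : CI := ⟨[6], (nat_lit 149), true, (.node (nat_lit 16) (.node (nat_lit 8) (.node (nat_lit 4) (.node (nat_lit 2) (.node (nat_lit 1) (.leaf Rule.defn) (.leaf Rule.copy)) (.node (nat_lit 1) (.leaf (Rule.fwd [nat_lit 149] 40 0)) (.leaf (Rule.fwd [nat_lit 29, nat_lit 129, nat_lit 169, nat_lit 109, nat_lit 9, nat_lit 69] 30 2)))) (.node (nat_lit 2) (.node (nat_lit 1) (.leaf (Rule.fwd [nat_lit 249, nat_lit 189, nat_lit 149, nat_lit 109, nat_lit 189] 37 5)) (.leaf (Rule.fwd [nat_lit 229, nat_lit 89, nat_lit 149, nat_lit 109, nat_lit 129] 8 4))) (.node (nat_lit 1) (.leaf (Rule.fwd [nat_lit 169, nat_lit 249, nat_lit 149, nat_lit 169, nat_lit 89] 36 1)) (.leaf (Rule.fwd [nat_lit 229, nat_lit 149, nat_lit 169, nat_lit 109]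 13 0))))) (.node (nat_lit 4) (.node (nat_lit 2) (.node (nat_lit 1) (.leaf (Rule.fwd [nat_lit 129, nat_lit 229, nat_lit 89, nat_lit 149, nat_lit 109] 8 3)) (.leaf (Rule.fwd [nat_lit 189, nat_lit 149, nat_lit 89, nat_lit 89] 6 3))) (.node (nat_lit 1) (.leaf (Rule.fwd [nat_lit 49, nat_lit 9, nat_lit 129, nat_lit 49, nat_lit 9] 34 1)) (.leaf (Rule.fwd [nat_lit 89, nat_lit 169, nat_lit 89, nat_lit 229] 10 4)))) (.node (nat_lit 2) (.node (nat_lit 1) (.leaf (Rule.fwd [nat_lit 169, nat_lit 29, nat_lit 209, nat_lit 109, nat_lit 49, nat_lit 29] 29 0)) (.leaf (Rule.fwd [nat_lit 109, nat_lit 209, nat_lit 149, nat_lit 149, nat_lit 89] 9 2))) (.node (nat_lit 1) (.leaf (Rule.fwd [nat_lit 29, nat_lit 69, nat_lit 69, nat_lit 9, nat_lit 9, nat_lit 49] 21 0)) (.leaf (Rule.fwd [nat_lit 49, nat_lit 109, nat_lit 29, nat_lit 29, nat_lit 49] 27 5)))))) (.node (nat_lit 2) (.node (nat_lit 1) (.leaf (Rule.fwd [nat_lit 169, nat_lit 149,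 nat_lit 109, nat_lit 109] 7 1)) (.leaf (Rule.fwd [nat_lit 169, nat_lit 109, nat_lit 9, nat_lit 69, nat_lit 129, nat_lit 29] 30 4))) (.leaf (Rule.fwd [nat_lit 49, nat_lit 209, nat_lit 109, nat_lit 29, nat_lit 69, nat_lit 229] 39 5)))), (.node (nat_lit 1) (.leaf XRule.defn) (.leaf XRule.ax))⟩
noncomputable def ci149 : CI := ⟨[7], (nat_lit 129), true, (.node (nat_lit 16) (.node (nat_lit 8) (.node (nat_lit 4) (.node (nat_lit 2) (.node (nat_lit 1) (.leaf Rule.defn) (.leaf Rule.copy)) (.node (nat_lit 1) (.leaf (Rule.fwd [nat_lit 129] 40 0)) (.leaf (Rule.fwd [nat_lit 69, nat_lit 9, nat_lit 9, nat_lit 89, nat_lit 69] 26 4)))) (.node (nat_lit 2) (.node (nat_lit 1) (.leaf (Rule.fwd [nat_lit 9, nat_lit 69, nat_lit 89, nat_lit 229, nat_lit 9, nat_lit 189] 28 6)) (.leaf (Rule.fwd [nat_lit 29, nat_lit 69, nat_lit 149, nat_lit 29, nat_lit 69] 35 2))) (.node (nat_lit 1) (.leaf (Rule.fwd [nat_lit 169, nat_lit 89, nat_lit 129,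 nat_lit 169, nat_lit 249] 36 4)) (.leaf (Rule.fwd [nat_lit 89, nat_lit 89, nat_lit 129, nat_lit 189] 6 0))))) (.node (nat_lit 4) (.node (nat_lit 2) (.node (nat_lit 1) (.leaf (Rule.fwd [nat_lit 209, nat_lit 109, nat_lit 189, nat_lit 109] 11 0)) (.leaf (Rule.fwd [nat_lit 109, nat_lit 129, nat_lit 129, nat_lit 229, nat_lit 89] 8 1))) (.node (nat_lit 1) (.leaf (Rule.fwd [nat_lit 149, nat_lit 89, nat_lit 129, nat_lit 109, nat_lit 209] 9 5)) (.leaf (Rule.fwd [nat_lit 89, nat_lit 189, nat_lit 129, nat_lit 209] 12 4)))) (.node (nat_lit 2) (.node (nat_lit 1) (.leaf (Rule.fwd [nat_lit 209, nat_lit 49, nat_lit 9, nat_lit 89, nat_lit 229, nat_lit 69] 38 4)) (.leaf (Rule.fwd [nat_lit 49, nat_lit 29, nat_lit 89, nat_lit 189, nat_lit 149, nat_lit 9] 31 3))) (.node (nat_lit 1) (.leaf (Rule.fwd [nat_lit 89, nat_lit 129, nat_lit 109, nat_lit 209, nat_lit 149] 9 4)) (.leaf (Rule.fwd [nat_lit 69, nat_lit 29, nat_lit 29, nat_lit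 49, nat_lit 49, nat_lit 9] 20 6)))))) (.leaf (Rule.fwd [nat_lit 169, nat_lit 109, nat_lit 129, nat_lit 229] 13 3))), (.node (nat_lit 1) (.leaf XRule.defn) (.leaf XRule.ax))⟩
noncomputable def ci169 : CI := ⟨[8], (nat_lit 189), true, (.node (nat_lit 8) (.node (nat_lit 4) (.node (nat_lit 2) (.node (nat_lit 1) (.leaf Rule.defn) (.leaf Rule.copy)) (.node (nat_lit 1) (.leaf (Rule.fwd [nat_lit 189] 40 0)) (.leaf (Rule.fwd [nat_lit 9, nat_lit 169, nat_lit 9] 24 1)))) (.node (nat_lit 2) (.node (nat_lit 1) (.leaf (Rule.fwd [nat_lit 169, nat_lit 169] 2 0)) (.leaf (Rule.fwd [nat_lit 209, nat_lit 9, nat_lit 209, nat_lit 89, nat_lit 9, nat_lit 69] 32 2))) (.node (nat_lit 1) (.leaf (Rule.fwd [nat_lit 109, nat_lit 129, nat_lit 229, nat_lit 149] 13 2)) (.leaf (Rule.fwd [nat_lit 89, nat_lit 129, nat_lit 169, nat_lit 249, nat_lit 149] 36 5))))) (.node (nat_lit 2) (.node (nat_lit 1) (.leaf (Rule.fwd [nat_lit 89, nat_lit 229, nat_lit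 129, nat_lit 89] 10 1)) (.leaf (Rule.fwd [nat_lit 29, nat_lit 209, nat_lit 109, nat_lit 49, nat_lit 29, nat_lit 129] 29 6))) (.node (nat_lit 1) (.leaf (Rule.fwd [nat_lit 149, nat_lit 109, nat_lit 109, nat_lit 129] 7 0)) (.leaf (Rule.fwd [nat_lit 249, nat_lit 149, nat_lit 169, nat_lit 89, nat_lit 129] 36 2))))), (.node (nat_lit 1) (.leaf XRule.defn) (.leaf XRule.ax))⟩
noncomputable def ci189 : CI := ⟨[9], (nat_lit 169), true, (.node (nat_lit 8) (.node (nat_lit 4) (.node (nat_lit 2) (.node (nat_lit 1) (.leaf Rule.defn) (.leaf Rule.copy)) (.node (nat_lit 1) (.leaf (Rule.fwd [nat_lit 169] 40 0)) (.leaf (Rule.fwd [nat_lit 189, nat_lit 189] 3 0)))) (.node (nat_lit 2) (.node (nat_lit 1) (.leaf (Rule.fwd [nat_lit 249, nat_lit 209] 0 1)) (.leaf (Rule.fwd [nat_lit 29, nat_lit 189, nat_lit 29] 25 0))) (.node (nat_lit 1) (.leaf (Rule.fwd [nat_lit 109, nat_lit 149, nat_lit 209, nat_lit 109] 11 2)) (.leaf (Rule.fwd [nat_lit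 149, nat_lit 89, nat_lit 89, nat_lit 129] 6 4))))) (.node (nat_lit 4) (.node (nat_lit 2) (.node (nat_lit 1) (.leaf (Rule.fwd [nat_lit 149, nat_lit 9, nat_lit 69, nat_lit 89, nat_lit 229, nat_lit 9] 28 5)) (.leaf (Rule.fwd [nat_lit 149, nat_lit 9, nat_lit 149, nat_lit 49, nat_lit 29, nat_lit 89] 31 6))) (.node (nat_lit 1) (.leaf (Rule.fwd [nat_lit 149, nat_lit 109, nat_lit 189, nat_lit 129, nat_lit 249] 37 3)) (.leaf (Rule.fwd [nat_lit 129, nat_lit 209, nat_lit 149, nat_lit 89] 12 1)))) (.leaf (Rule.fwd [nat_lit 49, nat_lit 29, nat_lit 109, nat_lit 229, nat_lit 29, nat_lit 229] 33 3)))), (.node (nat_lit 1) (.leaf XRule.defn) (.leaf XRule.ax))⟩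
noncomputable def ci209 : CI := ⟨[10], (nat_lit 229), true, (.node (nat_lit 8) (.node (nat_lit 4) (.node (nat_lit 2) (.node (nat_lit 1) (.leaf Rule.defn) (.leaf Rule.copy)) (.node (nat_lit 1) (.leaf (Rule.fwd [nat_lit 229] 40 0)) (.leaf (Rule.fwd [nat_lit 209, nat_lit 209, nat_lit 209] 4 0)))) (.node (nat_lit 2) (.node (nat_lit 1) (.leaf (Rule.fwd [nat_lit 189, nat_lit 249] 0 0)) (.leaf (Rule.fwd [nat_lit 149, nat_lit 149, nat_lit 89, nat_lit 129, nat_lit 109] 9 0))) (.node (nat_lit 1) (.leaf (Rule.fwd [nat_lit 249, nat_lit 229, nat_lit 109, nat_lit 109, nat_lit 109] 15 0)) (.leaf (Rule.fwd [nat_lit 109, nat_lit 29, nat_lit 69, nat_lit 229, nat_lit 129, nat_lit 49] 39 3))))) (.node (nat_lit 4) (.node (nat_lit 2) (.node (nat_lit 1) (.leaf (Rule.fwd [nat_lit 109, nat_lit 189, nat_lit 109, nat_lit 149] 11 4)) (.leaf (Rule.fwd [nat_lit 9, nat_lit 209, nat_lit 89, nat_lit 9, nat_lit 69, nat_lit 169] 32 3))) (.node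 (nat_lit 1) (.leaf (Rule.fwd [nat_lit 49, nat_lit 9, nat_lit 89, nat_lit 229, nat_lit 69, nat_lit 149] 38 5)) (.leaf (Rule.fwd [nat_lit 89, nat_lit 9, nat_lit 69, nat_lit 169, nat_lit 209, nat_lit 9] 32 5)))) (.node (nat_lit 2) (.node (nat_lit 1) (.leaf (Rule.fwd [nat_lit 149, nat_lit 89, nat_lit 189, nat_lit 129] 12 3)) (.leaf (Rule.fwd [nat_lit 109, nat_lit 49, nat_lit 29, nat_lit 129, nat_lit 169, nat_lit 29] 29 4))) (.leaf (Rule.fwd [nat_lit 249, nat_lit 229, nat_lit 89, nat_lit 89, nat_lit 89] 14 3))))), (.node (nat_lit 1) (.leaf XRule.defn) (.leaf XRule.ax))⟩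
noncomputable def ci229 : CI := ⟨[11], (nat_lit 209), true, (.node (nat_lit 8) (.node (nat_lit 4) (.node (nat_lit 2) (.node (nat_lit 1) (.leaf Rule.defn) (.leaf Rule.copy)) (.node (nat_lit 1) (.leaf (Rule.fwd [nat_lit 209] 40 0)) (.leaf (Rule.fwd [nat_lit 129, nat_lit 49, nat_lit 209, nat_lit 109, nat_lit 29, nat_lit 69] 39 6)))) (.node (nat_lit 2) (.node (nat_lit 1) (.leaf (Rule.fwd [nat_lit 249, nat_lit 169] 1 1)) (.leaf (Rule.fwd [nat_lit 89, nat_lit 149, nat_lit 109, nat_lit 129, nat_lit 129] 8 5))) (.node (nat_lit 1) (.leaf (Rule.fwd [nat_lit 89, nat_lit 89, nat_lit 89, nat_lit 209, nat_lit 249] 14 5)) (.leaf (Rule.fwd [nat_lit 189, nat_lit 49, nat_lit 29, nat_lit 109, nat_lit 229, nat_lit 29] 33 4))))) (.node (nat_lit 1) (.leaf (Rule.fwd [nat_lit 9, nat_lit 189, nat_lit 149, nat_lit 9, nat_lit 69, nat_lit 89] 28 3)) (.leaf (Rule.fwd [nat_lit 69, nat_lit 149, nat_lit 209, nat_lit 49, nat_lit 9, nat_lit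 89] 38 2)))), (.node (nat_lit 1) (.leaf XRule.defn) (.leaf XRule.ax))⟩
noncomputable def ci249 : CI := ⟨[12], (nat_lit 249), true, (.node (nat_lit 8) (.node (nat_lit 4) (.node (nat_lit 2) (.node (nat_lit 1) (.leaf Rule.defn) (.leaf Rule.copy)) (.node (nat_lit 1) (.leaf (Rule.fwd [nat_lit 249] 40 0)) (.leaf (Rule.fwd [nat_lit 209, nat_lit 189] 0 2)))) (.node (nat_lit 2) (.node (nat_lit 1) (.leaf (Rule.fwd [nat_lit 169, nat_lit 229] 1 0)) (.leaf (Rule.fwd [nat_lit 89, nat_lit 89, nat_lit 249, nat_lit 109, nat_lit 109] 16 5))) (.node (nat_lit 1) (.leaf (Rule.fwd [nat_lit 189, nat_lit 149, nat_lit 109, nat_lit 189, nat_lit 129] 37 4)) (.leaf (Rule.fwd [nat_lit 109, nat_lit 109, nat_lit 249, nat_lit 89, nat_lit 89] 16 2))))) (.node (nat_lit 2) (.node (nat_lit 1) (.leaf (Rule.fwd [nat_lit 149, nat_lit 169, nat_lit 89, nat_lit 129, nat_lit 169] 36 3)) (.leaf (Rule.fwd [nat_lit 229, nat_lit 89, nat_lit 89, nat_lit 89,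 nat_lit 209] 14 4))) (.leaf (Rule.fwd [nat_lit 229, nat_lit 109, nat_lit 109, nat_lit 109, nat_lit 209] 15 5)))), (.node (nat_lit 1) (.leaf XRule.defn) (.leaf XRule.ax))⟩
noncomputable def outer : Tr CI := (.node (nat_lit 8) (.node (nat_lit 4) (.node (nat_lit 16) (.node (nat_lit 1) (.leaf ci0) (.leaf ci129)) (.node (nat_lit 32) (.leaf ci209) (.leaf ci49))) (.node (nat_lit 16) (.node (nat_lit 32) (.leaf ci69) (.leaf ci229)) (.leaf ci149))) (.node (nat_lit 4) (.node (nat_lit 16) (.node (nat_lit 32) (.leaf ci9) (.leaf ci169)) (.node (nat_lit 32) (.leaf ci89) (.leaf ci249))) (.node (nat_lit 16) (.leaf ci109) (.node (nat_lit 32) (.leaf ci29) (.leaf ci189)))))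
def cols : List ℕ := [nat_lit 9, nat_lit 29, nat_lit 49, nat_lit 69, nat_lit 89, nat_lit 109, nat_lit 129, nat_lit 149, nat_lit 169, nat_lit 189, nat_lit 209, nat_lit 229, nat_lit 249]
def invL : List ℕ := [1, 0, 3, 2, 5, 4, 7, 6, 9, 8, 11, 10, 12]
def rels : List (List ℕ) := [[10, 9, 12], [8, 8, 8], [10, 10, 10, 10], [7, 4, 4, 6, 9], [4, 7, 5, 6, 6, 11], [4, 8, 4, 11, 6], [4, 9, 6, 10, 7], [4, 4, 4, 10, 12, 11], [4, 4, 12, 5, 5, 12], [0, 2, 2, 0, 2, 5], [3, 1, 1, 2, 2, 0, 7], [2, 4, 2, 4], [0, 8, 0, 8], [0, 0, 4, 3, 7, 3], [0, 3, 4, 11, 0, 9, 7], [0, 3, 6, 1, 6, 8, 5], [0, 3, 8, 10, 0, 10, 4], [0, 6, 2, 0, 6, 2], [4, 6, 8, 12, 7, 8], [0, 4, 11, 3, 7, 10, 2]]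
def subs : List (List ℕ) := [[4], [5], [6], [7], [8], [9], [10], [11], [12]]
noncomputable def row (n : ℕ) : ℕ := rowOf (fun h => rows.get h) (nat_lit 5) (nat_lit 31) (nat_lit 269) (nat_lit 0x1fffffffffffffffffffffffffffffffffffffffffffffffffffffffffffffffffff) n
noncomputable def xleaf (h : ℕ) : ℕ := recs.get h
noncomputable def mF : ℕ → ℕ := mainRow row (rowChk row xleaf outer (nat_lit 8) (nat_lit 255) (nat_lit 31) (nat_lit 13) (nat_lit 8191) (nat_lit 1048575) (nat_lit 128) (nat_lit 81) (nat_lit 256) (nat_lit 9) (nat_lit 511) (nat_lit 17) (nat_lit 131071) (nat_lit 8) (nat_lit 255) cols)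
noncomputable def xF : ℕ → ℕ → ℕ := xLeaf row xleaf outer (nat_lit 255) (nat_lit 13) (nat_lit 1048575) (nat_lit 128) (nat_lit 81) (nat_lit 9) (nat_lit 511) (nat_lit 17) (nat_lit 131071) (nat_lit 130560) (nat_lit 8) (nat_lit 255) (nat_lit 10) (nat_lit 1023) (nat_lit 2) (nat_lit 3) (nat_lit 249) (nat_lit 41472) (nat_lit 128)
noncomputable def cert : Cert := ⟨row, xleaf, outer, cols, nat_lit 8, nat_lit 255, nat_lit 31, nat_lit 13, nat_lit 8191, nat_lit 1048575, nat_lit 128, nat_lit 81, nat_lit 256, nat_lit 9, nat_lit 511, nat_lit 17, nat_lit 131071, nat_lit 130560, nat_lit 8, nat_lit 255, nat_lit 10, nat_lit 1023, nat_lit 2, nat_lit 3, nat_lit 249, nat_lit 41472, nat_lit 128, nat_lit 20, nat_lit 128, nat_lit 1⟩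
theorem tabok : tabOK (fun i => invL.getD i i) rels subs outer cols (nat_lit 9) (nat_lit 249) = true := by decide +kernel
theorem m0 : rng mF (nat_lit 1) (nat_lit 81) = 0 := by decide +kernel
noncomputable def s0 : List ℕ := [nat_lit 0x401004010040000000000000000000000000000000000000000000000000000000000000000000000000000000000000000000000000000000000000000000000000000000000000000000000000000000000000000000000000000000000000000000000000000000000000000000000000000000000000000000000000000000000000000000000000000000000000000000000000000000000000000000]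
theorem x0 : xs xF s0 (nat_lit 1) = 0 := by decide +kernel
theorem mz0 : AllZ mF 1 (nat_lit 82) := (AllZ.step (AllZ.nil mF 1) (nat_lit 81) (nat_lit 82) rfl m0)
theorem xz0 : XZ xF (nat_lit 1) := (XZ.step (XZ.nil xF) s0 (nat_lit 1) (nat_lit 1) (by decide +kernel) x0)
/-- the certificate (81 points) is valid -/
theorem valid : cert.Valid (fun i => invL.getD i i) rels subs 13 :=
  ⟨by decide +kernel, tabok, by decide +kernel, mz0, xz0⟩
theorem cert_N : cert.N = 81 := rfl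

end CL.TC.GPo73L3
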