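import Cfsg.Agent.Spor.TCSound

/-! coset enumeration certificate generated by tools/tc -/

set_option maxRecDepth 100000
set_option autoImplicit false
set_option linter.all false

namespace CL.TC.GPo73L4

noncomputable def rows0 : Tr ℕ := (.leaf (nat_lit 0x3298f6b41ed463d9947b298f7f116d263398c775b8ba0ea71dd6635a5c53ab0c7f114d2639b146f5b0be791e54d8a1ff543f518beb31cd8e39fc42f538eec30ed542483ad45b498ced415db033a0c4f598eff10adb017b4c2cbb628c6c618d8c3bb906b698d6f311e2c19bd443f8850475819cc625a946f4309ec31bd4c3dacc3ff884f75181bda635acc53598d76314e863ba0c4be18b76319fe21011a5c5f5b0e67307da61ffc41f49846c513d463da8c7553620dff106d8627e1c43698afd418fc63da4c57598ac6ec411d8637a0c4b720b6c310fe20da8c3b650b6ab1641da629a0c77630c7e31deec31b0c3b6183ff106dd01237f144b6c0b7f105d30379cc67598bfb411db20fae431ebea09e9915cf033f1847f882eb30fd3431a4c7359872a6b515d6617b5443ea82fb312f4627c206bf882fd5051bf2c0db0c47f8826d615ee62df0c276a06ee70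adc634f5b5c739483fc31cdc60fb945f638cec912e4619fc41023e286f580dfe207ccc3ba3876b815da829b284b6c8e3d7d40eecc19d0c3be1867f103d8621b0c17ea026e50754eee19e580fa986ff103faa1bc0c6b83846a313e6c1ecfb1417ea026c611f2609f0c1bf881fe31cdcc37b0c6d07e284f3709fe205c4c2b93857e31bfa807f8c6b69883d7d40aeac11c8c2be1847f102dea09f5443698a7e31954ece11e180ba184ff102faa13bcc33540bfe318dee0ccfb981f428bf130ffc62fbe03f6b0a7f102da61bb0c4cbbc2886e905fc62df502fd2027f102fc62bb8c23f18a20ed60bfc627b4c1bf1897c311dac1bfc407e188fe3112ef2c09f8c43e185f9306f4817fc4077184fe30ff861a83e8c0ff1877830cfc61bf8c33e1857e30bf6605fc40423c9817e30aee611f8c27f1847e307fc60dfc407e2018dfd201fa603f8807f180ff201fc60bf8c13f181fe30200))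
noncomputable def recs0 : Tr ℕ := (.leaf (nat_lit 0x1a001a0018d017a01670154))
noncomputable def rows : Tr ℕ := rows0
noncomputable def recs : Tr ℕ := recs0
noncomputable def ci0 : CI := ⟨[], (nat_lit 0), false, (.node (nat_lit 1) (.leaf Rule.defn) (.leaf Rule.copy)), (.leaf (XRule.rot (nat_lit 0) [] 18 0))⟩
noncomputable def ci8 : CI := ⟨[0], (nat_lit 27), false, (.node (nat_lit 8) (.node (nat_lit 4) (.node (nat_lit 2) (.node (nat_lit 1) (.leaf Rule.defn) (.leaf Rule.copy)) (.node (nat_lit 1) (.leaf (Rule.fwd [nat_lit 27] 18 0)) (.leaf (Rule.fwd [nat_lit 8, nat_lit 122, nat_lit 160, nat_lit 141, nat_lit 8] 14 1)))) (.node (nat_lit 2) (.node (nat_lit 1) (.leaf (Rule.fwd [nat_lit 46, nat_lit 103, nat_lit 65, nat_lit 8] 6 2)) (.leaf (Rule.fwd [nat_lit 8, nat_lit 8, nat_lit 122, nat_lit 160, nat_lit 141] 14 0))) (.node (nat_lit 1) (.leaf (Rule.fwd [nat_lit 84, nat_lit 8, nat_lit 141, nat_lit 46] 10 0)) (.leaf (Rule.fwd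 [nat_lit 122, nat_lit 160, nat_lit 141, nat_lit 8, nat_lit 8] 14 2))))) (.node (nat_lit 2) (.node (nat_lit 1) (.leaf (Rule.fwd [nat_lit 65, nat_lit 27, nat_lit 46, nat_lit 46, nat_lit 141] 8 0)) (.leaf (Rule.fwd [nat_lit 8, nat_lit 160, nat_lit 27, nat_lit 27, nat_lit 160] 16 0))) (.leaf (Rule.fwd [nat_lit 160, nat_lit 27, nat_lit 27, nat_lit 160, nat_lit 8] 16 1)))), (.node (nat_lit 1) (.leaf XRule.defn) (.leaf XRule.defn))⟩
noncomputable def ci27 : CI := ⟨[1], (nat_lit 8), false, (.node (nat_lit 8) (.node (nat_lit 4) (.node (nat_lit 2) (.node (nat_lit 1) (.leaf Rule.defn) (.leaf Rule.copy)) (.node (nat_lit 1) (.leaf (Rule.fwd [nat_lit 8] 18 0)) (.leaf (Rule.fwd [nat_lit 65, nat_lit 122, nat_lit 27, nat_lit 103] 11 1)))) (.node (nat_lit 2) (.node (nat_lit 1) (.leaf (Rule.fwd [nat_lit 122, nat_lit 65, nat_lit 65, nat_lit 8, nat_lit 46] 9 1)) (.leaf (Rule.fwd [nat_lit 46, nat_lit 141, nat_lit 65, nat_lit 84] 13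 1))) (.node (nat_lit 1) (.leaf (Rule.fwd [nat_lit 46, nat_lit 84, nat_lit 65, nat_lit 27] 7 2)) (.leaf (Rule.fwd [nat_lit 27, nat_lit 46, nat_lit 84, nat_lit 65] 7 3))))) (.node (nat_lit 1) (.leaf (Rule.fwd [nat_lit 46, nat_lit 46, nat_lit 141, nat_lit 8, nat_lit 65] 8 2)) (.leaf (Rule.fwd [nat_lit 103, nat_lit 27, nat_lit 65, nat_lit 122] 11 3)))), (.node (nat_lit 1) (.leaf XRule.defn) (.leaf XRule.defn))⟩
noncomputable def ci46 : CI := ⟨[2], (nat_lit 65), false, (.node (nat_lit 8) (.node (nat_lit 4) (.node (nat_lit 2) (.node (nat_lit 1) (.leaf Rule.defn) (.leaf Rule.copy)) (.node (nat_lit 1) (.leaf (Rule.fwd [nat_lit 65] 18 0)) (.leaf (Rule.fwd [nat_lit 8, nat_lit 84, nat_lit 8, nat_lit 141] 10 4)))) (.node (nat_lit 2) (.node (nat_lit 1) (.leaf (Rule.fwd [nat_lit 122, nat_lit 65, nat_lit 8, nat_lit 103] 12 2)) (.leaf (Rule.fwd [nat_lit 141, nat_lit 65, nat_lit 84, nat_lit 27] 13 0))) (.node (nat_lit 1) (.leaf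 (Rule.fwd [nat_lit 141, nat_lit 8, nat_lit 65, nat_lit 27, nat_lit 46] 8 4)) (.leaf (Rule.fwd [nat_lit 46, nat_lit 141, nat_lit 8, nat_lit 65, nat_lit 27] 8 3))))) (.node (nat_lit 1) (.leaf (Rule.fwd [nat_lit 84, nat_lit 65, nat_lit 27, nat_lit 27] 7 1)) (.leaf (Rule.fwd [nat_lit 103, nat_lit 65, nat_lit 8, nat_lit 8] 6 3)))), (.node (nat_lit 1) (.leaf XRule.defn) (.leaf XRule.defn))⟩
noncomputable def ci65 : CI := ⟨[3], (nat_lit 46), false, (.node (nat_lit 4) (.node (nat_lit 2) (.node (nat_lit 1) (.leaf Rule.defn) (.leaf Rule.copy)) (.node (nat_lit 1) (.leaf (Rule.fwd [nat_lit 46] 18 0)) (.leaf (Rule.fwd [nat_lit 8, nat_lit 103, nat_lit 46, nat_lit 122] 12 4)))) (.node (nat_lit 2) (.node (nat_lit 1) (.leaf (Rule.fwd [nat_lit 27, nat_lit 27, nat_lit 46, nat_lit 84] 7 4)) (.leaf (Rule.fwd [nat_lit 8, nat_lit 46, nat_lit 27, nat_lit 122, nat_lit 65] 9 4))) (.node (nat_lit 1) (.leaf (Rule.fwd [nat_lit 27, nat_lit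 46, nat_lit 46, nat_lit 141, nat_lit 8] 8 1)) (.leaf (Rule.fwd [nat_lit 84, nat_lit 27, nat_lit 46, nat_lit 141] 13 3))))), (.node (nat_lit 1) (.leaf XRule.defn) (.leaf XRule.defn))⟩
noncomputable def ci84 : CI := ⟨[4], (nat_lit 103), true, (.node (nat_lit 4) (.node (nat_lit 2) (.node (nat_lit 1) (.leaf Rule.defn) (.leaf Rule.copy)) (.node (nat_lit 1) (.leaf (Rule.fwd [nat_lit 103] 18 0)) (.leaf (Rule.fwd [nat_lit 65, nat_lit 27, nat_lit 27, nat_lit 46] 7 0)))) (.node (nat_lit 2) (.node (nat_lit 1) (.leaf (Rule.fwd [nat_lit 84, nat_lit 84] 2 0)) (.leaf (Rule.fwd [nat_lit 8, nat_lit 141, nat_lit 46, nat_lit 8] 10 1))) (.node (nat_lit 1) (.leaf (Rule.fwd [nat_lit 141, nat_lit 160] 1 2)) (.leaf (Rule.fwd [nat_lit 27, nat_lit 46, nat_lit 141, nat_lit 65] 13 2))))), (.node (nat_lit 1) (.leaf XRule.defn) (.leaf XRule.ax))⟩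
noncomputable def ci103 : CI := ⟨[5], (nat_lit 84), true, (.node (nat_lit 4) (.node (nat_lit 2) (.node (nat_lit 1) (.leaf Rule.defn) (.leaf Rule.copy)) (.node (nat_lit 1) (.leaf (Rule.fwd [nat_lit 84] 18 0)) (.leaf (Rule.fwd [nat_lit 65, nat_lit 8, nat_lit 8, nat_lit 46] 6 4)))) (.node (nat_lit 2) (.node (nat_lit 1) (.leaf (Rule.fwd [nat_lit 46, nat_lit 122, nat_lit 65, nat_lit 8] 12 1)) (.leaf (Rule.fwd [nat_lit 103, nat_lit 103] 3 0))) (.node (nat_lit 1) (.leaf (Rule.fwd [nat_lit 160, nat_lit 122] 0 1)) (.leaf (Rule.fwd [nat_lit 27, nat_lit 65, nat_lit 122, nat_lit 27] 11 2))))), (.node (nat_lit 1) (.leaf XRule.defn) (.leaf XRule.ax))⟩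
noncomputable def ci122 : CI := ⟨[6], (nat_lit 141), true, (.node (nat_lit 4) (.node (nat_lit 2) (.node (nat_lit 1) (.leaf Rule.defn) (.leaf Rule.copy)) (.node (nat_lit 1) (.leaf (Rule.fwd [nat_lit 141] 18 0)) (.leaf (Rule.fwd [nat_lit 65, nat_lit 65, nat_lit 8, nat_lit 46, nat_lit 27] 9 0)))) (.node (nat_lit 2) (.node (nat_lit 1) (.leaf (Rule.fwd [nat_lit 160, nat_lit 141, nat_lit 8, nat_lit 8, nat_lit 8] 14 3)) (.leaf (Rule.fwd [nat_lit 103, nat_lit 160] 0 0))) (.node (nat_lit 1) (.leaf (Rule.fwd [nat_lit 65, nat_lit 8, nat_lit 103, nat_lit 46] 12 3)) (.leaf (Rule.fwd [nat_lit 122, nat_lit 122, nat_lit 122] 4 0))))), (.node (nat_lit 1) (.leaf XRule.defn) (.leaf XRule.ax))⟩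
noncomputable def ci141 : CI := ⟨[7], (nat_lit 122), true, (.node (nat_lit 8) (.node (nat_lit 4) (.node (nat_lit 2) (.node (nat_lit 1) (.leaf Rule.defn) (.leaf Rule.copy)) (.node (nat_lit 1) (.leaf (Rule.fwd [nat_lit 122] 18 0)) (.leaf (Rule.fwd [nat_lit 65, nat_lit 84, nat_lit 27, nat_lit 46] 13 4)))) (.node (nat_lit 2) (.node (nat_lit 1) (.leaf (Rule.fwd [nat_lit 8, nat_lit 65, nat_lit 27, nat_lit 46, nat_lit 46] 8 5)) (.leaf (Rule.fwd [nat_lit 160, nat_lit 84] 1 1))) (.node (nat_lit 1) (.leaf (Rule.fwd [nat_lit 8, nat_lit 8, nat_lit 8, nat_lit 122, nat_lit 160] 14 5)) (.leaf (Rule.fwd [nat_lit 141, nat_lit 141, nat_lit 141] 5 0))))) (.leaf (Rule.fwd [nat_lit 46, nat_lit 8, nat_lit 84, nat_lit 8] 10 3))), (.node (nat_lit 1) (.leaf XRule.defn) (.leaf XRule.ax))⟩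
noncomputable def ci160 : CI := ⟨[8], (nat_lit 160), true, (.node (nat_lit 4) (.node (nat_lit 2) (.node (nat_lit 1) (.leaf Rule.defn) (.leaf Rule.copy)) (.node (nat_lit 1) (.leaf (Rule.fwd [nat_lit 27, nat_lit 27, nat_lit 160, nat_lit 8, nat_lit 8] 16 2)) (.leaf (Rule.fwd [nat_lit 122, nat_lit 103] 0 2)))) (.node (nat_lit 2) (.node (nat_lit 1) (.leaf (Rule.fwd [nat_lit 160] 18 0)) (.leaf (Rule.fwd [nat_lit 84, nat_lit 141] 1 0))) (.node (nat_lit 1) (.leaf (Rule.fwd [nat_lit 141, nat_lit 8, nat_lit 8, nat_lit 8, nat_lit 122] 14 4)) (.leaf (Rule.fwd [nat_lit 8, nat_lit 8, nat_lit 160, nat_lit 27, nat_lit 27] 16 5))))), (.node (nat_lit 1) (.leaf XRule.defn) (.leaf XRule.ax))⟩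
noncomputable def outer : Tr CI := (.node (nat_lit 8) (.node (nat_lit 1) (.node (nat_lit 4) (.node (nat_lit 32) (.leaf ci0) (.leaf ci160)) (.leaf ci84)) (.node (nat_lit 2) (.leaf ci65) (.leaf ci103))) (.node (nat_lit 1) (.node (nat_lit 2) (.leaf ci8) (.node (nat_lit 4) (.leaf ci122) (.leaf ci46))) (.node (nat_lit 2) (.leaf ci141) (.leaf ci27))))
def cols : List ℕ := [nat_lit 8, nat_lit 27, nat_lit 46, nat_lit 65, nat_lit 84, nat_lit 103, nat_lit 122, nat_lit 141, nat_lit 160]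
def invL : List ℕ := [1, 0, 3, 2, 5, 4, 7, 6, 8]
def rels : List (List ℕ) := [[6, 5, 8], [4, 4, 4], [6, 6, 6, 6], [3, 0, 0, 2, 5], [0, 3, 1, 2, 2, 7], [0, 4, 0, 7, 2], [0, 5, 2, 6, 3], [0, 0, 0, 6, 8, 7], [0, 0, 8, 1, 1, 8]]
def subs : List (List ℕ) := [[4], [5], [6], [7], [8]]
noncomputable def row (n : ℕ) : ℕ := rowOf (fun h => rows.get h) (nat_lit 5) (nat_lit 31) (nat_lit 179) (nat_lit 0x7ffffffffffffffffffffffffffffffffffffffffffff) n
noncomputable def xleaf (h : ℕ) : ℕ := recs.get h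
noncomputable def mF : ℕ → ℕ := mainRow row (rowChk row xleaf outer (nat_lit 8) (nat_lit 255) (nat_lit 15) (nat_lit 12) (nat_lit 4095) (nat_lit 524287) (nat_lit 128) (nat_lit 30) (nat_lit 256) (nat_lit 8) (nat_lit 255) (nat_lit 16) (nat_lit 65535) (nat_lit 8) (nat_lit 255) cols)
noncomputable def xF : ℕ → ℕ → ℕ := xLeaf row xleaf outer (nat_lit 255) (nat_lit 12) (nat_lit 524287) (nat_lit 128) (nat_lit 30) (nat_lit 8) (nat_lit 255) (nat_lit 16) (nat_lit 65535) (nat_lit 65280) (nat_lit 8) (nat_lit 255) (nat_lit 10) (nat_lit 1023) (nat_lit 2) (nat_lit 3) (nat_lit 160) (nat_lit 7680) (nat_lit 128)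
noncomputable def cert : Cert := ⟨row, xleaf, outer, cols, nat_lit 8, nat_lit 255, nat_lit 15, nat_lit 12, nat_lit 4095, nat_lit 524287, nat_lit 128, nat_lit 30, nat_lit 256, nat_lit 8, nat_lit 255, nat_lit 16, nat_lit 65535, nat_lit 65280, nat_lit 8, nat_lit 255, nat_lit 10, nat_lit 1023, nat_lit 2, nat_lit 3, nat_lit 160, nat_lit 7680, nat_lit 128, nat_lit 19, nat_lit 128, nat_lit 1⟩
theorem tabok : tabOK (fun i => invL.getD i i) rels subs outer cols (nat_lit 8) (nat_lit 160) = true := by decide +kernel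
theorem m0 : rng mF (nat_lit 1) (nat_lit 30) = 0 := by decide +kernel
noncomputable def s0 : List ℕ := [nat_lit 0x401004000000000000000000000000000000000000000000000000000000000000000000000000000000000000000000000000000000000000000000000000000000000000000000000000000000000000000000000000000000000000000000000000000000000000000000000000000000000000000000000000000000000000000000000000000000000000000000000000000000000000000000000000]
theorem x0 : xs xF s0 (nat_lit 1) = 0 := by decide +kernel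
theorem mz0 : AllZ mF 1 (nat_lit 31) := (AllZ.step (AllZ.nil mF 1) (nat_lit 30) (nat_lit 31) rfl m0)
theorem xz0 : XZ xF (nat_lit 1) := (XZ.step (XZ.nil xF) s0 (nat_lit 1) (nat_lit 1) (by decide +kernel) x0)
/-- the certificate (30 points) is valid -/
theorem valid : cert.Valid (fun i => invL.getD i i) rels subs 9 :=
  ⟨by decide +kernel, tabok, by decide +kernel, mz0, xz0⟩
theorem cert_N : cert.N = 30 := rfl

end CL.TC.GPo73L4
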