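import Cfsg.Agent.Spor.TCSound

/-! coset enumeration certificate generated by tools/tc -/

set_option maxRecDepth 100000
set_option autoImplicit false
set_option linter.all false

namespace CL.TC.GPo73L6

noncomputable def rows0 : Tr ℕ := (.leaf (nat_lit 0xfe8097f6040))
noncomputable def recs0 : Tr ℕ := (.leaf (nat_lit 0x0))
noncomputable def rows : Tr ℕ := rows0
noncomputable def recs : Tr ℕ := recs0
noncomputable def ci0 : CI := ⟨[], (nat_lit 0), false, (.node (nat_lit 1) (.leaf Rule.defn) (.leaf Rule.copy)), (.leaf (XRule.rot (nat_lit 0) [] 0 0))⟩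
noncomputable def ci5 : CI := ⟨[0], (nat_lit 5), false, (.node (nat_lit 2) (.node (nat_lit 1) (.leaf Rule.defn) (.leaf Rule.copy)) (.leaf (Rule.fwd [nat_lit 5] 0 0))), (.node (nat_lit 1) (.leaf XRule.defn) (.leaf XRule.defn))⟩
noncomputable def outer : Tr CI := (.node (nat_lit 1) (.leaf ci0) (.leaf ci5))
def cols : List ℕ := [nat_lit 5]
def invL : List ℕ := [0]
def rels : List (List ℕ) := []
def subs : List (List ℕ) := []
noncomputable def row (n : ℕ) : ℕ := rowOf (fun h => rows.get h) (nat_lit 5) (nat_lit 31) (nat_lit 22) (nat_lit 0x3fffff) n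
noncomputable def xleaf (h : ℕ) : ℕ := recs.get h
noncomputable def mF : ℕ → ℕ := mainRow row (rowChk row xleaf outer (nat_lit 8) (nat_lit 255) (nat_lit 3) (nat_lit 10) (nat_lit 1023) (nat_lit 131071) (nat_lit 128) (nat_lit 2) (nat_lit 256) (nat_lit 5) (nat_lit 31) (nat_lit 13) (nat_lit 8191) (nat_lit 8) (nat_lit 255) cols)
noncomputable def xF : ℕ → ℕ → ℕ := xLeaf row xleaf outer (nat_lit 255) (nat_lit 10) (nat_lit 131071) (nat_lit 128) (nat_lit 2) (nat_lit 5) (nat_lit 31) (nat_lit 13) (nat_lit 8191) (nat_lit 8160) (nat_lit 8) (nat_lit 255) (nat_lit 10) (nat_lit 1023) (nat_lit 2) (nat_lit 3) (nat_lit 5) (nat_lit 64) (nat_lit 128)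
noncomputable def cert : Cert := ⟨row, xleaf, outer, cols, nat_lit 8, nat_lit 255, nat_lit 3, nat_lit 10, nat_lit 1023, nat_lit 131071, nat_lit 128, nat_lit 2, nat_lit 256, nat_lit 5, nat_lit 31, nat_lit 13, nat_lit 8191, nat_lit 8160, nat_lit 8, nat_lit 255, nat_lit 10, nat_lit 1023, nat_lit 2, nat_lit 3, nat_lit 5, nat_lit 64, nat_lit 128, nat_lit 17, nat_lit 128, nat_lit 1⟩
theorem tabok : tabOK (fun i => invL.getD i i) rels subs outer cols (nat_lit 5) (nat_lit 5) = true := by decide +kernel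
theorem m0 : rng mF (nat_lit 1) (nat_lit 2) = 0 := by decide +kernel
noncomputable def s0 : List ℕ := [nat_lit 0x0]
theorem x0 : xs xF s0 (nat_lit 1) = 0 := by decide +kernel
theorem mz0 : AllZ mF 1 (nat_lit 3) := (AllZ.step (AllZ.nil mF 1) (nat_lit 2) (nat_lit 3) rfl m0)
theorem xz0 : XZ xF (nat_lit 1) := (XZ.step (XZ.nil xF) s0 (nat_lit 1) (nat_lit 1) (by decide +kernel) x0)
/-- the certificate (2 points) is valid -/
theorem valid : cert.Valid (fun i => invL.getD i i) rels subs 1 :=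
  ⟨by decide +kernel, tabok, by decide +kernel, mz0, xz0⟩
theorem cert_N : cert.N = 2 := rfl

end CL.TC.GPo73L6
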