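/-
A presentation of Po73 (generated by tools/pc/gm.py).
-/
import Cfsg.Agent.Known.GPo73
import Cfsg.Agent.Known.GPo73L1
import Cfsg.Agent.Known.GPo73L2
import Cfsg.Agent.Known.GPo73L3
import Cfsg.Agent.Known.GPo73L4
import Cfsg.Agent.Known.GPo73L5
import Cfsg.Agent.Known.GPo73L6

set_option autoImplicit false
set_option maxRecDepth 100000
set_option linter.all false

namespace CL.Pc.GPo73
open Cfsg CL.Spor

noncomputable def rs0 : List (ℕ × ℕ) := [(0x555, 0), (0x15493, 0), (0x11451, 0), (0x4d34d3, 0), (0x123cd350, 0), (0x50f3ce40d, 0), (0xf50d44d, 0), (0x104cf48d, 0), (0x5154cd34d, 0), (0x54e39534d, 0), (0x38b24b2c9, 0), (0x1024b2ca28c, 0), (0x34b34b, 0), (0x449449, 0), (0x31030d249, 0), (0x1048950d309, 0), (0xe44f28f309, 0), (0xd4c94d1309, 0), (0x2cf24b3c9, 0), (0x4505513cd, 0), (0xb4d0314349, 0), (0x288208206, 0), (0x3071c51c5145, 0), (0x446449245, 0), (0x4134c7407, 0), (0x9249249,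 0), (0x1150f1cd245, 0), (0x1134524e245, 0), (0x94d14c73c5, 0), (0x95473d3485, 0), (0x49441048d, 0), (0x3cf3cf3cf, 0), (0x5143d43cd, 0), (0x4882111c7, 0), (0xb3ca4d3249, 0), (0x60430c1044, 0), (0x2020c20c2101, 0), (0x1549434f341542, 0), (0x3cf28c24620604c382, 0), (0x34f2471452050cc384, 0), (0x39030930a148206089441, 0), (0x5534533c93022151c1, 0), (0x1545328a1c714220a1c1, 0), (0x54e40d2c81451c20d5101, 0), (0x1334f3cb2862061c6091501, 0), (0x113cd2ca2c52081820c30c1, 0), (0x154cd3cb2c718620234a101, 0), (0x1035028b28c1c61c23d3101, 0), (0x1549439034d24c248094101, 0), (0x55040a1871c52020c2281, 0), (0x1140d3cf24c287183149201, 0), (0x1250e2ca1451c51c44c4281, 0), (0x1545441030930c1434c8281, 0), (0x114d151030a1c52060ce281, 0), (0x45338a28c2881861833c1041, 0), (0x4d035030a2c81451442c5041, 0), (0x1344e3ce2cb24c1861c510e383, 0), (0x3cd309307188148201102541, 0), (0x4ce3cf28a30a1c70874ca082, 0), (0x154d040c24b24520820428a181,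 0), (0x4534543cd3093051481860473c3, 0), (0x1250f34c28a1862080863c80c2, 0), (0x81, 0), (0x103, 0), (0x185, 0), (0x207, 0), (0x289, 0), (0x30b, 0), (0x38d, 0), (0x40f, 0), (0x491, 0), (0x513, 0)]
noncomputable def rs : List (ℕ × ℕ) := (rs0 ++ [])
noncomputable def p1 : PLev := ⟨4194302, [1, 2, 3, 4, 5, 6, 7, 8, 9, 10, 11, 12, 13, 14, 15, 16, 17, 18, 19, 20, 21], TC.GPo73L1.invL, TC.GPo73L1.rels, TC.GPo73L1.subs, [5, 6, 7, 8, 9, 10, 11, 12, 13, 14, 15, 16, 17, 18, 19, 20, 21], 351⟩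
noncomputable def p2 : PLev := ⟨4194272, [5, 6, 7, 8, 9, 10, 11, 12, 13, 14, 15, 16, 17, 18, 19, 20, 21], TC.GPo73L2.invL, TC.GPo73L2.rels, TC.GPo73L2.subs, [9, 10, 11, 12, 13, 14, 15, 16, 17, 18, 19, 20, 21], 224⟩
noncomputable def p3 : PLev := ⟨4193792, [9, 10, 11, 12, 13, 14, 15, 16, 17, 18, 19, 20, 21], TC.GPo73L3.invL, TC.GPo73L3.rels, TC.GPo73L3.subs, [13, 14, 15, 16, 17, 18, 19, 20, 21], 81⟩
noncomputable def p4 : PLev := ⟨4186112, [13, 14, 15, 16, 17, 18, 19, 20, 21], TC.GPo73L4.invL, TC.GPo73L4.rels, TC.GPo73L4.subs, [17, 18, 19, 20, 21], 30⟩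
noncomputable def p5 : PLev := ⟨4063232, [17, 18, 19, 20, 21], TC.GPo73L5.invL, TC.GPo73L5.rels, TC.GPo73L5.subs, [21], 12⟩
noncomputable def p6 : PLev := ⟨2097152, [21], TC.GPo73L6.invL, TC.GPo73L6.rels, TC.GPo73L6.subs, [], 2⟩
theorem rs0_ok : allL (fun p : ℕ × ℕ => eqB A 21 19 [0, 3, 27, 1, 5, 9] p.1 p.2) rs0 = true := by decide +kernel
theorem rs_ok : ∀ p ∈ rs, (fun p : ℕ × ℕ => eqB A 21 19 [0, 3, 27, 1, 5, 9] p.1 p.2) p = true :=
  allL_app rs0_ok (allL_end)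
theorem p1_ok : p1.Valid := ⟨_, TC.GPo73L1.valid, TC.GPo73L1.cert_N.le⟩
theorem p2_ok : p2.Valid := ⟨_, TC.GPo73L2.valid, TC.GPo73L2.cert_N.le⟩
theorem p3_ok : p3.Valid := ⟨_, TC.GPo73L3.valid, TC.GPo73L3.cert_N.le⟩
theorem p4_ok : p4.Valid := ⟨_, TC.GPo73L4.valid, TC.GPo73L4.cert_N.le⟩
theorem p5_ok : p5.Valid := ⟨_, TC.GPo73L5.valid, TC.GPo73L5.cert_N.le⟩
theorem p6_ok : p6.Valid := ⟨_, TC.GPo73L6.valid, TC.GPo73L6.cert_N.le⟩
universe u
theorem pres : PresBound.{u} rs 21 4585351680 :=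
  presBound_of (f := 2) (defs := []) (vs := [p1, p2, p3, p4, p5, p6]) (valid_cons p1_ok (valid_cons p2_ok (valid_cons p3_ok (valid_cons p4_ok (valid_cons p5_ok (valid_cons p6_ok (valid_nil))))))) (by decide +kernel)

end CL.Pc.GPo73
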