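import Cfsg.Agent.Spor.TCSound

/-! coset enumeration certificate generated by tools/tc -/

set_option maxRecDepth 100000
set_option autoImplicit false
set_option linter.all false

namespace CL.TC.GPo8p2L1

noncomputable def rows0 : Tr ℕ := (.node (nat_lit 2) (.node (nat_lit 1) (.leaf (nat_lit 0x821ab448caa0ace10432a811b85b0d5a0d4d508e706c1acc4c513f86e10832887195433c93fc208f8321841b2c30ca1746a6cc44cb871bb419b538bc368681b6b629b5b6adebc368fe1b7b60d7d9e4bcdca1c901aac68d324087920b5869e29ff0dbbf86db5d555ff0824a0d97f86d95c31c6631f17659ccb4643ca119e508d9a6d2cd2e8659f1b3cf95626063d3331e9d5b1cc4187f86d6d235ffe1b57f0da7fc2094232afe1b43211528c682ec365394eb9629c6c72c962a8433ff0d9eac69ffc366ae7a64b8cf3f86cb2e64f661b07f0d93f86c7fc362947937f0d86ae098b6b1cff082570c468c6bc33fe1b034c16ff86bf4e35efe1af559527f86bb506536a42ab68c7d84692ded58fe1ae7f0d6ff86b5fc359a918e553873fc208b431dab19b57c87c91e0811ef18d7f840fbc61df0306f31877690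3bb0c97d6310ea2a5eb281f80675c0310e018c6c906318e61a860ecd197dc106edc637fc358c119fe63c501de0a1bf1408fa0c0fd0613e8711ed18d77186bb4613fe103da31dee8c5b89017be310bc38aea1c2f3d4359c31a602254e0d17f86af7034282eca863a9677c450be241d71242f90697ca33ae2185ff840fa0e1fba30ad939bf11c377c62f84945d1187dba0f75461784419c118cff0d5b0c6311ad818ced342f50677ac316da425ecb4ef60a31ae318df1a5ed0c5b68c23fe103e150ded0c3ef9485b031bcd18c671862a106ace52fc458cff0d55b7b0d38db19c7024db5d28fae347d371b680cfb6068fba30ad81857f840f7861dc0919e019d5e8cc77481b0834dcc2a52e205d6c62ffc354fe1a9bc36ce75b4c16d738c6d8c2f74675bab0fdb4036ea0ef6ce31b630ede48d700c2bfc207ba603be199ea912ef8c85a43385d198b30ccee467566b3a63629ccf0d25b8682dc7197e6bcbf1466780333c0296e18ccf0c65b60351be522e03ccd846579263bbb18d648cfffc2076e4306151c7f0d4ae4a225ddd58567182b4187f98b3ee019fe70cfb3068f9a43fd2323ea2d1f3061fa4307d019b680c32f0869a0437ff081e814458068544446c6404dc24bce566e46b319ed88c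f6c0ea366946b19a8d7ad46c468d66c40b38a3308cae1469b60651b33a359952ec4615fc351b119bdd0c4bfc207fc350bc1a08ced06851034d861a6db28cad86856c832b61995b210ae165b6c342b6182d90cf6d06656c342b6206db0c0eda0836c30fff081dd904ed0643e830524778c6fccc1dfe102f018d798c6bd860ddc303ee286750cefa0c77be309d918c6fb11f68e879633fbc1a1678c532c67ecc31167508dc0c56bde3b98f13887a2443d8a0de4309f4181ff840ac8c59ce73aea20776146f61287bc338e058d70906f4861d9434ac5719e30cc2192210a310ada27ff0d3eb3e240fe9287f60c33a8e97b8316e441d730c37fc205ce319e2185ea2cdb35229b6718e5185e910670d66b6ec12d21a356903eb061fea308c361acbfc0635e4311f028dfa8c0bd0a37e4709ff081760c6f70e2dd2310df38be90cfac8659be30ac2197e998417d257a631b6018730903b50c73fc34ea2729037a0e1bca30de6306f38c37a101bd434be7407f68c1bfc205a4b3ee3204f198e784633b8317b51897090378061b5443dfe1a6d75133f869905eb206750d2ff8697da60fed31df10c2fb4623da503ff0815930b3b0a759683fd148a690cfb4488798345fe1a5689ce994818c830cfe1a4f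f0d2235c233bd918c6e145b84633c680ce118cf1946780613c660fe3184ff0d1ffc205cc40fe118d698c6bf868dac519fe1a2c00c2e0521780330fe1a236f706299a314d05a1e9241f51a0ffc343d731bea0c1f64a2fbc917e140b6f18678121dfe102b2389d70cb31460b86335b2285588c2b1520d6633458fb1427c460de6510f1183788c3bd4c35c270bb271672142fb8835c430de0288ff840b34e7fa4303c1198e820fb1d480f842eaa320e08cbf14628c6bf81ade8cd6f1e6378340bd198dd4102d067b76331b719edb34f6f465dfc342fe1a0dd0cc6fc67dfe102fe1a05fb0c6a466d68334b21967b103d0f9c93ecf59fe88c2bf867f9e33ed31856a9c2b4c671aa338d239c69945354637fc33ed719dff840afc66590b2f61395ae8c1d78e0ffc33dfe19e273c4e0de4a09f2384fa8c43dc823f241bfe19ded0c5bf8675dc40ded2017f0ce7f8671fc337fe19b68a0bff866bfe102b4203598c1bf86698830a2ee08cb714c678ca2ffe199e18cb71865f7e32fba1995fa0cbf8665fc331b72097f0cc3f865ffc32efe196ff840b18c15fc32cfe195fa904bf865472f33027b1013f8653ea428ac893c3c497f8651fc327ab7137f0c9bf864bfc324fe191ff0c8bf8643fc320fe18fff0c7bf863bfc31cff081698c0c3dde302f1401fa986bf8637ea302f5388760c33bc823fc31afe18cff0c63f862fb8316fe18b5ba44b4c813fc315fe18a7f0c4ff8625a8a04ff080827c1007e4502f62077f0c47f8621ec503fe187ff0c3bf861bfc30cfe185f60c1bf8615fc309fe1847f0c1ff860dfc305b018158980bfc203fc3040f7b0807dc403ee301f8100fc0c07e4403f2301fa100fd0c07ec403f6301fc100fe0c07f4403fa301fe100ff0c07fc40376301bc200ff0c0ff860400))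 (.leaf (nat_lit 0x61195df8cc2f521176330b9184308caef08617434ac4418590c4f04a6b64b51c17255fa8caed28310c4dc6184ff842180c5ab634ba582f318cacbbb6343ce183ff841f3c6299c943e150a660c534948798337d05a1e50c333866d98309b2896620cc330c2398811ca48ab910fdc467f84b1b74339e633460fa6f43cb18a668d0f3ce29a0f07d5321e8a45f4c687a2a39d3287688c374d019fe107cf19c602c22f06639e309b021f578cf99463f8c33658db0cbad24276b24ab2709daa8bad46956a64ab53845a8c22e201166812b6198db0d0ad46956833db531edbc91ed8632ba94da9186d5459ffc20e09981bc510c79c0ab54501e704ad5e0de2946c6e125a971b2cc44763c63f264629b1aac94556446cb14327a6a143711697864742355ff083bc15d03dc490be918cf28ceb54e31b0318ec1866e0c5bfc20dce311eb288ec952f64635b0a07d731b670ce72062ba2338d419cd790eeb8676d3660b7198cbf6862dca73ae118cf318ef8c61fbc916e6188731466c9a59fe106e130df58c3384c2fc234bae1a8e88d1f406190c34db719d5c10eac862d74a1682e98cdb5468faa747d751c698cdb4c671c2638d419b680cfb8906dfe106d81a1ec352f8861b7e74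6cf29dea94eee8684c09395f19cbf45d34c61cf0d718bee385f58673c0937d471cee8cdf5100fc0339d1183eb2c1f7d021ae347d61a1ff841b10665a063ed348b6910ed8062ac4430971916a8d2563b6347da19b6f8ce358a6dbca38d41a3e78cdb58615a4336cd39fec0c66c9e59fe106e02a3e78c52c92a364413d41a5ba8cddd886f2644db719031b51c73b6a37d519bef8c5f4862fa8739d541ce82cdf84673a6737cf29fe98c3f58677a2614c13a57f841b3068d7c341ae39a551c231d07d5901c43df0c22fa01188a3061195b08caf106617832e61195e10d2b09a957a346c01a0308caef925d8430fc2521e2242bfc20d6042fa718c610c3ed1e585dbd197e0a0befc6677e32dbf199df8cb61869b7e73388926c31d36f0e837ae46be1975f8ccefc68f76314bd19a5f18d2d48115a336b49057f84181388315c4182ff841701a698d015c071a5f0cd30562b78341c470ac419358125781134bf18ad890b2fd22d7ef2dc41883390596886373043671ade6301e8b7ad45b51895e3106d462572341bb482db944bfc20b7c305c0696e00cc2f86816ae12c0383e298e2f06657ab32605a8c30d0e7ec47333228d610cc18c856c272bbb1845c8cc2fa21178a08bd5185d8cbaf46616e53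dff082ddc022f966184809be50bdf0c22f507cb23335e30b5c34ed828d0dbc3598e04102f1c8186335c561add34c6f066376340be498e18d03058658634abd198ff8417146378a93fc7608628d0d846716c3156c8ace0a02d637d134c019a6428571460b8ef05cc18adcad0700c0b94345d06a2df0d0af865bfe105be620e80c1b0d81d9c71bc7183b30c62bc66b6e314c2384b1ade67b7b146b27a8dd0d1abc6a36833dbb1a35eb0d6fc68d78f31bc1a55f3022f466b7ed34bf196ff841705a975e3516b220bd8c26d1e5b4e66343e138170862b81134c218ae038d31200b7e315bf2a2e22056dc6257eb2fbf199600d16c9ea3fe105c0697620d0ef8666bc34b5f1a07f0de2cc65c9cb09165910b2be4595c32cb1696580cb2c461362310b1186588ceac466f6234bb119fd9c03abc81560333b019658b4b160657fe105b319ad9982066c4e4062198b144d580662c494062b9ab110d5806a2c0c51628a8af8ccd8a226c5c1562f1ab00cad85e56c03075e1877f841564a58c9140641b5121b06b31492083a9048cdba328dcd83599b1b94d9486426551e32aaa791420ca66464910d208d635af0da28a63d4f155b1315580cabfc20b611210f7998a7cc651e6328ff08255395ea869dbc34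e85192c28c89fac4b0a52a7c239418d39f86e0ee357791a93f2d99ec64ab4558671b032d9d5b26c983f52147a14a7d0609e8529aa4a855489aa08affe1047b339bf8d3a15c410714ea8a2241e1d604c46f897187590528cf174850b832868438bad5ae5f0e325f2393d31c9b78c9d0ae25ab1827f8411f56e7503507e4b9aa8db1486d906356768abc5b4f1b52bcba468812b8548c9ea884f5a351ab1a8d129c6a14e64ea71abd28c9ea46514e357851bbc3c9d3fc20954304861a4480c8a186e0f83779318ebe0dbe8c64d48f265d1932f209a9468cd46568d44509e1a64b0c350861abc30c121064f0cd29fe1bbbe8ca642a4502375ff0823de549f4ee8d49648d1b0be24a5a56dac4463601adb1452988694db577b6441c923d2d512644891baaba9b224690d8e59864a445d9bbfc20908975851904d58a9b0692c635d811b943ad3d90648ca424fe1bb330d71e1344239e1a44f11d68a2911036a9e1b9500d13f86eb36356a2190b80d4a0464310f57ff08234b9c600650f835470a322e8d557ca794064b9e1992c5c46a9304547daba3dadce006e7fc374fe1b9c10d5e3c64b0c72991693548cabfc209375567e1b6cd8d9e206c4d955b962114a8c8a6066530638634dc913f86e4a836c882b54e2522064d53432a991a451bc8e196e104623828b83e8d4210690faa20ff0827f0dc5f06c764321b3290d78caad482487)))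 (.node (nat_lit 1) (.leaf (nat_lit 0xff08e350d798d6ecd455b691a4b6416d788d14634967a29b515bd9da3ad4c69651b6b50d958c6bed63776d1a7b30d21a0852ceb586ab27340cef84be376678afb50d6ffc238da56463a3b55b125b4a3ecc349651aeb48d55ac6ccd461e681b4b42965916c0d17636b1b52d9541508c4c8969541b660da86b6d7460a8a0e31d9da9a0a7fe11c6618faf0da1ac6c8d8d646c636b50d719c6a6ce34f6c193b69de1b22d2dc658a21b3ad99ba92a3b48340acb249bd9acdebc368661b6b20db5786d0d036dff08e331d7d9ac92ca362621b6b11d85a1cdec8524641b2330d39906acbe3665f5b9316191928c52f6962e353571a869eda34c6da30b50d89b4698ce3616d1b3b50d9dacabcd8f4c6c1ad7f8471806ecd50706d1ba36a1d5808c8c445767b92328dd962d735e6818e348d81accbed63606b829b6b9bdac6aada96f6363b368d69792d1fe11c6363b358d41a4698d63226d5b3b09095906c6d1633661b9319bc6ccde3666f8b2b78cf1c6ccade33c6f19e378d8dbeab0de3636f935b7196dbc6ccdac5c6f6bbff8471b4678de3656d1b7b411d1846cd5646643b6b0a9b62acdb5566dab836a8a9b58e0d63246b8b936a911b5840daa446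d7b5368dc9b4aa1fe11c671afb6c55d708d0d2376671b0b5c58dac6609c9c18ed50d9e48ac350363c31a7d28d8e7863d3844fab5a6370d69b863920f6b901bc478c7dd86deee3726d1af3f4dcd986c0b23299a1b57f846c135294eb8428439c96a104d51226a9194c1a08a9c650ea352852bbc14959e86eeea32787191be2149e185302b706c1acb08d71786c904344ff08d0260da40d8359801b7360d66de2411ed6e501b6438db9546d939023771a8408d5e6864509927884a45f0d3994abb087785e1b5ad0da5a464dfe11904b519b5810d0ec96f5e734368dbda86dad875b6a1b7c8a87da4639590656a62fc88cf272679503678c537530caab463f4463c5e491ff8462046a01e723114b8c89c86eef14527aabbd98d49ecaa4e0b507d1a73ec541ed49cf23527d4243cd9c9c069ebe3769d1a23ec88d8c63cba368b91a2ff845c12d2953a5324b30d92a5e92d435ba51af538c71a86c8ce36d661b0330d91846cad031f6872f2f0da1906e8c23766c33a2d1d3179241fe117d5325879d06e6fc374771aa3c0dd2d22a900b737d4a83d0d51e46eeec6577a9aa38948ddc6e8f43257a294bd8d5de06c8fe344c02295f8d49d06e7fe11504d7992ac12955e313b1197580c4ec165cc242ba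e189b08cad7c65762340b158ad88cb6bc62762337af59d5820bbfc226b83435f19956289eb944e5da84935b8d5ea4a9d0ee25b11a7548ca1bc6a8f83527c1aa54949df06eef0a566c1acbf1085b1ed2d915b8b1bc56bd39a88c4b435f82b2aff844c133894fa71a6560d31ad2b95911dc42ac4d8d62506c533066931b147ad865863ad095e971bc44b199c4aa90c3246e3b0550d2578c9dfe110ac18807aa06af4c326dd193d40d42ae05364550855ba6fb4a602850fd454821943d0d51f86d508629bf5ab3f0d22b06a0cf65d5d1a7b11127fc21cd23600f438d06250250e34587289438d061c68b0e3458721a428cd21c6690c71387199c38d1a1c68b0e340871a0c3b8ea14a2ffe10d5c19eb2c5b64866e489d42654193db96b95b04faa9b1d40d9eb463adce5c9c1bc550d61ac6b91c61f961b2cec99da9ab6f636aaa18eab8db194640b2353ff086d68c343dd264beb386748c3ffc219ca719d918c758c6faca1bd231be050c5928b360677c453ad719cea0c5ac8627aa437c01972e15017c85ba83539f191e0eb86a35e351d15235a0cf6d9e7bb0346bb3a05a0cf70466b86d35c46185eb4bada67b80340cb308600cdb2c62ffe10c5f1a2af8c698dc4ac23252eb32926906a7503536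d1b2550c71aaec148460aa1afb28d759f0bec6a766240e34ed9d93adaccd616d612310dcd806d2c234eab227eb1ce3fc218099a4244f908e8464734d75b18a24d8c8668843147248a1b7428c91ec6e90ec2685b10be0d51fd89d0e356676b03c9dcac069162448ff08659b9143db8c37d629ceb0c5f50673aab37d860bec985f35629a6314d118a6c28e3fc217be337de188e914eb0186988845b619ed8111ebc68f2d165b11a336ec86277832ebb817680d2b6589564313b2209de20bac862780d2ebc19a5f30d6c862710d4dff085df0ce74ce1f9a836a118a2e8d0aca68f4c6264e5f8ccaf06657cd42886a6c43936f06857c32d88226e78cbf2da5f7a315bc1a0c445370525b9a60cc118cff842f0c68f3a41a60225590d22e9aa8729a190c18daa206493c8729d939580d223c6dd42d2388190360d65f90e6d8359579b6538ca1dcce6ee375807294f4151a0688d2444ff085c1d15c3db883fd219f6734fb3c615fe10acd19fe88cff5067d9e33fd461f6ca8e75c621b2311d741c608cd7406198cd30c5596c390c9752a369172b8199dbad642576341bc820de8d16f5e8b6f212b51895b8d06dd82576341ff0845facbede4256eb3dbd388de8c62ee2737a3165e32330ac52e5834e837778443936f228576332bb1a15d20ca21c9b70b42b8197de290af58677ae45bb19a5e8cbffc2111044dba1a05fc0dad4625523096a1975e944e9183cb1))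 (.leaf (nat_lit 0x9931e4b0d96646cd2a365bd89e4d8d9a406c32eb6695730ce91323e2cd1a66798a27c8dd61b06bcae76c831ab461541988e2b836d7683bff84b412f0374771b9bd8dcdccea8fa374791aa7f849618a4d083577a4293d995df54a0fb8267f1b5363981b86b4aed6c7b1b0b491dda06eeeb142751bc511824bec2b76621af310d81886bec4364621b2310db5886b6c436d5e1b4310d25886b6c9066603aa309971886eac4d535d1b0b5116598eb9fe12404cc99d66d6eb323489d191abbdb229049fe123551b64d8dca764e50632482292c10ca2108dcf0c447e1b9b60d718e4ecc43756323ab3e5c190653447993bbfa549e50a4f8322ff0913f55de1864d0834e7b2ba3d0dd2096dcf86487c192bc694994ca6eeb636b1a9b751719c6b4e646f7719e3e8ce6dceb252784bbbd0c89f0ceefe35281a113e0c9ffc244fa3277a1943d0da9f4688ff76e556b63f91d5d8688fa35863a24b411cd9c6e6e633f75a294be20cd5fe1219d1a22a8db27e247383446a1acce40aa706eb385757b194c191b9e06a8ddb597832c3f8d89e0691052245e1aeae8d999ecb766343d6b311c5e8ce2d0f71671b8bdb1c5e86e2ce37168638b3ddc5986e2ce37168638bd69c5e46e2f632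868191bd9dabfc242c636d651bc328db99c6505d813b7411db9b06b3023206c1acc13c820c640feb6a85190c28daa04643fe1207f294c3ac99a46b90436680193c00d5d714e0b63706a630b30dd5b6c635d651aeb60c7dd46abfe11f6eb2ab5ad55b06b6d23606c1adb50da5ec6c6ce35d7b4323e9099dd2b0f436f7b637b90dd1b88b4c036b741b0dba006e1023709019540b95a386ad1632a885ab4819122864916548821b9408dd20c6eafc3738b1aaff847dae2db123665a1af320d9dcdec4cd67143b48d55a6a3eceb5d6b18fb59555970bac66766942eb1b5d9a2ea6c6e5d6b1af318d25996c1fe11f7f691340c95a86dcba67864238b38c819069a9c561922ba1b1592e4ab721561922b0dd558ceaa2e56561b52b45594d04ead127541b9ab0d11586f0ac36558c262b0ddffc23eac36555dafac0da4911926b8e4b5c68dae392d71c36b8fa35ca99ae506d71d06b8d1b5c78d61b86b51f562ff08f448d8e30655183678a1b12f0da57c8ace832861337ac61c6e50944487190c70c9200643127237e1b8410c8219ee0aed6c6c1acbd99ce01eeefe64e7c2267f8479b14bef43716c235358da9974573645843b145a5a0cd2ccd69651b4b4b1a5a06d2c6369644b4b3d9a5986d2d236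06b637b4c17d786d1fe11e6b1a830b525ac6bcb68565f235ace9b18c6be9c5f70faf8d55746aabed5d5f4aeafdc7d7c8bcba3605d1b42f45a1746b6bf1765fe34ae45897ca54bef535b1acae0c9d790a9fe11e5f198b0dd9c673c463ab32c538c764d0c35314cff08eca8d9680c3cd765c6e62e460de2586c93834c681a4ce288aa5caad835b8d335b291ba8ccbcc0368a919ed65c12b4e065aa298f4d21e270ef13431e961bc7f84764a4c53034f6c8afc70de18c6ece195a83638440d3e296dcfa3295e2b9301176a86b4c495a97ca8c7a5d6f12c8786e1ad4b0c79c06b52836296433ff847662878c4e53ab1aab5e5825e898aee6c9231e38116a15a40ae46c9540fbbc47a5468f1a6253234ad91b9892cf653636bb360d7dacea6c6e766b1af36597a5e2cecf1537a1b7ff847594abad23256f191bcad497d2aebe35c6b194b08d75633a367a830ed49562524c54d258a91a6382d6a99e78e045a961b0be35be7063dfe11d96330bb0dd2298d6fa821671afb2916d8464b4c32e6a1acb1a408c326562931b1ca8c75aeeb926361956a7cac5965229f223669219e3345756c6d11c36b806397f84762d8d712822531afb48d418c6bae436e43c78d8a454c324367911ac4a2189b06b8d0f5c9143c4ba58e506f12e31e8e1a7ca8d8d846bb1c725651a4be59dffc23ad08595e5bb3addbda46e05d))))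
noncomputable def recs0 : Tr ℕ := (.leaf (nat_lit 0x1e100f08075a03ad01cc00e0c06dc035901a200cbc06340305017800b6c058c02b1014e00a1c04e4025d))
noncomputable def rows : Tr ℕ := rows0
noncomputable def recs : Tr ℕ := recs0
noncomputable def ci0 : CI := ⟨[], (nat_lit 0), false, (.node (nat_lit 1) (.leaf Rule.defn) (.leaf Rule.copy)), (.leaf (XRule.rot (nat_lit 0) [] 92 0))⟩
noncomputable def ci9 : CI := ⟨[0], (nat_lit 30), false, (.node (nat_lit 16) (.node (nat_lit 8) (.node (nat_lit 4) (.node (nat_lit 2) (.node (nat_lit 1) (.leaf Rule.defn) (.leaf Rule.copy)) (.node (nat_lit 1) (.leaf (Rule.fwd [nat_lit 30] 92 0)) (.leaf (Rule.fwd [nat_lit 303, nat_lit 30, nat_lit 114, nat_lit 282, nat_lit 408, nat_lit 345, nat_lit 9, nat_lit 156] 80 2)))) (.node (nat_lit 2) (.node (nat_lit 1) (.leaf (Rule.fwd [nat_lit 408, nat_lit 324, nat_lit 30, nat_lit 177, nat_lit 177, nat_lit 177, nat_lit 261, nat_lit 261, nat_lit 366, nat_lit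 429] 78 0)) (.leaf (Rule.fwd [nat_lit 429, nat_lit 30, nat_lit 30, nat_lit 429, nat_lit 9] 70 1))) (.node (nat_lit 1) (.leaf (Rule.fwd [nat_lit 156, nat_lit 9, nat_lit 303, nat_lit 30, nat_lit 114, nat_lit 282, nat_lit 408, nat_lit 345] 80 0)) (.leaf (Rule.fwd [nat_lit 345, nat_lit 9, nat_lit 429, nat_lit 408, nat_lit 198, nat_lit 240, nat_lit 198, nat_lit 114, nat_lit 156, nat_lit 114, nat_lit 135] 85 3))))) (.node (nat_lit 4) (.node (nat_lit 2) (.node (nat_lit 1) (.leaf (Rule.fwd [nat_lit 303, nat_lit 387, nat_lit 30, nat_lit 429, nat_lit 345, nat_lit 282, nat_lit 282, nat_lit 198, nat_lit 198, nat_lit 198] 79 4)) (.leaf (Rule.fwd [nat_lit 324, nat_lit 30, nat_lit 135, nat_lit 30, nat_lit 366, nat_lit 387, nat_lit 261, nat_lit 93] 81 5))) (.node (nat_lit 1) (.leaf (Rule.fwd [nat_lit 387, nat_lit 303, nat_lit 30, nat_lit 30, nat_lit 240, nat_lit 240, nat_lit 198, nat_lit 408, nat_lit 450, nat_lit 9] 82 1))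 (.leaf (Rule.fwd [nat_lit 114, nat_lit 366, nat_lit 408, nat_lit 30, nat_lit 114, nat_lit 114, nat_lit 240, nat_lit 282, nat_lit 303, nat_lit 387, nat_lit 345] 86 0)))) (.node (nat_lit 2) (.node (nat_lit 1) (.leaf (Rule.fwd [nat_lit 9, nat_lit 387, nat_lit 303, nat_lit 30, nat_lit 30, nat_lit 240, nat_lit 240, nat_lit 198, nat_lit 408, nat_lit 450] 82 0)) (.leaf (Rule.fwd [nat_lit 324, nat_lit 408, nat_lit 30, nat_lit 30, nat_lit 450, nat_lit 387, nat_lit 177, nat_lit 219, nat_lit 219, nat_lit 9] 83 5))) (.node (nat_lit 1) (.leaf (Rule.fwd [nat_lit 51, nat_lit 30, nat_lit 72, nat_lit 9, nat_lit 9, nat_lit 114, nat_lit 30, nat_lit 72, nat_lit 9, nat_lit 9] 66 4)) (.leaf (Rule.fwd [nat_lit 72, nat_lit 30, nat_lit 30, nat_lit 30, nat_lit 51, nat_lit 9, nat_lit 93, nat_lit 30, nat_lit 30, nat_lit 51] 67 7)))))) (.node (nat_lit 4) (.node (nat_lit 2) (.node (nat_lit 1) (.leaf (Rule.fwd [nat_lit 72, nat_lit 9, nat_lit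 72, nat_lit 9, nat_lit 9, nat_lit 156, nat_lit 30, nat_lit 51, nat_lit 9, nat_lit 72] 68 4)) (.leaf (Rule.fwd [nat_lit 93, nat_lit 30, nat_lit 30, nat_lit 51, nat_lit 9, nat_lit 72, nat_lit 30, nat_lit 30, nat_lit 30, nat_lit 51] 67 1))) (.node (nat_lit 1) (.leaf (Rule.fwd [nat_lit 177, nat_lit 261, nat_lit 303, nat_lit 261, nat_lit 366, nat_lit 450, nat_lit 429, nat_lit 9, nat_lit 177, nat_lit 345, nat_lit 261] 90 4)) (.leaf (Rule.fwd [nat_lit 9, nat_lit 429, nat_lit 30, nat_lit 30, nat_lit 429] 70 0)))) (.node (nat_lit 2) (.node (nat_lit 1) (.leaf (Rule.fwd [nat_lit 177, nat_lit 345, nat_lit 261, nat_lit 9, nat_lit 177, nat_lit 261, nat_lit 303, nat_lit 261, nat_lit 366, nat_lit 450, nat_lit 429] 90 0)) (.leaf (Rule.fwd [nat_lit 429, nat_lit 408, nat_lit 198, nat_lit 240, nat_lit 198, nat_lit 114, nat_lit 156, nat_lit 114, nat_lit 135, nat_lit 9, nat_lit 345] 85 1))) (.leaf (Rule.fwd [nat_lit 114, nat_lit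 135, nat_lit 261, nat_lit 261, nat_lit 450, nat_lit 9, nat_lit 93, nat_lit 30, nat_lit 72] 76 4))))), (.node (nat_lit 1) (.leaf XRule.defn) (.leaf XRule.defn))⟩
noncomputable def ci30 : CI := ⟨[1], (nat_lit 9), false, (.node (nat_lit 16) (.node (nat_lit 8) (.node (nat_lit 4) (.node (nat_lit 2) (.node (nat_lit 1) (.leaf Rule.defn) (.leaf Rule.copy)) (.node (nat_lit 1) (.leaf (Rule.fwd [nat_lit 9] 92 0)) (.leaf (Rule.fwd [nat_lit 72, nat_lit 9, nat_lit 114, nat_lit 135, nat_lit 261, nat_lit 261, nat_lit 450, nat_lit 9, nat_lit 93] 76 2)))) (.node (nat_lit 2) (.node (nat_lit 1) (.leaf (Rule.fwd [nat_lit 51, nat_lit 9, nat_lit 114, nat_lit 30, nat_lit 450, nat_lit 282, nat_lit 282, nat_lit 156, nat_lit 93] 77 5)) (.leaf (Rule.fwd [nat_lit 114, nat_lit 282, nat_lit 408, nat_lit 345, nat_lit 9, nat_lit 156, nat_lit 9, nat_lit 303] 80 4))) (.node (nat_lit 1) (.leaf (Rule.fwd [nat_lit 450, nat_lit 387, nat_lit 177,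 nat_lit 219, nat_lit 219, nat_lit 9, nat_lit 9, nat_lit 324, nat_lit 408, nat_lit 30] 83 1)) (.leaf (Rule.fwd [nat_lit 156, nat_lit 93, nat_lit 135, nat_lit 93, nat_lit 177, nat_lit 219, nat_lit 177, nat_lit 387, nat_lit 429, nat_lit 30, nat_lit 366] 84 2))))) (.node (nat_lit 4) (.node (nat_lit 2) (.node (nat_lit 1) (.leaf (Rule.fwd [nat_lit 387, nat_lit 366, nat_lit 93, nat_lit 30, nat_lit 261, nat_lit 261, nat_lit 177, nat_lit 219] 73 5)) (.leaf (Rule.fwd [nat_lit 30, nat_lit 450, nat_lit 387, nat_lit 177, nat_lit 219, nat_lit 219, nat_lit 9, nat_lit 9, nat_lit 324, nat_lit 408] 83 2))) (.node (nat_lit 1) (.leaf (Rule.fwd [nat_lit 408, nat_lit 261, nat_lit 9, nat_lit 114, nat_lit 240, nat_lit 177, nat_lit 261, nat_lit 387, nat_lit 450] 74 0)) (.leaf (Rule.fwd [nat_lit 261, nat_lit 261, nat_lit 177, nat_lit 219, nat_lit 30, nat_lit 387, nat_lit 366, nat_lit 93] 73 1)))) (.node (nat_lit 2) (.node (nat_lit 1)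 (.leaf (Rule.fwd [nat_lit 429, nat_lit 450, nat_lit 345, nat_lit 282, nat_lit 324, nat_lit 282, nat_lit 198, nat_lit 30, nat_lit 282, nat_lit 366, nat_lit 198] 91 1)) (.leaf (Rule.fwd [nat_lit 366, nat_lit 387, nat_lit 261, nat_lit 93, nat_lit 9, nat_lit 324, nat_lit 30, nat_lit 135] 81 1))) (.node (nat_lit 1) (.leaf (Rule.fwd [nat_lit 261, nat_lit 303, nat_lit 261, nat_lit 408, nat_lit 366, nat_lit 9, nat_lit 177, nat_lit 450, nat_lit 198] 88 4)) (.leaf (Rule.fwd [nat_lit 366, nat_lit 30, nat_lit 156, nat_lit 93, nat_lit 135, nat_lit 93, nat_lit 177, nat_lit 219, nat_lit 177, nat_lit 387, nat_lit 429] 84 0)))))) (.node (nat_lit 8) (.node (nat_lit 4) (.node (nat_lit 2) (.node (nat_lit 1) (.leaf (Rule.fwd [nat_lit 429, nat_lit 9, nat_lit 9, nat_lit 429, nat_lit 30] 70 4)) (.leaf (Rule.fwd [nat_lit 366, nat_lit 408, nat_lit 324, nat_lit 261, nat_lit 219, nat_lit 93, nat_lit 93, nat_lit 9, nat_lit 387, nat_lit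 345, nat_lit 93] 87 1))) (.node (nat_lit 1) (.leaf (Rule.fwd [nat_lit 135, nat_lit 30, nat_lit 366, nat_lit 387, nat_lit 261, nat_lit 93, nat_lit 9, nat_lit 324] 81 3)) (.leaf (Rule.fwd [nat_lit 30, nat_lit 240, nat_lit 240, nat_lit 198, nat_lit 408, nat_lit 450, nat_lit 9, nat_lit 9, nat_lit 387, nat_lit 303] 82 4)))) (.node (nat_lit 2) (.node (nat_lit 1) (.leaf (Rule.fwd [nat_lit 51, nat_lit 30, nat_lit 51, nat_lit 30, nat_lit 51, nat_lit 30, nat_lit 72, nat_lit 9, nat_lit 135, nat_lit 30] 69 9)) (.leaf (Rule.fwd [nat_lit 30, nat_lit 429, nat_lit 9, nat_lit 9, nat_lit 429] 70 3))) (.node (nat_lit 1) (.leaf (Rule.fwd [nat_lit 177, nat_lit 177, nat_lit 177, nat_lit 261, nat_lit 261, nat_lit 366, nat_lit 429, nat_lit 9, nat_lit 408, nat_lit 324] 78 3)) (.leaf (Rule.fwd [nat_lit 240, nat_lit 240, nat_lit 198, nat_lit 408, nat_lit 450, nat_lit 9, nat_lit 9, nat_lit 387, nat_lit 303, nat_lit 30] 82 5))))) (.node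 (nat_lit 2) (.node (nat_lit 1) (.leaf (Rule.fwd [nat_lit 282, nat_lit 387, nat_lit 9, nat_lit 450, nat_lit 408, nat_lit 282, nat_lit 198, nat_lit 219, nat_lit 93] 75 4)) (.leaf (Rule.fwd [nat_lit 72, nat_lit 9, nat_lit 9, nat_lit 9, nat_lit 51, nat_lit 30, nat_lit 72, nat_lit 9, nat_lit 9, nat_lit 114] 66 0))) (.leaf (Rule.fwd [nat_lit 282, nat_lit 366, nat_lit 198, nat_lit 30, nat_lit 429, nat_lit 450, nat_lit 345, nat_lit 282, nat_lit 324, nat_lit 282, nat_lit 198] 91 5))))), (.node (nat_lit 1) (.leaf XRule.defn) (.leaf XRule.defn))⟩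
noncomputable def ci51 : CI := ⟨[2], (nat_lit 72), false, (.node (nat_lit 8) (.node (nat_lit 4) (.node (nat_lit 2) (.node (nat_lit 1) (.leaf Rule.defn) (.leaf Rule.copy)) (.node (nat_lit 1) (.leaf (Rule.fwd [nat_lit 72] 92 0)) (.leaf (Rule.fwd [nat_lit 9, nat_lit 114, nat_lit 30, nat_lit 450, nat_lit 282, nat_lit 282, nat_lit 156, nat_lit 93, nat_lit 30] 77 4)))) (.node (nat_lit 2) (.node (nat_lit 1) (.leaf (Rule.fwd [nat_lit 9, nat_lit 72, nat_lit 30, nat_lit 30, nat_lit 30, nat_lit 51, nat_lit 9, nat_lit 93, nat_lit 30, nat_lit 30] 67 8)) (.leaf (Rule.fwd [nat_lit 30, nat_lit 51, nat_lit 30, nat_lit 51, nat_lit 30, nat_lit 72, nat_lit 9, nat_lit 135, nat_lit 30, nat_lit 30] 69 8))) (.node (nat_lit 1) (.leaf (Rule.fwd [nat_lit 30, nat_lit 51, nat_lit 30, nat_lit 72, nat_lit 9, nat_lit 135, nat_lit 30, nat_lit 30, nat_lit 51, nat_lit 30] 69 6)) (.leaf (Rule.fwd [nat_lit 30, nat_lit 72, nat_lit 9, nat_lit 135,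 nat_lit 30, nat_lit 30, nat_lit 51, nat_lit 30, nat_lit 51, nat_lit 30] 69 4))))) (.node (nat_lit 2) (.node (nat_lit 1) (.leaf (Rule.fwd [nat_lit 9, nat_lit 93, nat_lit 30, nat_lit 30, nat_lit 51, nat_lit 9, nat_lit 72, nat_lit 30, nat_lit 30, nat_lit 30] 67 2)) (.leaf (Rule.fwd [nat_lit 30, nat_lit 72, nat_lit 9, nat_lit 9, nat_lit 114, nat_lit 30, nat_lit 72, nat_lit 9, nat_lit 9, nat_lit 9] 66 5))) (.leaf (Rule.fwd [nat_lit 9, nat_lit 72, nat_lit 9, nat_lit 72, nat_lit 9, nat_lit 72, nat_lit 9, nat_lit 9, nat_lit 156, nat_lit 30] 68 1)))), (.node (nat_lit 1) (.leaf XRule.defn) (.leaf XRule.defn))⟩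
noncomputable def ci72 : CI := ⟨[3], (nat_lit 51), false, (.node (nat_lit 8) (.node (nat_lit 4) (.node (nat_lit 2) (.node (nat_lit 1) (.leaf Rule.defn) (.leaf Rule.copy)) (.node (nat_lit 1) (.leaf (Rule.fwd [nat_lit 51] 92 0)) (.leaf (Rule.fwd [nat_lit 9, nat_lit 114, nat_lit 135, nat_lit 261, nat_lit 261, nat_lit 450, nat_lit 9, nat_lit 93, nat_lit 30] 76 3)))) (.node (nat_lit 2) (.node (nat_lit 1) (.leaf (Rule.fwd [nat_lit 9, nat_lit 72, nat_lit 9, nat_lit 9, nat_lit 156, nat_lit 30, nat_lit 51, nat_lit 9, nat_lit 72, nat_lit 9] 68 5)) (.leaf (Rule.fwd [nat_lit 30, nat_lit 30, nat_lit 30, nat_lit 51, nat_lit 9, nat_lit 93, nat_lit 30, nat_lit 30, nat_lit 51, nat_lit 9] 67 6))) (.node (nat_lit 1) (.leaf (Rule.fwd [nat_lit 9, nat_lit 72, nat_lit 9, nat_lit 72, nat_lit 9, nat_lit 9, nat_lit 156, nat_lit 30, nat_lit 51, nat_lit 9] 68 3)) (.leaf (Rule.fwd [nat_lit 9, nat_lit 9, nat_lit 9, nat_lit 51, nat_lit 30,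 nat_lit 72, nat_lit 9, nat_lit 9, nat_lit 114, nat_lit 30] 66 1))))) (.node (nat_lit 2) (.node (nat_lit 1) (.leaf (Rule.fwd [nat_lit 9, nat_lit 9, nat_lit 114, nat_lit 30, nat_lit 72, nat_lit 9, nat_lit 9, nat_lit 9, nat_lit 51, nat_lit 30] 66 7)) (.leaf (Rule.fwd [nat_lit 9, nat_lit 9, nat_lit 156, nat_lit 30, nat_lit 51, nat_lit 9, nat_lit 72, nat_lit 9, nat_lit 72, nat_lit 9] 68 7))) (.leaf (Rule.fwd [nat_lit 9, nat_lit 135, nat_lit 30, nat_lit 30, nat_lit 51, nat_lit 30, nat_lit 51, nat_lit 30, nat_lit 51, nat_lit 30] 69 2)))), (.node (nat_lit 1) (.leaf XRule.defn) (.leaf XRule.defn))⟩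
noncomputable def ci93 : CI := ⟨[4], (nat_lit 114), true, (.node (nat_lit 16) (.node (nat_lit 8) (.node (nat_lit 4) (.node (nat_lit 2) (.node (nat_lit 1) (.leaf Rule.defn) (.leaf Rule.copy)) (.node (nat_lit 1) (.leaf (Rule.fwd [nat_lit 114] 92 0)) (.leaf (Rule.fwd [nat_lit 282, nat_lit 450, nat_lit 156, nat_lit 345, nat_lit 198, nat_lit 303] 50 0)))) (.node (nat_lit 2) (.node (nat_lit 1) (.leaf (Rule.fwd [nat_lit 345, nat_lit 93, nat_lit 450, nat_lit 219, nat_lit 387, nat_lit 261] 52 0)) (.leaf (Rule.fwd [nat_lit 345, nat_lit 282, nat_lit 198, nat_lit 429, nat_lit 135, nat_lit 366] 62 0))) (.node (nat_lit 1) (.leaf (Rule.fwd [nat_lit 450, nat_lit 219, nat_lit 387, nat_lit 261, nat_lit 93, nat_lit 345] 52 2)) (.leaf (Rule.fwd [nat_lit 135, nat_lit 135, nat_lit 114, nat_lit 156, nat_lit 93, nat_lit 177, nat_lit 93] 41 6))))) (.node (nat_lit 4) (.node (nat_lit 2) (.node (nat_lit 1) (.leaf (Rule.fwd [nat_lit 93,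 nat_lit 9, nat_lit 387, nat_lit 345, nat_lit 93, nat_lit 30, nat_lit 366, nat_lit 408, nat_lit 324, nat_lit 261, nat_lit 219] 87 7)) (.leaf (Rule.fwd [nat_lit 93, nat_lit 135, nat_lit 135, nat_lit 114, nat_lit 156, nat_lit 93, nat_lit 177] 41 7))) (.node (nat_lit 1) (.leaf (Rule.fwd [nat_lit 156, nat_lit 408, nat_lit 93, nat_lit 177, nat_lit 156, nat_lit 219] 60 0)) (.leaf (Rule.fwd [nat_lit 156, nat_lit 156, nat_lit 114, nat_lit 114, nat_lit 198, nat_lit 114, nat_lit 135] 40 2)))) (.node (nat_lit 2) (.node (nat_lit 1) (.leaf (Rule.fwd [nat_lit 177, nat_lit 177, nat_lit 93, nat_lit 156, nat_lit 408, nat_lit 261] 44 4)) (.leaf (Rule.fwd [nat_lit 30, nat_lit 30, nat_lit 51, nat_lit 9, nat_lit 72, nat_lit 30, nat_lit 30, nat_lit 30, nat_lit 51, nat_lit 9] 67 0))) (.node (nat_lit 1) (.leaf (Rule.fwd [nat_lit 30, nat_lit 366, nat_lit 408, nat_lit 324, nat_lit 261, nat_lit 219, nat_lit 93, nat_lit 93, nat_lit 9, nat_lit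 387, nat_lit 345] 87 2)) (.leaf (Rule.fwd [nat_lit 30, nat_lit 261, nat_lit 261, nat_lit 177, nat_lit 219, nat_lit 30, nat_lit 387, nat_lit 366] 73 2)))))) (.node (nat_lit 4) (.node (nat_lit 2) (.node (nat_lit 1) (.leaf (Rule.fwd [nat_lit 30, nat_lit 72, nat_lit 9, nat_lit 114, nat_lit 135, nat_lit 261, nat_lit 261, nat_lit 450, nat_lit 9] 76 1)) (.leaf (Rule.fwd [nat_lit 177, nat_lit 429, nat_lit 156, nat_lit 387, nat_lit 177, nat_lit 261] 46 0))) (.node (nat_lit 1) (.leaf (Rule.fwd [nat_lit 156, nat_lit 408, nat_lit 261, nat_lit 93, nat_lit 177, nat_lit 177] 44 0)) (.leaf (Rule.fwd [nat_lit 177, nat_lit 156, nat_lit 282, nat_lit 135, nat_lit 219, nat_lit 219] 58 0)))) (.node (nat_lit 1) (.leaf (Rule.fwd [nat_lit 282, nat_lit 156, nat_lit 282, nat_lit 177, nat_lit 387, nat_lit 345] 48 0)) (.leaf (Rule.fwd [nat_lit 177, nat_lit 156, nat_lit 219, nat_lit 93, nat_lit 156, nat_lit 408] 60 3))))), (.node (nat_lit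 1) (.leaf XRule.defn) (.leaf XRule.ax))⟩
noncomputable def ci114 : CI := ⟨[5], (nat_lit 93), true, (.node (nat_lit 16) (.node (nat_lit 8) (.node (nat_lit 4) (.node (nat_lit 2) (.node (nat_lit 1) (.leaf Rule.defn) (.leaf Rule.copy)) (.node (nat_lit 1) (.leaf (Rule.fwd [nat_lit 93] 92 0)) (.leaf (Rule.fwd [nat_lit 366, nat_lit 408, nat_lit 198, nat_lit 261, nat_lit 135, nat_lit 261] 49 1)))) (.node (nat_lit 2) (.node (nat_lit 1) (.leaf (Rule.fwd [nat_lit 282, nat_lit 198, nat_lit 408, nat_lit 135, nat_lit 429, nat_lit 198] 47 1)) (.leaf (Rule.fwd [nat_lit 240, nat_lit 135, nat_lit 198, nat_lit 114, nat_lit 387, nat_lit 135] 61 1))) (.node (nat_lit 1) (.leaf (Rule.fwd [nat_lit 198, nat_lit 198, nat_lit 114, nat_lit 282, nat_lit 387, nat_lit 135] 45 1)) (.leaf (Rule.fwd [nat_lit 261, nat_lit 198, nat_lit 261, nat_lit 135, nat_lit 387, nat_lit 345] 55 1))))) (.node (nat_lit 4) (.node (nat_lit 2) (.node (nat_lit 1)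 (.leaf (Rule.fwd [nat_lit 282, nat_lit 408, nat_lit 240, nat_lit 450, nat_lit 114, nat_lit 366] 53 1)) (.leaf (Rule.fwd [nat_lit 387, nat_lit 135, nat_lit 114, nat_lit 240, nat_lit 135, nat_lit 198] 61 4))) (.node (nat_lit 1) (.leaf (Rule.fwd [nat_lit 345, nat_lit 156, nat_lit 429, nat_lit 177, nat_lit 261, nat_lit 366] 63 1)) (.leaf (Rule.fwd [nat_lit 282, nat_lit 387, nat_lit 135, nat_lit 114, nat_lit 198, nat_lit 198] 45 5)))) (.node (nat_lit 2) (.node (nat_lit 1) (.leaf (Rule.fwd [nat_lit 114, nat_lit 198, nat_lit 114, nat_lit 135, nat_lit 93, nat_lit 156, nat_lit 156] 40 5)) (.leaf (Rule.fwd [nat_lit 366, nat_lit 114, nat_lit 282, nat_lit 408, nat_lit 240, nat_lit 450] 53 3))) (.node (nat_lit 1) (.leaf (Rule.fwd [nat_lit 198, nat_lit 114, nat_lit 135, nat_lit 93, nat_lit 156, nat_lit 156, nat_lit 114] 40 6)) (.leaf (Rule.fwd [nat_lit 240, nat_lit 240, nat_lit 156, nat_lit 261, nat_lit 135, nat_lit 198]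 59 1)))))) (.node (nat_lit 4) (.node (nat_lit 2) (.node (nat_lit 1) (.leaf (Rule.fwd [nat_lit 156, nat_lit 93, nat_lit 177, nat_lit 93, nat_lit 93, nat_lit 135, nat_lit 135] 41 3)) (.leaf (Rule.fwd [nat_lit 282, nat_lit 408, nat_lit 345, nat_lit 9, nat_lit 156, nat_lit 9, nat_lit 303, nat_lit 30] 80 5))) (.node (nat_lit 1) (.leaf (Rule.fwd [nat_lit 30, nat_lit 72, nat_lit 9, nat_lit 9, nat_lit 9, nat_lit 51, nat_lit 30, nat_lit 72, nat_lit 9, nat_lit 9] 66 10)) (.leaf (Rule.fwd [nat_lit 345, nat_lit 408, nat_lit 9, nat_lit 240, nat_lit 198, nat_lit 282, nat_lit 282, nat_lit 9] 72 1)))) (.node (nat_lit 2) (.node (nat_lit 1) (.leaf (Rule.fwd [nat_lit 30, nat_lit 450, nat_lit 282, nat_lit 282, nat_lit 156, nat_lit 93, nat_lit 30, nat_lit 51, nat_lit 9] 77 2)) (.leaf (Rule.fwd [nat_lit 324, nat_lit 177, nat_lit 366, nat_lit 135, nat_lit 450, nat_lit 261] 51 1))) (.node (nat_lit 1) (.leaf (Rule.fwd [nat_lit 135,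 nat_lit 93, nat_lit 156, nat_lit 156, nat_lit 114, nat_lit 114, nat_lit 198] 40 0)) (.leaf (Rule.fwd [nat_lit 114, nat_lit 240, nat_lit 282, nat_lit 303, nat_lit 387, nat_lit 345, nat_lit 9, nat_lit 114, nat_lit 366, nat_lit 408, nat_lit 30] 86 5)))))), (.node (nat_lit 1) (.leaf XRule.defn) (.leaf XRule.ax))⟩
noncomputable def ci135 : CI := ⟨[6], (nat_lit 156), true, (.node (nat_lit 16) (.node (nat_lit 8) (.node (nat_lit 4) (.node (nat_lit 2) (.node (nat_lit 1) (.leaf Rule.defn) (.leaf Rule.copy)) (.node (nat_lit 1) (.leaf (Rule.fwd [nat_lit 156] 92 0)) (.leaf (Rule.fwd [nat_lit 387, nat_lit 345, nat_lit 114, nat_lit 261, nat_lit 198, nat_lit 261] 55 4)))) (.node (nat_lit 2) (.node (nat_lit 1) (.leaf (Rule.fwd [nat_lit 450, nat_lit 261, nat_lit 114, nat_lit 324, nat_lit 177, nat_lit 366] 51 4)) (.leaf (Rule.fwd [nat_lit 261, nat_lit 114, nat_lit 366, nat_lit 408, nat_lit 198, nat_lit 261] 49 3))) (.node (nat_lit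 1) (.leaf (Rule.fwd [nat_lit 114, nat_lit 198, nat_lit 198, nat_lit 114, nat_lit 282, nat_lit 387] 45 2)) (.leaf (Rule.fwd [nat_lit 198, nat_lit 114, nat_lit 240, nat_lit 240, nat_lit 156, nat_lit 261] 59 3))))) (.node (nat_lit 4) (.node (nat_lit 2) (.node (nat_lit 1) (.leaf (Rule.fwd [nat_lit 93, nat_lit 156, nat_lit 156, nat_lit 114, nat_lit 114, nat_lit 198, nat_lit 114] 40 1)) (.leaf (Rule.fwd [nat_lit 135, nat_lit 114, nat_lit 156, nat_lit 93, nat_lit 177, nat_lit 93, nat_lit 93] 41 5))) (.node (nat_lit 1) (.leaf (Rule.fwd [nat_lit 114, nat_lit 240, nat_lit 135, nat_lit 198, nat_lit 114, nat_lit 387] 61 2)) (.leaf (Rule.fwd [nat_lit 429, nat_lit 198, nat_lit 114, nat_lit 282, nat_lit 198, nat_lit 408] 47 4)))) (.node (nat_lit 2) (.node (nat_lit 1) (.leaf (Rule.fwd [nat_lit 114, nat_lit 156, nat_lit 93, nat_lit 177, nat_lit 93, nat_lit 93, nat_lit 135] 41 4)) (.leaf (Rule.fwd [nat_lit 30, nat_lit 366, nat_lit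 387, nat_lit 261, nat_lit 93, nat_lit 9, nat_lit 324, nat_lit 30] 81 2))) (.node (nat_lit 1) (.leaf (Rule.fwd [nat_lit 366, nat_lit 93, nat_lit 345, nat_lit 282, nat_lit 198, nat_lit 429] 62 5)) (.leaf (Rule.fwd [nat_lit 219, nat_lit 219, nat_lit 93, nat_lit 177, nat_lit 156, nat_lit 282] 58 4)))))) (.leaf (Rule.fwd [nat_lit 198, nat_lit 114, nat_lit 387, nat_lit 135, nat_lit 114, nat_lit 240] 61 6))), (.node (nat_lit 1) (.leaf XRule.defn) (.leaf XRule.ax))⟩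
noncomputable def ci156 : CI := ⟨[7], (nat_lit 135), true, (.node (nat_lit 8) (.node (nat_lit 4) (.node (nat_lit 2) (.node (nat_lit 1) (.leaf Rule.defn) (.leaf Rule.copy)) (.node (nat_lit 1) (.leaf (Rule.fwd [nat_lit 135] 92 0)) (.leaf (Rule.fwd [nat_lit 429, nat_lit 177, nat_lit 261, nat_lit 366, nat_lit 114, nat_lit 345] 63 6)))) (.node (nat_lit 2) (.node (nat_lit 1) (.leaf (Rule.fwd [nat_lit 387, nat_lit 177, nat_lit 261, nat_lit 93, nat_lit 177, nat_lit 429] 46 3)) (.leaf (Rule.fwd [nat_lit 408, nat_lit 261, nat_lit 93, nat_lit 177, nat_lit 177, nat_lit 93] 44 1))) (.node (nat_lit 1) (.leaf (Rule.fwd [nat_lit 261, nat_lit 135, nat_lit 198, nat_lit 114, nat_lit 240, nat_lit 240] 59 5)) (.leaf (Rule.fwd [nat_lit 345, nat_lit 198, nat_lit 303, nat_lit 93, nat_lit 282, nat_lit 450] 50 3))))) (.node (nat_lit 4) (.node (nat_lit 2) (.node (nat_lit 1) (.leaf (Rule.fwd [nat_lit 282, nat_lit 135, nat_lit 219, nat_lit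 219, nat_lit 93, nat_lit 177] 58 2)) (.leaf (Rule.fwd [nat_lit 219, nat_lit 93, nat_lit 156, nat_lit 408, nat_lit 93, nat_lit 177] 60 5))) (.node (nat_lit 1) (.leaf (Rule.fwd [nat_lit 9, nat_lit 303, nat_lit 30, nat_lit 114, nat_lit 282, nat_lit 408, nat_lit 345, nat_lit 9] 80 1)) (.leaf (Rule.fwd [nat_lit 282, nat_lit 177, nat_lit 387, nat_lit 345, nat_lit 93, nat_lit 282] 48 2)))) (.node (nat_lit 2) (.node (nat_lit 1) (.leaf (Rule.fwd [nat_lit 282, nat_lit 177, nat_lit 282, nat_lit 93, nat_lit 366, nat_lit 408] 54 3)) (.leaf (Rule.fwd [nat_lit 114, nat_lit 114, nat_lit 198, nat_lit 114, nat_lit 135, nat_lit 93, nat_lit 156] 40 4))) (.leaf (Rule.fwd [nat_lit 156, nat_lit 114, nat_lit 114, nat_lit 198, nat_lit 114, nat_lit 135, nat_lit 93] 40 3))))), (.node (nat_lit 1) (.leaf XRule.defn) (.leaf XRule.ax))⟩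
noncomputable def ci177 : CI := ⟨[8], (nat_lit 198), true, (.node (nat_lit 16) (.node (nat_lit 8) (.node (nat_lit 4) (.node (nat_lit 2) (.node (nat_lit 1) (.leaf Rule.defn) (.leaf Rule.copy)) (.node (nat_lit 1) (.leaf (Rule.fwd [nat_lit 198] 92 0)) (.leaf (Rule.fwd [nat_lit 261, nat_lit 198, nat_lit 366, nat_lit 303, nat_lit 366] 36 0)))) (.node (nat_lit 2) (.node (nat_lit 1) (.leaf (Rule.fwd [nat_lit 219, nat_lit 345, nat_lit 198, nat_lit 429, nat_lit 282, nat_lit 177] 32 1)) (.leaf (Rule.fwd [nat_lit 282, nat_lit 198, nat_lit 345, nat_lit 324, nat_lit 345] 37 3))) (.node (nat_lit 1) (.leaf (Rule.fwd [nat_lit 366, nat_lit 240, nat_lit 198, nat_lit 198, nat_lit 261, nat_lit 429] 33 5)) (.leaf (Rule.fwd [nat_lit 240, nat_lit 198, nat_lit 324, nat_lit 177, nat_lit 240] 26 2))))) (.node (nat_lit 4) (.node (nat_lit 2) (.node (nat_lit 1) (.leaf (Rule.fwd [nat_lit 282, nat_lit 93, nat_lit 366, nat_lit 408, nat_lit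 156, nat_lit 282] 54 5)) (.leaf (Rule.fwd [nat_lit 156, nat_lit 282, nat_lit 135, nat_lit 219, nat_lit 219, nat_lit 93] 58 1))) (.node (nat_lit 1) (.leaf (Rule.fwd [nat_lit 261, nat_lit 177, nat_lit 219, nat_lit 177, nat_lit 240] 25 1)) (.leaf (Rule.fwd [nat_lit 177, nat_lit 93, nat_lit 156, nat_lit 408, nat_lit 261, nat_lit 93] 44 5)))) (.node (nat_lit 2) (.node (nat_lit 1) (.leaf (Rule.fwd [nat_lit 429, nat_lit 156, nat_lit 387, nat_lit 177, nat_lit 261, nat_lit 93] 46 1)) (.leaf (Rule.fwd [nat_lit 261, nat_lit 198, nat_lit 282, nat_lit 450, nat_lit 303] 30 0))) (.node (nat_lit 1) (.leaf (Rule.fwd [nat_lit 93, nat_lit 156, nat_lit 408, nat_lit 261, nat_lit 93, nat_lit 177] 44 6)) (.leaf (Rule.fwd [nat_lit 261, nat_lit 303, nat_lit 261, nat_lit 366, nat_lit 450, nat_lit 429, nat_lit 9, nat_lit 177, nat_lit 345, nat_lit 261, nat_lit 9] 90 5)))))) (.node (nat_lit 8) (.node (nat_lit 4) (.node (nat_lit 2) (.node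 (nat_lit 1) (.leaf (Rule.fwd [nat_lit 177, nat_lit 219, nat_lit 345, nat_lit 198, nat_lit 429, nat_lit 282] 32 0)) (.leaf (Rule.fwd [nat_lit 450, nat_lit 198, nat_lit 30, nat_lit 261, nat_lit 303, nat_lit 261, nat_lit 408, nat_lit 366, nat_lit 9] 88 1))) (.node (nat_lit 1) (.leaf (Rule.fwd [nat_lit 345, nat_lit 261, nat_lit 9, nat_lit 177, nat_lit 261, nat_lit 303, nat_lit 261, nat_lit 366, nat_lit 450, nat_lit 429, nat_lit 9] 90 1)) (.leaf (Rule.fwd [nat_lit 282, nat_lit 198, nat_lit 324, nat_lit 450, nat_lit 261] 31 3)))) (.node (nat_lit 2) (.node (nat_lit 1) (.leaf (Rule.fwd [nat_lit 261, nat_lit 261, nat_lit 366, nat_lit 429, nat_lit 9, nat_lit 408, nat_lit 324, nat_lit 30, nat_lit 177, nat_lit 177] 78 6)) (.leaf (Rule.fwd [nat_lit 240, nat_lit 177, nat_lit 261, nat_lit 177, nat_lit 219] 25 3))) (.node (nat_lit 1) (.leaf (Rule.fwd [nat_lit 408, nat_lit 408, nat_lit 324, nat_lit 219, nat_lit 177, nat_lit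 345] 64 2)) (.leaf (Rule.fwd [nat_lit 408, nat_lit 303, nat_lit 177, nat_lit 261, nat_lit 429, nat_lit 219] 56 4))))) (.node (nat_lit 4) (.node (nat_lit 2) (.node (nat_lit 1) (.leaf (Rule.fwd [nat_lit 366, nat_lit 135, nat_lit 450, nat_lit 261, nat_lit 114, nat_lit 324] 51 6)) (.leaf (Rule.fwd [nat_lit 240, nat_lit 177, nat_lit 240, nat_lit 198, nat_lit 324] 26 0))) (.node (nat_lit 1) (.leaf (Rule.fwd [nat_lit 156, nat_lit 219, nat_lit 93, nat_lit 156, nat_lit 408, nat_lit 93] 60 4)) (.leaf (Rule.fwd [nat_lit 93, nat_lit 93, nat_lit 135, nat_lit 135, nat_lit 114, nat_lit 156, nat_lit 93] 41 0)))) (.node (nat_lit 1) (.leaf (Rule.fwd [nat_lit 261, nat_lit 93, nat_lit 177, nat_lit 429, nat_lit 156, nat_lit 387] 46 5)) (.leaf (Rule.fwd [nat_lit 261, nat_lit 366, nat_lit 114, nat_lit 345, nat_lit 156, nat_lit 429] 63 4)))))), (.node (nat_lit 1) (.leaf XRule.defn) (.leaf XRule.ax))⟩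
noncomputable def ci198 : CI := ⟨[9], (nat_lit 177), true, (.node (nat_lit 16) (.node (nat_lit 8) (.node (nat_lit 4) (.node (nat_lit 2) (.node (nat_lit 1) (.leaf Rule.defn) (.leaf Rule.copy)) (.node (nat_lit 1) (.leaf (Rule.fwd [nat_lit 177] 92 0)) (.leaf (Rule.fwd [nat_lit 282, nat_lit 282, nat_lit 9, nat_lit 114, nat_lit 345, nat_lit 408, nat_lit 9, nat_lit 240] 72 6)))) (.node (nat_lit 2) (.node (nat_lit 1) (.leaf (Rule.fwd [nat_lit 366, nat_lit 303, nat_lit 240, nat_lit 198, nat_lit 387, nat_lit 450] 35 5)) (.leaf (Rule.fwd [nat_lit 240, nat_lit 429, nat_lit 282, nat_lit 198, nat_lit 324, nat_lit 387] 57 5))) (.node (nat_lit 1) (.leaf (Rule.fwd [nat_lit 219, nat_lit 198, nat_lit 240, nat_lit 198, nat_lit 282] 24 0)) (.leaf (Rule.fwd [nat_lit 282, nat_lit 450, nat_lit 303, nat_lit 177, nat_lit 261] 30 2))))) (.node (nat_lit 4) (.node (nat_lit 2) (.node (nat_lit 1) (.leaf (Rule.fwd [nat_lit 261, nat_lit 429,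 nat_lit 177, nat_lit 366, nat_lit 240, nat_lit 198] 33 1)) (.leaf (Rule.fwd [nat_lit 387, nat_lit 450, nat_lit 198, nat_lit 366, nat_lit 303, nat_lit 240] 35 1))) (.node (nat_lit 1) (.leaf (Rule.fwd [nat_lit 324, nat_lit 450, nat_lit 261, nat_lit 177, nat_lit 282] 31 1)) (.leaf (Rule.fwd [nat_lit 219, nat_lit 198, nat_lit 303, nat_lit 177, nat_lit 219] 27 3)))) (.node (nat_lit 2) (.node (nat_lit 1) (.leaf (Rule.fwd [nat_lit 303, nat_lit 177, nat_lit 219, nat_lit 198, nat_lit 219] 27 1)) (.leaf (Rule.fwd [nat_lit 261, nat_lit 135, nat_lit 387, nat_lit 345, nat_lit 114, nat_lit 261] 55 6))) (.node (nat_lit 1) (.leaf (Rule.fwd [nat_lit 303, nat_lit 93, nat_lit 282, nat_lit 450, nat_lit 156, nat_lit 345] 50 5)) (.leaf (Rule.fwd [nat_lit 198, nat_lit 114, nat_lit 282, nat_lit 387, nat_lit 135, nat_lit 114] 45 0)))))) (.node (nat_lit 8) (.node (nat_lit 4) (.node (nat_lit 2) (.node (nat_lit 1) (.leaf (Rule.fwd [nat_lit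 429, nat_lit 135, nat_lit 366, nat_lit 93, nat_lit 345, nat_lit 282] 62 3)) (.leaf (Rule.fwd [nat_lit 282, nat_lit 198, nat_lit 219, nat_lit 198, nat_lit 240] 24 4))) (.node (nat_lit 1) (.leaf (Rule.fwd [nat_lit 114, nat_lit 282, nat_lit 387, nat_lit 135, nat_lit 114, nat_lit 198] 45 6)) (.leaf (Rule.fwd [nat_lit 30, nat_lit 429, nat_lit 450, nat_lit 345, nat_lit 282, nat_lit 324, nat_lit 282, nat_lit 198, nat_lit 30, nat_lit 282, nat_lit 366] 91 2)))) (.node (nat_lit 2) (.node (nat_lit 1) (.leaf (Rule.fwd [nat_lit 240, nat_lit 198, nat_lit 282, nat_lit 198, nat_lit 219] 24 2)) (.leaf (Rule.fwd [nat_lit 324, nat_lit 177, nat_lit 240, nat_lit 177, nat_lit 240] 26 4))) (.node (nat_lit 1) (.leaf (Rule.fwd [nat_lit 240, nat_lit 303, nat_lit 387, nat_lit 387, nat_lit 198, nat_lit 366] 65 1)) (.leaf (Rule.fwd [nat_lit 429, nat_lit 282, nat_lit 177, nat_lit 177, nat_lit 219, nat_lit 345] 32 4))))) (.node (nat_lit 2)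 (.node (nat_lit 1) (.leaf (Rule.fwd [nat_lit 345, nat_lit 324, nat_lit 345, nat_lit 177, nat_lit 282] 37 1)) (.leaf (Rule.fwd [nat_lit 114, nat_lit 135, nat_lit 93, nat_lit 156, nat_lit 156, nat_lit 114, nat_lit 114] 40 7))) (.node (nat_lit 1) (.leaf (Rule.fwd [nat_lit 261, nat_lit 135, nat_lit 261, nat_lit 114, nat_lit 366, nat_lit 408] 49 5)) (.leaf (Rule.fwd [nat_lit 114, nat_lit 282, nat_lit 198, nat_lit 408, nat_lit 135, nat_lit 429] 47 2)))))), (.node (nat_lit 1) (.leaf XRule.defn) (.leaf XRule.ax))⟩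
noncomputable def ci219 : CI := ⟨[10], (nat_lit 240), true, (.node (nat_lit 16) (.node (nat_lit 8) (.node (nat_lit 4) (.node (nat_lit 2) (.node (nat_lit 1) (.leaf Rule.defn) (.leaf Rule.copy)) (.node (nat_lit 1) (.leaf (Rule.fwd [nat_lit 240] 92 0)) (.leaf (Rule.fwd [nat_lit 282, nat_lit 219, nat_lit 282] 28 0)))) (.node (nat_lit 2) (.node (nat_lit 1) (.leaf (Rule.fwd [nat_lit 324, nat_lit 345, nat_lit 177, nat_lit 450, nat_lit 408, nat_lit 177] 34 1)) (.leaf (Rule.fwd [nat_lit 198, nat_lit 219, nat_lit 198, nat_lit 303, nat_lit 177] 27 4))) (.node (nat_lit 1) (.leaf (Rule.fwd [nat_lit 198, nat_lit 303, nat_lit 177, nat_lit 219, nat_lit 198] 27 2)) (.leaf (Rule.fwd [nat_lit 198, nat_lit 240, nat_lit 198, nat_lit 282, nat_lit 198] 24 1))))) (.node (nat_lit 4) (.node (nat_lit 2) (.node (nat_lit 1) (.leaf (Rule.fwd [nat_lit 345, nat_lit 198, nat_lit 429, nat_lit 282, nat_lit 177, nat_lit 177] 32 2)) (.leaf (Rule.fwd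 [nat_lit 177, nat_lit 345, nat_lit 177, nat_lit 408, nat_lit 408, nat_lit 324] 64 6))) (.node (nat_lit 1) (.leaf (Rule.fwd [nat_lit 93, nat_lit 177, nat_lit 156, nat_lit 282, nat_lit 135, nat_lit 219] 58 6)) (.leaf (Rule.fwd [nat_lit 93, nat_lit 156, nat_lit 408, nat_lit 93, nat_lit 177, nat_lit 156] 60 6)))) (.node (nat_lit 2) (.node (nat_lit 1) (.leaf (Rule.fwd [nat_lit 219, nat_lit 93, nat_lit 177, nat_lit 156, nat_lit 282, nat_lit 135] 58 5)) (.leaf (Rule.fwd [nat_lit 387, nat_lit 261, nat_lit 93, nat_lit 345, nat_lit 93, nat_lit 450] 52 4))) (.node (nat_lit 1) (.leaf (Rule.fwd [nat_lit 177, nat_lit 240, nat_lit 177, nat_lit 261, nat_lit 177] 25 4)) (.leaf (Rule.fwd [nat_lit 93, nat_lit 93, nat_lit 9, nat_lit 387, nat_lit 345, nat_lit 93, nat_lit 30, nat_lit 366, nat_lit 408, nat_lit 324, nat_lit 261] 87 8)))))) (.leaf (Rule.fwd [nat_lit 177, nat_lit 408, nat_lit 303, nat_lit 177, nat_lit 261, nat_lit 429]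 56 3))), (.node (nat_lit 1) (.leaf XRule.defn) (.leaf XRule.ax))⟩
noncomputable def ci240 : CI := ⟨[11], (nat_lit 219), true, (.node (nat_lit 16) (.node (nat_lit 8) (.node (nat_lit 4) (.node (nat_lit 2) (.node (nat_lit 1) (.leaf Rule.defn) (.leaf Rule.copy)) (.node (nat_lit 1) (.leaf (Rule.fwd [nat_lit 219] 92 0)) (.leaf (Rule.fwd [nat_lit 177, nat_lit 261, nat_lit 387, nat_lit 450, nat_lit 30, nat_lit 408, nat_lit 261, nat_lit 9, nat_lit 114] 74 5)))) (.node (nat_lit 2) (.node (nat_lit 1) (.leaf (Rule.fwd [nat_lit 261, nat_lit 240, nat_lit 261] 29 1)) (.leaf (Rule.fwd [nat_lit 429, nat_lit 282, nat_lit 198, nat_lit 324, nat_lit 387, nat_lit 198] 57 4))) (.node (nat_lit 1) (.leaf (Rule.fwd [nat_lit 198, nat_lit 198, nat_lit 261, nat_lit 429, nat_lit 177, nat_lit 366] 33 3)) (.leaf (Rule.fwd [nat_lit 198, nat_lit 282, nat_lit 198, nat_lit 219, nat_lit 198] 24 3))))) (.node (nat_lit 4) (.node (nat_lit 2) (.node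 (nat_lit 1) (.leaf (Rule.fwd [nat_lit 198, nat_lit 324, nat_lit 177, nat_lit 240, nat_lit 177] 26 3)) (.leaf (Rule.fwd [nat_lit 177, nat_lit 261, nat_lit 177, nat_lit 219, nat_lit 177] 25 2))) (.node (nat_lit 1) (.leaf (Rule.fwd [nat_lit 198, nat_lit 387, nat_lit 450, nat_lit 198, nat_lit 366, nat_lit 303] 35 2)) (.leaf (Rule.fwd [nat_lit 135, nat_lit 198, nat_lit 114, nat_lit 387, nat_lit 135, nat_lit 114] 61 0)))) (.node (nat_lit 2) (.node (nat_lit 1) (.leaf (Rule.fwd [nat_lit 156, nat_lit 261, nat_lit 135, nat_lit 198, nat_lit 114, nat_lit 240] 59 6)) (.leaf (Rule.fwd [nat_lit 177, nat_lit 240, nat_lit 198, nat_lit 324, nat_lit 177] 26 1))) (.node (nat_lit 1) (.leaf (Rule.fwd [nat_lit 198, nat_lit 282, nat_lit 282, nat_lit 9, nat_lit 114, nat_lit 345, nat_lit 408, nat_lit 9] 72 5)) (.leaf (Rule.fwd [nat_lit 282, nat_lit 303, nat_lit 387, nat_lit 345, nat_lit 9, nat_lit 114, nat_lit 366, nat_lit 408, nat_lit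 30, nat_lit 114, nat_lit 114] 86 7)))))) (.node (nat_lit 2) (.node (nat_lit 1) (.leaf (Rule.fwd [nat_lit 303, nat_lit 387, nat_lit 387, nat_lit 198, nat_lit 366, nat_lit 198] 65 0)) (.leaf (Rule.fwd [nat_lit 450, nat_lit 114, nat_lit 366, nat_lit 114, nat_lit 282, nat_lit 408] 53 5))) (.leaf (Rule.fwd [nat_lit 240, nat_lit 156, nat_lit 261, nat_lit 135, nat_lit 198, nat_lit 114] 59 0)))), (.node (nat_lit 1) (.leaf XRule.defn) (.leaf XRule.ax))⟩
noncomputable def ci261 : CI := ⟨[12], (nat_lit 282), true, (.node (nat_lit 16) (.node (nat_lit 8) (.node (nat_lit 4) (.node (nat_lit 2) (.node (nat_lit 1) (.leaf Rule.defn) (.leaf Rule.copy)) (.node (nat_lit 1) (.leaf (Rule.fwd [nat_lit 282] 92 0)) (.leaf (Rule.fwd [nat_lit 261, nat_lit 429, nat_lit 450, nat_lit 303, nat_lit 345] 22 0)))) (.node (nat_lit 2) (.node (nat_lit 1) (.leaf (Rule.fwd [nat_lit 324, nat_lit 324, nat_lit 366] 10 0)) (.leaf (Rule.fwd [nat_lit 261,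 nat_lit 429, nat_lit 261, nat_lit 366, nat_lit 303] 18 0))) (.node (nat_lit 1) (.leaf (Rule.fwd [nat_lit 429, nat_lit 450, nat_lit 303, nat_lit 345, nat_lit 261] 22 1)) (.leaf (Rule.fwd [nat_lit 135, nat_lit 387, nat_lit 345, nat_lit 114, nat_lit 261, nat_lit 198] 55 5))))) (.node (nat_lit 4) (.node (nat_lit 2) (.node (nat_lit 1) (.leaf (Rule.fwd [nat_lit 198, nat_lit 366, nat_lit 303, nat_lit 366, nat_lit 177] 36 1)) (.leaf (Rule.fwd [nat_lit 198, nat_lit 282, nat_lit 450, nat_lit 303, nat_lit 177] 30 1))) (.node (nat_lit 1) (.leaf (Rule.fwd [nat_lit 177, nat_lit 282, nat_lit 198, nat_lit 324, nat_lit 450] 31 4)) (.leaf (Rule.fwd [nat_lit 177, nat_lit 219, nat_lit 177, nat_lit 240, nat_lit 177] 25 0)))) (.node (nat_lit 2) (.node (nat_lit 1) (.leaf (Rule.fwd [nat_lit 114, nat_lit 366, nat_lit 408, nat_lit 198, nat_lit 261, nat_lit 135] 49 2)) (.leaf (Rule.fwd [nat_lit 114, nat_lit 324, nat_lit 177, nat_lit 366,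 nat_lit 135, nat_lit 450] 51 2))) (.node (nat_lit 1) (.leaf (Rule.fwd [nat_lit 93, nat_lit 177, nat_lit 429, nat_lit 156, nat_lit 387, nat_lit 177] 46 6)) (.leaf (Rule.fwd [nat_lit 303, nat_lit 261, nat_lit 408, nat_lit 366, nat_lit 9, nat_lit 177, nat_lit 450, nat_lit 198, nat_lit 30] 88 5)))))) (.node (nat_lit 4) (.node (nat_lit 2) (.node (nat_lit 1) (.leaf (Rule.fwd [nat_lit 366, nat_lit 303, nat_lit 261, nat_lit 261, nat_lit 429] 18 3)) (.leaf (Rule.fwd [nat_lit 9, nat_lit 114, nat_lit 240, nat_lit 177, nat_lit 261, nat_lit 387, nat_lit 450, nat_lit 30, nat_lit 408] 74 2))) (.node (nat_lit 1) (.leaf (Rule.fwd [nat_lit 93, nat_lit 9, nat_lit 324, nat_lit 30, nat_lit 135, nat_lit 30, nat_lit 366, nat_lit 387] 81 7)) (.leaf (Rule.fwd [nat_lit 429, nat_lit 261, nat_lit 366, nat_lit 303, nat_lit 261] 18 1)))) (.node (nat_lit 2) (.node (nat_lit 1) (.leaf (Rule.fwd [nat_lit 240, nat_lit 261, nat_lit 240] 29 0))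 (.leaf (Rule.fwd [nat_lit 135, nat_lit 261, nat_lit 114, nat_lit 366, nat_lit 408, nat_lit 198] 49 4))) (.node (nat_lit 1) (.leaf (Rule.fwd [nat_lit 93, nat_lit 177, nat_lit 177, nat_lit 93, nat_lit 156, nat_lit 408] 44 3)) (.leaf (Rule.fwd [nat_lit 366, nat_lit 114, nat_lit 345, nat_lit 156, nat_lit 429, nat_lit 177] 63 3)))))), (.node (nat_lit 1) (.leaf XRule.defn) (.leaf XRule.ax))⟩
noncomputable def ci282 : CI := ⟨[13], (nat_lit 261), true, (.node (nat_lit 16) (.node (nat_lit 8) (.node (nat_lit 4) (.node (nat_lit 2) (.node (nat_lit 1) (.leaf Rule.defn) (.leaf Rule.copy)) (.node (nat_lit 1) (.leaf (Rule.fwd [nat_lit 261] 92 0)) (.leaf (Rule.fwd [nat_lit 366, nat_lit 324, nat_lit 450, nat_lit 429, nat_lit 282] 23 1)))) (.node (nat_lit 2) (.node (nat_lit 1) (.leaf (Rule.fwd [nat_lit 198, nat_lit 324, nat_lit 450, nat_lit 261, nat_lit 177] 31 2)) (.leaf (Rule.fwd [nat_lit 324, nat_lit 345, nat_lit 282, nat_lit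 429, nat_lit 282] 19 1))) (.node (nat_lit 1) (.leaf (Rule.fwd [nat_lit 198, nat_lit 219, nat_lit 198, nat_lit 240, nat_lit 198] 24 5)) (.leaf (Rule.fwd [nat_lit 156, nat_lit 282, nat_lit 177, nat_lit 387, nat_lit 345, nat_lit 93] 48 1))))) (.node (nat_lit 4) (.node (nat_lit 2) (.node (nat_lit 1) (.leaf (Rule.fwd [nat_lit 219, nat_lit 282, nat_lit 219] 28 1)) (.leaf (Rule.fwd [nat_lit 93, nat_lit 366, nat_lit 408, nat_lit 156, nat_lit 282, nat_lit 177] 54 6))) (.node (nat_lit 1) (.leaf (Rule.fwd [nat_lit 387, nat_lit 9, nat_lit 450, nat_lit 408, nat_lit 282, nat_lit 198, nat_lit 219, nat_lit 93, nat_lit 30] 75 3)) (.leaf (Rule.fwd [nat_lit 282, nat_lit 324, nat_lit 345, nat_lit 282, nat_lit 429] 19 2)))) (.node (nat_lit 2) (.node (nat_lit 1) (.leaf (Rule.fwd [nat_lit 177, nat_lit 177, nat_lit 219, nat_lit 345, nat_lit 198, nat_lit 429] 32 6)) (.leaf (Rule.fwd [nat_lit 282, nat_lit 366, nat_lit 324, nat_lit 450,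 nat_lit 429] 23 2))) (.node (nat_lit 1) (.leaf (Rule.fwd [nat_lit 177, nat_lit 387, nat_lit 345, nat_lit 93, nat_lit 282, nat_lit 156] 48 3)) (.leaf (Rule.fwd [nat_lit 345, nat_lit 303, nat_lit 303] 11 1)))))) (.node (nat_lit 4) (.node (nat_lit 2) (.node (nat_lit 1) (.leaf (Rule.fwd [nat_lit 177, nat_lit 282, nat_lit 93, nat_lit 366, nat_lit 408, nat_lit 156] 54 4)) (.leaf (Rule.fwd [nat_lit 429, nat_lit 282, nat_lit 282, nat_lit 324, nat_lit 345] 19 4))) (.node (nat_lit 1) (.leaf (Rule.fwd [nat_lit 387, nat_lit 135, nat_lit 114, nat_lit 198, nat_lit 198, nat_lit 114] 45 4)) (.leaf (Rule.fwd [nat_lit 198, nat_lit 324, nat_lit 387, nat_lit 198, nat_lit 240, nat_lit 429] 57 2)))) (.node (nat_lit 2) (.node (nat_lit 1) (.leaf (Rule.fwd [nat_lit 408, nat_lit 240, nat_lit 450, nat_lit 114, nat_lit 366, nat_lit 114] 53 0)) (.leaf (Rule.fwd [nat_lit 198, nat_lit 408, nat_lit 135, nat_lit 429, nat_lit 198, nat_lit 114]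 47 0))) (.leaf (Rule.fwd [nat_lit 135, nat_lit 219, nat_lit 219, nat_lit 93, nat_lit 177, nat_lit 156] 58 3))))), (.node (nat_lit 1) (.leaf XRule.defn) (.leaf XRule.ax))⟩
noncomputable def ci303 : CI := ⟨[14], (nat_lit 324), true, (.node (nat_lit 16) (.node (nat_lit 8) (.node (nat_lit 4) (.node (nat_lit 2) (.node (nat_lit 1) (.leaf Rule.defn) (.leaf Rule.copy)) (.node (nat_lit 1) (.leaf (Rule.fwd [nat_lit 324] 92 0)) (.leaf (Rule.fwd [nat_lit 429, nat_lit 324, nat_lit 450] 16 0)))) (.node (nat_lit 2) (.node (nat_lit 1) (.leaf (Rule.fwd [nat_lit 282, nat_lit 345, nat_lit 303] 11 2)) (.leaf (Rule.fwd [nat_lit 387, nat_lit 303, nat_lit 387] 14 0))) (.node (nat_lit 1) (.leaf (Rule.fwd [nat_lit 261, nat_lit 261, nat_lit 429, nat_lit 261, nat_lit 366] 18 5)) (.leaf (Rule.fwd [nat_lit 303, nat_lit 282, nat_lit 345] 11 3))))) (.node (nat_lit 4) (.node (nat_lit 2) (.node (nat_lit 1) (.leaf (Rule.fwd [nat_lit 387, nat_lit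 387, nat_lit 198, nat_lit 366, nat_lit 198, nat_lit 240] 65 6)) (.leaf (Rule.fwd [nat_lit 177, nat_lit 261, nat_lit 198, nat_lit 282, nat_lit 450] 30 5))) (.node (nat_lit 1) (.leaf (Rule.fwd [nat_lit 345, nat_lit 261, nat_lit 261, nat_lit 429, nat_lit 450] 22 4)) (.leaf (Rule.fwd [nat_lit 93, nat_lit 282, nat_lit 450, nat_lit 156, nat_lit 345, nat_lit 198] 50 6)))) (.node (nat_lit 2) (.node (nat_lit 1) (.leaf (Rule.fwd [nat_lit 387, nat_lit 30, nat_lit 429, nat_lit 345, nat_lit 282, nat_lit 282, nat_lit 198, nat_lit 198, nat_lit 198, nat_lit 9] 79 3)) (.leaf (Rule.fwd [nat_lit 177, nat_lit 219, nat_lit 198, nat_lit 219, nat_lit 198] 27 0))) (.node (nat_lit 1) (.leaf (Rule.fwd [nat_lit 30, nat_lit 114, nat_lit 282, nat_lit 408, nat_lit 345, nat_lit 9, nat_lit 156, nat_lit 9] 80 3)) (.leaf (Rule.fwd [nat_lit 240, nat_lit 198, nat_lit 387, nat_lit 450, nat_lit 198, nat_lit 366] 35 3)))))) (.node (nat_lit 1) (.leaf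 (Rule.fwd [nat_lit 177, nat_lit 261, nat_lit 429, nat_lit 219, nat_lit 177, nat_lit 408] 56 6)) (.leaf (Rule.fwd [nat_lit 366, nat_lit 177, nat_lit 261, nat_lit 198, nat_lit 366] 36 4)))), (.node (nat_lit 1) (.leaf XRule.defn) (.leaf XRule.ax))⟩
noncomputable def ci324 : CI := ⟨[15], (nat_lit 303), true, (.node (nat_lit 8) (.node (nat_lit 4) (.node (nat_lit 2) (.node (nat_lit 1) (.leaf Rule.defn) (.leaf Rule.copy)) (.node (nat_lit 1) (.leaf (Rule.fwd [nat_lit 303] 92 0)) (.leaf (Rule.fwd [nat_lit 450, nat_lit 303, nat_lit 429] 16 2)))) (.node (nat_lit 2) (.node (nat_lit 1) (.leaf (Rule.fwd [nat_lit 345, nat_lit 282, nat_lit 429, nat_lit 282, nat_lit 282] 19 0)) (.leaf (Rule.fwd [nat_lit 177, nat_lit 240, nat_lit 177, nat_lit 240, nat_lit 198] 26 5))) (.node (nat_lit 1) (.leaf (Rule.fwd [nat_lit 324, nat_lit 366, nat_lit 261] 10 1)) (.leaf (Rule.fwd [nat_lit 219, nat_lit 177, nat_lit 345, nat_lit 177, nat_lit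 408, nat_lit 408] 64 5))))) (.node (nat_lit 4) (.node (nat_lit 2) (.node (nat_lit 1) (.leaf (Rule.fwd [nat_lit 177, nat_lit 366, nat_lit 135, nat_lit 450, nat_lit 261, nat_lit 114] 51 0)) (.leaf (Rule.fwd [nat_lit 450, nat_lit 261, nat_lit 177, nat_lit 282, nat_lit 198] 31 0))) (.node (nat_lit 1) (.leaf (Rule.fwd [nat_lit 366, nat_lit 261, nat_lit 324] 10 2)) (.leaf (Rule.fwd [nat_lit 30, nat_lit 177, nat_lit 177, nat_lit 177, nat_lit 261, nat_lit 261, nat_lit 366, nat_lit 429, nat_lit 9, nat_lit 408] 78 2)))) (.node (nat_lit 2) (.node (nat_lit 1) (.leaf (Rule.fwd [nat_lit 408, nat_lit 324, nat_lit 408] 15 1)) (.leaf (Rule.fwd [nat_lit 345, nat_lit 177, nat_lit 450, nat_lit 408, nat_lit 177, nat_lit 219] 34 2))) (.leaf (Rule.fwd [nat_lit 450, nat_lit 429, nat_lit 282, nat_lit 282, nat_lit 366] 23 5))))), (.node (nat_lit 1) (.leaf XRule.defn) (.leaf XRule.ax))⟩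
noncomputable def ci345 : CI := ⟨[16], (nat_lit 366), true, (.node (nat_lit 16) (.node (nat_lit 8) (.node (nat_lit 4) (.node (nat_lit 2) (.node (nat_lit 1) (.leaf Rule.defn) (.leaf Rule.copy)) (.node (nat_lit 1) (.leaf (Rule.fwd [nat_lit 366] 92 0)) (.leaf (Rule.fwd [nat_lit 408, nat_lit 9, nat_lit 240, nat_lit 198, nat_lit 282, nat_lit 282, nat_lit 9, nat_lit 114] 72 2)))) (.node (nat_lit 2) (.node (nat_lit 1) (.leaf (Rule.fwd [nat_lit 9, nat_lit 429, nat_lit 408, nat_lit 198, nat_lit 240, nat_lit 198, nat_lit 114, nat_lit 156, nat_lit 114, nat_lit 135, nat_lit 9] 85 2)) (.leaf (Rule.fwd [nat_lit 261, nat_lit 9, nat_lit 177, nat_lit 261, nat_lit 303, nat_lit 261, nat_lit 366, nat_lit 450, nat_lit 429, nat_lit 9, nat_lit 177] 90 2))) (.node (nat_lit 1) (.leaf (Rule.fwd [nat_lit 408, nat_lit 345, nat_lit 408] 8 0)) (.leaf (Rule.fwd [nat_lit 261, nat_lit 261, nat_lit 429, nat_lit 450, nat_lit 303] 22 5))))) (.node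 (nat_lit 4) (.node (nat_lit 2) (.node (nat_lit 1) (.leaf (Rule.fwd [nat_lit 198, nat_lit 429, nat_lit 282, nat_lit 177, nat_lit 177, nat_lit 219] 32 3)) (.leaf (Rule.fwd [nat_lit 114, nat_lit 261, nat_lit 198, nat_lit 261, nat_lit 135, nat_lit 387] 55 2))) (.node (nat_lit 1) (.leaf (Rule.fwd [nat_lit 345, nat_lit 429, nat_lit 345] 3 2)) (.leaf (Rule.fwd [nat_lit 177, nat_lit 408, nat_lit 408, nat_lit 324, nat_lit 219, nat_lit 177] 64 1)))) (.node (nat_lit 2) (.node (nat_lit 1) (.leaf (Rule.fwd [nat_lit 303, nat_lit 303, nat_lit 282] 11 0)) (.leaf (Rule.fwd [nat_lit 429, nat_lit 345, nat_lit 345] 3 1))) (.node (nat_lit 1) (.leaf (Rule.fwd [nat_lit 324, nat_lit 345, nat_lit 177, nat_lit 282, nat_lit 198] 37 0)) (.leaf (Rule.fwd [nat_lit 93, nat_lit 450, nat_lit 219, nat_lit 387, nat_lit 261, nat_lit 93] 52 1)))))) (.node (nat_lit 4) (.node (nat_lit 2) (.node (nat_lit 1) (.leaf (Rule.fwd [nat_lit 450, nat_lit 345,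 nat_lit 450] 38 0)) (.leaf (Rule.fwd [nat_lit 282, nat_lit 429, nat_lit 282, nat_lit 282, nat_lit 324] 19 5))) (.node (nat_lit 1) (.leaf (Rule.fwd [nat_lit 93, nat_lit 282, nat_lit 156, nat_lit 282, nat_lit 177, nat_lit 387] 48 6)) (.leaf (Rule.fwd [nat_lit 177, nat_lit 450, nat_lit 408, nat_lit 177, nat_lit 219, nat_lit 324] 34 3)))) (.node (nat_lit 2) (.node (nat_lit 1) (.leaf (Rule.fwd [nat_lit 177, nat_lit 282, nat_lit 198, nat_lit 345, nat_lit 324] 37 4)) (.leaf (Rule.fwd [nat_lit 198, nat_lit 303, nat_lit 93, nat_lit 282, nat_lit 450, nat_lit 156] 50 4))) (.node (nat_lit 1) (.leaf (Rule.fwd [nat_lit 345, nat_lit 345, nat_lit 429] 3 3)) (.leaf (Rule.fwd [nat_lit 282, nat_lit 198, nat_lit 429, nat_lit 135, nat_lit 366, nat_lit 93] 62 1)))))), (.node (nat_lit 1) (.leaf XRule.defn) (.leaf XRule.ax))⟩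
noncomputable def ci366 : CI := ⟨[17], (nat_lit 345), true, (.node (nat_lit 16) (.node (nat_lit 8) (.node (nat_lit 4) (.node (nat_lit 2) (.node (nat_lit 1) (.leaf Rule.defn) (.leaf Rule.copy)) (.node (nat_lit 1) (.leaf (Rule.fwd [nat_lit 345] 92 0)) (.leaf (Rule.fwd [nat_lit 408, nat_lit 30, nat_lit 114, nat_lit 114, nat_lit 240, nat_lit 282, nat_lit 303, nat_lit 387, nat_lit 345, nat_lit 9, nat_lit 114] 86 2)))) (.node (nat_lit 2) (.node (nat_lit 1) (.leaf (Rule.fwd [nat_lit 408, nat_lit 366, nat_lit 408] 7 1)) (.leaf (Rule.fwd [nat_lit 303, nat_lit 261, nat_lit 261, nat_lit 429, nat_lit 261] 18 4))) (.node (nat_lit 1) (.leaf (Rule.fwd [nat_lit 261, nat_lit 324, nat_lit 324] 10 3)) (.leaf (Rule.fwd [nat_lit 324, nat_lit 450, nat_lit 429, nat_lit 282, nat_lit 282] 23 0))))) (.node (nat_lit 4) (.node (nat_lit 2) (.node (nat_lit 1) (.leaf (Rule.fwd [nat_lit 366, nat_lit 366, nat_lit 429] 2 0)) (.leaf (Rule.fwd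 [nat_lit 240, nat_lit 198, nat_lit 198, nat_lit 261, nat_lit 429, nat_lit 177] 33 4))) (.node (nat_lit 1) (.leaf (Rule.fwd [nat_lit 303, nat_lit 240, nat_lit 198, nat_lit 387, nat_lit 450, nat_lit 198] 35 4)) (.leaf (Rule.fwd [nat_lit 93, nat_lit 345, nat_lit 282, nat_lit 198, nat_lit 429, nat_lit 135] 62 6)))) (.node (nat_lit 2) (.node (nat_lit 1) (.leaf (Rule.fwd [nat_lit 177, nat_lit 261, nat_lit 198, nat_lit 366, nat_lit 303] 36 5)) (.leaf (Rule.fwd [nat_lit 429, nat_lit 366, nat_lit 366] 2 2))) (.node (nat_lit 1) (.leaf (Rule.fwd [nat_lit 114, nat_lit 282, nat_lit 408, nat_lit 240, nat_lit 450, nat_lit 114] 53 2)) (.leaf (Rule.fwd [nat_lit 387, nat_lit 366, nat_lit 387] 9 1)))))) (.node (nat_lit 4) (.node (nat_lit 2) (.node (nat_lit 1) (.leaf (Rule.fwd [nat_lit 30, nat_lit 156, nat_lit 93, nat_lit 135, nat_lit 93, nat_lit 177, nat_lit 219, nat_lit 177, nat_lit 387, nat_lit 429, nat_lit 30] 84 1)) (.leaf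 (Rule.fwd [nat_lit 366, nat_lit 429, nat_lit 366] 2 1))) (.node (nat_lit 1) (.leaf (Rule.fwd [nat_lit 198, nat_lit 30, nat_lit 429, nat_lit 450, nat_lit 345, nat_lit 282, nat_lit 324, nat_lit 282, nat_lit 198, nat_lit 30, nat_lit 282] 91 3)) (.leaf (Rule.fwd [nat_lit 408, nat_lit 156, nat_lit 282, nat_lit 177, nat_lit 282, nat_lit 93] 54 1)))) (.node (nat_lit 2) (.node (nat_lit 1) (.leaf (Rule.fwd [nat_lit 408, nat_lit 198, nat_lit 261, nat_lit 135, nat_lit 261, nat_lit 114] 49 0)) (.leaf (Rule.fwd [nat_lit 408, nat_lit 324, nat_lit 261, nat_lit 219, nat_lit 93, nat_lit 93, nat_lit 9, nat_lit 387, nat_lit 345, nat_lit 93, nat_lit 30] 87 0))) (.leaf (Rule.fwd [nat_lit 198, nat_lit 240, nat_lit 303, nat_lit 387, nat_lit 387, nat_lit 198] 65 2))))), (.node (nat_lit 1) (.leaf XRule.defn) (.leaf XRule.ax))⟩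
noncomputable def ci387 : CI := ⟨[18], (nat_lit 408), true, (.node (nat_lit 16) (.node (nat_lit 8) (.node (nat_lit 4) (.node (nat_lit 2) (.node (nat_lit 1) (.leaf Rule.defn) (.leaf Rule.copy)) (.node (nat_lit 1) (.leaf (Rule.fwd [nat_lit 408] 92 0)) (.leaf (Rule.fwd [nat_lit 303, nat_lit 30, nat_lit 30, nat_lit 240, nat_lit 240, nat_lit 198, nat_lit 408, nat_lit 450, nat_lit 9, nat_lit 9] 82 2)))) (.node (nat_lit 2) (.node (nat_lit 1) (.leaf (Rule.fwd [nat_lit 387, nat_lit 387, nat_lit 450] 5 3)) (.leaf (Rule.fwd [nat_lit 303, nat_lit 387, nat_lit 303] 14 1))) (.node (nat_lit 1) (.leaf (Rule.fwd [nat_lit 387, nat_lit 450, nat_lit 387] 5 2)) (.leaf (Rule.fwd [nat_lit 366, nat_lit 387, nat_lit 366] 9 0))))) (.node (nat_lit 4) (.node (nat_lit 2) (.node (nat_lit 1) (.leaf (Rule.fwd [nat_lit 198, nat_lit 240, nat_lit 429, nat_lit 282, nat_lit 198, nat_lit 324] 57 6)) (.leaf (Rule.fwd [nat_lit 387, nat_lit 198, nat_lit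 366, nat_lit 198, nat_lit 240, nat_lit 303] 65 5))) (.node (nat_lit 1) (.leaf (Rule.fwd [nat_lit 198, nat_lit 366, nat_lit 198, nat_lit 240, nat_lit 303, nat_lit 387] 65 4)) (.leaf (Rule.fwd [nat_lit 261, nat_lit 93, nat_lit 345, nat_lit 93, nat_lit 450, nat_lit 219] 52 5)))) (.node (nat_lit 2) (.node (nat_lit 1) (.leaf (Rule.fwd [nat_lit 429, nat_lit 387, nat_lit 429] 20 0)) (.leaf (Rule.fwd [nat_lit 450, nat_lit 387, nat_lit 387] 5 1))) (.node (nat_lit 1) (.leaf (Rule.fwd [nat_lit 366, nat_lit 93, nat_lit 30, nat_lit 261, nat_lit 261, nat_lit 177, nat_lit 219, nat_lit 30] 73 4)) (.leaf (Rule.fwd [nat_lit 30, nat_lit 429, nat_lit 345, nat_lit 282, nat_lit 282, nat_lit 198, nat_lit 198, nat_lit 198, nat_lit 9, nat_lit 303] 79 2)))))) (.node (nat_lit 4) (.node (nat_lit 2) (.node (nat_lit 1) (.leaf (Rule.fwd [nat_lit 9, nat_lit 450, nat_lit 408, nat_lit 282, nat_lit 198, nat_lit 219, nat_lit 93, nat_lit 30, nat_lit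 282] 75 2)) (.leaf (Rule.fwd [nat_lit 135, nat_lit 114, nat_lit 198, nat_lit 198, nat_lit 114, nat_lit 282] 45 3))) (.node (nat_lit 1) (.leaf (Rule.fwd [nat_lit 135, nat_lit 114, nat_lit 240, nat_lit 135, nat_lit 198, nat_lit 114] 61 3)) (.leaf (Rule.fwd [nat_lit 345, nat_lit 387, nat_lit 345] 6 1)))) (.node (nat_lit 2) (.node (nat_lit 1) (.leaf (Rule.fwd [nat_lit 345, nat_lit 93, nat_lit 282, nat_lit 156, nat_lit 282, nat_lit 177] 48 5)) (.leaf (Rule.fwd [nat_lit 177, nat_lit 261, nat_lit 93, nat_lit 177, nat_lit 429, nat_lit 156] 46 4))) (.leaf (Rule.fwd [nat_lit 450, nat_lit 198, nat_lit 366, nat_lit 303, nat_lit 240, nat_lit 198] 35 0))))), (.node (nat_lit 1) (.leaf XRule.defn) (.leaf XRule.ax))⟩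
noncomputable def ci408 : CI := ⟨[19], (nat_lit 387), true, (.node (nat_lit 16) (.node (nat_lit 8) (.node (nat_lit 4) (.node (nat_lit 2) (.node (nat_lit 1) (.leaf Rule.defn) (.leaf Rule.copy)) (.node (nat_lit 1) (.leaf (Rule.fwd [nat_lit 387] 92 0)) (.leaf (Rule.fwd [nat_lit 324, nat_lit 30, nat_lit 177, nat_lit 177, nat_lit 177, nat_lit 261, nat_lit 261, nat_lit 366, nat_lit 429, nat_lit 9] 78 1)))) (.node (nat_lit 2) (.node (nat_lit 1) (.leaf (Rule.fwd [nat_lit 366, nat_lit 408, nat_lit 366] 7 0)) (.leaf (Rule.fwd [nat_lit 261, nat_lit 9, nat_lit 114, nat_lit 240, nat_lit 177, nat_lit 261, nat_lit 387, nat_lit 450, nat_lit 30] 74 1))) (.node (nat_lit 1) (.leaf (Rule.fwd [nat_lit 450, nat_lit 408, nat_lit 408] 4 2)) (.leaf (Rule.fwd [nat_lit 345, nat_lit 408, nat_lit 345] 8 1))))) (.node (nat_lit 4) (.node (nat_lit 2) (.node (nat_lit 1) (.leaf (Rule.fwd [nat_lit 135, nat_lit 429, nat_lit 198, nat_lit 114, nat_lit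 282, nat_lit 198] 47 5)) (.leaf (Rule.fwd [nat_lit 156, nat_lit 282, nat_lit 177, nat_lit 282, nat_lit 93, nat_lit 366] 54 2))) (.node (nat_lit 1) (.leaf (Rule.fwd [nat_lit 177, nat_lit 219, nat_lit 324, nat_lit 345, nat_lit 177, nat_lit 450] 34 6)) (.leaf (Rule.fwd [nat_lit 408, nat_lit 324, nat_lit 219, nat_lit 177, nat_lit 345, nat_lit 177] 64 3)))) (.node (nat_lit 2) (.node (nat_lit 1) (.leaf (Rule.fwd [nat_lit 240, nat_lit 450, nat_lit 114, nat_lit 366, nat_lit 114, nat_lit 282] 53 6)) (.leaf (Rule.fwd [nat_lit 408, nat_lit 450, nat_lit 408] 4 1))) (.node (nat_lit 1) (.leaf (Rule.fwd [nat_lit 93, nat_lit 177, nat_lit 156, nat_lit 219, nat_lit 93, nat_lit 156] 60 2)) (.leaf (Rule.fwd [nat_lit 261, nat_lit 93, nat_lit 177, nat_lit 177, nat_lit 93, nat_lit 156] 44 2)))))) (.node (nat_lit 4) (.node (nat_lit 2) (.node (nat_lit 1) (.leaf (Rule.fwd [nat_lit 429, nat_lit 408, nat_lit 429] 21 1)) (.leaf (Rule.fwd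 [nat_lit 198, nat_lit 261, nat_lit 135, nat_lit 261, nat_lit 114, nat_lit 366] 49 6))) (.node (nat_lit 1) (.leaf (Rule.fwd [nat_lit 30, nat_lit 30, nat_lit 450, nat_lit 387, nat_lit 177, nat_lit 219, nat_lit 219, nat_lit 9, nat_lit 9, nat_lit 324] 83 3)) (.leaf (Rule.fwd [nat_lit 30, nat_lit 114, nat_lit 114, nat_lit 240, nat_lit 282, nat_lit 303, nat_lit 387, nat_lit 345, nat_lit 9, nat_lit 114, nat_lit 366] 86 3)))) (.node (nat_lit 1) (.leaf (Rule.fwd [nat_lit 303, nat_lit 177, nat_lit 261, nat_lit 429, nat_lit 219, nat_lit 177] 56 5)) (.leaf (Rule.fwd [nat_lit 324, nat_lit 219, nat_lit 177, nat_lit 345, nat_lit 177, nat_lit 408] 64 4))))), (.node (nat_lit 1) (.leaf XRule.defn) (.leaf XRule.ax))⟩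
noncomputable def ci429 : CI := ⟨[20], (nat_lit 429), true, (.node (nat_lit 16) (.node (nat_lit 8) (.node (nat_lit 4) (.node (nat_lit 2) (.node (nat_lit 1) (.leaf Rule.defn) (.leaf Rule.copy)) (.node (nat_lit 1) (.leaf (Rule.fwd [nat_lit 429] 92 0)) (.leaf (Rule.fwd [nat_lit 30, nat_lit 30, nat_lit 429, nat_lit 9, nat_lit 9] 70 2)))) (.node (nat_lit 2) (.node (nat_lit 1) (.leaf (Rule.fwd [nat_lit 387, nat_lit 429, nat_lit 387] 20 1)) (.leaf (Rule.fwd [nat_lit 366, nat_lit 366, nat_lit 366] 2 3))) (.node (nat_lit 1) (.leaf (Rule.fwd [nat_lit 324, nat_lit 450, nat_lit 303] 16 1)) (.leaf (Rule.fwd [nat_lit 9, nat_lit 9, nat_lit 429, nat_lit 30, nat_lit 30] 70 5))))) (.node (nat_lit 4) (.node (nat_lit 2) (.node (nat_lit 1) (.leaf (Rule.fwd [nat_lit 345, nat_lit 345, nat_lit 345] 3 0)) (.leaf (Rule.fwd [nat_lit 408, nat_lit 429, nat_lit 408] 21 0))) (.node (nat_lit 1) (.leaf (Rule.fwd [nat_lit 261, nat_lit 366, nat_lit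 303, nat_lit 261, nat_lit 261] 18 2)) (.leaf (Rule.fwd [nat_lit 282, nat_lit 198, nat_lit 324, nat_lit 387, nat_lit 198, nat_lit 240] 57 3)))) (.node (nat_lit 2) (.node (nat_lit 1) (.leaf (Rule.fwd [nat_lit 282, nat_lit 282, nat_lit 324, nat_lit 345, nat_lit 282] 19 3)) (.leaf (Rule.fwd [nat_lit 282, nat_lit 177, nat_lit 177, nat_lit 219, nat_lit 345, nat_lit 198] 32 5))) (.node (nat_lit 1) (.leaf (Rule.fwd [nat_lit 219, nat_lit 177, nat_lit 408, nat_lit 303, nat_lit 177, nat_lit 261] 56 2)) (.leaf (Rule.fwd [nat_lit 198, nat_lit 114, nat_lit 282, nat_lit 198, nat_lit 408, nat_lit 135] 47 3)))))) (.node (nat_lit 4) (.node (nat_lit 2) (.node (nat_lit 1) (.leaf (Rule.fwd [nat_lit 156, nat_lit 387, nat_lit 177, nat_lit 261, nat_lit 93, nat_lit 177] 46 2)) (.leaf (Rule.fwd [nat_lit 9, nat_lit 408, nat_lit 324, nat_lit 30, nat_lit 177, nat_lit 177, nat_lit 177, nat_lit 261, nat_lit 261, nat_lit 366] 78 10))) (.node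 (nat_lit 1) (.leaf (Rule.fwd [nat_lit 450, nat_lit 429, nat_lit 450] 0 0)) (.leaf (Rule.fwd [nat_lit 450, nat_lit 303, nat_lit 345, nat_lit 261, nat_lit 261] 22 2)))) (.node (nat_lit 1) (.leaf (Rule.fwd [nat_lit 282, nat_lit 282, nat_lit 366, nat_lit 324, nat_lit 450] 23 3)) (.leaf (Rule.fwd [nat_lit 135, nat_lit 366, nat_lit 93, nat_lit 345, nat_lit 282, nat_lit 198] 62 4))))), (.node (nat_lit 1) (.leaf XRule.defn) (.leaf XRule.ax))⟩
noncomputable def ci450 : CI := ⟨[21], (nat_lit 450), true, (.node (nat_lit 16) (.node (nat_lit 8) (.node (nat_lit 4) (.node (nat_lit 2) (.node (nat_lit 1) (.leaf Rule.defn) (.leaf Rule.copy)) (.node (nat_lit 1) (.leaf (Rule.fwd [nat_lit 450] 92 0)) (.leaf (Rule.fwd [nat_lit 303, nat_lit 429, nat_lit 324] 16 3)))) (.node (nat_lit 2) (.node (nat_lit 1) (.leaf (Rule.fwd [nat_lit 198, nat_lit 30, nat_lit 261, nat_lit 303, nat_lit 261, nat_lit 408, nat_lit 366, nat_lit 9, nat_lit 177]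 88 2)) (.leaf (Rule.fwd [nat_lit 387, nat_lit 387, nat_lit 387] 5 0))) (.node (nat_lit 1) (.leaf (Rule.fwd [nat_lit 408, nat_lit 408, nat_lit 408] 4 3)) (.leaf (Rule.fwd [nat_lit 345, nat_lit 450, nat_lit 345] 38 1))))) (.node (nat_lit 4) (.node (nat_lit 2) (.node (nat_lit 1) (.leaf (Rule.fwd [nat_lit 366, nat_lit 450, nat_lit 366] 39 0)) (.leaf (Rule.fwd [nat_lit 198, nat_lit 366, nat_lit 303, nat_lit 240, nat_lit 198, nat_lit 387] 35 6))) (.node (nat_lit 1) (.leaf (Rule.fwd [nat_lit 219, nat_lit 387, nat_lit 261, nat_lit 93, nat_lit 345, nat_lit 93] 52 3)) (.leaf (Rule.fwd [nat_lit 408, nat_lit 177, nat_lit 219, nat_lit 324, nat_lit 345, nat_lit 177] 34 5)))) (.node (nat_lit 2) (.node (nat_lit 1) (.leaf (Rule.fwd [nat_lit 303, nat_lit 177, nat_lit 261, nat_lit 198, nat_lit 282] 30 4)) (.leaf (Rule.fwd [nat_lit 429, nat_lit 450, nat_lit 429] 0 1))) (.node (nat_lit 1) (.leaf (Rule.fwd [nat_lit 114, nat_lit 366,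 nat_lit 114, nat_lit 282, nat_lit 408, nat_lit 240] 53 4)) (.leaf (Rule.fwd [nat_lit 261, nat_lit 114, nat_lit 324, nat_lit 177, nat_lit 366, nat_lit 135] 51 3)))))) (.node (nat_lit 2) (.node (nat_lit 1) (.leaf (Rule.fwd [nat_lit 429, nat_lit 282, nat_lit 282, nat_lit 366, nat_lit 324] 23 4)) (.leaf (Rule.fwd [nat_lit 303, nat_lit 345, nat_lit 261, nat_lit 261, nat_lit 429] 22 3))) (.node (nat_lit 1) (.leaf (Rule.fwd [nat_lit 261, nat_lit 177, nat_lit 282, nat_lit 198, nat_lit 324] 31 5)) (.leaf (Rule.fwd [nat_lit 156, nat_lit 345, nat_lit 198, nat_lit 303, nat_lit 93, nat_lit 282] 50 2))))), (.node (nat_lit 1) (.leaf XRule.defn) (.leaf XRule.ax))⟩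
noncomputable def outer : Tr CI := (.node (nat_lit 1) (.node (nat_lit 2) (.node (nat_lit 8) (.node (nat_lit 4) (.node (nat_lit 16) (.leaf ci0) (.leaf ci240)) (.leaf ci324)) (.node (nat_lit 4) (.node (nat_lit 16) (.leaf ci72) (.leaf ci408)) (.leaf ci156))) (.node (nat_lit 4) (.node (nat_lit 8) (.node (nat_lit 16) (.leaf ci450) (.leaf ci114)) (.leaf ci282)) (.node (nat_lit 8) (.leaf ci198) (.node (nat_lit 16) (.leaf ci366) (.leaf ci30))))) (.node (nat_lit 2) (.node (nat_lit 4) (.node (nat_lit 8) (.leaf ci177) (.node (nat_lit 16) (.leaf ci9) (.leaf ci345))) (.node (nat_lit 8) (.leaf ci261) (.node (nat_lit 16) (.leaf ci429) (.leaf ci93)))) (.node (nat_lit 4) (.node (nat_lit 8) (.node (nat_lit 16) (.leaf ci387) (.leaf ci51)) (.leaf ci219)) (.node (nat_lit 8) (.leaf ci135) (.leaf ci303)))))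
def cols : List ℕ := [nat_lit 9, nat_lit 30, nat_lit 51, nat_lit 72, nat_lit 93, nat_lit 114, nat_lit 135, nat_lit 156, nat_lit 177, nat_lit 198, nat_lit 219, nat_lit 240, nat_lit 261, nat_lit 282, nat_lit 303, nat_lit 324, nat_lit 345, nat_lit 366, nat_lit 387, nat_lit 408, nat_lit 429, nat_lit 450]
def invL : List ℕ := [1, 0, 3, 2, 5, 4, 7, 6, 9, 8, 11, 10, 13, 12, 15, 14, 17, 16, 19, 18, 20, 21]
def rels : List (List ℕ) := [[20, 21, 20, 21], [17, 17, 17, 20], [19, 19, 19, 21], [16, 18, 16, 18], [16, 19, 16, 19], [12, 15, 15, 17], [12, 14, 12, 14, 12, 12, 12, 15, 15, 19], [14, 18, 14, 18], [14, 20, 15, 21], [12, 12, 20, 12, 17, 14], [18, 20, 18, 20], [12, 12, 20, 21, 14, 16], [9, 10, 9, 11, 9, 13], [8, 11, 8, 11, 9, 15], [10, 13, 10, 13], [8, 12, 9, 13, 21, 14], [8, 8, 10, 16, 9, 20, 13], [8, 10, 15, 16, 8, 21, 19], [8, 12, 9, 17, 14, 17], [16, 21, 16, 21], [5, 6, 4, 7, 7, 5, 5, 9], [4, 4, 7, 7, 4, 6, 5, 5,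 11], [4, 7, 19, 12, 4, 8, 8], [4, 8, 20, 7, 18, 8, 12], [4, 13, 7, 13, 8, 18, 16], [4, 13, 21, 7, 16, 9, 14], [4, 16, 4, 21, 10, 18, 12], [4, 17, 19, 7, 13, 8, 13], [8, 12, 20, 10, 8, 19, 14], [4, 8, 7, 13, 6, 10, 10], [4, 7, 19, 4, 8, 7, 10], [4, 16, 13, 9, 20, 6, 17], [8, 16, 8, 19, 19, 15, 10], [1, 3, 0, 0, 0, 2, 1, 3, 0, 0, 5], [1, 2, 0, 3, 0, 3, 0, 3, 0, 0, 7], [0, 0, 20, 1, 1, 20], [0, 5, 16, 19, 0, 11, 9, 13, 13], [1, 19, 12, 0, 5, 11, 8, 12, 18, 21], [0, 4, 1, 3, 0, 5, 6, 12, 12, 21], [0, 19, 15, 1, 8, 8, 8, 12, 12, 17, 20], [0, 7, 0, 14, 1, 5, 13, 19, 16], [0, 0, 18, 14, 1, 1, 11, 11, 9, 19, 21], [1, 17, 1, 7, 4, 6, 4, 8, 10, 8, 18, 20], [0, 5, 17, 19, 1, 5, 5, 11, 13, 14, 18, 16], [0, 8, 21, 9, 1, 12, 14, 12, 19, 17], [0, 8, 16, 12, 0, 8, 12, 14, 12, 17, 21, 20]]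
def subs : List (List ℕ) := [[4], [5], [6], [7], [8], [9], [10], [11], [12], [13], [14], [15], [16], [17], [18], [19], [20], [21]]
noncomputable def row (n : ℕ) : ℕ := rowOf (fun h => rows.get h) (nat_lit 5) (nat_lit 31) (nat_lit 471) (nat_lit 0x7fffffffffffffffffffffffffffffffffffffffffffffffffffffffffffffffffffffffffffffffffffffffffffffffffffffffffffffffffffff) n
noncomputable def xleaf (h : ℕ) : ℕ := recs.get h
noncomputable def mF : ℕ → ℕ := mainRow row (rowChk row xleaf outer (nat_lit 8) (nat_lit 255) (nat_lit 31) (nat_lit 13) (nat_lit 8191) (nat_lit 2097151) (nat_lit 256) (nat_lit 120) (nat_lit 256) (nat_lit 9) (nat_lit 511) (nat_lit 17) (nat_lit 131071) (nat_lit 8) (nat_lit 255) cols)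
noncomputable def xF : ℕ → ℕ → ℕ := xLeaf row xleaf outer (nat_lit 255) (nat_lit 13) (nat_lit 2097151) (nat_lit 256) (nat_lit 120) (nat_lit 9) (nat_lit 511) (nat_lit 17) (nat_lit 131071) (nat_lit 130560) (nat_lit 8) (nat_lit 255) (nat_lit 10) (nat_lit 1023) (nat_lit 2) (nat_lit 3) (nat_lit 450) (nat_lit 61440) (nat_lit 128)
noncomputable def cert : Cert := ⟨row, xleaf, outer, cols, nat_lit 8, nat_lit 255, nat_lit 31, nat_lit 13, nat_lit 8191, nat_lit 2097151, nat_lit 256, nat_lit 120, nat_lit 256, nat_lit 9, nat_lit 511, nat_lit 17, nat_lit 131071, nat_lit 130560, nat_lit 8, nat_lit 255, nat_lit 10, nat_lit 1023, nat_lit 2, nat_lit 3, nat_lit 450, nat_lit 61440, nat_lit 128, nat_lit 21, nat_lit 128, nat_lit 1⟩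
theorem tabok : tabOK (fun i => invL.getD i i) rels subs outer cols (nat_lit 9) (nat_lit 450) = true := by decide +kernel
theorem m0 : rng mF (nat_lit 1) (nat_lit 120) = 0 := by decide +kernel
noncomputable def s0 : List ℕ := [nat_lit 0x401004010040100401004010000000000000000000000000000000000000000000000000000000000000000000000000000000000000000000000000000000000000000000000000000000000000000000000000000000000000000000000000000000000000000000000000000000000000000000000000000000000000000000000000000000000000000000000000000000000000000000000000000000]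
theorem x0 : xs xF s0 (nat_lit 1) = 0 := by decide +kernel
theorem mz0 : AllZ mF 1 (nat_lit 121) := (AllZ.step (AllZ.nil mF 1) (nat_lit 120) (nat_lit 121) rfl m0)
theorem xz0 : XZ xF (nat_lit 1) := (XZ.step (XZ.nil xF) s0 (nat_lit 1) (nat_lit 1) (by decide +kernel) x0)
/-- the certificate (120 points) is valid -/
theorem valid : cert.Valid (fun i => invL.getD i i) rels subs 22 :=
  ⟨by decide +kernel, tabok, by decide +kernel, mz0, xz0⟩
theorem cert_N : cert.N = 120 := rfl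

end CL.TC.GPo8p2L1
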