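import Cfsg.Agent.Spor.TCSound

/-! coset enumeration certificate generated by tools/tc -/

set_option maxRecDepth 100000
set_option autoImplicit false
set_option linter.all false

namespace CL.TC.GPo8p2L2

noncomputable def rows0 : Tr ℕ := (.node (nat_lit 1) (.leaf (nat_lit 0xa8c20da305fe105a2b07c031abcc13ae7139c62c9e32b92d2cbe30cb470eaa313de50ba051a9671b90e348e32c9ad91855c189e050d47196ff082e250d5018a4751151603d1403dc304cf195e2185d218a3e21235192d648fd518fc3648cc648c461949a48c465b09a58cc600c1a08c9a610ba01892120a9c14a24c4d9d0cda10cb9d8cb7f8415f0c983bc0e3bdca3bc4e13c4609ac81bc4e2ffc20998e1ba461d9c61d9082f30e5960c0bd86616861f3062b1d66b20e74e5c0908ba916c2330b2316c6608ce930d030dd0830de50dfe104b270ab251a9e32b9632db4409ac513968388c33154cc20ac73914a18cce7114a50cca70ad14854a18cc818a5718d4f18cff082497914c1964a1904a30d4818c4f187a06aa04eb0c2a40cb2f8c7f08c7f0ac82728aed0c16c246e9a452c0c72a0c526b0b7f841248c6e78c8388c2e70c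58b33c6573c657516292d43749029246372d03765615a8e27646156cc2741437dc6137461d40679346755501ffc208098a6188c6188a3398713d8c33abe31074b3d70b3a6c33efc33e70c29fc33d72325803248e3388ea2cfe1049251b0ef1186ec38bff081ed287f018ef4186f0204dd30b69404f021851303e318ee01845f5063f21cc819c565074619e4d6d0c32e0c72d2472e1c2ee0c32db02ee0c5ed283ae183ef0c22e983ff840ef8c3adac2a68cee50c427906aa8cdd032c63755029352573d229246373c6572485b2d6572c65b80e0bfc2076d01f612618061b34c3b6c61f1464eed6729596b22a83159c315a631992c22a23199032ca2b1fa431a9271baa41ab270aa681ffe1038c92fa44269e30d8e3232cd418d5d30fcf196d94055d19058185461915619058182e918cd8402da18cff081d66905518e57184d53854a31c1b60984a18cf1e0cd7f0cf289c1a114a613891d38d62b4c5f0c9e134d67a4a9e0cb9d0ca5f8ccbf840dfa89288c34631485d29c3d28a3d35e69346693c85d086530c64f188231462300e0d08646f864330621fc206e066744e0f35018458c43a92a1094332fc33bc0718fc33a764397632afc339fc3387a33688b349ad117a333967169032f84f06f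e10304ff08170301ec18bee207701876e184e51986a182611845b18b5a18adc18b5e186da602dc28adb20ed060dd418cd779980ff840b68c3f69437a94138983ec8c5b990334187751876c8c8310cc2f1c6702059f209e01ca2e1026a8c5e93c8e2fb0e1bb061dfc205d482fa863b9463ba4c3995007b86392c65b2c65b84a2b7d21f11a633065d4962540a2921b6516c6308c4308ca630d0330ba916e430efe102b6a0cb430ca282bc0520bc317ba70898c21fc33798311fc33668e5418661985b18b701845a18b611846018463181e818170281ff081602046e1906330ffe19afe19a49216f220d256d2c7eb986ac0c4e634b2ca04ed3416c0c6680c6ed2c6658cb6c0c52c0c72d0c5bf840bf0ccff0ccbf0cc6a0c4cb3dca13e4809d0809c063bbca1fd0605a4605bc62ff8661a062f1d0456c63ffc205e08336082764639f865f6c61c6dbe31cc870ce280bc650cc460bc431cc2303c280bbe916c460fbe30bb8605b830cc27179a307fe102fc32eac30518cb683d1503d01904e182c9196cc1964f482fe196d018fd018ffe1965018bd25827e195ff0814e2847e19550188917f0ca60949208c9ff0ca3f0c9e80c4a1949a0a07bf0c9a18c8ff0c95f8c47f0c93f0c8ff0c8bf0c87f84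0a08c403b60c0bb90413d80ff864164615f863f6ce353860f7c62b650276c6115c6276461f5c63b4c809fc2035ca11f863c31f0404f0309e461de6309ee303e830ed650ffc31dfc31cf0302fc31be6402fc31aa2307fe101a4305fc319fc31822f21876f187f32817e18bf61817828264305e24846f185e4186fe18b7e18afe18a7e189fe1897e188fe1887f080827f0c3ff0c3bf0c3790c0fa9827b900ff0c3351427c90134902f90c13f0c2ff0c2bf0c27f0c23f0c1ff8407f0c183be0403e4403e4603e8403e8603ec403ec603f0403f0603f4403f4603f8403f8603fc403f860bf8609f8607f860400)) (.leaf (nat_lit 0x3589b375153519c377953041b3519c3019d3551c3391d2d19eb279c3219f3431cb2617ff09532415b029632198115c94c9c8cbdca4edda4e9bc0f5b98edb8ca9abcdff8461bcc619a0fe18cd5ad4f60b0f218cb62b0c5f8ccdca89d7ae267b08e730863112072d4664d867ce0676e4630ba67ee465ffc230eda5cec654d067ce886edd644d2474f0644957683c88d12fe1128643578a248632780327786288a3347d12884423723248033e8a33188334a26198ef178892f9ac4897c83997f0883819f3619f4571cb319c3949eb819b3d1953f79cc5493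be19ac21993c7934e30b3691db519dcd628c42510e9d0cfa63cbff844239061b8c618b4fe390c990cfde0cddb0ce662cca30cd272065e14d638c7598cf61b014730467b0c67b19c31106771065f0885ee8620e4671fc220dd474f867702652cc67f00646f862ee862aec666a98ea2572d25903376c53f6cf3f945376833f6893bfe1107523974e286233f8a32376e2592b1790918923139431c5ec01953719b3e19b4979c4919c491953419f3c317d419bd551bb91993d39d3a199bfa147f0863919ed630b45416915a0cfdc1cdde8c95fc0ddb8c9578cfdb8cc9b8c96190a9cb4edf8cb9f1c41da07a40c79c0ca5ebcc3f8431b0ca83af646ae966b08678f502518e46f8a50e4624f8646f0652e86531167d046251a04cfe476ec675fc2171a2451863a31b8a26a0a2698311a6331ae9319cf1182d31843247ce288ca3c863108a6318f03aa0326fe10b8ab3cac7308e32022b7519b9819b9199ba499b7199b8219b8199b9599cd199ce799b9197b5192be7883b21bb9588ff0853c89cc061f0c5c0cfa38cee20cbe5a042a8cbdb14f5a0c95c40da38c9630cea4a899d18de1c8ee58cebf842a0344a89cadf20a48b2983d3065d508690c65d30e3d586690164700669006471062510668f5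8531a2790c64f1067d0c61b1e039fc21409c830bce90bc830cc441ccc31cd280cce31ccc40fde317fe109c650e8e522ee41dae315783368632a6673faa33454c319dba69f4b19d452994579cd62993b19bc119cba49ec0792ba1923a719b119fbc897494884518a4319e7f08482620c46698c623cc658c9a70c4680c9a210a2110a613c9258c79d0cf6010d9d8cbdec04a6a4361b47a20c9bf84201319e592d85b20a3f41827286592920ffc20f2062b3181531c2b3121b30e1b31c3930634f1c3d11c7d1066f20616e58a32d9092c9630a92b1a9aa0796e2d9a32092c14903209ec2b9631dfe1079a41b8e3228c318a082390d205e33f40d070cd058cc96914c18ad058ac71914a18acd18d4e196505905030fd01867f083d070e3119fc2194c2194501991b60b8ddb0cfdb0cfdec09651cddc3095e1c41c28f9f24ee10cda70c4a08c7a1c09de34f6224c3f0cfdbb8dbf841c13fc20d0464f00648f864704625046490465d0da22ee06af606af0662dc630ee624fc6730d456e546cf4664f16435d8702382f28fe1067b1247a3358b0237633c8632e7a33c7a3346e31e723387c337773217e30e7a424723218652b9abf81242214c7191c22834439e7f08344508c161e3f309431934419d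bc190c4818c219540192bd1873819f4628abe6d8cd278cd2638ba10c7a8a4ba50c7a1307a10c1a22c9ff841a18c8640cca8a8d228cd688c51d8cedfb47a29cb95318670e0670f0654fa26cdc654e146ce1a6cd5664fc65f21864d9867fc20ce8670e9630d963f0504ee104adc64a817c32780306783288262984e297633c86834823127e31e8232e7493c7642f83418fe106783287a31f770237c3122cc219447511bf694c8793c41944519abf61abf198c420341418c3508c119e7f0834679c4f1964129cc838a3a1921b650c5230c6e68c6e40cae434ae40c5230c7e3b44e28c8a3408a30cc230c26438b240c6db0cf7f8419eccf628cd462e9c42f9042f4642f9242e0642e6242e9642e4642fa242f4642f584f1124ce8650fd823fc20d2c618ec652e945045)))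
noncomputable def recs0 : Tr ℕ := (.leaf (nat_lit 0x1ae80d7406920349019a80c84061a02f9017280b44057a02a9014a80a0404da0259))
noncomputable def rows : Tr ℕ := rows0
noncomputable def recs : Tr ℕ := recs0
noncomputable def ci0 : CI := ⟨[], (nat_lit 0), false, (.node (nat_lit 1) (.leaf Rule.defn) (.leaf Rule.copy)), (.leaf (XRule.rot (nat_lit 0) [] 66 0))⟩
noncomputable def ci9 : CI := ⟨[0], (nat_lit 29), false, (.node (nat_lit 8) (.node (nat_lit 4) (.node (nat_lit 2) (.node (nat_lit 1) (.leaf Rule.defn) (.leaf Rule.copy)) (.node (nat_lit 1) (.leaf (Rule.fwd [nat_lit 29] 66 0)) (.leaf (Rule.fwd [nat_lit 89, nat_lit 69, nat_lit 189, nat_lit 49, nat_lit 129, nat_lit 129] 58 0)))) (.node (nat_lit 2) (.node (nat_lit 1) (.leaf (Rule.fwd [nat_lit 249, nat_lit 189, nat_lit 109, nat_lit 329, nat_lit 49, nat_lit 269] 62 0)) (.leaf (Rule.fwd [nat_lit 189, nat_lit 69, nat_lit 189, nat_lit 89, nat_lit 289, nat_lit 249] 48 0)))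 (.node (nat_lit 1) (.leaf (Rule.fwd [nat_lit 69, nat_lit 309, nat_lit 169, nat_lit 9, nat_lit 89, nat_lit 89] 44 0)) (.leaf (Rule.fwd [nat_lit 349, nat_lit 129, nat_lit 289, nat_lit 169, nat_lit 9, nat_lit 249] 52 2))))) (.node (nat_lit 2) (.node (nat_lit 1) (.leaf (Rule.fwd [nat_lit 69, nat_lit 69, nat_lit 29, nat_lit 29, nat_lit 109, nat_lit 29, nat_lit 49] 40 2)) (.leaf (Rule.fwd [nat_lit 89, nat_lit 69, nat_lit 129, nat_lit 9, nat_lit 69, nat_lit 309] 60 3))) (.node (nat_lit 1) (.leaf (Rule.fwd [nat_lit 69, nat_lit 309, nat_lit 9, nat_lit 89, nat_lit 69, nat_lit 129] 60 0)) (.leaf (Rule.fwd [nat_lit 89, nat_lit 9, nat_lit 9, nat_lit 49, nat_lit 49, nat_lit 29, nat_lit 69] 41 1))))), (.node (nat_lit 1) (.leaf XRule.defn) (.leaf XRule.defn))⟩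
noncomputable def ci29 : CI := ⟨[1], (nat_lit 9), false, (.node (nat_lit 16) (.node (nat_lit 8) (.node (nat_lit 4) (.node (nat_lit 2) (.node (nat_lit 1) (.leaf Rule.defn) (.leaf Rule.copy)) (.node (nat_lit 1) (.leaf (Rule.fwd [nat_lit 9] 66 0)) (.leaf (Rule.fwd [nat_lit 249, nat_lit 69, nat_lit 329, nat_lit 89, nat_lit 169, nat_lit 269] 63 1)))) (.node (nat_lit 2) (.node (nat_lit 1) (.leaf (Rule.fwd [nat_lit 189, nat_lit 109, nat_lit 309, nat_lit 49, nat_lit 329, nat_lit 109] 47 1)) (.leaf (Rule.fwd [nat_lit 149, nat_lit 49, nat_lit 109, nat_lit 29, nat_lit 289, nat_lit 49] 61 1))) (.node (nat_lit 1) (.leaf (Rule.fwd [nat_lit 109, nat_lit 109, nat_lit 29, nat_lit 189, nat_lit 289, nat_lit 49] 45 1)) (.leaf (Rule.fwd [nat_lit 189, nat_lit 289, nat_lit 49, nat_lit 29, nat_lit 109, nat_lit 109] 45 5))))) (.node (nat_lit 4) (.node (nat_lit 2) (.node (nat_lit 1) (.leaf (Rule.fwd [nat_lit 269, nat_lit 29, nat_lit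 189, nat_lit 309, nat_lit 149, nat_lit 349] 53 3)) (.leaf (Rule.fwd [nat_lit 269, nat_lit 309, nat_lit 109, nat_lit 169, nat_lit 49, nat_lit 169] 49 1))) (.node (nat_lit 1) (.leaf (Rule.fwd [nat_lit 49, nat_lit 9, nat_lit 69, nat_lit 69, nat_lit 29, nat_lit 29, nat_lit 109] 40 0)) (.leaf (Rule.fwd [nat_lit 229, nat_lit 89, nat_lit 269, nat_lit 49, nat_lit 349, nat_lit 169] 51 1)))) (.node (nat_lit 2) (.node (nat_lit 1) (.leaf (Rule.fwd [nat_lit 169, nat_lit 109, nat_lit 169, nat_lit 49, nat_lit 289, nat_lit 249] 55 1)) (.leaf (Rule.fwd [nat_lit 69, nat_lit 9, nat_lit 89, nat_lit 9, nat_lit 9, nat_lit 49, nat_lit 49] 41 3))) (.node (nat_lit 1) (.leaf (Rule.fwd [nat_lit 29, nat_lit 109, nat_lit 29, nat_lit 49, nat_lit 9, nat_lit 69, nat_lit 69] 40 5)) (.leaf (Rule.fwd [nat_lit 189, nat_lit 309, nat_lit 149, nat_lit 349, nat_lit 29, nat_lit 269] 53 1)))))) (.node (nat_lit 2) (.node (nat_lit 1) (.leaf (Rule.fwd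 [nat_lit 109, nat_lit 29, nat_lit 49, nat_lit 9, nat_lit 69, nat_lit 69, nat_lit 29] 40 6)) (.leaf (Rule.fwd [nat_lit 149, nat_lit 149, nat_lit 69, nat_lit 169, nat_lit 49, nat_lit 109] 59 1))) (.leaf (Rule.fwd [nat_lit 289, nat_lit 49, nat_lit 29, nat_lit 149, nat_lit 49, nat_lit 109] 61 4)))), (.node (nat_lit 1) (.leaf XRule.defn) (.leaf XRule.defn))⟩
noncomputable def ci49 : CI := ⟨[2], (nat_lit 69), false, (.node (nat_lit 8) (.node (nat_lit 4) (.node (nat_lit 2) (.node (nat_lit 1) (.leaf Rule.defn) (.leaf Rule.copy)) (.node (nat_lit 1) (.leaf (Rule.fwd [nat_lit 69] 66 0)) (.leaf (Rule.fwd [nat_lit 169, nat_lit 29, nat_lit 269, nat_lit 309, nat_lit 109, nat_lit 169] 49 3)))) (.node (nat_lit 2) (.node (nat_lit 1) (.leaf (Rule.fwd [nat_lit 289, nat_lit 249, nat_lit 29, nat_lit 169, nat_lit 109, nat_lit 169] 55 4)) (.leaf (Rule.fwd [nat_lit 29, nat_lit 149, nat_lit 49, nat_lit 109, nat_lit 29, nat_lit 289]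 61 2))) (.node (nat_lit 1) (.leaf (Rule.fwd [nat_lit 349, nat_lit 169, nat_lit 29, nat_lit 229, nat_lit 89, nat_lit 269] 51 4)) (.leaf (Rule.fwd [nat_lit 109, nat_lit 29, nat_lit 289, nat_lit 49, nat_lit 29, nat_lit 149] 61 6))))) (.node (nat_lit 4) (.node (nat_lit 2) (.node (nat_lit 1) (.leaf (Rule.fwd [nat_lit 9, nat_lit 69, nat_lit 69, nat_lit 29, nat_lit 29, nat_lit 109, nat_lit 29] 40 1)) (.leaf (Rule.fwd [nat_lit 29, nat_lit 69, nat_lit 9, nat_lit 89, nat_lit 9, nat_lit 9, nat_lit 49] 41 4))) (.node (nat_lit 1) (.leaf (Rule.fwd [nat_lit 29, nat_lit 109, nat_lit 109, nat_lit 29, nat_lit 189, nat_lit 289] 45 2)) (.leaf (Rule.fwd [nat_lit 109, nat_lit 29, nat_lit 149, nat_lit 149, nat_lit 69, nat_lit 169] 59 3)))) (.node (nat_lit 2) (.node (nat_lit 1) (.leaf (Rule.fwd [nat_lit 269, nat_lit 9, nat_lit 249, nat_lit 189, nat_lit 109, nat_lit 329] 62 5)) (.leaf (Rule.fwd [nat_lit 49, nat_lit 29, nat_lit 69,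 nat_lit 9, nat_lit 89, nat_lit 9, nat_lit 9] 41 5))) (.leaf (Rule.fwd [nat_lit 329, nat_lit 109, nat_lit 29, nat_lit 189, nat_lit 109, nat_lit 309] 47 4))))), (.node (nat_lit 1) (.leaf XRule.defn) (.leaf XRule.defn))⟩
noncomputable def ci69 : CI := ⟨[3], (nat_lit 49), false, (.node (nat_lit 8) (.node (nat_lit 4) (.node (nat_lit 2) (.node (nat_lit 1) (.leaf Rule.defn) (.leaf Rule.copy)) (.node (nat_lit 1) (.leaf (Rule.fwd [nat_lit 49] 66 0)) (.leaf (Rule.fwd [nat_lit 289, nat_lit 89, nat_lit 169, nat_lit 9, nat_lit 89, nat_lit 329] 46 3)))) (.node (nat_lit 2) (.node (nat_lit 1) (.leaf (Rule.fwd [nat_lit 169, nat_lit 49, nat_lit 109, nat_lit 29, nat_lit 149, nat_lit 149] 59 5)) (.leaf (Rule.fwd [nat_lit 189, nat_lit 89, nat_lit 189, nat_lit 9, nat_lit 269, nat_lit 309] 54 3))) (.node (nat_lit 1) (.leaf (Rule.fwd [nat_lit 129, nat_lit 9, nat_lit 69, nat_lit 309, nat_lit 9, nat_lit 89] 60 5)) (.leaf (Rule.fwd [nat_lit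 329, nat_lit 89, nat_lit 169, nat_lit 269, nat_lit 29, nat_lit 249] 63 6))))) (.node (nat_lit 4) (.node (nat_lit 2) (.node (nat_lit 1) (.leaf (Rule.fwd [nat_lit 9, nat_lit 89, nat_lit 9, nat_lit 9, nat_lit 49, nat_lit 49, nat_lit 29] 41 2)) (.leaf (Rule.fwd [nat_lit 249, nat_lit 109, nat_lit 209, nat_lit 9, nat_lit 189, nat_lit 349] 50 3))) (.node (nat_lit 1) (.leaf (Rule.fwd [nat_lit 309, nat_lit 169, nat_lit 9, nat_lit 89, nat_lit 89, nat_lit 9] 44 1)) (.leaf (Rule.fwd [nat_lit 69, nat_lit 29, nat_lit 29, nat_lit 109, nat_lit 29, nat_lit 49, nat_lit 9] 40 3)))) (.node (nat_lit 2) (.node (nat_lit 1) (.leaf (Rule.fwd [nat_lit 29, nat_lit 29, nat_lit 109, nat_lit 29, nat_lit 49, nat_lit 9, nat_lit 69] 40 4)) (.leaf (Rule.fwd [nat_lit 189, nat_lit 89, nat_lit 289, nat_lit 249, nat_lit 9, nat_lit 189] 48 2))) (.leaf (Rule.fwd [nat_lit 189, nat_lit 49, nat_lit 129, nat_lit 129, nat_lit 9, nat_lit 89] 58 2))))),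 (.node (nat_lit 1) (.leaf XRule.defn) (.leaf XRule.defn))⟩
noncomputable def ci89 : CI := ⟨[4], (nat_lit 109), true, (.node (nat_lit 16) (.node (nat_lit 8) (.node (nat_lit 4) (.node (nat_lit 2) (.node (nat_lit 1) (.leaf Rule.defn) (.leaf Rule.copy)) (.node (nat_lit 1) (.leaf (Rule.fwd [nat_lit 109] 66 0)) (.leaf (Rule.fwd [nat_lit 9, nat_lit 69, nat_lit 309, nat_lit 169, nat_lit 9, nat_lit 89] 44 6)))) (.node (nat_lit 2) (.node (nat_lit 1) (.leaf (Rule.fwd [nat_lit 169, nat_lit 9, nat_lit 89, nat_lit 329, nat_lit 69, nat_lit 289] 46 5)) (.leaf (Rule.fwd [nat_lit 269, nat_lit 49, nat_lit 349, nat_lit 169, nat_lit 29, nat_lit 229] 51 6))) (.node (nat_lit 1) (.leaf (Rule.fwd [nat_lit 169, nat_lit 109, nat_lit 189, nat_lit 349, nat_lit 209] 30 0)) (.leaf (Rule.fwd [nat_lit 129, nat_lit 229, nat_lit 249, nat_lit 89, nat_lit 349, nat_lit 309] 34 0))))) (.node (nat_lit 4) (.node (nat_lit 2) (.node (nat_lit 1) (.leaf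 (Rule.fwd [nat_lit 309, nat_lit 309, nat_lit 229, nat_lit 129, nat_lit 89, nat_lit 249] 64 2)) (.leaf (Rule.fwd [nat_lit 129, nat_lit 89, nat_lit 149, nat_lit 89, nat_lit 169] 25 5))) (.node (nat_lit 1) (.leaf (Rule.fwd [nat_lit 89, nat_lit 129, nat_lit 249, nat_lit 109, nat_lit 329, nat_lit 189] 32 0)) (.leaf (Rule.fwd [nat_lit 149, nat_lit 109, nat_lit 229, nat_lit 89, nat_lit 149] 26 2)))) (.node (nat_lit 2) (.node (nat_lit 1) (.leaf (Rule.fwd [nat_lit 149, nat_lit 89, nat_lit 169, nat_lit 89, nat_lit 129] 25 3)) (.leaf (Rule.fwd [nat_lit 129, nat_lit 249, nat_lit 109, nat_lit 329, nat_lit 189, nat_lit 89] 32 1))) (.node (nat_lit 1) (.leaf (Rule.fwd [nat_lit 69, nat_lit 129, nat_lit 9, nat_lit 69, nat_lit 309, nat_lit 9] 60 4)) (.leaf (Rule.fwd [nat_lit 169, nat_lit 109, nat_lit 269, nat_lit 209, nat_lit 269] 36 0)))))) (.node (nat_lit 2) (.node (nat_lit 1) (.leaf (Rule.fwd [nat_lit 89, nat_lit 9, nat_lit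 69, nat_lit 309, nat_lit 169, nat_lit 9] 44 5)) (.leaf (Rule.fwd [nat_lit 349, nat_lit 309, nat_lit 89, nat_lit 129, nat_lit 229, nat_lit 249] 34 4))) (.node (nat_lit 1) (.leaf (Rule.fwd [nat_lit 129, nat_lit 109, nat_lit 129, nat_lit 109, nat_lit 209] 27 5)) (.leaf (Rule.fwd [nat_lit 9, nat_lit 9, nat_lit 49, nat_lit 49, nat_lit 29, nat_lit 69, nat_lit 9] 41 0))))), (.node (nat_lit 1) (.leaf XRule.defn) (.leaf XRule.ax))⟩
noncomputable def ci109 : CI := ⟨[5], (nat_lit 89), true, (.node (nat_lit 16) (.node (nat_lit 8) (.node (nat_lit 4) (.node (nat_lit 2) (.node (nat_lit 1) (.leaf Rule.defn) (.leaf Rule.copy)) (.node (nat_lit 1) (.leaf (Rule.fwd [nat_lit 89] 66 0)) (.leaf (Rule.fwd [nat_lit 229, nat_lit 349, nat_lit 169, nat_lit 89, nat_lit 189] 31 1)))) (.node (nat_lit 2) (.node (nat_lit 1) (.leaf (Rule.fwd [nat_lit 149, nat_lit 209, nat_lit 289, nat_lit 289, nat_lit 109, nat_lit 269] 65 1)) (.leaf (Rule.fwd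 [nat_lit 269, nat_lit 109, nat_lit 149, nat_lit 209, nat_lit 289, nat_lit 289] 65 3))) (.node (nat_lit 1) (.leaf (Rule.fwd [nat_lit 109, nat_lit 169, nat_lit 329, nat_lit 89, nat_lit 269, nat_lit 149] 33 2)) (.leaf (Rule.fwd [nat_lit 149, nat_lit 109, nat_lit 189, nat_lit 109, nat_lit 129] 24 2))))) (.node (nat_lit 4) (.node (nat_lit 2) (.node (nat_lit 1) (.leaf (Rule.fwd [nat_lit 189, nat_lit 109, nat_lit 129, nat_lit 109, nat_lit 149] 24 4)) (.leaf (Rule.fwd [nat_lit 29, nat_lit 289, nat_lit 49, nat_lit 29, nat_lit 149, nat_lit 49] 61 5))) (.node (nat_lit 1) (.leaf (Rule.fwd [nat_lit 29, nat_lit 149, nat_lit 149, nat_lit 69, nat_lit 169, nat_lit 49] 59 2)) (.leaf (Rule.fwd [nat_lit 229, nat_lit 289, nat_lit 109, nat_lit 149, nat_lit 329, nat_lit 189] 57 1)))) (.node (nat_lit 2) (.node (nat_lit 1) (.leaf (Rule.fwd [nat_lit 29, nat_lit 49, nat_lit 9, nat_lit 69, nat_lit 69, nat_lit 29, nat_lit 29] 40 7)) (.leaf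 (Rule.fwd [nat_lit 169, nat_lit 329, nat_lit 89, nat_lit 269, nat_lit 149, nat_lit 109] 33 1))) (.node (nat_lit 1) (.leaf (Rule.fwd [nat_lit 309, nat_lit 49, nat_lit 329, nat_lit 109, nat_lit 29, nat_lit 189] 47 6)) (.leaf (Rule.fwd [nat_lit 109, nat_lit 29, nat_lit 189, nat_lit 289, nat_lit 49, nat_lit 29] 45 0)))))) (.node (nat_lit 4) (.node (nat_lit 2) (.node (nat_lit 1) (.leaf (Rule.fwd [nat_lit 29, nat_lit 189, nat_lit 109, nat_lit 309, nat_lit 49, nat_lit 329] 47 2)) (.leaf (Rule.fwd [nat_lit 129, nat_lit 109, nat_lit 149, nat_lit 109, nat_lit 189] 24 0))) (.node (nat_lit 1) (.leaf (Rule.fwd [nat_lit 249, nat_lit 229, nat_lit 249, nat_lit 89, nat_lit 189] 37 1)) (.leaf (Rule.fwd [nat_lit 329, nat_lit 49, nat_lit 269, nat_lit 9, nat_lit 249, nat_lit 189] 62 3)))) (.leaf (Rule.fwd [nat_lit 329, nat_lit 189, nat_lit 89, nat_lit 89, nat_lit 129, nat_lit 249] 32 4)))), (.node (nat_lit 1) (.leaf XRule.defn)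 (.leaf XRule.ax))⟩
noncomputable def ci129 : CI := ⟨[6], (nat_lit 149), true, (.node (nat_lit 8) (.node (nat_lit 4) (.node (nat_lit 2) (.node (nat_lit 1) (.leaf Rule.defn) (.leaf Rule.copy)) (.node (nat_lit 1) (.leaf (Rule.fwd [nat_lit 149] 66 0)) (.leaf (Rule.fwd [nat_lit 89, nat_lit 309, nat_lit 209, nat_lit 89, nat_lit 169, nat_lit 329] 56 3)))) (.node (nat_lit 2) (.node (nat_lit 1) (.leaf (Rule.fwd [nat_lit 89, nat_lit 249, nat_lit 89, nat_lit 309, nat_lit 309, nat_lit 229] 64 6)) (.leaf (Rule.fwd [nat_lit 249, nat_lit 109, nat_lit 329, nat_lit 189, nat_lit 89, nat_lit 89] 32 2))) (.node (nat_lit 1) (.leaf (Rule.fwd [nat_lit 109, nat_lit 149, nat_lit 109, nat_lit 189, nat_lit 109] 24 1)) (.leaf (Rule.fwd [nat_lit 189, nat_lit 129, nat_lit 189] 28 0))))) (.node (nat_lit 4) (.node (nat_lit 2) (.node (nat_lit 1) (.leaf (Rule.fwd [nat_lit 9, nat_lit 69, nat_lit 309, nat_lit 9, nat_lit 89, nat_lit 69] 60 6))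 (.leaf (Rule.fwd [nat_lit 229, nat_lit 249, nat_lit 89, nat_lit 349, nat_lit 309, nat_lit 89] 34 1))) (.node (nat_lit 1) (.leaf (Rule.fwd [nat_lit 129, nat_lit 9, nat_lit 89, nat_lit 69, nat_lit 189, nat_lit 49] 58 5)) (.leaf (Rule.fwd [nat_lit 289, nat_lit 169, nat_lit 9, nat_lit 249, nat_lit 9, nat_lit 349] 52 4)))) (.node (nat_lit 1) (.leaf (Rule.fwd [nat_lit 89, nat_lit 149, nat_lit 89, nat_lit 169, nat_lit 89] 25 4)) (.leaf (Rule.fwd [nat_lit 9, nat_lit 89, nat_lit 69, nat_lit 189, nat_lit 49, nat_lit 129] 58 6))))), (.node (nat_lit 1) (.leaf XRule.defn) (.leaf XRule.ax))⟩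
noncomputable def ci149 : CI := ⟨[7], (nat_lit 129), true, (.node (nat_lit 8) (.node (nat_lit 4) (.node (nat_lit 2) (.node (nat_lit 1) (.leaf Rule.defn) (.leaf Rule.copy)) (.node (nat_lit 1) (.leaf (Rule.fwd [nat_lit 129] 66 0)) (.leaf (Rule.fwd [nat_lit 329, nat_lit 189, nat_lit 109, nat_lit 229, nat_lit 289, nat_lit 109] 57 4)))) (.node (nat_lit 2) (.node (nat_lit 1) (.leaf (Rule.fwd [nat_lit 169, nat_lit 149, nat_lit 169] 29 1)) (.leaf (Rule.fwd [nat_lit 109, nat_lit 229, nat_lit 89, nat_lit 149, nat_lit 89] 26 3))) (.node (nat_lit 1) (.leaf (Rule.fwd [nat_lit 109, nat_lit 289, nat_lit 349, nat_lit 109, nat_lit 269, nat_lit 209] 35 2)) (.leaf (Rule.fwd [nat_lit 109, nat_lit 109, nat_lit 169, nat_lit 329, nat_lit 89, nat_lit 269] 33 3))))) (.node (nat_lit 4) (.node (nat_lit 2) (.node (nat_lit 1) (.leaf (Rule.fwd [nat_lit 209, nat_lit 289, nat_lit 289, nat_lit 109, nat_lit 269, nat_lit 109] 65 0)) (.leaf (Rule.fwd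 [nat_lit 349, nat_lit 29, nat_lit 269, nat_lit 29, nat_lit 189, nat_lit 309] 53 5))) (.node (nat_lit 1) (.leaf (Rule.fwd [nat_lit 49, nat_lit 109, nat_lit 29, nat_lit 289, nat_lit 49, nat_lit 29] 61 0)) (.leaf (Rule.fwd [nat_lit 109, nat_lit 189, nat_lit 109, nat_lit 129, nat_lit 109] 24 3)))) (.node (nat_lit 2) (.node (nat_lit 1) (.leaf (Rule.fwd [nat_lit 149, nat_lit 69, nat_lit 169, nat_lit 49, nat_lit 109, nat_lit 29] 59 0)) (.leaf (Rule.fwd [nat_lit 89, nat_lit 149, nat_lit 109, nat_lit 229, nat_lit 89] 26 1))) (.leaf (Rule.fwd [nat_lit 69, nat_lit 169, nat_lit 49, nat_lit 109, nat_lit 29, nat_lit 149] 59 6))))), (.node (nat_lit 1) (.leaf XRule.defn) (.leaf XRule.ax))⟩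
noncomputable def ci169 : CI := ⟨[8], (nat_lit 189), true, (.node (nat_lit 16) (.node (nat_lit 8) (.node (nat_lit 4) (.node (nat_lit 2) (.node (nat_lit 1) (.leaf Rule.defn) (.leaf Rule.copy)) (.node (nat_lit 1) (.leaf (Rule.fwd [nat_lit 189] 66 0)) (.leaf (Rule.fwd [nat_lit 169, nat_lit 329, nat_lit 349, nat_lit 209, nat_lit 249] 22 0)))) (.node (nat_lit 2) (.node (nat_lit 1) (.leaf (Rule.fwd [nat_lit 9, nat_lit 89, nat_lit 89, nat_lit 9, nat_lit 69, nat_lit 309] 44 3)) (.leaf (Rule.fwd [nat_lit 229, nat_lit 229, nat_lit 269] 10 0))) (.node (nat_lit 1) (.leaf (Rule.fwd [nat_lit 49, nat_lit 169, nat_lit 29, nat_lit 269, nat_lit 309, nat_lit 109] 49 4)) (.leaf (Rule.fwd [nat_lit 109, nat_lit 189, nat_lit 349, nat_lit 209, nat_lit 89] 30 1))))) (.node (nat_lit 4) (.node (nat_lit 2) (.node (nat_lit 1) (.leaf (Rule.fwd [nat_lit 89, nat_lit 189, nat_lit 109, nat_lit 229, nat_lit 349] 31 4)) (.leaf (Rule.fwd [nat_lit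 29, nat_lit 269, nat_lit 309, nat_lit 109, nat_lit 169, nat_lit 49] 49 2))) (.node (nat_lit 1) (.leaf (Rule.fwd [nat_lit 89, nat_lit 129, nat_lit 89, nat_lit 149, nat_lit 89] 25 0)) (.leaf (Rule.fwd [nat_lit 149, nat_lit 169, nat_lit 149] 29 0)))) (.node (nat_lit 2) (.node (nat_lit 1) (.leaf (Rule.fwd [nat_lit 109, nat_lit 269, nat_lit 209, nat_lit 269, nat_lit 89] 36 1)) (.leaf (Rule.fwd [nat_lit 329, nat_lit 89, nat_lit 269, nat_lit 149, nat_lit 109, nat_lit 109] 33 0))) (.node (nat_lit 1) (.leaf (Rule.fwd [nat_lit 49, nat_lit 109, nat_lit 29, nat_lit 149, nat_lit 149, nat_lit 69] 59 4)) (.leaf (Rule.fwd [nat_lit 269, nat_lit 209, nat_lit 169, nat_lit 169, nat_lit 329] 18 3)))))) (.node (nat_lit 2) (.node (nat_lit 1) (.leaf (Rule.fwd [nat_lit 329, nat_lit 349, nat_lit 209, nat_lit 249, nat_lit 169] 22 1)) (.leaf (Rule.fwd [nat_lit 329, nat_lit 129, nat_lit 89, nat_lit 309, nat_lit 209, nat_lit 89] 56 1)))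 (.leaf (Rule.fwd [nat_lit 109, nat_lit 169, nat_lit 49, nat_lit 289, nat_lit 249, nat_lit 29] 55 0)))), (.node (nat_lit 1) (.leaf XRule.defn) (.leaf XRule.ax))⟩
noncomputable def ci189 : CI := ⟨[9], (nat_lit 169), true, (.node (nat_lit 16) (.node (nat_lit 8) (.node (nat_lit 4) (.node (nat_lit 2) (.node (nat_lit 1) (.leaf Rule.defn) (.leaf Rule.copy)) (.node (nat_lit 1) (.leaf (Rule.fwd [nat_lit 169] 66 0)) (.leaf (Rule.fwd [nat_lit 69, nat_lit 189, nat_lit 89, nat_lit 289, nat_lit 249, nat_lit 9] 48 1)))) (.node (nat_lit 2) (.node (nat_lit 1) (.leaf (Rule.fwd [nat_lit 269, nat_lit 229, nat_lit 349, nat_lit 329, nat_lit 189] 23 1)) (.leaf (Rule.fwd [nat_lit 189, nat_lit 269, nat_lit 229, nat_lit 349, nat_lit 329] 23 2))) (.node (nat_lit 1) (.leaf (Rule.fwd [nat_lit 109, nat_lit 249, nat_lit 229, nat_lit 249, nat_lit 89] 37 2)) (.leaf (Rule.fwd [nat_lit 249, nat_lit 209, nat_lit 209] 11 1))))) (.node (nat_lit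 4) (.node (nat_lit 2) (.node (nat_lit 1) (.leaf (Rule.fwd [nat_lit 129, nat_lit 189, nat_lit 129] 28 1)) (.leaf (Rule.fwd [nat_lit 329, nat_lit 189, nat_lit 189, nat_lit 229, nat_lit 249] 19 4))) (.node (nat_lit 1) (.leaf (Rule.fwd [nat_lit 9, nat_lit 269, nat_lit 309, nat_lit 69, nat_lit 189, nat_lit 89] 54 6)) (.leaf (Rule.fwd [nat_lit 109, nat_lit 129, nat_lit 109, nat_lit 149, nat_lit 109] 24 5)))) (.node (nat_lit 2) (.node (nat_lit 1) (.leaf (Rule.fwd [nat_lit 109, nat_lit 309, nat_lit 49, nat_lit 329, nat_lit 109, nat_lit 29] 47 0)) (.leaf (Rule.fwd [nat_lit 349, nat_lit 209, nat_lit 89, nat_lit 169, nat_lit 109] 30 3))) (.node (nat_lit 1) (.leaf (Rule.fwd [nat_lit 229, nat_lit 249, nat_lit 189, nat_lit 329, nat_lit 189] 19 1)) (.leaf (Rule.fwd [nat_lit 189, nat_lit 229, nat_lit 249, nat_lit 189, nat_lit 329] 19 2)))))) (.node (nat_lit 2) (.node (nat_lit 1) (.leaf (Rule.fwd [nat_lit 89, nat_lit 289, nat_lit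 249, nat_lit 9, nat_lit 189, nat_lit 69] 48 3)) (.leaf (Rule.fwd [nat_lit 109, nat_lit 229, nat_lit 289, nat_lit 109, nat_lit 149, nat_lit 329] 57 2))) (.leaf (Rule.fwd [nat_lit 89, nat_lit 89, nat_lit 129, nat_lit 249, nat_lit 109, nat_lit 329] 32 6)))), (.node (nat_lit 1) (.leaf XRule.defn) (.leaf XRule.ax))⟩
noncomputable def ci209 : CI := ⟨[10], (nat_lit 229), true, (.node (nat_lit 8) (.node (nat_lit 4) (.node (nat_lit 2) (.node (nat_lit 1) (.leaf Rule.defn) (.leaf Rule.copy)) (.node (nat_lit 1) (.leaf (Rule.fwd [nat_lit 229] 66 0)) (.leaf (Rule.fwd [nat_lit 209, nat_lit 189, nat_lit 249] 11 3)))) (.node (nat_lit 2) (.node (nat_lit 1) (.leaf (Rule.fwd [nat_lit 329, nat_lit 229, nat_lit 349] 16 0)) (.leaf (Rule.fwd [nat_lit 169, nat_lit 169, nat_lit 329, nat_lit 169, nat_lit 269] 18 5))) (.node (nat_lit 1) (.leaf (Rule.fwd [nat_lit 249, nat_lit 169, nat_lit 169, nat_lit 329, nat_lit 349] 22 4)) (.leaf (Rule.fwd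 [nat_lit 189, nat_lit 249, nat_lit 209] 11 2))))) (.node (nat_lit 4) (.node (nat_lit 2) (.node (nat_lit 1) (.leaf (Rule.fwd [nat_lit 289, nat_lit 209, nat_lit 289] 14 0)) (.leaf (Rule.fwd [nat_lit 89, nat_lit 169, nat_lit 329, nat_lit 129, nat_lit 89, nat_lit 309] 56 6))) (.node (nat_lit 1) (.leaf (Rule.fwd [nat_lit 89, nat_lit 129, nat_lit 109, nat_lit 129, nat_lit 109] 27 0)) (.leaf (Rule.fwd [nat_lit 149, nat_lit 109, nat_lit 289, nat_lit 349, nat_lit 109, nat_lit 269] 35 3)))) (.node (nat_lit 2) (.node (nat_lit 1) (.leaf (Rule.fwd [nat_lit 89, nat_lit 169, nat_lit 109, nat_lit 189, nat_lit 349] 30 5)) (.leaf (Rule.fwd [nat_lit 9, nat_lit 189, nat_lit 349, nat_lit 69, nat_lit 249, nat_lit 109] 50 6))) (.node (nat_lit 1) (.leaf (Rule.fwd [nat_lit 269, nat_lit 89, nat_lit 169, nat_lit 109, nat_lit 269] 36 4)) (.leaf (Rule.fwd [nat_lit 289, nat_lit 289, nat_lit 109, nat_lit 269, nat_lit 109, nat_lit 149] 65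 6)))))), (.node (nat_lit 1) (.leaf XRule.defn) (.leaf XRule.ax))⟩
noncomputable def ci229 : CI := ⟨[11], (nat_lit 209), true, (.node (nat_lit 8) (.node (nat_lit 4) (.node (nat_lit 2) (.node (nat_lit 1) (.leaf Rule.defn) (.leaf Rule.copy)) (.node (nat_lit 1) (.leaf (Rule.fwd [nat_lit 209] 66 0)) (.leaf (Rule.fwd [nat_lit 249, nat_lit 89, nat_lit 189, nat_lit 109, nat_lit 249] 37 5)))) (.node (nat_lit 2) (.node (nat_lit 1) (.leaf (Rule.fwd [nat_lit 309, nat_lit 229, nat_lit 309] 15 1)) (.leaf (Rule.fwd [nat_lit 349, nat_lit 209, nat_lit 329] 16 2))) (.node (nat_lit 1) (.leaf (Rule.fwd [nat_lit 249, nat_lit 89, nat_lit 349, nat_lit 309, nat_lit 89, nat_lit 129] 34 2)) (.leaf (Rule.fwd [nat_lit 349, nat_lit 169, nat_lit 89, nat_lit 189, nat_lit 109] 31 0))))) (.node (nat_lit 4) (.node (nat_lit 2) (.node (nat_lit 1) (.leaf (Rule.fwd [nat_lit 249, nat_lit 189, nat_lit 329, nat_lit 189, nat_lit 189] 19 0)) (.leaf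 (Rule.fwd [nat_lit 89, nat_lit 269, nat_lit 49, nat_lit 349, nat_lit 169, nat_lit 29] 51 0))) (.node (nat_lit 1) (.leaf (Rule.fwd [nat_lit 129, nat_lit 89, nat_lit 249, nat_lit 89, nat_lit 309, nat_lit 309] 64 5)) (.leaf (Rule.fwd [nat_lit 269, nat_lit 169, nat_lit 229] 10 2)))) (.node (nat_lit 1) (.leaf (Rule.fwd [nat_lit 89, nat_lit 149, nat_lit 89, nat_lit 149, nat_lit 109] 26 5)) (.leaf (Rule.fwd [nat_lit 229, nat_lit 269, nat_lit 169] 10 1))))), (.node (nat_lit 1) (.leaf XRule.defn) (.leaf XRule.ax))⟩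
noncomputable def ci249 : CI := ⟨[12], (nat_lit 269), true, (.node (nat_lit 16) (.node (nat_lit 8) (.node (nat_lit 4) (.node (nat_lit 2) (.node (nat_lit 1) (.leaf Rule.defn) (.leaf Rule.copy)) (.node (nat_lit 1) (.leaf (Rule.fwd [nat_lit 269] 66 0)) (.leaf (Rule.fwd [nat_lit 9, nat_lit 349, nat_lit 129, nat_lit 289, nat_lit 169, nat_lit 9] 52 1)))) (.node (nat_lit 2) (.node (nat_lit 1) (.leaf (Rule.fwd [nat_lit 69, nat_lit 329, nat_lit 89, nat_lit 169, nat_lit 269, nat_lit 29] 63 0)) (.leaf (Rule.fwd [nat_lit 349, nat_lit 249, nat_lit 349] 38 0))) (.node (nat_lit 1) (.leaf (Rule.fwd [nat_lit 309, nat_lit 249, nat_lit 309] 8 0)) (.leaf (Rule.fwd [nat_lit 209, nat_lit 209, nat_lit 189] 11 0))))) (.node (nat_lit 4) (.node (nat_lit 2) (.node (nat_lit 1) (.leaf (Rule.fwd [nat_lit 169, nat_lit 169, nat_lit 329, nat_lit 349, nat_lit 209] 22 5)) (.leaf (Rule.fwd [nat_lit 89, nat_lit 309, nat_lit 309, nat_lit 229, nat_lit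 129, nat_lit 89] 64 1))) (.node (nat_lit 1) (.leaf (Rule.fwd [nat_lit 329, nat_lit 249, nat_lit 249] 3 1)) (.leaf (Rule.fwd [nat_lit 109, nat_lit 329, nat_lit 189, nat_lit 89, nat_lit 89, nat_lit 129] 32 3)))) (.node (nat_lit 2) (.node (nat_lit 1) (.leaf (Rule.fwd [nat_lit 229, nat_lit 249, nat_lit 89, nat_lit 189, nat_lit 109] 37 0)) (.leaf (Rule.fwd [nat_lit 289, nat_lit 249, nat_lit 289] 6 0))) (.node (nat_lit 1) (.leaf (Rule.fwd [nat_lit 249, nat_lit 249, nat_lit 329] 3 3)) (.leaf (Rule.fwd [nat_lit 29, nat_lit 169, nat_lit 109, nat_lit 169, nat_lit 49, nat_lit 289] 55 2)))))) (.leaf (Rule.fwd [nat_lit 109, nat_lit 209, nat_lit 9, nat_lit 189, nat_lit 349, nat_lit 69] 50 4))), (.node (nat_lit 1) (.leaf XRule.defn) (.leaf XRule.ax))⟩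
noncomputable def ci269 : CI := ⟨[13], (nat_lit 249), true, (.node (nat_lit 8) (.node (nat_lit 4) (.node (nat_lit 2) (.node (nat_lit 1) (.leaf Rule.defn) (.leaf Rule.copy)) (.node (nat_lit 1) (.leaf (Rule.fwd [nat_lit 249] 66 0)) (.leaf (Rule.fwd [nat_lit 309, nat_lit 269, nat_lit 309] 7 1)))) (.node (nat_lit 2) (.node (nat_lit 1) (.leaf (Rule.fwd [nat_lit 269, nat_lit 269, nat_lit 329] 2 0)) (.leaf (Rule.fwd [nat_lit 329, nat_lit 269, nat_lit 269] 2 2))) (.node (nat_lit 1) (.leaf (Rule.fwd [nat_lit 29, nat_lit 189, nat_lit 309, nat_lit 149, nat_lit 349, nat_lit 29] 53 2)) (.leaf (Rule.fwd [nat_lit 109, nat_lit 149, nat_lit 209, nat_lit 289, nat_lit 289, nat_lit 109] 65 2))))) (.node (nat_lit 4) (.node (nat_lit 2) (.node (nat_lit 1) (.leaf (Rule.fwd [nat_lit 9, nat_lit 249, nat_lit 189, nat_lit 109, nat_lit 329, nat_lit 49] 62 6)) (.leaf (Rule.fwd [nat_lit 229, nat_lit 349, nat_lit 329, nat_lit 189, nat_lit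 189] 23 0))) (.node (nat_lit 1) (.leaf (Rule.fwd [nat_lit 149, nat_lit 109, nat_lit 109, nat_lit 169, nat_lit 329, nat_lit 89] 33 4)) (.leaf (Rule.fwd [nat_lit 309, nat_lit 69, nat_lit 189, nat_lit 89, nat_lit 189, nat_lit 9] 54 1)))) (.node (nat_lit 2) (.node (nat_lit 1) (.leaf (Rule.fwd [nat_lit 269, nat_lit 329, nat_lit 269] 2 1)) (.leaf (Rule.fwd [nat_lit 209, nat_lit 269, nat_lit 89, nat_lit 169, nat_lit 109] 36 3))) (.node (nat_lit 1) (.leaf (Rule.fwd [nat_lit 289, nat_lit 269, nat_lit 289] 9 1)) (.leaf (Rule.fwd [nat_lit 309, nat_lit 109, nat_lit 169, nat_lit 49, nat_lit 169, nat_lit 29] 49 0)))))), (.node (nat_lit 1) (.leaf XRule.defn) (.leaf XRule.ax))⟩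
noncomputable def ci289 : CI := ⟨[14], (nat_lit 309), true, (.node (nat_lit 16) (.node (nat_lit 8) (.node (nat_lit 4) (.node (nat_lit 2) (.node (nat_lit 1) (.leaf Rule.defn) (.leaf Rule.copy)) (.node (nat_lit 1) (.leaf (Rule.fwd [nat_lit 309] 66 0)) (.leaf (Rule.fwd [nat_lit 269, nat_lit 289, nat_lit 269] 9 0)))) (.node (nat_lit 2) (.node (nat_lit 1) (.leaf (Rule.fwd [nat_lit 289, nat_lit 349, nat_lit 289] 5 2)) (.leaf (Rule.fwd [nat_lit 209, nat_lit 289, nat_lit 209] 14 1))) (.node (nat_lit 1) (.leaf (Rule.fwd [nat_lit 329, nat_lit 289, nat_lit 329] 20 0)) (.leaf (Rule.fwd [nat_lit 249, nat_lit 289, nat_lit 249] 6 1))))) (.node (nat_lit 4) (.node (nat_lit 2) (.node (nat_lit 1) (.leaf (Rule.fwd [nat_lit 89, nat_lit 169, nat_lit 9, nat_lit 89, nat_lit 329, nat_lit 69] 46 4)) (.leaf (Rule.fwd [nat_lit 349, nat_lit 289, nat_lit 289] 5 1))) (.node (nat_lit 1) (.leaf (Rule.fwd [nat_lit 109, nat_lit 269, nat_lit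 109, nat_lit 149, nat_lit 209, nat_lit 289] 65 4)) (.leaf (Rule.fwd [nat_lit 289, nat_lit 109, nat_lit 269, nat_lit 109, nat_lit 149, nat_lit 209] 65 5)))) (.node (nat_lit 2) (.node (nat_lit 1) (.leaf (Rule.fwd [nat_lit 109, nat_lit 149, nat_lit 329, nat_lit 189, nat_lit 109, nat_lit 229] 57 6)) (.leaf (Rule.fwd [nat_lit 49, nat_lit 29, nat_lit 109, nat_lit 109, nat_lit 29, nat_lit 189] 45 3))) (.node (nat_lit 1) (.leaf (Rule.fwd [nat_lit 249, nat_lit 29, nat_lit 169, nat_lit 109, nat_lit 169, nat_lit 49] 55 3)) (.leaf (Rule.fwd [nat_lit 169, nat_lit 9, nat_lit 249, nat_lit 9, nat_lit 349, nat_lit 129] 52 5)))))) (.leaf (Rule.fwd [nat_lit 289, nat_lit 289, nat_lit 349] 5 3))), (.node (nat_lit 1) (.leaf XRule.defn) (.leaf XRule.ax))⟩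
noncomputable def ci309 : CI := ⟨[15], (nat_lit 289), true, (.node (nat_lit 8) (.node (nat_lit 4) (.node (nat_lit 2) (.node (nat_lit 1) (.leaf Rule.defn) (.leaf Rule.copy)) (.node (nat_lit 1) (.leaf (Rule.fwd [nat_lit 289] 66 0)) (.leaf (Rule.fwd [nat_lit 69, nat_lit 189, nat_lit 89, nat_lit 189, nat_lit 9, nat_lit 269] 54 2)))) (.node (nat_lit 2) (.node (nat_lit 1) (.leaf (Rule.fwd [nat_lit 269, nat_lit 309, nat_lit 269] 7 0)) (.leaf (Rule.fwd [nat_lit 229, nat_lit 129, nat_lit 89, nat_lit 249, nat_lit 89, nat_lit 309] 64 4))) (.node (nat_lit 1) (.leaf (Rule.fwd [nat_lit 309, nat_lit 349, nat_lit 309] 4 1)) (.leaf (Rule.fwd [nat_lit 9, nat_lit 89, nat_lit 69, nat_lit 129, nat_lit 9, nat_lit 69] 60 2))))) (.node (nat_lit 4) (.node (nat_lit 2) (.node (nat_lit 1) (.leaf (Rule.fwd [nat_lit 349, nat_lit 309, nat_lit 309] 4 2)) (.leaf (Rule.fwd [nat_lit 249, nat_lit 309, nat_lit 249] 8 1))) (.node (nat_lit 1) (.leaf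 (Rule.fwd [nat_lit 149, nat_lit 349, nat_lit 29, nat_lit 269, nat_lit 29, nat_lit 189] 53 6)) (.leaf (Rule.fwd [nat_lit 109, nat_lit 169, nat_lit 49, nat_lit 169, nat_lit 29, nat_lit 269] 49 6)))) (.node (nat_lit 2) (.node (nat_lit 1) (.leaf (Rule.fwd [nat_lit 309, nat_lit 229, nat_lit 129, nat_lit 89, nat_lit 249, nat_lit 89] 64 3)) (.leaf (Rule.fwd [nat_lit 329, nat_lit 309, nat_lit 329] 21 1))) (.leaf (Rule.fwd [nat_lit 309, nat_lit 309, nat_lit 349] 4 0))))), (.node (nat_lit 1) (.leaf XRule.defn) (.leaf XRule.ax))⟩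
noncomputable def ci329 : CI := ⟨[16], (nat_lit 329), true, (.node (nat_lit 8) (.node (nat_lit 4) (.node (nat_lit 2) (.node (nat_lit 1) (.leaf Rule.defn) (.leaf Rule.copy)) (.node (nat_lit 1) (.leaf (Rule.fwd [nat_lit 329] 66 0)) (.leaf (Rule.fwd [nat_lit 69, nat_lit 289, nat_lit 89, nat_lit 169, nat_lit 9, nat_lit 89] 46 2)))) (.node (nat_lit 2) (.node (nat_lit 1) (.leaf (Rule.fwd [nat_lit 229, nat_lit 349, nat_lit 209] 16 1)) (.leaf (Rule.fwd [nat_lit 249, nat_lit 249, nat_lit 249] 3 0))) (.node (nat_lit 1) (.leaf (Rule.fwd [nat_lit 289, nat_lit 329, nat_lit 289] 20 1)) (.leaf (Rule.fwd [nat_lit 89, nat_lit 169, nat_lit 269, nat_lit 29, nat_lit 249, nat_lit 69] 63 5))))) (.node (nat_lit 4) (.node (nat_lit 2) (.node (nat_lit 1) (.leaf (Rule.fwd [nat_lit 169, nat_lit 269, nat_lit 209, nat_lit 169, nat_lit 169] 18 2)) (.leaf (Rule.fwd [nat_lit 109, nat_lit 29, nat_lit 189, nat_lit 109, nat_lit 309, nat_lit 49]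 47 3))) (.node (nat_lit 1) (.leaf (Rule.fwd [nat_lit 189, nat_lit 109, nat_lit 229, nat_lit 289, nat_lit 109, nat_lit 149] 57 3)) (.leaf (Rule.fwd [nat_lit 189, nat_lit 89, nat_lit 89, nat_lit 129, nat_lit 249, nat_lit 109] 32 5)))) (.node (nat_lit 2) (.node (nat_lit 1) (.leaf (Rule.fwd [nat_lit 49, nat_lit 269, nat_lit 9, nat_lit 249, nat_lit 189, nat_lit 109] 62 4)) (.leaf (Rule.fwd [nat_lit 269, nat_lit 269, nat_lit 269] 2 3))) (.node (nat_lit 1) (.leaf (Rule.fwd [nat_lit 349, nat_lit 329, nat_lit 349] 0 0)) (.leaf (Rule.fwd [nat_lit 89, nat_lit 269, nat_lit 149, nat_lit 109, nat_lit 109, nat_lit 169] 33 6)))))), (.node (nat_lit 1) (.leaf XRule.defn) (.leaf XRule.ax))⟩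
noncomputable def ci349 : CI := ⟨[17], (nat_lit 349), true, (.node (nat_lit 16) (.node (nat_lit 8) (.node (nat_lit 4) (.node (nat_lit 2) (.node (nat_lit 1) (.leaf Rule.defn) (.leaf Rule.copy)) (.node (nat_lit 1) (.leaf (Rule.fwd [nat_lit 349] 66 0)) (.leaf (Rule.fwd [nat_lit 69, nat_lit 249, nat_lit 109, nat_lit 209, nat_lit 9, nat_lit 189] 50 2)))) (.node (nat_lit 2) (.node (nat_lit 1) (.leaf (Rule.fwd [nat_lit 329, nat_lit 349, nat_lit 329] 0 1)) (.leaf (Rule.fwd [nat_lit 249, nat_lit 349, nat_lit 249] 38 1))) (.node (nat_lit 1) (.leaf (Rule.fwd [nat_lit 309, nat_lit 309, nat_lit 309] 4 3)) (.leaf (Rule.fwd [nat_lit 209, nat_lit 249, nat_lit 169, nat_lit 169, nat_lit 329] 22 3))))) (.node (nat_lit 4) (.node (nat_lit 2) (.node (nat_lit 1) (.leaf (Rule.fwd [nat_lit 209, nat_lit 329, nat_lit 229] 16 3)) (.leaf (Rule.fwd [nat_lit 169, nat_lit 29, nat_lit 229, nat_lit 89, nat_lit 269, nat_lit 49] 51 3))) (.node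 (nat_lit 1) (.leaf (Rule.fwd [nat_lit 309, nat_lit 89, nat_lit 129, nat_lit 229, nat_lit 249, nat_lit 89] 34 5)) (.leaf (Rule.fwd [nat_lit 269, nat_lit 349, nat_lit 269] 39 0)))) (.node (nat_lit 2) (.node (nat_lit 1) (.leaf (Rule.fwd [nat_lit 209, nat_lit 89, nat_lit 169, nat_lit 109, nat_lit 189] 30 4)) (.leaf (Rule.fwd [nat_lit 29, nat_lit 269, nat_lit 29, nat_lit 189, nat_lit 309, nat_lit 149] 53 4))) (.node (nat_lit 1) (.leaf (Rule.fwd [nat_lit 109, nat_lit 269, nat_lit 209, nat_lit 149, nat_lit 109, nat_lit 289] 35 6)) (.leaf (Rule.fwd [nat_lit 329, nat_lit 189, nat_lit 189, nat_lit 269, nat_lit 229] 23 4)))))) (.node (nat_lit 2) (.node (nat_lit 1) (.leaf (Rule.fwd [nat_lit 289, nat_lit 289, nat_lit 289] 5 0)) (.leaf (Rule.fwd [nat_lit 129, nat_lit 289, nat_lit 169, nat_lit 9, nat_lit 249, nat_lit 9] 52 3))) (.leaf (Rule.fwd [nat_lit 169, nat_lit 89, nat_lit 189, nat_lit 109, nat_lit 229] 31 5)))), (.node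 (nat_lit 1) (.leaf XRule.defn) (.leaf XRule.ax))⟩
noncomputable def outer : Tr CI := (.node (nat_lit 4) (.node (nat_lit 8) (.node (nat_lit 16) (.node (nat_lit 1) (.leaf ci0) (.node (nat_lit 32) (.leaf ci129) (.leaf ci289))) (.node (nat_lit 32) (.leaf ci209) (.leaf ci49))) (.node (nat_lit 16) (.node (nat_lit 32) (.node (nat_lit 64) (.leaf ci9) (.leaf ci329)) (.leaf ci169)) (.node (nat_lit 32) (.leaf ci89) (.leaf ci249)))) (.node (nat_lit 8) (.node (nat_lit 16) (.node (nat_lit 32) (.leaf ci69) (.leaf ci229)) (.node (nat_lit 32) (.leaf ci149) (.leaf ci309))) (.node (nat_lit 16) (.node (nat_lit 32) (.leaf ci269) (.leaf ci109)) (.node (nat_lit 32) (.node (nat_lit 64) (.leaf ci29) (.leaf ci349)) (.leaf ci189)))))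
def cols : List ℕ := [nat_lit 9, nat_lit 29, nat_lit 49, nat_lit 69, nat_lit 89, nat_lit 109, nat_lit 129, nat_lit 149, nat_lit 169, nat_lit 189, nat_lit 209, nat_lit 229, nat_lit 249, nat_lit 269, nat_lit 289, nat_lit 309, nat_lit 329, nat_lit 349]
def invL : List ℕ := [1, 0, 3, 2, 5, 4, 7, 6, 9, 8, 11, 10, 13, 12, 15, 14, 16, 17]
def rels : List (List ℕ) := [[16, 17, 16, 17], [13, 13, 13, 16], [15, 15, 15, 17], [12, 14, 12, 14], [12, 15, 12, 15], [8, 11, 11, 13], [8, 10, 8, 10, 8, 8, 8, 11, 11, 15], [10, 14, 10, 14], [10, 16, 11, 17], [8, 8, 16, 8, 13, 10], [14, 16, 14, 16], [8, 8, 16, 17, 10, 12], [5, 6, 5, 7, 5, 9], [4, 7, 4, 7, 5, 11], [6, 9, 6, 9], [4, 8, 5, 9, 17, 10], [4, 4, 6, 12, 5, 16, 9], [4, 6, 11, 12, 4, 17, 15], [4, 8, 5, 13, 10, 13], [12, 17, 12, 17], [1, 2, 0, 3, 3, 1, 1, 5], [0, 0, 3, 3, 0, 2, 1, 1, 7], [0, 3, 15, 8, 0, 4, 4], [0, 4, 16, 3, 14, 4, 8], [0, 9, 3, 9, 4, 14, 12], [0, 9, 17, 3,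 12, 5, 10], [0, 12, 0, 17, 6, 14, 8], [0, 13, 15, 3, 9, 4, 9], [4, 8, 16, 6, 4, 15, 10], [0, 4, 3, 9, 2, 6, 6], [0, 3, 15, 0, 4, 3, 6], [0, 12, 9, 5, 16, 2, 13], [4, 12, 4, 15, 15, 11, 6]]
def subs : List (List ℕ) := [[4], [5], [6], [7], [8], [9], [10], [11], [12], [13], [14], [15], [16], [17]]
noncomputable def row (n : ℕ) : ℕ := rowOf (fun h => rows.get h) (nat_lit 5) (nat_lit 31) (nat_lit 369) (nat_lit 0x1ffffffffffffffffffffffffffffffffffffffffffffffffffffffffffffffffffffffffffffffffffffffffffff) n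
noncomputable def xleaf (h : ℕ) : ℕ := recs.get h
noncomputable def mF : ℕ → ℕ := mainRow row (rowChk row xleaf outer (nat_lit 8) (nat_lit 255) (nat_lit 31) (nat_lit 13) (nat_lit 8191) (nat_lit 1048575) (nat_lit 128) (nat_lit 63) (nat_lit 256) (nat_lit 9) (nat_lit 511) (nat_lit 17) (nat_lit 131071) (nat_lit 8) (nat_lit 255) cols)
noncomputable def xF : ℕ → ℕ → ℕ := xLeaf row xleaf outer (nat_lit 255) (nat_lit 13) (nat_lit 1048575) (nat_lit 128) (nat_lit 63) (nat_lit 9) (nat_lit 511) (nat_lit 17) (nat_lit 131071) (nat_lit 130560) (nat_lit 8) (nat_lit 255) (nat_lit 10) (nat_lit 1023) (nat_lit 2) (nat_lit 3) (nat_lit 349) (nat_lit 32256) (nat_lit 128)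
noncomputable def cert : Cert := ⟨row, xleaf, outer, cols, nat_lit 8, nat_lit 255, nat_lit 31, nat_lit 13, nat_lit 8191, nat_lit 1048575, nat_lit 128, nat_lit 63, nat_lit 256, nat_lit 9, nat_lit 511, nat_lit 17, nat_lit 131071, nat_lit 130560, nat_lit 8, nat_lit 255, nat_lit 10, nat_lit 1023, nat_lit 2, nat_lit 3, nat_lit 349, nat_lit 32256, nat_lit 128, nat_lit 20, nat_lit 128, nat_lit 1⟩
theorem tabok : tabOK (fun i => invL.getD i i) rels subs outer cols (nat_lit 9) (nat_lit 349) = true := by decide +kernel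
theorem m0 : rng mF (nat_lit 1) (nat_lit 63) = 0 := by decide +kernel
noncomputable def s0 : List ℕ := [nat_lit 0x401004010040100401000000000000000000000000000000000000000000000000000000000000000000000000000000000000000000000000000000000000000000000000000000000000000000000000000000000000000000000000000000000000000000000000000000000000000000000000000000000000000000000000000000000000000000000000000000000000000000000000000000000000]
theorem x0 : xs xF s0 (nat_lit 1) = 0 := by decide +kernel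
theorem mz0 : AllZ mF 1 (nat_lit 64) := (AllZ.step (AllZ.nil mF 1) (nat_lit 63) (nat_lit 64) rfl m0)
theorem xz0 : XZ xF (nat_lit 1) := (XZ.step (XZ.nil xF) s0 (nat_lit 1) (nat_lit 1) (by decide +kernel) x0)
/-- the certificate (63 points) is valid -/
theorem valid : cert.Valid (fun i => invL.getD i i) rels subs 18 :=
  ⟨by decide +kernel, tabok, by decide +kernel, mz0, xz0⟩
theorem cert_N : cert.N = 63 := rfl

end CL.TC.GPo8p2L2
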