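import Cfsg.Agent.Spor.TCSound

/-! coset enumeration certificate generated by tools/tc -/

set_option maxRecDepth 100000
set_option autoImplicit false
set_option linter.all false

namespace CL.TC.GPo8p2L3

noncomputable def rows0 : Tr ℕ := (.leaf (nat_lit 0xa6a3158c4e9a0750a13a6631d503aa18d5640ea94355ac7bf8876071fc463358c74854d44ab28ecfa159b23558c7afa0ad6313fe21b6146ec20ddf320be6215a07b0c079ee9e0f555199e6374906693895791fab22b50c6ea9905841daf037fc42b2189d531f17d1515af03f3e06a798957a19a06255cc36ba8cd951ea68395cc46d40bd7420fe21409a881d4943a8189d3418a86274dc62b48c50312a923b7d04ac48bff108e2c1d60c6c5f4ac6eb40dd0319a123d4cc6bf88355a1ea86356507eba0fd9309ac63d65472c208a869a835141a9863f38c77f88354a1bab23755082aa8953420a541b560669e095530b5a53b19ad23d44c7a8a0de1315ac63b58c76c4836430efe20d50c6b198ae6709c6a4055a8c4149436918e5540da46395108289895531cb082769056d4057f106b941968c305f3e85e8d8bce6179a62f45c5e818bcf317a082f44c5e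918bd931dae639fc41aa486873598b6a60fd06218143f73846c509bc623b0c43418a7f105ccc21b8c4f8385683092ad261da0c2540c1a718fde31fc48334a83aa18f5b818dd02792467f882ea710e06242fb8a19c102af185e780ab0619b8c2fd183f250bf4a0fa645b2985e6309e861ffc414135e836aa904f320a32395dc36ab0e58306aea3fb4c56ba0c6f416b8c19fc4172b8f072a50fcf515a123b4101a8d8ed131ea303949863020e5441afe2095cc378a8ad231a215c505bca11fc40ef384e7809c101f70c2efb8b5a30cbd4156583ec48ed731bbc610daea621d8c430187e9416f0a0ffc40f6a8b78307dc613c1427040fe5316cac09a4c5543a1c3f4a8b5f316c28217cc472b02e9305cec07b4c2ff881e2707b062380c7fab0a1569a8e5331ca061b48c83a1905ea0daa64144c57920365319fe207f8c83e183f031c2156513a723150c628c875d30eac627f8c7ec20ed430daaa1b6244a898d53317fe20609bb2297940b03827f102b320966452eb845b304b6e156dc46d989d9303b6a316cc618f854131a8261602bea29bd853f88171314bb023cd80f7387f9306cca295ac6bb18228739816f514cc6297e013f88163604e2c07dcc26e988da40cfc63d64c63f18eef3165a71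608cea0b74c474303eb316cc623e142bf8816f310dec219d452d20de9816ca6327be0a137e446f282e8703c660bb4c5af9825c30cc2a09d901ff18e7f102bf223f141c5fcd40fb183e7309bc60bdd00fb98879410f6829dd023ca0a7f102c261fecc23ea0710aa18d524069e62545057f18dfe31aae6336504ff18cf140efc631e902ff8817e3170e5d811d0e137d01ee9846430fc8e11a8c0b5287fe316f8809f8c57f880fe314fc6262fc48179202ef1855f30cc461560c32e40660608fa80b81023f880fe312ee81790c4085d101fb181e7308fc623f8c43b183e630fe0615f8c3f9205daa0cfc61df8c37f88082732855fa0cfc61980c2ff185fe30afc613ad417c18179302fc611f8c1ff880fe3060e7a201f6403ecc07e100fc301fa403f4c07f100fe301fe403f8c17f1827e303fc60400))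
noncomputable def recs0 : Tr ℕ := (.leaf (nat_lit 0x18000c0005da02ed016d00b1c056802a10147009ec04d00255))
noncomputable def rows : Tr ℕ := rows0
noncomputable def recs : Tr ℕ := recs0
noncomputable def ci0 : CI := ⟨[], (nat_lit 0), false, (.node (nat_lit 1) (.leaf Rule.defn) (.leaf Rule.copy)), (.leaf (XRule.rot (nat_lit 0) [] 40 0))⟩
noncomputable def ci9 : CI := ⟨[0], (nat_lit 28), false, (.node (nat_lit 8) (.node (nat_lit 4) (.node (nat_lit 2) (.node (nat_lit 1) (.leaf Rule.defn) (.leaf Rule.copy)) (.node (nat_lit 1) (.leaf (Rule.fwd [nat_lit 28] 40 0)) (.leaf (Rule.fwd [nat_lit 66, nat_lit 9, nat_lit 85, nat_lit 9, nat_lit 47] 25 3)))) (.node (nat_lit 2) (.node (nat_lit 1) (.leaf (Rule.fwd [nat_lit 66, nat_lit 28, nat_lit 142, nat_lit 9, nat_lit 66] 26 2)) (.leaf (Rule.fwd [nat_lit 9, nat_lit 47, nat_lit 161, nat_lit 28, nat_lit 237, nat_lit 104] 32 0))) (.node (nat_lit 1) (.leaf (Rule.fwd [nat_lit 47, nat_lit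 9, nat_lit 66, nat_lit 9, nat_lit 85] 25 5)) (.leaf (Rule.fwd [nat_lit 66, nat_lit 9, nat_lit 66, nat_lit 28, nat_lit 142] 26 0))))) (.leaf (Rule.fwd [nat_lit 85, nat_lit 9, nat_lit 47, nat_lit 9, nat_lit 66] 25 1))), (.node (nat_lit 1) (.leaf XRule.defn) (.leaf XRule.defn))⟩
noncomputable def ci28 : CI := ⟨[1], (nat_lit 9), false, (.node (nat_lit 8) (.node (nat_lit 4) (.node (nat_lit 2) (.node (nat_lit 1) (.leaf Rule.defn) (.leaf Rule.copy)) (.node (nat_lit 1) (.leaf (Rule.fwd [nat_lit 9] 40 0)) (.leaf (Rule.fwd [nat_lit 66, nat_lit 28, nat_lit 104, nat_lit 28, nat_lit 47] 24 2)))) (.node (nat_lit 2) (.node (nat_lit 1) (.leaf (Rule.fwd [nat_lit 47, nat_lit 28, nat_lit 123, nat_lit 9, nat_lit 47] 27 3)) (.leaf (Rule.fwd [nat_lit 104, nat_lit 28, nat_lit 47, nat_lit 28, nat_lit 66] 24 4))) (.node (nat_lit 1) (.leaf (Rule.fwd [nat_lit 142, nat_lit 256, nat_lit 85, nat_lit 9, nat_lit 104] 31 1)) (.leaf (Rule.fwd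 [nat_lit 47, nat_lit 28, nat_lit 66, nat_lit 28, nat_lit 104] 24 0))))) (.node (nat_lit 2) (.node (nat_lit 1) (.leaf (Rule.fwd [nat_lit 161, nat_lit 142, nat_lit 161, nat_lit 9, nat_lit 104] 37 1)) (.leaf (Rule.fwd [nat_lit 142, nat_lit 9, nat_lit 66, nat_lit 9, nat_lit 66] 26 4))) (.node (nat_lit 1) (.leaf (Rule.fwd [nat_lit 180, nat_lit 123, nat_lit 180, nat_lit 9, nat_lit 85] 36 2)) (.leaf (Rule.fwd [nat_lit 28, nat_lit 85, nat_lit 237, nat_lit 9, nat_lit 180, nat_lit 66] 33 2))))), (.node (nat_lit 1) (.leaf XRule.defn) (.leaf XRule.defn))⟩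
noncomputable def ci47 : CI := ⟨[2], (nat_lit 66), false, (.node (nat_lit 8) (.node (nat_lit 4) (.node (nat_lit 2) (.node (nat_lit 1) (.leaf Rule.defn) (.leaf Rule.copy)) (.node (nat_lit 1) (.leaf (Rule.fwd [nat_lit 66] 40 0)) (.leaf (Rule.fwd [nat_lit 161, nat_lit 28, nat_lit 237, nat_lit 104, nat_lit 9, nat_lit 9] 32 2)))) (.node (nat_lit 2) (.node (nat_lit 1) (.leaf (Rule.fwd [nat_lit 28, nat_lit 123, nat_lit 9, nat_lit 47, nat_lit 28] 27 2)) (.leaf (Rule.fwd [nat_lit 142, nat_lit 161, nat_lit 9, nat_lit 256, nat_lit 218, nat_lit 9] 34 1))) (.node (nat_lit 1) (.leaf (Rule.fwd [nat_lit 9, nat_lit 66, nat_lit 9, nat_lit 85, nat_lit 9] 25 4)) (.leaf (Rule.fwd [nat_lit 28, nat_lit 66, nat_lit 28, nat_lit 104, nat_lit 28] 24 1))))) (.leaf (Rule.fwd [nat_lit 104, nat_lit 47, nat_lit 104] 28 0))), (.node (nat_lit 1) (.leaf XRule.defn) (.leaf XRule.defn))⟩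
noncomputable def ci66 : CI := ⟨[3], (nat_lit 47), false, (.node (nat_lit 8) (.node (nat_lit 4) (.node (nat_lit 2) (.node (nat_lit 1) (.leaf Rule.defn) (.leaf Rule.copy)) (.node (nat_lit 1) (.leaf (Rule.fwd [nat_lit 47] 40 0)) (.leaf (Rule.fwd [nat_lit 28, nat_lit 142, nat_lit 9, nat_lit 66, nat_lit 9] 26 3)))) (.node (nat_lit 2) (.node (nat_lit 1) (.leaf (Rule.fwd [nat_lit 9, nat_lit 66, nat_lit 28, nat_lit 142, nat_lit 9] 26 1)) (.leaf (Rule.fwd [nat_lit 85, nat_lit 66, nat_lit 85] 29 1))) (.node (nat_lit 1) (.leaf (Rule.fwd [nat_lit 28, nat_lit 199, nat_lit 256, nat_lit 28, nat_lit 180, nat_lit 123] 35 2)) (.leaf (Rule.fwd [nat_lit 9, nat_lit 85, nat_lit 9, nat_lit 47, nat_lit 9] 25 2))))) (.node (nat_lit 1) (.leaf (Rule.fwd [nat_lit 28, nat_lit 104, nat_lit 28, nat_lit 47, nat_lit 28] 24 3)) (.leaf (Rule.fwd [nat_lit 28, nat_lit 28, nat_lit 85, nat_lit 237, nat_lit 9, nat_lit 180] 33 3)))), (.node (nat_lit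 1) (.leaf XRule.defn) (.leaf XRule.defn))⟩
noncomputable def ci85 : CI := ⟨[4], (nat_lit 104), true, (.node (nat_lit 8) (.node (nat_lit 4) (.node (nat_lit 2) (.node (nat_lit 1) (.leaf Rule.defn) (.leaf Rule.copy)) (.node (nat_lit 1) (.leaf (Rule.fwd [nat_lit 28, nat_lit 104, nat_lit 256, nat_lit 123, nat_lit 9] 30 1)) (.leaf (Rule.fwd [nat_lit 104] 40 0)))) (.node (nat_lit 2) (.node (nat_lit 1) (.leaf (Rule.fwd [nat_lit 142, nat_lit 142, nat_lit 180] 10 0)) (.leaf (Rule.fwd [nat_lit 237, nat_lit 256, nat_lit 123, nat_lit 161, nat_lit 85] 22 1))) (.node (nat_lit 1) (.leaf (Rule.fwd [nat_lit 85, nat_lit 237, nat_lit 85, nat_lit 180, nat_lit 123] 18 0)) (.leaf (Rule.fwd [nat_lit 66, nat_lit 85, nat_lit 66] 29 0))))) (.node (nat_lit 2) (.node (nat_lit 1) (.leaf (Rule.fwd [nat_lit 237, nat_lit 85, nat_lit 180, nat_lit 123, nat_lit 85] 18 1)) (.leaf (Rule.fwd [nat_lit 237, nat_lit 9, nat_lit 180, nat_lit 66, nat_lit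 28, nat_lit 28] 33 0))) (.leaf (Rule.fwd [nat_lit 28, nat_lit 180, nat_lit 123, nat_lit 180, nat_lit 9] 36 1)))), (.node (nat_lit 1) (.leaf XRule.defn) (.leaf XRule.ax))⟩
noncomputable def ci104 : CI := ⟨[5], (nat_lit 85), true, (.node (nat_lit 8) (.node (nat_lit 4) (.node (nat_lit 2) (.node (nat_lit 1) (.leaf Rule.defn) (.leaf Rule.copy)) (.node (nat_lit 1) (.leaf (Rule.fwd [nat_lit 85] 40 0)) (.leaf (Rule.fwd [nat_lit 47, nat_lit 104, nat_lit 47] 28 1)))) (.node (nat_lit 2) (.node (nat_lit 1) (.leaf (Rule.fwd [nat_lit 28, nat_lit 47, nat_lit 28, nat_lit 66, nat_lit 28] 24 5)) (.leaf (Rule.fwd [nat_lit 256, nat_lit 123, nat_lit 9, nat_lit 85, nat_lit 28] 30 3))) (.node (nat_lit 1) (.leaf (Rule.fwd [nat_lit 161, nat_lit 123, nat_lit 123] 11 1)) (.leaf (Rule.fwd [nat_lit 28, nat_lit 142, nat_lit 256, nat_lit 85, nat_lit 9] 31 2))))) (.node (nat_lit 1) (.leaf (Rule.fwd [nat_lit 237, nat_lit 104, nat_lit 104, nat_lit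 142, nat_lit 161] 19 4)) (.leaf (Rule.fwd [nat_lit 142, nat_lit 161, nat_lit 104, nat_lit 237, nat_lit 104] 19 1)))), (.node (nat_lit 1) (.leaf XRule.defn) (.leaf XRule.ax))⟩
noncomputable def ci123 : CI := ⟨[6], (nat_lit 142), true, (.node (nat_lit 8) (.node (nat_lit 4) (.node (nat_lit 2) (.node (nat_lit 1) (.leaf Rule.defn) (.leaf Rule.copy)) (.node (nat_lit 1) (.leaf (Rule.fwd [nat_lit 142] 40 0)) (.leaf (Rule.fwd [nat_lit 9, nat_lit 47, nat_lit 28, nat_lit 47, nat_lit 28] 27 0)))) (.node (nat_lit 2) (.node (nat_lit 1) (.leaf (Rule.fwd [nat_lit 104, nat_lit 161, nat_lit 123] 11 2)) (.leaf (Rule.fwd [nat_lit 161, nat_lit 85, nat_lit 85, nat_lit 237, nat_lit 256] 22 4))) (.node (nat_lit 1) (.leaf (Rule.fwd [nat_lit 199, nat_lit 123, nat_lit 199] 14 0)) (.leaf (Rule.fwd [nat_lit 9, nat_lit 85, nat_lit 28, nat_lit 104, nat_lit 256] 30 5))))) (.leaf (Rule.fwd [nat_lit 123, nat_lit 104, nat_lit 161] 11 3))), (.node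 (nat_lit 1) (.leaf XRule.defn) (.leaf XRule.ax))⟩
noncomputable def ci142 : CI := ⟨[7], (nat_lit 123), true, (.node (nat_lit 8) (.node (nat_lit 4) (.node (nat_lit 2) (.node (nat_lit 1) (.leaf Rule.defn) (.leaf Rule.copy)) (.node (nat_lit 1) (.leaf (Rule.fwd [nat_lit 123] 40 0)) (.leaf (Rule.fwd [nat_lit 161, nat_lit 9, nat_lit 256, nat_lit 218, nat_lit 9, nat_lit 47] 34 2)))) (.node (nat_lit 2) (.node (nat_lit 1) (.leaf (Rule.fwd [nat_lit 180, nat_lit 85, nat_lit 142] 10 2)) (.leaf (Rule.fwd [nat_lit 161, nat_lit 9, nat_lit 104, nat_lit 28, nat_lit 161] 37 5))) (.node (nat_lit 1) (.leaf (Rule.fwd [nat_lit 218, nat_lit 142, nat_lit 218] 15 1)) (.leaf (Rule.fwd [nat_lit 142, nat_lit 180, nat_lit 85] 10 1))))) (.node (nat_lit 1) (.leaf (Rule.fwd [nat_lit 9, nat_lit 66, nat_lit 9, nat_lit 66, nat_lit 28] 26 5)) (.leaf (Rule.fwd [nat_lit 161, nat_lit 104, nat_lit 237, nat_lit 104, nat_lit 104] 19 0)))), (.node (nat_lit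 1) (.leaf XRule.defn) (.leaf XRule.ax))⟩
noncomputable def ci161 : CI := ⟨[8], (nat_lit 180), true, (.node (nat_lit 8) (.node (nat_lit 4) (.node (nat_lit 2) (.node (nat_lit 1) (.leaf Rule.defn) (.leaf Rule.copy)) (.node (nat_lit 1) (.leaf (Rule.fwd [nat_lit 180] 40 0)) (.leaf (Rule.fwd [nat_lit 28, nat_lit 237, nat_lit 104, nat_lit 9, nat_lit 9, nat_lit 47] 32 3)))) (.node (nat_lit 2) (.node (nat_lit 1) (.leaf (Rule.fwd [nat_lit 104, nat_lit 237, nat_lit 104, nat_lit 104, nat_lit 142] 19 5)) (.leaf (Rule.fwd [nat_lit 9, nat_lit 104, nat_lit 28, nat_lit 161, nat_lit 142] 37 4))) (.node (nat_lit 1) (.leaf (Rule.fwd [nat_lit 161, nat_lit 237, nat_lit 161] 3 2)) (.leaf (Rule.fwd [nat_lit 199, nat_lit 161, nat_lit 199] 6 0))))) (.node (nat_lit 1) (.leaf (Rule.fwd [nat_lit 123, nat_lit 123, nat_lit 104] 11 0)) (.leaf (Rule.fwd [nat_lit 142, nat_lit 161, nat_lit 9, nat_lit 104, nat_lit 28] 37 0)))), (.node (nat_lit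 1) (.leaf XRule.defn) (.leaf XRule.ax))⟩
noncomputable def ci180 : CI := ⟨[9], (nat_lit 161), true, (.node (nat_lit 8) (.node (nat_lit 4) (.node (nat_lit 2) (.node (nat_lit 1) (.leaf Rule.defn) (.leaf Rule.copy)) (.node (nat_lit 1) (.leaf (Rule.fwd [nat_lit 161] 40 0)) (.leaf (Rule.fwd [nat_lit 9, nat_lit 85, nat_lit 28, nat_lit 180, nat_lit 123] 36 5)))) (.node (nat_lit 2) (.node (nat_lit 1) (.leaf (Rule.fwd [nat_lit 85, nat_lit 142, nat_lit 142] 10 3)) (.leaf (Rule.fwd [nat_lit 237, nat_lit 180, nat_lit 180] 2 2))) (.node (nat_lit 1) (.leaf (Rule.fwd [nat_lit 66, nat_lit 28, nat_lit 28, nat_lit 85, nat_lit 237, nat_lit 9] 33 4)) (.leaf (Rule.fwd [nat_lit 199, nat_lit 180, nat_lit 199] 9 1))))) (.node (nat_lit 2) (.node (nat_lit 1) (.leaf (Rule.fwd [nat_lit 123, nat_lit 85, nat_lit 85, nat_lit 237, nat_lit 85] 18 4)) (.leaf (Rule.fwd [nat_lit 123, nat_lit 180, nat_lit 9, nat_lit 85, nat_lit 28] 36 3))) (.leaf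 (Rule.fwd [nat_lit 180, nat_lit 237, nat_lit 180] 2 1)))), (.node (nat_lit 1) (.leaf XRule.defn) (.leaf XRule.ax))⟩
noncomputable def ci199 : CI := ⟨[10], (nat_lit 218), true, (.node (nat_lit 8) (.node (nat_lit 4) (.node (nat_lit 2) (.node (nat_lit 1) (.leaf Rule.defn) (.leaf Rule.copy)) (.node (nat_lit 1) (.leaf (Rule.fwd [nat_lit 218] 40 0)) (.leaf (Rule.fwd [nat_lit 256, nat_lit 28, nat_lit 180, nat_lit 123, nat_lit 66, nat_lit 28] 35 0)))) (.node (nat_lit 2) (.node (nat_lit 1) (.leaf (Rule.fwd [nat_lit 199, nat_lit 256, nat_lit 199] 5 2)) (.leaf (Rule.fwd [nat_lit 161, nat_lit 199, nat_lit 161] 6 1))) (.node (nat_lit 1) (.leaf (Rule.fwd [nat_lit 180, nat_lit 199, nat_lit 180] 9 0)) (.leaf (Rule.fwd [nat_lit 123, nat_lit 199, nat_lit 123] 14 1))))) (.node (nat_lit 1) (.leaf (Rule.fwd [nat_lit 237, nat_lit 199, nat_lit 237] 20 0)) (.leaf (Rule.fwd [nat_lit 199, nat_lit 199, nat_lit 256] 5 3)))), (.node (nat_lit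 1) (.leaf XRule.defn) (.leaf XRule.ax))⟩
noncomputable def ci218 : CI := ⟨[11], (nat_lit 199), true, (.node (nat_lit 8) (.node (nat_lit 4) (.node (nat_lit 2) (.node (nat_lit 1) (.leaf Rule.defn) (.leaf Rule.copy)) (.node (nat_lit 1) (.leaf (Rule.fwd [nat_lit 199] 40 0)) (.leaf (Rule.fwd [nat_lit 161, nat_lit 218, nat_lit 161] 8 1)))) (.node (nat_lit 2) (.node (nat_lit 1) (.leaf (Rule.fwd [nat_lit 218, nat_lit 218, nat_lit 256] 4 0)) (.leaf (Rule.fwd [nat_lit 9, nat_lit 47, nat_lit 142, nat_lit 161, nat_lit 9, nat_lit 256] 34 6))) (.node (nat_lit 1) (.leaf (Rule.fwd [nat_lit 256, nat_lit 218, nat_lit 218] 4 2)) (.leaf (Rule.fwd [nat_lit 142, nat_lit 218, nat_lit 142] 15 0))))) (.node (nat_lit 1) (.leaf (Rule.fwd [nat_lit 180, nat_lit 218, nat_lit 180] 7 0)) (.leaf (Rule.fwd [nat_lit 237, nat_lit 218, nat_lit 237] 21 1)))), (.node (nat_lit 1) (.leaf XRule.defn) (.leaf XRule.ax))⟩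
noncomputable def ci237 : CI := ⟨[12], (nat_lit 237), true, (.node (nat_lit 8) (.node (nat_lit 4) (.node (nat_lit 2) (.node (nat_lit 1) (.leaf Rule.defn) (.leaf Rule.copy)) (.node (nat_lit 1) (.leaf (Rule.fwd [nat_lit 180, nat_lit 180, nat_lit 180] 2 3)) (.leaf (Rule.fwd [nat_lit 142, nat_lit 256, nat_lit 123] 16 1)))) (.node (nat_lit 2) (.node (nat_lit 1) (.leaf (Rule.fwd [nat_lit 237] 40 0)) (.leaf (Rule.fwd [nat_lit 104, nat_lit 104, nat_lit 180, nat_lit 142, nat_lit 256] 23 3))) (.node (nat_lit 1) (.leaf (Rule.fwd [nat_lit 85, nat_lit 180, nat_lit 123, nat_lit 85, nat_lit 85] 18 2)) (.leaf (Rule.fwd [nat_lit 104, nat_lit 9, nat_lit 9, nat_lit 47, nat_lit 161, nat_lit 28] 32 5))))) (.node (nat_lit 2) (.node (nat_lit 1) (.leaf (Rule.fwd [nat_lit 161, nat_lit 161, nat_lit 161] 3 0)) (.leaf (Rule.fwd [nat_lit 218, nat_lit 237, nat_lit 218] 21 0))) (.leaf (Rule.fwd [nat_lit 9, nat_lit 180, nat_lit 66, nat_lit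 28, nat_lit 28, nat_lit 85] 33 6)))), (.node (nat_lit 1) (.leaf XRule.defn) (.leaf XRule.ax))⟩
noncomputable def ci256 : CI := ⟨[13], (nat_lit 256), true, (.node (nat_lit 8) (.node (nat_lit 4) (.node (nat_lit 2) (.node (nat_lit 1) (.leaf Rule.defn) (.leaf Rule.copy)) (.node (nat_lit 1) (.leaf (Rule.fwd [nat_lit 123, nat_lit 237, nat_lit 142] 16 3)) (.leaf (Rule.fwd [nat_lit 161, nat_lit 256, nat_lit 161] 38 1)))) (.node (nat_lit 2) (.node (nat_lit 1) (.leaf (Rule.fwd [nat_lit 256] 40 0)) (.leaf (Rule.fwd [nat_lit 85, nat_lit 9, nat_lit 104, nat_lit 28, nat_lit 142] 31 5))) (.node (nat_lit 1) (.leaf (Rule.fwd [nat_lit 237, nat_lit 256, nat_lit 237] 0 1)) (.leaf (Rule.fwd [nat_lit 199, nat_lit 199, nat_lit 199] 5 0))))) (.node (nat_lit 2) (.node (nat_lit 1) (.leaf (Rule.fwd [nat_lit 218, nat_lit 218, nat_lit 218] 4 3)) (.leaf (Rule.fwd [nat_lit 123, nat_lit 9, nat_lit 85, nat_lit 28, nat_lit 104] 30 4))) (.node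 (nat_lit 1) (.leaf (Rule.fwd [nat_lit 237, nat_lit 104, nat_lit 104, nat_lit 180, nat_lit 142] 23 4)) (.leaf (Rule.fwd [nat_lit 123, nat_lit 161, nat_lit 85, nat_lit 85, nat_lit 237] 22 3))))), (.node (nat_lit 1) (.leaf XRule.defn) (.leaf XRule.ax))⟩
noncomputable def outer : Tr CI := (.node (nat_lit 1) (.node (nat_lit 8) (.node (nat_lit 2) (.node (nat_lit 4) (.node (nat_lit 256) (.leaf ci0) (.leaf ci256)) (.leaf ci180)) (.leaf ci66)) (.node (nat_lit 2) (.node (nat_lit 4) (.leaf ci104) (.leaf ci28)) (.node (nat_lit 4) (.leaf ci218) (.leaf ci142)))) (.node (nat_lit 2) (.node (nat_lit 4) (.node (nat_lit 8) (.leaf ci161) (.leaf ci9)) (.node (nat_lit 8) (.leaf ci85) (.leaf ci237))) (.node (nat_lit 4) (.leaf ci123) (.node (nat_lit 8) (.leaf ci199) (.leaf ci47)))))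
def cols : List ℕ := [nat_lit 9, nat_lit 28, nat_lit 47, nat_lit 66, nat_lit 85, nat_lit 104, nat_lit 123, nat_lit 142, nat_lit 161, nat_lit 180, nat_lit 199, nat_lit 218, nat_lit 237, nat_lit 256]
def invL : List ℕ := [1, 0, 3, 2, 5, 4, 7, 6, 9, 8, 11, 10, 12, 13]
def rels : List (List ℕ) := [[12, 13, 12, 13], [9, 9, 9, 12], [11, 11, 11, 13], [8, 10, 8, 10], [8, 11, 8, 11], [4, 7, 7, 9], [4, 6, 4, 6, 4, 4, 4, 7, 7, 11], [6, 10, 6, 10], [6, 12, 7, 13], [4, 4, 12, 4, 9, 6], [10, 12, 10, 12], [4, 4, 12, 13, 6, 8], [1, 2, 1, 3, 1, 5], [0, 3, 0, 3, 1, 7], [2, 5, 2, 5], [0, 4, 1, 5, 13, 6], [0, 0, 2, 8, 1, 12, 5], [0, 2, 7, 8, 0, 13, 11], [0, 4, 1, 9, 6, 9], [8, 13, 8, 13]]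
def subs : List (List ℕ) := [[4], [5], [6], [7], [8], [9], [10], [11], [12], [13]]
noncomputable def row (n : ℕ) : ℕ := rowOf (fun h => rows.get h) (nat_lit 5) (nat_lit 31) (nat_lit 275) (nat_lit 0x7ffffffffffffffffffffffffffffffffffffffffffffffffffffffffffffffffffff) n
noncomputable def xleaf (h : ℕ) : ℕ := recs.get h
noncomputable def mF : ℕ → ℕ := mainRow row (rowChk row xleaf outer (nat_lit 8) (nat_lit 255) (nat_lit 15) (nat_lit 12) (nat_lit 4095) (nat_lit 524287) (nat_lit 128) (nat_lit 32) (nat_lit 256) (nat_lit 9) (nat_lit 511) (nat_lit 17) (nat_lit 131071) (nat_lit 8) (nat_lit 255) cols)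
noncomputable def xF : ℕ → ℕ → ℕ := xLeaf row xleaf outer (nat_lit 255) (nat_lit 12) (nat_lit 524287) (nat_lit 128) (nat_lit 32) (nat_lit 9) (nat_lit 511) (nat_lit 17) (nat_lit 131071) (nat_lit 130560) (nat_lit 8) (nat_lit 255) (nat_lit 10) (nat_lit 1023) (nat_lit 2) (nat_lit 3) (nat_lit 256) (nat_lit 16384) (nat_lit 128)
noncomputable def cert : Cert := ⟨row, xleaf, outer, cols, nat_lit 8, nat_lit 255, nat_lit 15, nat_lit 12, nat_lit 4095, nat_lit 524287, nat_lit 128, nat_lit 32, nat_lit 256, nat_lit 9, nat_lit 511, nat_lit 17, nat_lit 131071, nat_lit 130560, nat_lit 8, nat_lit 255, nat_lit 10, nat_lit 1023, nat_lit 2, nat_lit 3, nat_lit 256, nat_lit 16384, nat_lit 128, nat_lit 19, nat_lit 128, nat_lit 1⟩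
theorem tabok : tabOK (fun i => invL.getD i i) rels subs outer cols (nat_lit 9) (nat_lit 256) = true := by decide +kernel
theorem m0 : rng mF (nat_lit 1) (nat_lit 32) = 0 := by decide +kernel
noncomputable def s0 : List ℕ := [nat_lit 0x401004010040100000000000000000000000000000000000000000000000000000000000000000000000000000000000000000000000000000000000000000000000000000000000000000000000000000000000000000000000000000000000000000000000000000000000000000000000000000000000000000000000000000000000000000000000000000000000000000000000000000000000000000]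
theorem x0 : xs xF s0 (nat_lit 1) = 0 := by decide +kernel
theorem mz0 : AllZ mF 1 (nat_lit 33) := (AllZ.step (AllZ.nil mF 1) (nat_lit 32) (nat_lit 33) rfl m0)
theorem xz0 : XZ xF (nat_lit 1) := (XZ.step (XZ.nil xF) s0 (nat_lit 1) (nat_lit 1) (by decide +kernel) x0)
/-- the certificate (32 points) is valid -/
theorem valid : cert.Valid (fun i => invL.getD i i) rels subs 14 :=
  ⟨by decide +kernel, tabok, by decide +kernel, mz0, xz0⟩
theorem cert_N : cert.N = 32 := rfl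

end CL.TC.GPo8p2L3
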