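import Cfsg.Agent.Spor.TCSound

/-! coset enumeration certificate generated by tools/tc -/

set_option maxRecDepth 100000
set_option autoImplicit false
set_option linter.all false

namespace CL.TC.GPo8p2L4

noncomputable def rows0 : Tr ℕ := (.leaf (nat_lit 0xfe20fb543b6d056d608d701fb602b4b8a68314d8a1fa4c22cf3a09ef813ce627a104f4189e9913d261fa5c27f8837060b1be0623b54439186ea30cf2a0bc8c376b096c312fe20bc94306f8b897260dda621e942f69887d405e6817c4c43a1847f10408d861bba84b51866e711dc60db9c479208ec70ffe209b0c3c6f7387ed503de813fc40f6403ea314d6621a904f6a086b3147af0815ba4538b846c307fe207b981f4983fd505d6c13acc159f6a8871511e6a17cd44b9b0973306d4a19fc40f31856f50a2ed9217b4c335a896b510daa17acc13f881e930de2625b9c1d0759867170bf2623c8c37da026c30cf6613c8c477989ff10308ee61db941ff8816c314d8629c0c0fb98479606dc61b9d036378204f3609e4c07b8c3fa3047f102d0627f102f6283ea30e54e1005cd823618a7030efe205ccc2782837850ad4829d50459ff18a6f30adb21db4c0b69876b30ffe205a903b69866b30941f2a0de9417c202fa604e8a1bbd443c1856f308fe205f8c4c6fe202fb406f8609dcc1be188f8312f861dfc40763077e3122eecc09ecc13c9837d405d8819e8c2ff880fc302fc623f8c41077381ee70ffc61fc4c278b857e30efc61bf8c33f185ff10108de611d4c0b7403fe30afc613f8c23ea027e307fe203f8c186fe100fd201fa603f8807f180ff201fc60bf8c13f181fe30200))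
noncomputable def recs0 : Tr ℕ := (.leaf (nat_lit 0x1b301b301a001a0018d017a01670154))
noncomputable def rows : Tr ℕ := rows0
noncomputable def recs : Tr ℕ := recs0
noncomputable def ci0 : CI := ⟨[], (nat_lit 0), false, (.node (nat_lit 1) (.leaf Rule.defn) (.leaf Rule.copy)), (.leaf (XRule.rot (nat_lit 0) [] 24 0))⟩
noncomputable def ci8 : CI := ⟨[0], (nat_lit 27), false, (.node (nat_lit 4) (.node (nat_lit 2) (.node (nat_lit 1) (.leaf Rule.defn) (.leaf Rule.copy)) (.node (nat_lit 1) (.leaf (Rule.fwd [nat_lit 27] 24 0)) (.leaf (Rule.fwd [nat_lit 8, nat_lit 160, nat_lit 179, nat_lit 46, nat_lit 84] 22 0)))) (.node (nat_lit 2) (.node (nat_lit 1) (.leaf (Rule.fwd [nat_lit 65, nat_lit 65, nat_lit 103] 10 0)) (.leaf (Rule.fwd [nat_lit 160, nat_lit 8, nat_lit 103, nat_lit 46, nat_lit 8] 18 1))) (.leaf (Rule.fwd [nat_lit 160, nat_lit 179, nat_lit 46, nat_lit 84, nat_lit 8] 22 1)))), (.node (nat_lit 1) (.leaf XRule.defn) (.leaf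 XRule.defn))⟩
noncomputable def ci27 : CI := ⟨[1], (nat_lit 8), false, (.node (nat_lit 4) (.node (nat_lit 2) (.node (nat_lit 1) (.leaf Rule.defn) (.leaf Rule.copy)) (.node (nat_lit 1) (.leaf (Rule.fwd [nat_lit 8] 24 0)) (.leaf (Rule.fwd [nat_lit 27, nat_lit 65, nat_lit 84, nat_lit 27, nat_lit 160] 19 2)))) (.node (nat_lit 1) (.leaf (Rule.fwd [nat_lit 27, nat_lit 103, nat_lit 65, nat_lit 179, nat_lit 160] 23 2)) (.leaf (Rule.fwd [nat_lit 103, nat_lit 65, nat_lit 179, nat_lit 160, nat_lit 27] 23 1)))), (.node (nat_lit 1) (.leaf XRule.defn) (.leaf XRule.defn))⟩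
noncomputable def ci46 : CI := ⟨[2], (nat_lit 65), false, (.node (nat_lit 4) (.node (nat_lit 2) (.node (nat_lit 1) (.leaf Rule.defn) (.leaf Rule.copy)) (.node (nat_lit 1) (.leaf (Rule.fwd [nat_lit 65] 24 0)) (.leaf (Rule.fwd [nat_lit 8, nat_lit 8, nat_lit 160, nat_lit 8, nat_lit 103] 18 5)))) (.node (nat_lit 2) (.node (nat_lit 1) (.leaf (Rule.fwd [nat_lit 46, nat_lit 27, nat_lit 84] 11 3)) (.leaf (Rule.fwd [nat_lit 122, nat_lit 46, nat_lit 122] 14 0))) (.leaf (Rule.fwd [nat_lit 27, nat_lit 84, nat_lit 46] 11 2)))), (.node (nat_lit 1) (.leaf XRule.defn) (.leaf XRule.defn))⟩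
noncomputable def ci65 : CI := ⟨[3], (nat_lit 46), false, (.node (nat_lit 4) (.node (nat_lit 2) (.node (nat_lit 1) (.leaf Rule.defn) (.leaf Rule.copy)) (.node (nat_lit 1) (.leaf (Rule.fwd [nat_lit 46] 24 0)) (.leaf (Rule.fwd [nat_lit 65, nat_lit 103, nat_lit 8] 10 1)))) (.node (nat_lit 2) (.node (nat_lit 1) (.leaf (Rule.fwd [nat_lit 141, nat_lit 65, nat_lit 141] 15 1)) (.leaf (Rule.fwd [nat_lit 179, nat_lit 46, nat_lit 160] 16 2))) (.leaf (Rule.fwd [nat_lit 84, nat_lit 27, nat_lit 160, nat_lit 27, nat_lit 27] 19 0)))), (.node (nat_lit 1) (.leaf XRule.defn) (.leaf XRule.defn))⟩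
noncomputable def ci84 : CI := ⟨[4], (nat_lit 103), true, (.node (nat_lit 8) (.node (nat_lit 4) (.node (nat_lit 2) (.node (nat_lit 1) (.leaf Rule.defn) (.leaf Rule.copy)) (.node (nat_lit 1) (.leaf (Rule.fwd [nat_lit 103] 24 0)) (.leaf (Rule.fwd [nat_lit 46, nat_lit 46, nat_lit 27] 11 0)))) (.node (nat_lit 2) (.node (nat_lit 1) (.leaf (Rule.fwd [nat_lit 27, nat_lit 160, nat_lit 27, nat_lit 27, nat_lit 65] 19 5)) (.leaf (Rule.fwd [nat_lit 160, nat_lit 84, nat_lit 84] 3 1))) (.node (nat_lit 1) (.leaf (Rule.fwd [nat_lit 84, nat_lit 160, nat_lit 84] 3 2)) (.leaf (Rule.fwd [nat_lit 84, nat_lit 84, nat_lit 160] 3 3))))) (.leaf (Rule.fwd [nat_lit 8, nat_lit 8, nat_lit 160, nat_lit 179, nat_lit 46] 22 5))), (.node (nat_lit 1) (.leaf XRule.defn) (.leaf XRule.ax))⟩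
noncomputable def ci103 : CI := ⟨[5], (nat_lit 84), true, (.node (nat_lit 4) (.node (nat_lit 2) (.node (nat_lit 1) (.leaf Rule.defn) (.leaf Rule.copy)) (.node (nat_lit 1) (.leaf (Rule.fwd [nat_lit 84] 24 0)) (.leaf (Rule.fwd [nat_lit 65, nat_lit 179, nat_lit 160, nat_lit 27, nat_lit 27] 23 0)))) (.node (nat_lit 2) (.node (nat_lit 1) (.leaf (Rule.fwd [nat_lit 46, nat_lit 8, nat_lit 8, nat_lit 160, nat_lit 8] 18 4)) (.leaf (Rule.fwd [nat_lit 103, nat_lit 160, nat_lit 103] 2 1))) (.node (nat_lit 1) (.leaf (Rule.fwd [nat_lit 141, nat_lit 103, nat_lit 141] 7 1)) (.leaf (Rule.fwd [nat_lit 103, nat_lit 103, nat_lit 160] 2 0))))), (.node (nat_lit 1) (.leaf XRule.defn) (.leaf XRule.ax))⟩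
noncomputable def ci122 : CI := ⟨[6], (nat_lit 141), true, (.node (nat_lit 4) (.node (nat_lit 2) (.node (nat_lit 1) (.leaf Rule.defn) (.leaf Rule.copy)) (.node (nat_lit 1) (.leaf (Rule.fwd [nat_lit 141] 24 0)) (.leaf (Rule.fwd [nat_lit 46, nat_lit 122, nat_lit 46] 14 1)))) (.node (nat_lit 2) (.node (nat_lit 1) (.leaf (Rule.fwd [nat_lit 103, nat_lit 122, nat_lit 103] 9 0)) (.leaf (Rule.fwd [nat_lit 160, nat_lit 122, nat_lit 160] 20 0))) (.leaf (Rule.fwd [nat_lit 84, nat_lit 122, nat_lit 84] 6 1)))), (.node (nat_lit 1) (.leaf XRule.defn) (.leaf XRule.ax))⟩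
noncomputable def ci141 : CI := ⟨[7], (nat_lit 122), true, (.node (nat_lit 8) (.node (nat_lit 4) (.node (nat_lit 2) (.node (nat_lit 1) (.leaf Rule.defn) (.leaf Rule.copy)) (.node (nat_lit 1) (.leaf (Rule.fwd [nat_lit 122] 24 0)) (.leaf (Rule.fwd [nat_lit 179, nat_lit 141, nat_lit 141] 4 2)))) (.node (nat_lit 2) (.node (nat_lit 1) (.leaf (Rule.fwd [nat_lit 103, nat_lit 141, nat_lit 103] 7 0)) (.leaf (Rule.fwd [nat_lit 65, nat_lit 141, nat_lit 65] 15 0))) (.node (nat_lit 1) (.leaf (Rule.fwd [nat_lit 84, nat_lit 141, nat_lit 84] 8 1)) (.leaf (Rule.fwd [nat_lit 160, nat_lit 141, nat_lit 160] 21 1))))) (.node (nat_lit 1) (.leaf (Rule.fwd [nat_lit 141, nat_lit 179, nat_lit 141] 4 1)) (.leaf (Rule.fwd [nat_lit 141, nat_lit 141, nat_lit 179] 4 0)))), (.node (nat_lit 1) (.leaf XRule.defn) (.leaf XRule.ax))⟩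
noncomputable def ci160 : CI := ⟨[8], (nat_lit 160), true, (.node (nat_lit 8) (.node (nat_lit 4) (.node (nat_lit 2) (.node (nat_lit 1) (.leaf Rule.defn) (.leaf Rule.copy)) (.node (nat_lit 1) (.leaf (Rule.fwd [nat_lit 65, nat_lit 179, nat_lit 46] 16 1)) (.leaf (Rule.fwd [nat_lit 27, nat_lit 27, nat_lit 103, nat_lit 65, nat_lit 179] 23 3)))) (.node (nat_lit 2) (.node (nat_lit 1) (.leaf (Rule.fwd [nat_lit 160] 24 0)) (.leaf (Rule.fwd [nat_lit 103, nat_lit 103, nat_lit 103] 2 3))) (.node (nat_lit 1) (.leaf (Rule.fwd [nat_lit 141, nat_lit 160, nat_lit 141] 21 0)) (.leaf (Rule.fwd [nat_lit 8, nat_lit 103, nat_lit 46, nat_lit 8, nat_lit 8] 18 2))))) (.node (nat_lit 1) (.leaf (Rule.fwd [nat_lit 179, nat_lit 160, nat_lit 179] 0 0)) (.leaf (Rule.fwd [nat_lit 84, nat_lit 84, nat_lit 84] 3 0)))), (.node (nat_lit 1) (.leaf XRule.defn) (.leaf XRule.ax))⟩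
noncomputable def ci179 : CI := ⟨[9], (nat_lit 179), true, (.node (nat_lit 8) (.node (nat_lit 4) (.node (nat_lit 2) (.node (nat_lit 1) (.leaf Rule.defn) (.leaf Rule.copy)) (.node (nat_lit 1) (.leaf (Rule.fwd [nat_lit 179] 24 0)) (.leaf (Rule.fwd [nat_lit 46, nat_lit 160, nat_lit 65] 16 3)))) (.node (nat_lit 2) (.node (nat_lit 1) (.leaf (Rule.fwd [nat_lit 160, nat_lit 179, nat_lit 160] 0 1)) (.leaf (Rule.fwd [nat_lit 122, nat_lit 122, nat_lit 122] 5 0))) (.node (nat_lit 1) (.leaf (Rule.fwd [nat_lit 141, nat_lit 141, nat_lit 141] 4 3)) (.leaf (Rule.fwd [nat_lit 160, nat_lit 27, nat_lit 27, nat_lit 103, nat_lit 65] 23 4))))) (.leaf (Rule.fwd [nat_lit 46, nat_lit 84, nat_lit 8, nat_lit 8, nat_lit 160] 22 3))), (.node (nat_lit 1) (.leaf XRule.defn) (.leaf XRule.ax))⟩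
noncomputable def outer : Tr CI := (.node (nat_lit 1) (.node (nat_lit 8) (.node (nat_lit 4) (.node (nat_lit 32) (.leaf ci0) (.leaf ci160)) (.leaf ci84)) (.node (nat_lit 2) (.leaf ci8) (.node (nat_lit 4) (.leaf ci122) (.leaf ci46)))) (.node (nat_lit 2) (.node (nat_lit 4) (.leaf ci65) (.leaf ci141)) (.node (nat_lit 4) (.node (nat_lit 8) (.leaf ci179) (.leaf ci27)) (.leaf ci103))))
def cols : List ℕ := [nat_lit 8, nat_lit 27, nat_lit 46, nat_lit 65, nat_lit 84, nat_lit 103, nat_lit 122, nat_lit 141, nat_lit 160, nat_lit 179]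
def invL : List ℕ := [1, 0, 3, 2, 5, 4, 7, 6, 8, 9]
def rels : List (List ℕ) := [[8, 9, 8, 9], [5, 5, 5, 8], [7, 7, 7, 9], [4, 6, 4, 6], [4, 7, 4, 7], [0, 3, 3, 5], [0, 2, 0, 2, 0, 0, 0, 3, 3, 7], [2, 6, 2, 6], [2, 8, 3, 9], [0, 0, 8, 0, 5, 2], [6, 8, 6, 8], [0, 0, 8, 9, 2, 4]]
def subs : List (List ℕ) := [[4], [5], [6], [7], [8], [9]]
noncomputable def row (n : ℕ) : ℕ := rowOf (fun h => rows.get h) (nat_lit 5) (nat_lit 31) (nat_lit 198) (nat_lit 0x3fffffffffffffffffffffffffffffffffffffffffffffffff) n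
noncomputable def xleaf (h : ℕ) : ℕ := recs.get h
noncomputable def mF : ℕ → ℕ := mainRow row (rowChk row xleaf outer (nat_lit 8) (nat_lit 255) (nat_lit 15) (nat_lit 12) (nat_lit 4095) (nat_lit 524287) (nat_lit 128) (nat_lit 20) (nat_lit 256) (nat_lit 8) (nat_lit 255) (nat_lit 16) (nat_lit 65535) (nat_lit 8) (nat_lit 255) cols)
noncomputable def xF : ℕ → ℕ → ℕ := xLeaf row xleaf outer (nat_lit 255) (nat_lit 12) (nat_lit 524287) (nat_lit 128) (nat_lit 20) (nat_lit 8) (nat_lit 255) (nat_lit 16) (nat_lit 65535) (nat_lit 65280) (nat_lit 8) (nat_lit 255) (nat_lit 10) (nat_lit 1023) (nat_lit 2) (nat_lit 3) (nat_lit 179) (nat_lit 5120) (nat_lit 128)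
noncomputable def cert : Cert := ⟨row, xleaf, outer, cols, nat_lit 8, nat_lit 255, nat_lit 15, nat_lit 12, nat_lit 4095, nat_lit 524287, nat_lit 128, nat_lit 20, nat_lit 256, nat_lit 8, nat_lit 255, nat_lit 16, nat_lit 65535, nat_lit 65280, nat_lit 8, nat_lit 255, nat_lit 10, nat_lit 1023, nat_lit 2, nat_lit 3, nat_lit 179, nat_lit 5120, nat_lit 128, nat_lit 19, nat_lit 128, nat_lit 1⟩
theorem tabok : tabOK (fun i => invL.getD i i) rels subs outer cols (nat_lit 8) (nat_lit 179) = true := by decide +kernel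
theorem m0 : rng mF (nat_lit 1) (nat_lit 20) = 0 := by decide +kernel
noncomputable def s0 : List ℕ := [nat_lit 0x401004010000000000000000000000000000000000000000000000000000000000000000000000000000000000000000000000000000000000000000000000000000000000000000000000000000000000000000000000000000000000000000000000000000000000000000000000000000000000000000000000000000000000000000000000000000000000000000000000000000000000000000000000]
theorem x0 : xs xF s0 (nat_lit 1) = 0 := by decide +kernel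
theorem mz0 : AllZ mF 1 (nat_lit 21) := (AllZ.step (AllZ.nil mF 1) (nat_lit 20) (nat_lit 21) rfl m0)
theorem xz0 : XZ xF (nat_lit 1) := (XZ.step (XZ.nil xF) s0 (nat_lit 1) (nat_lit 1) (by decide +kernel) x0)
/-- the certificate (20 points) is valid -/
theorem valid : cert.Valid (fun i => invL.getD i i) rels subs 10 :=
  ⟨by decide +kernel, tabok, by decide +kernel, mz0, xz0⟩
theorem cert_N : cert.N = 20 := rfl

end CL.TC.GPo8p2L4
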