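/-
A presentation of Po8p2 (generated by tools/pc/gm.py).
-/
import Cfsg.Agent.Known.GPo8p2
import Cfsg.Agent.Known.GPo8p2L1
import Cfsg.Agent.Known.GPo8p2L2
import Cfsg.Agent.Known.GPo8p2L3
import Cfsg.Agent.Known.GPo8p2L4
import Cfsg.Agent.Known.GPo8p2L5
import Cfsg.Agent.Known.GPo8p2L6

set_option autoImplicit false
set_option maxRecDepth 100000
set_option linter.all false

namespace CL.Pc.GPo8p2
open Cfsg CL.Spor

noncomputable def rs0 : List (ℕ × ℕ) := [(0x555, 0), (0x596, 0), (0x595595, 0), (0x552492, 0), (0x594514, 0), (0x4d14d1, 0), (0x511511, 0), (0x49040d, 0), (0x51040d34d3cd3cd, 0), (0x4cf4cf, 0), (0x59054f, 0), (0x3d235534d, 0), (0x553553, 0), (0x44f59534d, 0), (0x38a30a2ca, 0), (0x40a309309, 0), (0x38b38b, 0), (0x3d638a349, 0), (0xe54a44b249, 0), (0x145894502c9, 0), (0x48f48a349, 0), (0x591591, 0), (0x2861882051c6, 0), (0xc1861c5208145, 0), (0x9245354205,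 0), (0xd253215245, 0), (0x114c9388385, 0), (0xf291216385, 0), (0xd4cb585445, 0), (0xe24e214485, 0), (0xf5092d5349, 0), (0xb2c7388245, 0), (0xb209154205, 0), (0x121d528e445, 0), (0xb414509449, 0), (0x60411020c1041102, 0), (0x80411011011010c2, 0), (0x542095041, 0), (0xe38a301511181, 0), (0x59334930604d502, 0), (0x58d347181102141, 0), (0x1548d349249090501, 0), (0x1150e1823c1201, 0), (0x1650a30c0823d3041, 0), (0x55324b2451c5202482, 0), (0x4533ce306182512181, 0), (0x49434f342296241, 0), (0x55648d3cd241351241, 0), (0x81, 0), (0x103, 0), (0x185, 0), (0x207, 0), (0x289, 0), (0x30b, 0), (0x38d, 0), (0x40f, 0), (0x491, 0), (0x513, 0)]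
noncomputable def rs : List (ℕ × ℕ) := (rs0 ++ [])
noncomputable def p1 : PLev := ⟨8388606, [1, 2, 3, 4, 5, 6, 7, 8, 9, 10, 11, 12, 13, 14, 15, 16, 17, 18, 19, 20, 21, 22], TC.GPo8p2L1.invL, TC.GPo8p2L1.rels, TC.GPo8p2L1.subs, [5, 6, 7, 8, 9, 10, 11, 12, 13, 14, 15, 16, 17, 18, 19, 20, 21, 22], 120⟩
noncomputable def p2 : PLev := ⟨8388576, [5, 6, 7, 8, 9, 10, 11, 12, 13, 14, 15, 16, 17, 18, 19, 20, 21, 22], TC.GPo8p2L2.invL, TC.GPo8p2L2.rels, TC.GPo8p2L2.subs, [9, 10, 11, 12, 13, 14, 15, 16, 17, 18, 19, 20, 21, 22], 63⟩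
noncomputable def p3 : PLev := ⟨8388096, [9, 10, 11, 12, 13, 14, 15, 16, 17, 18, 19, 20, 21, 22], TC.GPo8p2L3.invL, TC.GPo8p2L3.rels, TC.GPo8p2L3.subs, [13, 14, 15, 16, 17, 18, 19, 20, 21, 22], 32⟩
noncomputable def p4 : PLev := ⟨8380416, [13, 14, 15, 16, 17, 18, 19, 20, 21, 22], TC.GPo8p2L4.invL, TC.GPo8p2L4.rels, TC.GPo8p2L4.subs, [17, 18, 19, 20, 21, 22], 20⟩
noncomputable def p5 : PLev := ⟨8257536, [17, 18, 19, 20, 21, 22], TC.GPo8p2L5.invL, TC.GPo8p2L5.rels, TC.GPo8p2L5.subs, [21, 22], 9⟩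
noncomputable def p6 : PLev := ⟨6291456, [21, 22], TC.GPo8p2L6.invL, TC.GPo8p2L6.rels, TC.GPo8p2L6.subs, [], 4⟩
theorem rs0_ok : allL (fun p : ℕ × ℕ => eqB A 22 13 [0, 1, 8, 9, 2, 24] p.1 p.2) rs0 = true := by decide +kernel
theorem rs_ok : ∀ p ∈ rs, (fun p : ℕ × ℕ => eqB A 22 13 [0, 1, 8, 9, 2, 24] p.1 p.2) p = true :=
  allL_app rs0_ok (allL_end)
theorem p1_ok : p1.Valid := ⟨_, TC.GPo8p2L1.valid, TC.GPo8p2L1.cert_N.le⟩
theorem p2_ok : p2.Valid := ⟨_, TC.GPo8p2L2.valid, TC.GPo8p2L2.cert_N.le⟩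
theorem p3_ok : p3.Valid := ⟨_, TC.GPo8p2L3.valid, TC.GPo8p2L3.cert_N.le⟩
theorem p4_ok : p4.Valid := ⟨_, TC.GPo8p2L4.valid, TC.GPo8p2L4.cert_N.le⟩
theorem p5_ok : p5.Valid := ⟨_, TC.GPo8p2L5.valid, TC.GPo8p2L5.cert_N.le⟩
theorem p6_ok : p6.Valid := ⟨_, TC.GPo8p2L6.valid, TC.GPo8p2L6.cert_N.le⟩
universe u
theorem pres : PresBound.{u} rs 22 174182400 :=
  presBound_of (f := 2) (defs := []) (vs := [p1, p2, p3, p4, p5, p6]) (valid_cons p1_ok (valid_cons p2_ok (valid_cons p3_ok (valid_cons p4_ok (valid_cons p5_ok (valid_cons p6_ok (valid_nil))))))) (by decide +kernel)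

end CL.Pc.GPo8p2
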