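/-
Tables and a stabiliser chain for Psl32 on 7 points (generated by tools/pc/gm.py).
-/
import Cfsg.Agent.Known.PcGen

set_option autoImplicit false
set_option maxRecDepth 100000
set_option linter.all false

namespace CL.Pc.GPsl32
open Cfsg CL.Spor

noncomputable def T1 : ℕ := 0x1816a5
noncomputable def T2 : ℕ := 0x16119a
noncomputable def T3 : ℕ := 0xb5223
noncomputable def T4 : ℕ := 0x1aa318
noncomputable def T5 : ℕ := 0x8dce0
noncomputable def T6 : ℕ := 0xe15a8
noncomputable def T7 : ℕ := 0x11ea88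
noncomputable def T8 : ℕ := 0x173888
noncomputable def ivT : ℕ := 0x875642310
noncomputable def a1pT : ℕ := 0x27b8
noncomputable def a2pT : ℕ := 0x35d60
noncomputable def a2xT : ℕ := 0x13305
noncomputable def a2yT : ℕ := 0x32959
noncomputable def a3pT : ℕ := 0x8870
noncomputable def a3xT : ℕ := 0x36
noncomputable def a3yT : ℕ := 0xd2b
noncomputable def sel (c : ℕ) : ℕ := (cond (Nat.ble c 4) (cond (Nat.ble c 2) (cond (Nat.ble c 1) T1 T2) (cond (Nat.ble c 3) T3 T4)) (cond (Nat.ble c 6) (cond (Nat.ble c 5) T5 T6) (cond (Nat.ble c 7) T7 T8)))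
/-- The tables. -/
noncomputable def A (c i : ℕ) : ℕ := forceN c fun c => tget 3 7 (sel c) i
def df0 : List (ℕ × ℕ × ℕ) := [(3, 2, 1), (4, 0x2043, 0), (5, 0x2043042082, 0), (6, 5, 1), (7, 0x5106, 0), (8, 0x105105, 0)]
def df : List (ℕ × ℕ × ℕ) := (df0 ++ [])
noncomputable def iv (i : ℕ) : ℕ := tget 4 0xf ivT i
noncomputable def a1p (i : ℕ) : ℕ := tget 2 3 a1pT i
noncomputable def a1 : Lev := ⟨0, 0, 7, fun i => i, fun i => i, a1p, fun _ => 0⟩
noncomputable def a2p (i : ℕ) : ℕ := tget 3 7 a2pT i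
noncomputable def a2x (i : ℕ) : ℕ := tget 3 7 a2xT i
noncomputable def a2y (i : ℕ) : ℕ := tget 3 7 a2yT i
noncomputable def a2 : Lev := ⟨1, 3, 6, a2y, fun i => forceN (Nat.mod i 6) a2x, a2p, fun _ => 0⟩
noncomputable def a3p (i : ℕ) : ℕ := tget 4 0xf a3pT i
noncomputable def a3x (i : ℕ) : ℕ := tget 2 3 a3xT i
noncomputable def a3y (i : ℕ) : ℕ := tget 3 7 a3yT i
noncomputable def a3 : Lev := ⟨3, 6, 4, a3y, fun i => forceN (Nat.mod i 4) a3x, a3p, fun _ => 0⟩
noncomputable def ach : List Lev := [a1, a2, a3]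
noncomputable def als : List (Lev × ℕ) := [(a2, 0), (a3, 0)]
theorem df0_0 : allR (defsChk A 7 8 df0) 0 7 = true := by decide +kernel
theorem a1_fix : fixChk (A) 8 7 [] a1 = true := by decide +kernel
theorem a1_pt_0 : allR (ptChk (A) 8 7 3 a1) 0 7 = true := by decide +kernel
theorem a2_fix : fixChk (A) 8 7 [0] a2 = true := by decide +kernel
theorem a2_pt_0 : allR (ptChk (A) 8 7 3 a2) 0 6 = true := by decide +kernel
theorem a3_fix : fixChk (A) 8 7 [1, 0] a3 = true := by decide +kernel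
theorem a3_pt_0 : allR (ptChk (A) 8 7 3 a3) 0 4 = true := by decide +kernel
theorem df_ok : ∀ d ∈ df, ∀ i, 0 ≤ i → i < 7 → defChk2 A 7 8 d i = true :=
  defs_app (allR_step df0_0 (allR_end (by decide))) (fun _ h => nomatch h)
theorem ach_ok : ChainOk (A) 8 7 3 ach [] :=
  ChainOk.cons a1_fix (allR_step a1_pt_0 (allR_end (by decide))) (ChainOk.cons a2_fix (allR_step a2_pt_0 (allR_end (by decide))) (ChainOk.cons a3_fix (allR_step a3_pt_0 (allR_end (by decide))) (trivial)))
universe u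
variable {G : Type u} {X : Type*} [Group G] [MulAction G X] {pt : ℕ → X} {x : ℕ → G}
/-- The input: an action with the tables of the letters [1, 2]. -/
abbrev Inp (G : Type u) {X : Type*} [Group G] [MulAction G X] (pt : ℕ → X) : Prop := Input G pt 7 A 6 168
abbrev Ful (pt : ℕ → X) (x : ℕ → G) : Prop := Full pt 7 A 6 168 8 8 3 ach [0, 1, 3] x
theorem full (I : Inp G pt) : ∃ x : ℕ → G, Ful pt x := I.full df_ok ach_ok (by decide +kernel)

end CL.Pc.GPsl32
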