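import Cfsg.Agent.Spor.TCSound

/-! coset enumeration certificate generated by tools/tc -/

set_option maxRecDepth 100000
set_option autoImplicit false
set_option linter.all false

namespace CL.TC.GPsl32L1

noncomputable def rows0 : Tr ℕ := (.leaf (nat_lit 0xeb81fa507fe40bd505ed413a305f1413970562f500ba605ecc13b503f4c1bdb03fe40bb6061aeb4139c06f2c1fdb02fac0ff902eb41f8b072ce9017e302f8c0fbc06eb01fbb07fe407ed041aeb80fa503eac1bec04f9017f901f901bdc032cf6c1bdc04f9017f307eb80bf306fcc17f90108f8807ea01fac07f201fe807f304fcc0ff30200))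
noncomputable def recs0 : Tr ℕ := (.leaf (nat_lit 0x18601860174017401620150013e013e))
noncomputable def rows : Tr ℕ := rows0
noncomputable def recs : Tr ℕ := recs0
noncomputable def ci0 : CI := ⟨[], (nat_lit 0), false, (.node (nat_lit 1) (.leaf Rule.defn) (.leaf Rule.copy)), (.leaf (XRule.rot (nat_lit 0) [] 18 0))⟩
noncomputable def ci8 : CI := ⟨[0], (nat_lit 8), false, (.node (nat_lit 4) (.node (nat_lit 2) (.node (nat_lit 1) (.leaf Rule.defn) (.leaf Rule.copy)) (.node (nat_lit 1) (.leaf (Rule.fwd [nat_lit 8] 18 0)) (.leaf (Rule.fwd [nat_lit 44, nat_lit 134, nat_lit 116, nat_lit 26] 16 1)))) (.node (nat_lit 2) (.node (nat_lit 1) (.leaf (Rule.fwd [nat_lit 26, nat_lit 62, nat_lit 44] 8 1)) (.leaf (Rule.fwd [nat_lit 44, nat_lit 44, nat_lit 44, nat_lit 80, nat_lit 44, nat_lit 8, nat_lit 26] 11 4))) (.leaf (Rule.fwd [nat_lit 116, nat_lit 8, nat_lit 98, nat_lit 44] 14 3)))), (.node (nat_lit 1) (.leaf XRule.defn) (.leaf XRule.defn))⟩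
noncomputable def ci26 : CI := ⟨[1], (nat_lit 44), false, (.node (nat_lit 4) (.node (nat_lit 2) (.node (nat_lit 1) (.leaf Rule.defn) (.leaf Rule.copy)) (.node (nat_lit 1) (.leaf (Rule.fwd [nat_lit 44] 18 0)) (.leaf (Rule.fwd [nat_lit 26, nat_lit 8, nat_lit 44, nat_lit 8, nat_lit 26, nat_lit 98, nat_lit 26] 10 1)))) (.leaf (Rule.fwd [nat_lit 26, nat_lit 26, nat_lit 8, nat_lit 44, nat_lit 8, nat_lit 26, nat_lit 98] 10 0))), (.node (nat_lit 1) (.leaf XRule.defn) (.leaf XRule.defn))⟩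
noncomputable def ci44 : CI := ⟨[2], (nat_lit 26), false, (.node (nat_lit 2) (.node (nat_lit 1) (.leaf Rule.defn) (.leaf Rule.copy)) (.leaf (Rule.fwd [nat_lit 26] 18 0))), (.node (nat_lit 1) (.leaf XRule.defn) (.leaf XRule.defn))⟩
noncomputable def ci62 : CI := ⟨[3], (nat_lit 62), true, (.node (nat_lit 4) (.node (nat_lit 2) (.node (nat_lit 1) (.leaf Rule.defn) (.leaf Rule.copy)) (.node (nat_lit 1) (.leaf (Rule.fwd [nat_lit 44, nat_lit 8, nat_lit 26] 8 3)) (.leaf (Rule.fwd [nat_lit 62] 18 0)))) (.node (nat_lit 1) (.leaf (Rule.fwd [nat_lit 80, nat_lit 62, nat_lit 134, nat_lit 80] 4 1)) (.leaf (Rule.fwd [nat_lit 134, nat_lit 80, nat_lit 62, nat_lit 80] 4 3)))), (.node (nat_lit 1) (.leaf XRule.defn) (.leaf XRule.ax))⟩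
noncomputable def ci80 : CI := ⟨[4], (nat_lit 98), true, (.node (nat_lit 4) (.node (nat_lit 2) (.node (nat_lit 1) (.leaf Rule.defn) (.leaf Rule.copy)) (.node (nat_lit 1) (.leaf (Rule.fwd [nat_lit 98] 18 0)) (.leaf (Rule.fwd [nat_lit 26, nat_lit 80, nat_lit 26] 12 1)))) (.leaf (Rule.fwd [nat_lit 80, nat_lit 80] 6 0))), (.node (nat_lit 1) (.leaf XRule.defn) (.leaf XRule.ax))⟩
noncomputable def ci98 : CI := ⟨[5], (nat_lit 80), true, (.node (nat_lit 2) (.node (nat_lit 1) (.leaf Rule.defn) (.leaf Rule.copy)) (.node (nat_lit 1) (.leaf (Rule.fwd [nat_lit 80] 18 0)) (.leaf (Rule.fwd [nat_lit 44, nat_lit 8, nat_lit 116, nat_lit 8] 14 1)))), (.node (nat_lit 1) (.leaf XRule.defn) (.leaf XRule.ax))⟩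
noncomputable def ci116 : CI := ⟨[6], (nat_lit 116), true, (.node (nat_lit 4) (.node (nat_lit 2) (.node (nat_lit 1) (.leaf Rule.defn) (.leaf Rule.copy)) (.node (nat_lit 1) (.leaf (Rule.fwd [nat_lit 8, nat_lit 98, nat_lit 44, nat_lit 8] 14 4)) (.leaf (Rule.fwd [nat_lit 116] 18 0)))) (.node (nat_lit 1) (.leaf (Rule.fwd [nat_lit 98, nat_lit 62, nat_lit 80] 2 3)) (.leaf (Rule.fwd [nat_lit 134, nat_lit 116, nat_lit 134] 0 0)))), (.node (nat_lit 1) (.leaf XRule.defn) (.leaf XRule.ax))⟩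
noncomputable def ci134 : CI := ⟨[7], (nat_lit 134), true, (.node (nat_lit 4) (.node (nat_lit 2) (.node (nat_lit 1) (.leaf Rule.defn) (.leaf Rule.copy)) (.node (nat_lit 1) (.leaf (Rule.fwd [nat_lit 26, nat_lit 8, nat_lit 44, nat_lit 116] 17 4)) (.leaf (Rule.fwd [nat_lit 134] 18 0)))) (.node (nat_lit 1) (.leaf (Rule.fwd [nat_lit 80, nat_lit 62, nat_lit 80, nat_lit 62] 4 4)) (.leaf (Rule.fwd [nat_lit 62, nat_lit 98, nat_lit 62, nat_lit 98] 5 0)))), (.node (nat_lit 1) (.leaf XRule.defn) (.leaf XRule.ax))⟩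
noncomputable def outer : Tr CI := (.node (nat_lit 2) (.node (nat_lit 4) (.node (nat_lit 8) (.node (nat_lit 16) (.leaf ci0) (.leaf ci80)) (.leaf ci8)) (.node (nat_lit 8) (.leaf ci116) (.leaf ci44))) (.node (nat_lit 4) (.node (nat_lit 8) (.leaf ci98) (.leaf ci26)) (.node (nat_lit 8) (.leaf ci134) (.leaf ci62))))
def cols : List ℕ := [nat_lit 8, nat_lit 26, nat_lit 44, nat_lit 62, nat_lit 80, nat_lit 98, nat_lit 116, nat_lit 134]
def invL : List ℕ := [0, 2, 1, 3, 5, 4, 6, 7]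
def rels : List (List ℕ) := [[6, 7, 6, 7], [5, 3, 4, 6], [4, 3, 4, 3, 7], [4, 4, 4], [2, 0, 1, 3], [1, 1, 1, 0, 2, 0, 1, 5], [1, 4, 1, 4], [0, 5, 2, 0, 6], [1, 0, 2, 7, 6]]
def subs : List (List ℕ) := [[3], [4], [5], [6], [7]]
noncomputable def row (n : ℕ) : ℕ := rowOf (fun h => rows.get h) (nat_lit 5) (nat_lit 31) (nat_lit 152) (nat_lit 0xffffffffffffffffffffffffffffffffffffff) n
noncomputable def xleaf (h : ℕ) : ℕ := recs.get h
noncomputable def mF : ℕ → ℕ := mainRow row (rowChk row xleaf outer (nat_lit 8) (nat_lit 255) (nat_lit 7) (nat_lit 11) (nat_lit 2047) (nat_lit 262143) (nat_lit 128) (nat_lit 7) (nat_lit 256) (nat_lit 8) (nat_lit 255) (nat_lit 16) (nat_lit 65535) (nat_lit 8) (nat_lit 255) cols)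
noncomputable def xF : ℕ → ℕ → ℕ := xLeaf row xleaf outer (nat_lit 255) (nat_lit 11) (nat_lit 262143) (nat_lit 128) (nat_lit 7) (nat_lit 8) (nat_lit 255) (nat_lit 16) (nat_lit 65535) (nat_lit 65280) (nat_lit 8) (nat_lit 255) (nat_lit 10) (nat_lit 1023) (nat_lit 2) (nat_lit 3) (nat_lit 134) (nat_lit 1792) (nat_lit 128)
noncomputable def cert : Cert := ⟨row, xleaf, outer, cols, nat_lit 8, nat_lit 255, nat_lit 7, nat_lit 11, nat_lit 2047, nat_lit 262143, nat_lit 128, nat_lit 7, nat_lit 256, nat_lit 8, nat_lit 255, nat_lit 16, nat_lit 65535, nat_lit 65280, nat_lit 8, nat_lit 255, nat_lit 10, nat_lit 1023, nat_lit 2, nat_lit 3, nat_lit 134, nat_lit 1792, nat_lit 128, nat_lit 18, nat_lit 128, nat_lit 1⟩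
theorem tabok : tabOK (fun i => invL.getD i i) rels subs outer cols (nat_lit 8) (nat_lit 134) = true := by decide +kernel
theorem m0 : rng mF (nat_lit 1) (nat_lit 7) = 0 := by decide +kernel
noncomputable def s0 : List ℕ := [nat_lit 0x401004010000000000000000000000000000000000000000000000000000000000000000000000000000000000000000000000000000000000000000000000000000000000000000000000000000000000000000000000000000000000000000000000000000000000000000000000000000000000000000000000000000000000000000000000000000000000000000000000000000000000000000000000]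
theorem x0 : xs xF s0 (nat_lit 1) = 0 := by decide +kernel
theorem mz0 : AllZ mF 1 (nat_lit 8) := (AllZ.step (AllZ.nil mF 1) (nat_lit 7) (nat_lit 8) rfl m0)
theorem xz0 : XZ xF (nat_lit 1) := (XZ.step (XZ.nil xF) s0 (nat_lit 1) (nat_lit 1) (by decide +kernel) x0)
/-- the certificate (7 points) is valid -/
theorem valid : cert.Valid (fun i => invL.getD i i) rels subs 8 :=
  ⟨by decide +kernel, tabok, by decide +kernel, mz0, xz0⟩
theorem cert_N : cert.N = 7 := rfl

end CL.TC.GPsl32L1
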