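import Cfsg.Agent.Spor.TCSound

/-! coset enumeration certificate generated by tools/tc -/

set_option maxRecDepth 100000
set_option autoImplicit false
set_option linter.all false

namespace CL.TC.GPsp62L1

noncomputable def rows0 : Tr ℕ := (.node (nat_lit 1) (.leaf (nat_lit 0x8a5398e53a863399243a8e311863398e52f8a3398e30d8ad20885078e63a8ac2b8e718f831184b218630dfe10504a5209a840fa61952d409ab192307092969f28810ad1942f596af593a618e4f1982a614c32192c18eff082d1186875da478c28fcd0cfcf94e109088f8c8d0bc78d4cf509ce10a064fa4fff841110c6520c650acf14208d2188cf8cb502a963aa483aa883aa463a9463a9983ae4e3ae863690632ad645fc2086927eac6429c848b563eb466a94626956389576b1c385354033546329524304a3304c8194a3224253f7881c4eb1f4a3337a61bfe104423284a8184831d408102ca428ca418da94182958ca218c9e19abf18da6899bb60ebc40dab602a341eff0823c18e291929d1917e19fa251f1b5fa469f942e1202df3059f9021fa425f1c69f8cb9f945a1385e10c46090ca138e5f8cbff8413c14157989200c548a9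5c368ca60a063694660a1a528ca3694a3895e3ad4c768063c8d47c846449503c8da3cb464990629fc2090162e1de4718e6415e8715fe103de306e8706f2517b6808da90be2618de315de8368c320b632b4831c7433650d254cd3d90f1415f12836f395ef2837f081f0195fa20c581997118a4118d591835f187db41b574074b19db419d3f18cc14824375942f79c59e8c6b58c2f50c2a81cbb99451f0c6bf840fa905b494dee8c4338c5b41c59e9ce298cdf20c3271ce17bd0807c8a31cca07cc631c8a57d4c07dce0dfc207d4a13cc82bc4615c0e31506236c6756465b5461d05634f9242d1e0414e0614dc314de614ee309aa308e8816e4517ee306fe103ae33aa8507ca306d2537ca51980c0fa082e5682554a428fa82952c18fa53952a1892f19229989af692a87952a989fc19527194fe19f2761c20184ff081fe19ea650e8c55ac495948600c85f2c9978c7d5c04d89c4a02ca968c996c89d4b487f0cf198c9d60c9ff840d10c2521c4918c488b5546f4c623dcc5f5506f4d06f21641a1223dc60f54669508234461b0c8355527554e2b7ce0df484074a45fc20609c470dc2410fe102c430db8736c470ca8507c230eb233ac2a34bc816a852fb6734b23349433494a2a3e31cfc33b9ae120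760207e01866018754483ff0815c29b6a1864841ce3287e038bdb30458407d7187bf18a35193f6184b569abe70143f1103309c3f10c33f840aa1c1f12c3bf0ceb12842a0cbe88cba90cbab0c5e40ce6b185700cbf690d300cda1b84a218c8058ca218c605d061970e6dd101b21441fc205d481b60665496235145d4860f3c61b4101b48c3f11440bdd440cc250ec6a0ec270fc2310ea50dd670cfe102d650fbc837d232bca334bc603bc30682839fc339fc338ca61668ec20b4050d6c30b4118d52197781856b385ec18c5b184724837f0815d4817e19bea201bb3983b19668195d2197a578182b4902b5182b48c2bc902f5a45ae302358c1b594af6202bf0cdb9145769027f840a00c86498d3f0cd578c90b370a1148a5d5d0113865cf8635e0829e0613d062b5105db8e13f866998657fc205b06148da2484e27f8667dc81e6dba909b6908a472eac309ac5147c31ab650ab870bb4318b4b32b430fba306b4332fc332fc331fe1026e327fc33018d2383d3383f8203f7183d318753187d57087e197f8208e7203d318a4319053206fe1977f0817e196bd3167e196117a101b91c5f70c5ff0caf98c6382063b1457c10536202b88c2ef2422d205ef943331853f0caaf0c47f840bf0ca43ab0a4aa900bf8651dc84ab464bf864ebce0bf864df864bf8649f8646a8637f8645f8643dc635fc203f8641f863e317840478804e2404e03047c3047ed047a704de304e06047cf04fc31efc31dfc31cfc31bfe101fc31a80317fc31922f328af1181fe18c7218af418afe18bf6481fe18b7e18afe18a71201f0181e9185dd1867e189fe1897e188ff080827c0c0b1143722437f0c43f0c3ff0c3bb180bf0c37f0c336200ae0c2ff0c2ff0c2bf0c27f0c23f0c1ff8407f0c183bdc403e0403e0603e4403e4603e8403ec403ec603f0403f4403f4603f8403f8603fc403f860bf8609f8607f860400))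 (.leaf (nat_lit 0x1c59c1728f2219c1b58f1919ea219999a9fa018e1b1911d8981918e9e18f1c1949a1969b19620219a9717ff08d8251acf9220f939cf930cf933885444994147d348b130cc51acf91aca110c65298e3f844d18cb9194f508c6d2b8acb28927a7524670646756447887069e7e7867a74c466463c6cc7a88636908467c67a8147a8867c9066094631fc226094c93c4283c4a83c4833c4643c4433c44d3c4a63c4833c4cb3cfe1124e32d4e3284e4314e5294031e4e53a3a3224ad161dbc21dbd41dbc19da7291be6114c31c3418ca761828194be19dbf21daf196d249837413cc48bff08858199076ca8ea40c8240c8208ce69a8bea24bee14ded1843f843b090ea30c82c2852e2056a0c45ab05d7a092a18c130cf17b1884118c730967511441110411d46f1c6731c61f196411c66d186731d4732561d04635fc21900619246650965c453653f767383c31e46d3f78b333a33d9653b4031e443294d43876938743384c3134833e78b26783169a316fe10c04d4288d4197d4188d4497c619cd2188dd41d5b19a6c39b5d18652197e818b6818a7f085d438b3a1943a6144c1951674a4db390db420db38cdad8c36d8c42e9c3f58cdea24be420e770c63f842aa10bed0c5dd9861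f0c9b09439f2099027ca5274e389485284a387c8368dc5274a60846527d44684a6a746586cc5881e6a7c66ab923ad1856d061ffc21409b0b34be634b6b34b4334bc334bea34baa34ac911b8837c0310cc60cfe109b4610b43109030a9641078326d830e40b2499b1199b9199ba299a359fbb19c3b9113b4982518da7419a630e35193b0193271919f19fbf2173f616ff084826caccac18cab0ccaba0caca0cac0ccad34cad98aecac5ec8c2200c6ac9437f8422da020f988a10c7eca4ee520e4dacce4ec8862ec858d564eb984eac64ab66629e07cf465ab2462a5052d085498678e5451d465ffc21120654e90503156630483194c6195031b4c41c5031c3d2354c33b743333833f5ab255ac25a233ba091f4a83d7430bfe108a633a0ed2397d329bd319bf6188d319d5219d488105319b7f083d5607531885331bc068d5319b6130776318d3385a819faf68acba9a82679c2688c2278c5a9a42e8bcba98c2601c6a920ba9a83a9243bf841e98c35f0ccd22cfa08ce678c50daa885aa105af065af485aa9a5aa465aad05af9862cc64eb863ea0c78b46426d27ec0c77fc20f68e2a81e3cf8666458432c665276a427743315232866328565255a3244a33e67121343353c53562424623227890b388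3ffe107783070ef028bef415ff0836e18bf130bf118af0515ea1855a19970295e7204ea3065c38c441903319aab192a419f69285cd5334a94a44d20c4d3a07d58c9930c8531ca938c4df8c49940a998cc7e904d50ca95b0aa48c43f841a6a8de4a4c46281a6a85452910389066a8866a9c632a06528e27089a6aa5676a1626a0662a463e7587ff484698679fc20cd504e1d54a2852825ea525fe1056852c5472c731275cf1f7aa21764285ac224433e703315073c76c374491c723317233790b2298b421634198b41967f082ad198b829434516ac7122c18936499ae18fad6093450936587b619db4194b8604435494855a899e8c49e8c8538cf963ca9614917384bf841584099d2499c8c996208d8accdfa8d9d8ce1e8cd9ea0d17ab480aa0a51d860bd0650b0c62b8e0ab1859fc20ab8626a8e4ab0660b0660a984aa464ab1856a9636a86289c630d1564245472454324567246041358f1f5a826563275cd2cfe10558924563244c31d6032c5c33a5c4196060a5c31a54a82911c29ea86111d29ea030f2619da6a119e19a9c19ea7411a319eff082a8519ab1932718f7c194a9510a318f2054a48d81c88e0cf538c8de8ced00c79d14cce48fd3307150c751186560ca1910b3f8414f306cf0cc8f28f0e0c44b2a8e4cb0c24f884d056249d8549467d08642f06509c63ec8658b925aa0625fc20ab143b0464105414f462aa06466d)))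
noncomputable def recs0 : Tr ℕ := (.leaf (nat_lit 0x6ba035d01a480d24066a0321018680be405ca02e5016880af4055202a9014a80a0404da0259))
noncomputable def rows : Tr ℕ := rows0
noncomputable def recs : Tr ℕ := recs0
noncomputable def ci0 : CI := ⟨[], (nat_lit 0), false, (.node (nat_lit 1) (.leaf Rule.defn) (.leaf Rule.copy)), (.leaf (XRule.rot (nat_lit 0) [] 68 0))⟩
noncomputable def ci9 : CI := ⟨[0], (nat_lit 29), false, (.node (nat_lit 8) (.node (nat_lit 4) (.node (nat_lit 2) (.node (nat_lit 1) (.leaf Rule.defn) (.leaf Rule.copy)) (.node (nat_lit 1) (.leaf (Rule.fwd [nat_lit 29] 68 0)) (.leaf (Rule.fwd [nat_lit 249, nat_lit 29, nat_lit 129, nat_lit 169, nat_lit 209, nat_lit 309, nat_lit 9, nat_lit 89] 60 2)))) (.node (nat_lit 2) (.node (nat_lit 1) (.leaf (Rule.fwd [nat_lit 89, nat_lit 9, nat_lit 249, nat_lit 29, nat_lit 129, nat_lit 169, nat_lit 209, nat_lit 309] 60 0)) (.leaf (Rule.fwd [nat_lit 349, nat_lit 29, nat_lit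 309, nat_lit 229, nat_lit 189, nat_lit 169, nat_lit 149, nat_lit 149] 55 3))) (.node (nat_lit 1) (.leaf (Rule.fwd [nat_lit 9, nat_lit 209, nat_lit 169, nat_lit 9, nat_lit 89, nat_lit 129, nat_lit 89, nat_lit 269] 58 0)) (.leaf (Rule.fwd [nat_lit 69, nat_lit 129, nat_lit 49, nat_lit 9, nat_lit 9] 45 2))))) (.node (nat_lit 4) (.node (nat_lit 2) (.node (nat_lit 1) (.leaf (Rule.fwd [nat_lit 49, nat_lit 109, nat_lit 29, nat_lit 29, nat_lit 49] 42 3)) (.leaf (Rule.fwd [nat_lit 109, nat_lit 269, nat_lit 149, nat_lit 29, nat_lit 189, nat_lit 249, nat_lit 229] 62 0))) (.node (nat_lit 1) (.leaf (Rule.fwd [nat_lit 89, nat_lit 69, nat_lit 29, nat_lit 69, nat_lit 9] 43 1)) (.leaf (Rule.fwd [nat_lit 149, nat_lit 109, nat_lit 209, nat_lit 169, nat_lit 309, nat_lit 349, nat_lit 29, nat_lit 229] 56 2)))) (.node (nat_lit 1) (.leaf (Rule.fwd [nat_lit 9, nat_lit 89, nat_lit 69, nat_lit 29, nat_lit 69] 43 2)) (.leaf (Rule.fwd [nat_lit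 89, nat_lit 229, nat_lit 109, nat_lit 29, nat_lit 249, nat_lit 229, nat_lit 289] 50 0))))), (.node (nat_lit 1) (.leaf XRule.defn) (.leaf XRule.defn))⟩
noncomputable def ci29 : CI := ⟨[1], (nat_lit 9), false, (.node (nat_lit 8) (.node (nat_lit 4) (.node (nat_lit 2) (.node (nat_lit 1) (.leaf Rule.defn) (.leaf Rule.copy)) (.node (nat_lit 1) (.leaf (Rule.fwd [nat_lit 9] 68 0)) (.leaf (Rule.fwd [nat_lit 129, nat_lit 169, nat_lit 209, nat_lit 309, nat_lit 9, nat_lit 89, nat_lit 9, nat_lit 249] 60 4)))) (.node (nat_lit 2) (.node (nat_lit 1) (.leaf (Rule.fwd [nat_lit 189, nat_lit 249, nat_lit 229, nat_lit 9, nat_lit 109, nat_lit 269, nat_lit 149] 62 4)) (.leaf (Rule.fwd [nat_lit 29, nat_lit 49, nat_lit 9, nat_lit 49, nat_lit 109] 42 0))) (.node (nat_lit 1) (.leaf (Rule.fwd [nat_lit 249, nat_lit 229, nat_lit 289, nat_lit 9, nat_lit 89, nat_lit 229, nat_lit 109] 50 4)) (.leaf (Rule.fwd [nat_lit 349, nat_lit 289, nat_lit 229,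 nat_lit 189, nat_lit 169, nat_lit 129, nat_lit 9, nat_lit 229] 53 1))))) (.node (nat_lit 4) (.node (nat_lit 2) (.node (nat_lit 1) (.leaf (Rule.fwd [nat_lit 29, nat_lit 249, nat_lit 109, nat_lit 149, nat_lit 109, nat_lit 29, nat_lit 169, nat_lit 189] 59 2)) (.leaf (Rule.fwd [nat_lit 69, nat_lit 9, nat_lit 9, nat_lit 89, nat_lit 69] 43 4))) (.node (nat_lit 1) (.leaf (Rule.fwd [nat_lit 309, nat_lit 229, nat_lit 269, nat_lit 9, nat_lit 89, nat_lit 229, nat_lit 109] 51 1)) (.leaf (Rule.fwd [nat_lit 69, nat_lit 149, nat_lit 49, nat_lit 29, nat_lit 29] 44 3)))) (.node (nat_lit 2) (.node (nat_lit 1) (.leaf (Rule.fwd [nat_lit 229, nat_lit 269, nat_lit 209, nat_lit 9, nat_lit 129, nat_lit 249, nat_lit 89] 63 1)) (.leaf (Rule.fwd [nat_lit 29, nat_lit 69, nat_lit 149, nat_lit 49, nat_lit 29] 44 2))) (.leaf (Rule.fwd [nat_lit 169, nat_lit 209, nat_lit 269, nat_lit 9, nat_lit 49, nat_lit 309, nat_lit 69] 48 4))))), (.node (nat_lit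 1) (.leaf XRule.defn) (.leaf XRule.defn))⟩
noncomputable def ci49 : CI := ⟨[2], (nat_lit 69), false, (.node (nat_lit 8) (.node (nat_lit 4) (.node (nat_lit 2) (.node (nat_lit 1) (.leaf Rule.defn) (.leaf Rule.copy)) (.node (nat_lit 1) (.leaf (Rule.fwd [nat_lit 69] 68 0)) (.leaf (Rule.fwd [nat_lit 9, nat_lit 49, nat_lit 109, nat_lit 29, nat_lit 29] 42 2)))) (.node (nat_lit 2) (.node (nat_lit 1) (.leaf (Rule.fwd [nat_lit 49, nat_lit 289, nat_lit 209, nat_lit 49, nat_lit 49] 47 2)) (.leaf (Rule.fwd [nat_lit 49, nat_lit 49, nat_lit 49, nat_lit 289, nat_lit 209] 47 4))) (.node (nat_lit 1) (.leaf (Rule.fwd [nat_lit 289, nat_lit 209, nat_lit 49, nat_lit 49, nat_lit 49] 47 1)) (.leaf (Rule.fwd [nat_lit 29, nat_lit 29, nat_lit 29, nat_lit 69, nat_lit 149] 44 0))))) (.node (nat_lit 2) (.node (nat_lit 1) (.leaf (Rule.fwd [nat_lit 289, nat_lit 69, nat_lit 29, nat_lit 249, nat_lit 189, nat_lit 169, nat_lit 9] 49 4)) (.leaf (Rule.fwd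 [nat_lit 49, nat_lit 49, nat_lit 289, nat_lit 209, nat_lit 49] 47 3))) (.node (nat_lit 1) (.leaf (Rule.fwd [nat_lit 109, nat_lit 29, nat_lit 29, nat_lit 49, nat_lit 9] 42 4)) (.leaf (Rule.fwd [nat_lit 309, nat_lit 69, nat_lit 29, nat_lit 169, nat_lit 209, nat_lit 269, nat_lit 9] 48 1))))), (.node (nat_lit 1) (.leaf XRule.defn) (.leaf XRule.defn))⟩
noncomputable def ci69 : CI := ⟨[3], (nat_lit 49), false, (.node (nat_lit 8) (.node (nat_lit 4) (.node (nat_lit 2) (.node (nat_lit 1) (.leaf Rule.defn) (.leaf Rule.copy)) (.node (nat_lit 1) (.leaf (Rule.fwd [nat_lit 49] 68 0)) (.leaf (Rule.fwd [nat_lit 129, nat_lit 49, nat_lit 9, nat_lit 9, nat_lit 9] 45 1)))) (.node (nat_lit 2) (.node (nat_lit 1) (.leaf (Rule.fwd [nat_lit 29, nat_lit 69, nat_lit 9, nat_lit 9, nat_lit 89] 43 5)) (.leaf (Rule.fwd [nat_lit 189, nat_lit 309, nat_lit 69, nat_lit 69, nat_lit 69] 46 3))) (.node (nat_lit 1) (.leaf (Rule.fwd [nat_lit 29, nat_lit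 249, nat_lit 189, nat_lit 169, nat_lit 9, nat_lit 49, nat_lit 289] 49 2)) (.leaf (Rule.fwd [nat_lit 9, nat_lit 9, nat_lit 89, nat_lit 69, nat_lit 29] 43 3))))) (.node (nat_lit 4) (.node (nat_lit 2) (.node (nat_lit 1) (.leaf (Rule.fwd [nat_lit 149, nat_lit 49, nat_lit 29, nat_lit 29, nat_lit 29] 44 4)) (.leaf (Rule.fwd [nat_lit 29, nat_lit 249, nat_lit 209, nat_lit 109, nat_lit 149, nat_lit 149, nat_lit 29, nat_lit 29, nat_lit 209] 67 2))) (.node (nat_lit 1) (.leaf (Rule.fwd [nat_lit 69, nat_lit 189, nat_lit 309, nat_lit 69, nat_lit 69] 46 2)) (.leaf (Rule.fwd [nat_lit 69, nat_lit 69, nat_lit 69, nat_lit 189, nat_lit 309] 46 0)))) (.leaf (Rule.fwd [nat_lit 29, nat_lit 169, nat_lit 209, nat_lit 269, nat_lit 9, nat_lit 49, nat_lit 309] 48 3)))), (.node (nat_lit 1) (.leaf XRule.defn) (.leaf XRule.defn))⟩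
noncomputable def ci89 : CI := ⟨[4], (nat_lit 109), true, (.node (nat_lit 8) (.node (nat_lit 4) (.node (nat_lit 2) (.node (nat_lit 1) (.leaf Rule.defn) (.leaf Rule.copy)) (.node (nat_lit 1) (.leaf (Rule.fwd [nat_lit 109] 68 0)) (.leaf (Rule.fwd [nat_lit 189, nat_lit 329, nat_lit 129, nat_lit 209, nat_lit 89] 30 1)))) (.node (nat_lit 2) (.node (nat_lit 1) (.leaf (Rule.fwd [nat_lit 89, nat_lit 89, nat_lit 169] 27 3)) (.leaf (Rule.fwd [nat_lit 89, nat_lit 189, nat_lit 329, nat_lit 129, nat_lit 209] 30 0))) (.node (nat_lit 1) (.leaf (Rule.fwd [nat_lit 149, nat_lit 89, nat_lit 89, nat_lit 149, nat_lit 209] 28 0)) (.leaf (Rule.fwd [nat_lit 349, nat_lit 109, nat_lit 109, nat_lit 229, nat_lit 89] 32 1))))) (.node (nat_lit 4) (.node (nat_lit 2) (.node (nat_lit 1) (.leaf (Rule.fwd [nat_lit 9, nat_lit 249, nat_lit 29, nat_lit 129, nat_lit 169, nat_lit 209, nat_lit 309, nat_lit 9] 60 1)) (.leaf (Rule.fwd [nat_lit 69, nat_lit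 29, nat_lit 69, nat_lit 9, nat_lit 9] 43 0))) (.node (nat_lit 1) (.leaf (Rule.fwd [nat_lit 229, nat_lit 109, nat_lit 29, nat_lit 249, nat_lit 229, nat_lit 289, nat_lit 9] 50 1)) (.leaf (Rule.fwd [nat_lit 29, nat_lit 229, nat_lit 269, nat_lit 209, nat_lit 9, nat_lit 129, nat_lit 249] 63 2)))) (.leaf (Rule.fwd [nat_lit 89, nat_lit 349, nat_lit 109, nat_lit 109, nat_lit 229] 32 0)))), (.node (nat_lit 1) (.leaf XRule.defn) (.leaf XRule.ax))⟩
noncomputable def ci109 : CI := ⟨[5], (nat_lit 89), true, (.node (nat_lit 8) (.node (nat_lit 4) (.node (nat_lit 2) (.node (nat_lit 1) (.leaf Rule.defn) (.leaf Rule.copy)) (.node (nat_lit 1) (.leaf (Rule.fwd [nat_lit 89] 68 0)) (.leaf (Rule.fwd [nat_lit 169, nat_lit 109, nat_lit 109] 26 2)))) (.node (nat_lit 2) (.node (nat_lit 1) (.leaf (Rule.fwd [nat_lit 189, nat_lit 149, nat_lit 329, nat_lit 209, nat_lit 109] 31 1)) (.leaf (Rule.fwd [nat_lit 109, nat_lit 169, nat_lit 109] 26 1)))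 (.node (nat_lit 1) (.leaf (Rule.fwd [nat_lit 189, nat_lit 129, nat_lit 109, nat_lit 109, nat_lit 129] 29 1)) (.leaf (Rule.fwd [nat_lit 129, nat_lit 169, nat_lit 189, nat_lit 109, nat_lit 229] 41 5))))) (.node (nat_lit 4) (.node (nat_lit 2) (.node (nat_lit 1) (.leaf (Rule.fwd [nat_lit 109, nat_lit 189, nat_lit 149, nat_lit 329, nat_lit 209] 31 2)) (.leaf (Rule.fwd [nat_lit 109, nat_lit 229, nat_lit 89, nat_lit 89, nat_lit 349] 32 3))) (.node (nat_lit 1) (.leaf (Rule.fwd [nat_lit 269, nat_lit 149, nat_lit 29, nat_lit 189, nat_lit 249, nat_lit 229, nat_lit 9] 62 1)) (.leaf (Rule.fwd [nat_lit 229, nat_lit 109, nat_lit 129, nat_lit 169, nat_lit 189] 41 1)))) (.node (nat_lit 2) (.node (nat_lit 1) (.leaf (Rule.fwd [nat_lit 129, nat_lit 109, nat_lit 189, nat_lit 129, nat_lit 109] 29 3)) (.leaf (Rule.fwd [nat_lit 109, nat_lit 129, nat_lit 109, nat_lit 189, nat_lit 129] 29 4))) (.leaf (Rule.fwd [nat_lit 29, nat_lit 29, nat_lit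 49, nat_lit 9, nat_lit 49] 42 5))))), (.node (nat_lit 1) (.leaf XRule.defn) (.leaf XRule.ax))⟩
noncomputable def ci129 : CI := ⟨[6], (nat_lit 149), true, (.node (nat_lit 8) (.node (nat_lit 4) (.node (nat_lit 2) (.node (nat_lit 1) (.leaf Rule.defn) (.leaf Rule.copy)) (.node (nat_lit 1) (.leaf (Rule.fwd [nat_lit 149] 68 0)) (.leaf (Rule.fwd [nat_lit 49, nat_lit 9, nat_lit 9, nat_lit 9, nat_lit 69] 45 0)))) (.node (nat_lit 2) (.node (nat_lit 1) (.leaf (Rule.fwd [nat_lit 169, nat_lit 189, nat_lit 109, nat_lit 229, nat_lit 109] 41 4)) (.leaf (Rule.fwd [nat_lit 209, nat_lit 89, nat_lit 89, nat_lit 189, nat_lit 329] 30 4))) (.node (nat_lit 1) (.leaf (Rule.fwd [nat_lit 309, nat_lit 349, nat_lit 149, nat_lit 349] 34 0)) (.leaf (Rule.fwd [nat_lit 129, nat_lit 129, nat_lit 129] 36 0))))) (.node (nat_lit 2) (.node (nat_lit 1) (.leaf (Rule.fwd [nat_lit 109, nat_lit 189, nat_lit 129, nat_lit 109, nat_lit 109] 29 2)) (.leaf (Rule.fwd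 [nat_lit 109, nat_lit 109, nat_lit 129, nat_lit 109, nat_lit 189] 29 5))) (.node (nat_lit 1) (.leaf (Rule.fwd [nat_lit 349, nat_lit 289, nat_lit 149, nat_lit 349] 35 4)) (.leaf (Rule.fwd [nat_lit 249, nat_lit 89, nat_lit 29, nat_lit 229, nat_lit 269, nat_lit 209, nat_lit 9] 63 4))))), (.node (nat_lit 1) (.leaf XRule.defn) (.leaf XRule.ax))⟩
noncomputable def ci149 : CI := ⟨[7], (nat_lit 129), true, (.node (nat_lit 8) (.node (nat_lit 4) (.node (nat_lit 2) (.node (nat_lit 1) (.leaf Rule.defn) (.leaf Rule.copy)) (.node (nat_lit 1) (.leaf (Rule.fwd [nat_lit 129] 68 0)) (.leaf (Rule.fwd [nat_lit 169, nat_lit 209, nat_lit 229, nat_lit 309, nat_lit 349, nat_lit 9, nat_lit 229, nat_lit 29] 52 3)))) (.node (nat_lit 2) (.node (nat_lit 1) (.leaf (Rule.fwd [nat_lit 89, nat_lit 229, nat_lit 89, nat_lit 209, nat_lit 169] 40 3)) (.leaf (Rule.fwd [nat_lit 149, nat_lit 149, nat_lit 149] 37 0))) (.node (nat_lit 1) (.leaf (Rule.fwd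 [nat_lit 349, nat_lit 129, nat_lit 349, nat_lit 289] 35 1)) (.leaf (Rule.fwd [nat_lit 29, nat_lit 189, nat_lit 249, nat_lit 229, nat_lit 9, nat_lit 109, nat_lit 269] 62 3))))) (.node (nat_lit 4) (.node (nat_lit 2) (.node (nat_lit 1) (.leaf (Rule.fwd [nat_lit 49, nat_lit 29, nat_lit 29, nat_lit 29, nat_lit 69] 44 5)) (.leaf (Rule.fwd [nat_lit 329, nat_lit 209, nat_lit 109, nat_lit 109, nat_lit 189] 31 5))) (.node (nat_lit 1) (.leaf (Rule.fwd [nat_lit 209, nat_lit 89, nat_lit 149, nat_lit 89, nat_lit 89] 28 4)) (.leaf (Rule.fwd [nat_lit 89, nat_lit 89, nat_lit 149, nat_lit 209, nat_lit 89] 28 1)))) (.leaf (Rule.fwd [nat_lit 349, nat_lit 129, nat_lit 309, nat_lit 349] 34 3)))), (.node (nat_lit 1) (.leaf XRule.defn) (.leaf XRule.ax))⟩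
noncomputable def ci169 : CI := ⟨[8], (nat_lit 169), true, (.node (nat_lit 16) (.node (nat_lit 8) (.node (nat_lit 4) (.node (nat_lit 2) (.node (nat_lit 1) (.leaf Rule.defn) (.leaf Rule.copy)) (.node (nat_lit 1) (.leaf (Rule.fwd [nat_lit 169] 68 0)) (.leaf (Rule.fwd [nat_lit 189, nat_lit 229, nat_lit 209] 12 1)))) (.node (nat_lit 2) (.node (nat_lit 1) (.leaf (Rule.fwd [nat_lit 249, nat_lit 309, nat_lit 229, nat_lit 189, nat_lit 169, nat_lit 269] 25 6)) (.leaf (Rule.fwd [nat_lit 329, nat_lit 169, nat_lit 329] 16 0))) (.node (nat_lit 1) (.leaf (Rule.fwd [nat_lit 249, nat_lit 169, nat_lit 209, nat_lit 229, nat_lit 289, nat_lit 269] 24 5)) (.leaf (Rule.fwd [nat_lit 109, nat_lit 109, nat_lit 109] 26 3))))) (.node (nat_lit 4) (.node (nat_lit 2) (.node (nat_lit 1) (.leaf (Rule.fwd [nat_lit 269, nat_lit 289, nat_lit 9, nat_lit 89, nat_lit 249, nat_lit 169, nat_lit 9, nat_lit 129] 64 6)) (.leaf (Rule.fwd [nat_lit 149, nat_lit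 149, nat_lit 9, nat_lit 349, nat_lit 29, nat_lit 309, nat_lit 229, nat_lit 189] 55 6))) (.node (nat_lit 1) (.leaf (Rule.fwd [nat_lit 89, nat_lit 89, nat_lit 89] 27 0)) (.leaf (Rule.fwd [nat_lit 189, nat_lit 169, nat_lit 269, nat_lit 209, nat_lit 209, nat_lit 209] 14 3)))) (.node (nat_lit 2) (.node (nat_lit 1) (.leaf (Rule.fwd [nat_lit 269, nat_lit 209, nat_lit 209, nat_lit 209, nat_lit 169, nat_lit 189] 14 5)) (.leaf (Rule.fwd [nat_lit 189, nat_lit 109, nat_lit 229, nat_lit 109, nat_lit 129] 41 3))) (.node (nat_lit 1) (.leaf (Rule.fwd [nat_lit 9, nat_lit 49, nat_lit 289, nat_lit 69, nat_lit 29, nat_lit 249, nat_lit 189] 49 6)) (.leaf (Rule.fwd [nat_lit 149, nat_lit 89, nat_lit 229, nat_lit 89, nat_lit 209] 40 2)))))) (.node (nat_lit 2) (.node (nat_lit 1) (.leaf (Rule.fwd [nat_lit 209, nat_lit 269, nat_lit 9, nat_lit 49, nat_lit 309, nat_lit 69, nat_lit 29] 48 5)) (.leaf (Rule.fwd [nat_lit 269, nat_lit 209, nat_lit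 209, nat_lit 229] 19 1))) (.node (nat_lit 1) (.leaf (Rule.fwd [nat_lit 209, nat_lit 229, nat_lit 289, nat_lit 269, nat_lit 169, nat_lit 249] 24 0)) (.leaf (Rule.fwd [nat_lit 229, nat_lit 189, nat_lit 189, nat_lit 249] 18 0))))), (.node (nat_lit 1) (.leaf XRule.defn) (.leaf XRule.ax))⟩
noncomputable def ci189 : CI := ⟨[9], (nat_lit 209), true, (.node (nat_lit 8) (.node (nat_lit 4) (.node (nat_lit 2) (.node (nat_lit 1) (.leaf Rule.defn) (.leaf Rule.copy)) (.node (nat_lit 1) (.leaf (Rule.fwd [nat_lit 209] 68 0)) (.leaf (Rule.fwd [nat_lit 9, nat_lit 9, nat_lit 129, nat_lit 129, nat_lit 89, nat_lit 189, nat_lit 269, nat_lit 9, nat_lit 49] 66 2)))) (.node (nat_lit 2) (.node (nat_lit 1) (.leaf (Rule.fwd [nat_lit 249, nat_lit 169, nat_lit 229, nat_lit 189] 18 3)) (.leaf (Rule.fwd [nat_lit 309, nat_lit 69, nat_lit 69, nat_lit 69, nat_lit 69] 46 4))) (.node (nat_lit 1) (.leaf (Rule.fwd [nat_lit 129, nat_lit 109, nat_lit 109,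 nat_lit 129, nat_lit 109] 29 0)) (.leaf (Rule.fwd [nat_lit 109, nat_lit 229, nat_lit 109, nat_lit 129, nat_lit 169] 41 2))))) (.node (nat_lit 4) (.node (nat_lit 2) (.node (nat_lit 1) (.leaf (Rule.fwd [nat_lit 169, nat_lit 269, nat_lit 169, nat_lit 249, nat_lit 309, nat_lit 229] 25 2)) (.leaf (Rule.fwd [nat_lit 309, nat_lit 189, nat_lit 309] 38 0))) (.node (nat_lit 1) (.leaf (Rule.fwd [nat_lit 229, nat_lit 209, nat_lit 169] 12 2)) (.leaf (Rule.fwd [nat_lit 149, nat_lit 329, nat_lit 209, nat_lit 109, nat_lit 109] 31 0)))) (.node (nat_lit 2) (.node (nat_lit 1) (.leaf (Rule.fwd [nat_lit 249, nat_lit 229, nat_lit 9, nat_lit 109, nat_lit 269, nat_lit 149, nat_lit 29] 62 5)) (.leaf (Rule.fwd [nat_lit 169, nat_lit 269, nat_lit 209, nat_lit 209, nat_lit 209, nat_lit 169] 14 4))) (.leaf (Rule.fwd [nat_lit 189, nat_lit 249, nat_lit 169, nat_lit 229] 18 2))))), (.node (nat_lit 1) (.leaf XRule.defn) (.leaf XRule.ax))⟩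
noncomputable def ci209 : CI := ⟨[10], (nat_lit 189), true, (.node (nat_lit 16) (.node (nat_lit 8) (.node (nat_lit 4) (.node (nat_lit 2) (.node (nat_lit 1) (.leaf Rule.defn) (.leaf Rule.copy)) (.node (nat_lit 1) (.leaf (Rule.fwd [nat_lit 189] 68 0)) (.leaf (Rule.fwd [nat_lit 169, nat_lit 9, nat_lit 89, nat_lit 129, nat_lit 89, nat_lit 269, nat_lit 9, nat_lit 9] 58 2)))) (.node (nat_lit 2) (.node (nat_lit 1) (.leaf (Rule.fwd [nat_lit 229, nat_lit 289, nat_lit 269, nat_lit 169, nat_lit 249, nat_lit 169] 24 1)) (.leaf (Rule.fwd [nat_lit 169, nat_lit 149, nat_lit 89, nat_lit 229, nat_lit 89] 40 1))) (.node (nat_lit 1) (.leaf (Rule.fwd [nat_lit 89, nat_lit 149, nat_lit 89, nat_lit 89, nat_lit 149] 28 5)) (.leaf (Rule.fwd [nat_lit 209, nat_lit 229, nat_lit 169, nat_lit 269] 19 4))))) (.node (nat_lit 4) (.node (nat_lit 2) (.node (nat_lit 1) (.leaf (Rule.fwd [nat_lit 9, nat_lit 129, nat_lit 249, nat_lit 89, nat_lit 29,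 nat_lit 229, nat_lit 269] 63 6)) (.leaf (Rule.fwd [nat_lit 289, nat_lit 209, nat_lit 289] 39 1))) (.node (nat_lit 1) (.leaf (Rule.fwd [nat_lit 49, nat_lit 49, nat_lit 49, nat_lit 49, nat_lit 289] 47 5)) (.leaf (Rule.fwd [nat_lit 69, nat_lit 29, nat_lit 249, nat_lit 209, nat_lit 109, nat_lit 149, nat_lit 149, nat_lit 29, nat_lit 29] 67 3)))) (.node (nat_lit 2) (.node (nat_lit 1) (.leaf (Rule.fwd [nat_lit 209, nat_lit 209, nat_lit 169, nat_lit 189, nat_lit 169, nat_lit 269] 14 0)) (.leaf (Rule.fwd [nat_lit 269, nat_lit 9, nat_lit 49, nat_lit 309, nat_lit 69, nat_lit 29, nat_lit 169] 48 6))) (.node (nat_lit 1) (.leaf (Rule.fwd [nat_lit 169, nat_lit 189, nat_lit 229] 12 0)) (.leaf (Rule.fwd [nat_lit 229, nat_lit 169, nat_lit 269, nat_lit 209] 19 3)))))) (.node (nat_lit 2) (.node (nat_lit 1) (.leaf (Rule.fwd [nat_lit 89, nat_lit 89, nat_lit 189, nat_lit 329, nat_lit 129] 30 5)) (.leaf (Rule.fwd [nat_lit 169, nat_lit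 189, nat_lit 169, nat_lit 269, nat_lit 209, nat_lit 209] 14 2))) (.leaf (Rule.fwd [nat_lit 209, nat_lit 169, nat_lit 189, nat_lit 169, nat_lit 269, nat_lit 209] 14 1)))), (.node (nat_lit 1) (.leaf XRule.defn) (.leaf XRule.ax))⟩
noncomputable def ci229 : CI := ⟨[11], (nat_lit 229), true, (.node (nat_lit 16) (.node (nat_lit 8) (.node (nat_lit 4) (.node (nat_lit 2) (.node (nat_lit 1) (.leaf Rule.defn) (.leaf Rule.copy)) (.node (nat_lit 1) (.leaf (Rule.fwd [nat_lit 109, nat_lit 29, nat_lit 249, nat_lit 229, nat_lit 289, nat_lit 9, nat_lit 89] 50 2)) (.leaf (Rule.fwd [nat_lit 289, nat_lit 9, nat_lit 89, nat_lit 229, nat_lit 109, nat_lit 29, nat_lit 249] 50 6)))) (.node (nat_lit 2) (.node (nat_lit 1) (.leaf (Rule.fwd [nat_lit 229] 68 0)) (.leaf (Rule.fwd [nat_lit 29, nat_lit 149, nat_lit 169, nat_lit 209, nat_lit 229, nat_lit 309, nat_lit 349, nat_lit 9] 52 1))) (.node (nat_lit 1) (.leaf (Rule.fwd [nat_lit 209, nat_lit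 169, nat_lit 189] 12 3)) (.leaf (Rule.fwd [nat_lit 189, nat_lit 189, nat_lit 249, nat_lit 169] 18 1))))) (.node (nat_lit 4) (.node (nat_lit 2) (.node (nat_lit 1) (.leaf (Rule.fwd [nat_lit 9, nat_lit 149, nat_lit 109, nat_lit 209, nat_lit 169, nat_lit 309, nat_lit 349, nat_lit 29] 56 1)) (.leaf (Rule.fwd [nat_lit 249, nat_lit 249, nat_lit 329, nat_lit 269, nat_lit 269] 6 2))) (.node (nat_lit 1) (.leaf (Rule.fwd [nat_lit 269, nat_lit 9, nat_lit 89, nat_lit 229, nat_lit 109, nat_lit 29, nat_lit 309] 51 7)) (.leaf (Rule.fwd [nat_lit 349, nat_lit 209, nat_lit 269, nat_lit 209] 21 0)))) (.node (nat_lit 2) (.node (nat_lit 1) (.leaf (Rule.fwd [nat_lit 89, nat_lit 209, nat_lit 169, nat_lit 149, nat_lit 89] 40 5)) (.leaf (Rule.fwd [nat_lit 169, nat_lit 269, nat_lit 209, nat_lit 209] 19 2))) (.node (nat_lit 1) (.leaf (Rule.fwd [nat_lit 89, nat_lit 89, nat_lit 349, nat_lit 109, nat_lit 109] 32 5)) (.leaf (Rule.fwd [nat_lit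 289, nat_lit 269, nat_lit 169, nat_lit 249, nat_lit 169, nat_lit 209] 24 2)))))) (.node (nat_lit 4) (.node (nat_lit 2) (.node (nat_lit 1) (.leaf (Rule.fwd [nat_lit 269, nat_lit 209, nat_lit 9, nat_lit 129, nat_lit 249, nat_lit 89, nat_lit 29] 63 0)) (.leaf (Rule.fwd [nat_lit 269, nat_lit 289, nat_lit 229, nat_lit 269] 5 2))) (.node (nat_lit 1) (.leaf (Rule.fwd [nat_lit 269, nat_lit 229, nat_lit 269, nat_lit 289] 5 4)) (.leaf (Rule.fwd [nat_lit 109, nat_lit 29, nat_lit 309, nat_lit 229, nat_lit 269, nat_lit 9, nat_lit 89] 51 3)))) (.leaf (Rule.fwd [nat_lit 309, nat_lit 249, nat_lit 229, nat_lit 249] 4 3)))), (.node (nat_lit 1) (.leaf XRule.defn) (.leaf XRule.ax))⟩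
noncomputable def ci249 : CI := ⟨[12], (nat_lit 269), true, (.node (nat_lit 16) (.node (nat_lit 8) (.node (nat_lit 4) (.node (nat_lit 2) (.node (nat_lit 1) (.leaf Rule.defn) (.leaf Rule.copy)) (.node (nat_lit 1) (.leaf (Rule.fwd [nat_lit 269] 68 0)) (.leaf (Rule.fwd [nat_lit 169, nat_lit 9, nat_lit 129, nat_lit 169, nat_lit 269, nat_lit 289, nat_lit 9, nat_lit 89] 64 2)))) (.node (nat_lit 2) (.node (nat_lit 1) (.leaf (Rule.fwd [nat_lit 189, nat_lit 349, nat_lit 229, nat_lit 189] 20 1)) (.leaf (Rule.fwd [nat_lit 229, nat_lit 9, nat_lit 109, nat_lit 269, nat_lit 149, nat_lit 29, nat_lit 189] 62 6))) (.node (nat_lit 1) (.leaf (Rule.fwd [nat_lit 229, nat_lit 249, nat_lit 229, nat_lit 309] 4 0)) (.leaf (Rule.fwd [nat_lit 329, nat_lit 269, nat_lit 269, nat_lit 229, nat_lit 249] 6 4))))) (.node (nat_lit 4) (.node (nat_lit 2) (.node (nat_lit 1) (.leaf (Rule.fwd [nat_lit 169, nat_lit 229, nat_lit 189, nat_lit 189] 18 4))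 (.leaf (Rule.fwd [nat_lit 169, nat_lit 209, nat_lit 229, nat_lit 289, nat_lit 269, nat_lit 169] 24 6))) (.node (nat_lit 1) (.leaf (Rule.fwd [nat_lit 289, nat_lit 249, nat_lit 289] 8 0)) (.leaf (Rule.fwd [nat_lit 89, nat_lit 29, nat_lit 229, nat_lit 269, nat_lit 209, nat_lit 9, nat_lit 129] 63 3)))) (.node (nat_lit 2) (.node (nat_lit 1) (.leaf (Rule.fwd [nat_lit 29, nat_lit 129, nat_lit 169, nat_lit 209, nat_lit 309, nat_lit 9, nat_lit 89, nat_lit 9] 60 3)) (.leaf (Rule.fwd [nat_lit 229, nat_lit 289, nat_lit 9, nat_lit 89, nat_lit 229, nat_lit 109, nat_lit 29] 50 5))) (.node (nat_lit 1) (.leaf (Rule.fwd [nat_lit 189, nat_lit 169, nat_lit 9, nat_lit 49, nat_lit 289, nat_lit 69, nat_lit 29] 49 0)) (.leaf (Rule.fwd [nat_lit 249, nat_lit 249, nat_lit 249] 22 0)))))) (.leaf (Rule.fwd [nat_lit 249, nat_lit 329, nat_lit 269, nat_lit 269, nat_lit 229] 6 3))), (.node (nat_lit 1) (.leaf XRule.defn) (.leaf XRule.ax))⟩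
noncomputable def ci269 : CI := ⟨[13], (nat_lit 249), true, (.node (nat_lit 8) (.node (nat_lit 4) (.node (nat_lit 2) (.node (nat_lit 1) (.leaf Rule.defn) (.leaf Rule.copy)) (.node (nat_lit 1) (.leaf (Rule.fwd [nat_lit 249] 68 0)) (.leaf (Rule.fwd [nat_lit 149, nat_lit 29, nat_lit 189, nat_lit 249, nat_lit 229, nat_lit 9, nat_lit 109] 62 2)))) (.node (nat_lit 2) (.node (nat_lit 1) (.leaf (Rule.fwd [nat_lit 309, nat_lit 269, nat_lit 309] 9 1)) (.leaf (Rule.fwd [nat_lit 269, nat_lit 269, nat_lit 269] 23 0))) (.node (nat_lit 1) (.leaf (Rule.fwd [nat_lit 229, nat_lit 249, nat_lit 249, nat_lit 329, nat_lit 269] 6 1)) (.leaf (Rule.fwd [nat_lit 209, nat_lit 209, nat_lit 229, nat_lit 169] 19 0))))) (.node (nat_lit 4) (.node (nat_lit 2) (.node (nat_lit 1) (.leaf (Rule.fwd [nat_lit 289, nat_lit 229, nat_lit 269, nat_lit 229] 5 1)) (.leaf (Rule.fwd [nat_lit 169, nat_lit 249, nat_lit 309, nat_lit 229, nat_lit 189, nat_lit 169]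 25 0))) (.node (nat_lit 1) (.leaf (Rule.fwd [nat_lit 9, nat_lit 89, nat_lit 229, nat_lit 109, nat_lit 29, nat_lit 309, nat_lit 229] 51 6)) (.leaf (Rule.fwd [nat_lit 9, nat_lit 49, nat_lit 309, nat_lit 69, nat_lit 29, nat_lit 169, nat_lit 209] 48 7)))) (.node (nat_lit 1) (.leaf (Rule.fwd [nat_lit 169, nat_lit 249, nat_lit 169, nat_lit 209, nat_lit 229, nat_lit 289] 24 4)) (.leaf (Rule.fwd [nat_lit 229, nat_lit 269, nat_lit 289, nat_lit 229] 5 3))))), (.node (nat_lit 1) (.leaf XRule.defn) (.leaf XRule.ax))⟩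
noncomputable def ci289 : CI := ⟨[14], (nat_lit 309), true, (.node (nat_lit 8) (.node (nat_lit 4) (.node (nat_lit 2) (.node (nat_lit 1) (.leaf Rule.defn) (.leaf Rule.copy)) (.node (nat_lit 1) (.leaf (Rule.fwd [nat_lit 309] 68 0)) (.leaf (Rule.fwd [nat_lit 209, nat_lit 49, nat_lit 49, nat_lit 49, nat_lit 49] 47 0)))) (.node (nat_lit 2) (.node (nat_lit 1) (.leaf (Rule.fwd [nat_lit 229, nat_lit 269, nat_lit 229, nat_lit 269] 5 0)) (.leaf (Rule.fwd [nat_lit 349, nat_lit 329] 0 1))) (.node (nat_lit 1) (.leaf (Rule.fwd [nat_lit 249, nat_lit 289, nat_lit 249] 8 1)) (.leaf (Rule.fwd [nat_lit 209, nat_lit 289, nat_lit 209] 39 0))))) (.node (nat_lit 4) (.node (nat_lit 2) (.node (nat_lit 1) (.leaf (Rule.fwd [nat_lit 289, nat_lit 289] 2 0)) (.leaf (Rule.fwd [nat_lit 269, nat_lit 169, nat_lit 249, nat_lit 169, nat_lit 209, nat_lit 229] 24 3))) (.node (nat_lit 1) (.leaf (Rule.fwd [nat_lit 69, nat_lit 29, nat_lit 249, nat_lit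 189, nat_lit 169, nat_lit 9, nat_lit 49] 49 3)) (.leaf (Rule.fwd [nat_lit 149, nat_lit 349, nat_lit 129, nat_lit 349] 35 2)))) (.leaf (Rule.fwd [nat_lit 9, nat_lit 89, nat_lit 229, nat_lit 109, nat_lit 29, nat_lit 249, nat_lit 229] 50 7)))), (.node (nat_lit 1) (.leaf XRule.defn) (.leaf XRule.ax))⟩
noncomputable def ci309 : CI := ⟨[15], (nat_lit 289), true, (.node (nat_lit 8) (.node (nat_lit 4) (.node (nat_lit 2) (.node (nat_lit 1) (.leaf Rule.defn) (.leaf Rule.copy)) (.node (nat_lit 1) (.leaf (Rule.fwd [nat_lit 289] 68 0)) (.leaf (Rule.fwd [nat_lit 69, nat_lit 29, nat_lit 169, nat_lit 209, nat_lit 269, nat_lit 9, nat_lit 49] 48 2)))) (.node (nat_lit 2) (.node (nat_lit 1) (.leaf (Rule.fwd [nat_lit 309, nat_lit 309] 3 0)) (.leaf (Rule.fwd [nat_lit 189, nat_lit 309, nat_lit 189] 38 1))) (.node (nat_lit 1) (.leaf (Rule.fwd [nat_lit 249, nat_lit 229, nat_lit 249, nat_lit 229] 4 4)) (.leaf (Rule.fwd [nat_lit 349, nat_lit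 149, nat_lit 349, nat_lit 129] 34 1))))) (.node (nat_lit 2) (.node (nat_lit 1) (.leaf (Rule.fwd [nat_lit 229, nat_lit 269, nat_lit 9, nat_lit 89, nat_lit 229, nat_lit 109, nat_lit 29] 51 0)) (.leaf (Rule.fwd [nat_lit 269, nat_lit 309, nat_lit 269] 9 0))) (.node (nat_lit 1) (.leaf (Rule.fwd [nat_lit 229, nat_lit 189, nat_lit 169, nat_lit 269, nat_lit 169, nat_lit 249] 25 4)) (.leaf (Rule.fwd [nat_lit 329, nat_lit 349] 1 2))))), (.node (nat_lit 1) (.leaf XRule.defn) (.leaf XRule.ax))⟩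
noncomputable def ci329 : CI := ⟨[16], (nat_lit 329), true, (.node (nat_lit 8) (.node (nat_lit 4) (.node (nat_lit 2) (.node (nat_lit 1) (.leaf Rule.defn) (.leaf Rule.copy)) (.node (nat_lit 1) (.leaf (Rule.fwd [nat_lit 289, nat_lit 349] 0 0)) (.leaf (Rule.fwd [nat_lit 349, nat_lit 309] 1 1)))) (.node (nat_lit 2) (.node (nat_lit 1) (.leaf (Rule.fwd [nat_lit 329] 68 0)) (.leaf (Rule.fwd [nat_lit 169, nat_lit 329, nat_lit 169] 16 1))) (.node (nat_lit 1) (.leaf (Rule.fwd [nat_lit 229, nat_lit 329, nat_lit 229] 10 1)) (.leaf (Rule.fwd [nat_lit 269, nat_lit 269, nat_lit 229, nat_lit 249, nat_lit 249] 6 5))))) (.node (nat_lit 1) (.leaf (Rule.fwd [nat_lit 209, nat_lit 109, nat_lit 109, nat_lit 189, nat_lit 149] 31 4)) (.leaf (Rule.fwd [nat_lit 129, nat_lit 209, nat_lit 89, nat_lit 89, nat_lit 189] 30 3)))), (.node (nat_lit 1) (.leaf XRule.defn) (.leaf XRule.ax))⟩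
noncomputable def ci349 : CI := ⟨[17], (nat_lit 349), true, (.node (nat_lit 8) (.node (nat_lit 4) (.node (nat_lit 2) (.node (nat_lit 1) (.leaf Rule.defn) (.leaf Rule.copy)) (.node (nat_lit 1) (.leaf (Rule.fwd [nat_lit 29, nat_lit 129, nat_lit 129, nat_lit 169, nat_lit 209, nat_lit 229, nat_lit 289, nat_lit 9] 54 1)) (.leaf (Rule.fwd [nat_lit 229, nat_lit 189, nat_lit 249, nat_lit 189] 20 3)))) (.node (nat_lit 2) (.node (nat_lit 1) (.leaf (Rule.fwd [nat_lit 349] 68 0)) (.leaf (Rule.fwd [nat_lit 129, nat_lit 349, nat_lit 289, nat_lit 149] 35 0))) (.node (nat_lit 1) (.leaf (Rule.fwd [nat_lit 329, nat_lit 289] 0 2)) (.leaf (Rule.fwd [nat_lit 309, nat_lit 329] 1 0))))) (.node (nat_lit 4) (.node (nat_lit 2) (.node (nat_lit 1) (.leaf (Rule.fwd [nat_lit 129, nat_lit 309, nat_lit 349, nat_lit 149] 34 4)) (.leaf (Rule.fwd [nat_lit 209, nat_lit 269, nat_lit 209, nat_lit 229] 21 4))) (.node (nat_lit 1) (.leaf (Rule.fwd [nat_lit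 109, nat_lit 109, nat_lit 229, nat_lit 89, nat_lit 89] 32 2)) (.leaf (Rule.fwd [nat_lit 29, nat_lit 309, nat_lit 229, nat_lit 189, nat_lit 169, nat_lit 149, nat_lit 149, nat_lit 9] 55 2)))) (.node (nat_lit 1) (.leaf (Rule.fwd [nat_lit 289, nat_lit 149, nat_lit 349, nat_lit 129] 35 3)) (.leaf (Rule.fwd [nat_lit 149, nat_lit 349, nat_lit 129, nat_lit 309] 34 2))))), (.node (nat_lit 1) (.leaf XRule.defn) (.leaf XRule.ax))⟩
noncomputable def outer : Tr CI := (.node (nat_lit 4) (.node (nat_lit 8) (.node (nat_lit 16) (.node (nat_lit 1) (.leaf ci0) (.node (nat_lit 32) (.leaf ci129) (.leaf ci289))) (.node (nat_lit 32) (.leaf ci209) (.leaf ci49))) (.node (nat_lit 16) (.node (nat_lit 32) (.node (nat_lit 64) (.leaf ci9) (.leaf ci329)) (.leaf ci169)) (.node (nat_lit 32) (.leaf ci89) (.leaf ci249)))) (.node (nat_lit 8) (.node (nat_lit 16) (.node (nat_lit 32) (.leaf ci69) (.leaf ci229)) (.node (nat_lit 32) (.leaf ci149) (.leaf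 ci309))) (.node (nat_lit 16) (.node (nat_lit 32) (.leaf ci269) (.leaf ci109)) (.node (nat_lit 32) (.node (nat_lit 64) (.leaf ci29) (.leaf ci349)) (.leaf ci189)))))
def cols : List ℕ := [nat_lit 9, nat_lit 29, nat_lit 49, nat_lit 69, nat_lit 89, nat_lit 109, nat_lit 129, nat_lit 149, nat_lit 169, nat_lit 189, nat_lit 209, nat_lit 229, nat_lit 249, nat_lit 269, nat_lit 289, nat_lit 309, nat_lit 329, nat_lit 349]
def invL : List ℕ := [1, 0, 3, 2, 5, 4, 7, 6, 8, 10, 9, 11, 13, 12, 15, 14, 16, 17]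
def rels : List (List ℕ) := [[16, 14, 17], [14, 14, 14], [12, 11, 12, 11, 15], [13, 13, 11, 12, 12, 16], [12, 14, 12, 14], [11, 16, 11, 16], [10, 8, 9, 11], [10, 10, 10, 8, 9, 8, 13], [8, 16, 8, 16], [8, 11, 9, 9, 12], [9, 12, 9, 17, 11], [12, 12, 12, 12], [8, 10, 11, 14, 13, 8, 12], [5, 5, 5, 8], [4, 7, 4, 4, 7, 10], [4, 4, 9, 16, 6, 10], [4, 4, 17, 5, 5, 11], [6, 15, 17, 7, 17], [6, 6, 6, 6], [9, 15, 9, 15], [4, 10, 8, 7, 4, 11], [1, 1, 2, 0, 2, 5], [2, 1, 1, 1, 3, 7], [3, 3, 3, 3, 9, 15], [0, 2, 15, 3, 1, 8, 10, 13], [0, 4, 11, 5, 1, 12, 11, 14], [0, 11, 1, 7, 8, 10, 11, 15, 17], [0, 17, 1, 6, 6, 8, 10, 11, 14], [1, 11, 0, 7, 5, 10, 8, 15, 17], [0, 0, 10, 8, 0, 4, 6, 4, 13], [0, 4, 0, 12, 1, 6, 8, 10, 15], [0, 5, 13, 7, 1, 9, 12, 11], [0, 4, 12, 8, 0, 6, 8, 13, 14], [0, 2, 9, 0, 0, 6, 6, 4, 9, 13]]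
def subs : List (List ℕ) := [[4], [5], [6], [7], [8], [9], [10], [11], [12], [13], [14], [15], [16], [17]]
noncomputable def row (n : ℕ) : ℕ := rowOf (fun h => rows.get h) (nat_lit 5) (nat_lit 31) (nat_lit 369) (nat_lit 0x1ffffffffffffffffffffffffffffffffffffffffffffffffffffffffffffffffffffffffffffffffffffffffffff) n
noncomputable def xleaf (h : ℕ) : ℕ := recs.get h
noncomputable def mF : ℕ → ℕ := mainRow row (rowChk row xleaf outer (nat_lit 8) (nat_lit 255) (nat_lit 31) (nat_lit 13) (nat_lit 8191) (nat_lit 1048575) (nat_lit 128) (nat_lit 63) (nat_lit 256) (nat_lit 9) (nat_lit 511) (nat_lit 17) (nat_lit 131071) (nat_lit 8) (nat_lit 255) cols)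
noncomputable def xF : ℕ → ℕ → ℕ := xLeaf row xleaf outer (nat_lit 255) (nat_lit 13) (nat_lit 1048575) (nat_lit 128) (nat_lit 63) (nat_lit 9) (nat_lit 511) (nat_lit 17) (nat_lit 131071) (nat_lit 130560) (nat_lit 8) (nat_lit 255) (nat_lit 10) (nat_lit 1023) (nat_lit 2) (nat_lit 3) (nat_lit 349) (nat_lit 32256) (nat_lit 128)
noncomputable def cert : Cert := ⟨row, xleaf, outer, cols, nat_lit 8, nat_lit 255, nat_lit 31, nat_lit 13, nat_lit 8191, nat_lit 1048575, nat_lit 128, nat_lit 63, nat_lit 256, nat_lit 9, nat_lit 511, nat_lit 17, nat_lit 131071, nat_lit 130560, nat_lit 8, nat_lit 255, nat_lit 10, nat_lit 1023, nat_lit 2, nat_lit 3, nat_lit 349, nat_lit 32256, nat_lit 128, nat_lit 20, nat_lit 128, nat_lit 1⟩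
theorem tabok : tabOK (fun i => invL.getD i i) rels subs outer cols (nat_lit 9) (nat_lit 349) = true := by decide +kernel
theorem m0 : rng mF (nat_lit 1) (nat_lit 63) = 0 := by decide +kernel
noncomputable def s0 : List ℕ := [nat_lit 0x401004010040100401004000000000000000000000000000000000000000000000000000000000000000000000000000000000000000000000000000000000000000000000000000000000000000000000000000000000000000000000000000000000000000000000000000000000000000000000000000000000000000000000000000000000000000000000000000000000000000000000000000000000]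
theorem x0 : xs xF s0 (nat_lit 1) = 0 := by decide +kernel
theorem mz0 : AllZ mF 1 (nat_lit 64) := (AllZ.step (AllZ.nil mF 1) (nat_lit 63) (nat_lit 64) rfl m0)
theorem xz0 : XZ xF (nat_lit 1) := (XZ.step (XZ.nil xF) s0 (nat_lit 1) (nat_lit 1) (by decide +kernel) x0)
/-- the certificate (63 points) is valid -/
theorem valid : cert.Valid (fun i => invL.getD i i) rels subs 18 :=
  ⟨by decide +kernel, tabok, by decide +kernel, mz0, xz0⟩
theorem cert_N : cert.N = 63 := rfl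

end CL.TC.GPsp62L1
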