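import Cfsg.Agent.Spor.TCSound

/-! coset enumeration certificate generated by tools/tc -/

set_option maxRecDepth 100000
set_option autoImplicit false
set_option linter.all false

namespace CL.TC.GPsp62L2

noncomputable def rows0 : Tr ℕ := (.leaf (nat_lit 0x9884121c825a904a320926412a4825a104b3209964132082a98e4e51bfe22f30c7c392d45a650fcd6189062d28c5a6c8a4c51f9a6332cc6e530fff10fa2a3d35482798b90b830f7161df863bfc432998ad1a11a5c3d3cc76b18e5561ea063f490767b0f4e31e63f260ce083dfc433ea0f4f61ca282146076a38a50a1ea923b44c7b8187cf319a4624daaa63952046b988d7415fe21938c76cb8e5771eb6e2b64c5aca08d6820aee2d5cc59694e06f928dd481ba663758c6ebb8dd5a1b98a3f5a45bf8864d3209f0234e4368c8d1573b0d6851ad8c35acc6b3189f230ed0c25fc42b7985ea30fcc6359d06a818dd330b3de9419b4c336d466d18ccb3119862b38c32948c4e41f9b03370c5ff8854e412a0e3a2fa26314105a718b4c31fa062f28c5e830a50310a263349447f884d1809a6a2144c38858585f1b0a61314fe20f2e0628c8c61d16aac1960c46fc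8bdd30ebaa3342c7ff19031e538fd15189323f3d463f883cb41fc0c2f54c6f2b885a61cb061161432c30e5631c5a5c311c122b58c72d408cd919a8a3d95842d18e7f107dcc2b9d057318ae1313eac1068c8a0f8905f1183e24179863f9641e8f8c7f107a663b82c533985e230ba46294d850f79983b12036630ec860dfc4173c0d65b13cae1388c1b2509e0406bc60f79823140aad33b86e7912cce0b98c37218462306d2a35fc4174287e6612ca6259904a9d8ecd3193ddb715a683964c56c38e5031e99633dd046cb8bfb30ca263138c6ec18e7b307fe20809ec62185442f98860810a063b40c33320ae4316a2831ed01eb40855310fe20948c60399d8274b87ff103cec13ad827598568a0fce625a4c275b8d7151dfc63f560329986b6b2b89ed50ec8e0d9d44f9a0d68705cec1194c37f881f6304d261579c5e948c743073468512f860b9d84bb182e4506d2a11ed437f881e660ece617b0c136282d490fa46367be2e3bccc33f18f7e31da3021f8c726b0cfc411a862ff8c6eb98b7f103acc1750c3c5fa202f42056d70afe205a1c0f9201ec609e0a35a14234486e3614d08295106aa98631f4b816980bdcc05b0c2f6287ff102e8a07d9413f18d6a805fc633a983b9182ea30550e670fd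120798c3f3281ff102d461fb642f5307e4313d2e1340c63f18c53a09a4612b4cd2119a4233b0466308d061b9584b43876730bfe205dd823b201d9616e862b74c4cd18dc531403fe317c6e2990c53f18b6f307fc62bf8c53d1885f713fe205d503be2888bf1c8363613caa278cc3b1a896330dc580d8e04f1c02e2706fe2057cc4f1303613062178405f681bdd03729896730efc627ea01711837e312d2615acc37f880eb50ae6e142fe0a09b98137a826e304d2809a0c138b8278302ea615dd43bf880ed40dfc623f8c4085ecc0f3a04e5309fc61fc4c2f3985f360afc61df8c37e201fe30cea611f0c0bf880827518569602fc617b4c2bf1857e309f0605f8c23ca027c402fc60ff8c1bf880fd4030e79201f4403e8c07d900fb301f8403f4807e980fe201fe403f8c17f1827e303fc60400))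
noncomputable def recs0 : Tr ℕ := (.leaf (nat_lit 0x6000300017680bb405b402c7015a00a84051c028e013d809a004aa0255))
noncomputable def rows : Tr ℕ := rows0
noncomputable def recs : Tr ℕ := recs0
noncomputable def ci0 : CI := ⟨[], (nat_lit 0), false, (.node (nat_lit 1) (.leaf Rule.defn) (.leaf Rule.copy)), (.leaf (XRule.rot (nat_lit 0) [] 42 0))⟩
noncomputable def ci9 : CI := ⟨[0], (nat_lit 28), false, (.node (nat_lit 8) (.node (nat_lit 4) (.node (nat_lit 2) (.node (nat_lit 1) (.leaf Rule.defn) (.leaf Rule.copy)) (.node (nat_lit 1) (.leaf (Rule.fwd [nat_lit 28] 42 0)) (.leaf (Rule.fwd [nat_lit 9, nat_lit 85, nat_lit 9] 27 2)))) (.node (nat_lit 2) (.node (nat_lit 1) (.leaf (Rule.fwd [nat_lit 9, nat_lit 66, nat_lit 123, nat_lit 9, nat_lit 66] 28 2)) (.leaf (Rule.fwd [nat_lit 66, nat_lit 9, nat_lit 9, nat_lit 66, nat_lit 123] 28 0))) (.node (nat_lit 1) (.leaf (Rule.fwd [nat_lit 142, nat_lit 9, nat_lit 123, nat_lit 85,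 nat_lit 66] 40 4)) (.leaf (Rule.fwd [nat_lit 9, nat_lit 104, nat_lit 237, nat_lit 47, nat_lit 123] 30 0))))) (.leaf (Rule.fwd [nat_lit 123, nat_lit 85, nat_lit 66, nat_lit 9, nat_lit 142] 40 0))), (.node (nat_lit 1) (.leaf XRule.defn) (.leaf XRule.defn))⟩
noncomputable def ci28 : CI := ⟨[1], (nat_lit 9), false, (.node (nat_lit 8) (.node (nat_lit 4) (.node (nat_lit 2) (.node (nat_lit 1) (.leaf Rule.defn) (.leaf Rule.copy)) (.node (nat_lit 1) (.leaf (Rule.fwd [nat_lit 9] 42 0)) (.leaf (Rule.fwd [nat_lit 85, nat_lit 28, nat_lit 28] 26 2)))) (.node (nat_lit 2) (.node (nat_lit 1) (.leaf (Rule.fwd [nat_lit 28, nat_lit 47, nat_lit 28, nat_lit 104, nat_lit 47] 29 4)) (.leaf (Rule.fwd [nat_lit 104, nat_lit 47, nat_lit 28, nat_lit 28, nat_lit 47] 29 1))) (.node (nat_lit 1) (.leaf (Rule.fwd [nat_lit 28, nat_lit 85, nat_lit 28] 26 1)) (.leaf (Rule.fwd [nat_lit 28, nat_lit 104, nat_lit 66, nat_lit 237, nat_lit 123] 31 2)))))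 (.node (nat_lit 2) (.node (nat_lit 1) (.leaf (Rule.fwd [nat_lit 28, nat_lit 28, nat_lit 85] 26 0)) (.leaf (Rule.fwd [nat_lit 142, nat_lit 28, nat_lit 47, nat_lit 85, nat_lit 104] 41 1))) (.leaf (Rule.fwd [nat_lit 47, nat_lit 85, nat_lit 104, nat_lit 28, nat_lit 142] 41 5)))), (.node (nat_lit 1) (.leaf XRule.defn) (.leaf XRule.defn))⟩
noncomputable def ci47 : CI := ⟨[2], (nat_lit 66), false, (.node (nat_lit 4) (.node (nat_lit 2) (.node (nat_lit 1) (.leaf Rule.defn) (.leaf Rule.copy)) (.node (nat_lit 1) (.leaf (Rule.fwd [nat_lit 66] 42 0)) (.leaf (Rule.fwd [nat_lit 123, nat_lit 9, nat_lit 9, nat_lit 104, nat_lit 237] 30 4)))) (.node (nat_lit 2) (.node (nat_lit 1) (.leaf (Rule.fwd [nat_lit 47, nat_lit 47, nat_lit 47] 36 0)) (.leaf (Rule.fwd [nat_lit 85, nat_lit 104, nat_lit 28, nat_lit 142, nat_lit 28] 41 4))) (.node (nat_lit 1) (.leaf (Rule.fwd [nat_lit 218, nat_lit 256, nat_lit 66, nat_lit 256] 34 0)) (.leaf (Rule.fwd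 [nat_lit 28, nat_lit 104, nat_lit 47, nat_lit 28, nat_lit 28] 29 2))))), (.node (nat_lit 1) (.leaf XRule.defn) (.leaf XRule.defn))⟩
noncomputable def ci66 : CI := ⟨[3], (nat_lit 47), false, (.node (nat_lit 4) (.node (nat_lit 2) (.node (nat_lit 1) (.leaf Rule.defn) (.leaf Rule.copy)) (.node (nat_lit 1) (.leaf (Rule.fwd [nat_lit 47] 42 0)) (.leaf (Rule.fwd [nat_lit 9, nat_lit 142, nat_lit 9, nat_lit 123, nat_lit 85] 40 3)))) (.node (nat_lit 2) (.node (nat_lit 1) (.leaf (Rule.fwd [nat_lit 256, nat_lit 47, nat_lit 256, nat_lit 199] 35 1)) (.leaf (Rule.fwd [nat_lit 256, nat_lit 47, nat_lit 218, nat_lit 256] 34 3))) (.node (nat_lit 1) (.leaf (Rule.fwd [nat_lit 66, nat_lit 66, nat_lit 66] 37 0)) (.leaf (Rule.fwd [nat_lit 237, nat_lit 123, nat_lit 28, nat_lit 28, nat_lit 104] 31 5))))), (.node (nat_lit 1) (.leaf XRule.defn) (.leaf XRule.defn))⟩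
noncomputable def ci85 : CI := ⟨[4], (nat_lit 85), true, (.node (nat_lit 8) (.node (nat_lit 4) (.node (nat_lit 2) (.node (nat_lit 1) (.leaf Rule.defn) (.leaf Rule.copy)) (.node (nat_lit 1) (.leaf (Rule.fwd [nat_lit 85] 42 0)) (.leaf (Rule.fwd [nat_lit 9, nat_lit 9, nat_lit 9] 27 0)))) (.node (nat_lit 2) (.node (nat_lit 1) (.leaf (Rule.fwd [nat_lit 104, nat_lit 28, nat_lit 142, nat_lit 28, nat_lit 47] 41 3)) (.leaf (Rule.fwd [nat_lit 104, nat_lit 142, nat_lit 123] 12 1))) (.node (nat_lit 1) (.leaf (Rule.fwd [nat_lit 161, nat_lit 85, nat_lit 123, nat_lit 142, nat_lit 199, nat_lit 180] 24 5)) (.leaf (Rule.fwd [nat_lit 28, nat_lit 28, nat_lit 28] 26 3))))) (.node (nat_lit 2) (.node (nat_lit 1) (.leaf (Rule.fwd [nat_lit 237, nat_lit 85, nat_lit 237] 16 0)) (.leaf (Rule.fwd [nat_lit 123, nat_lit 142, nat_lit 199, nat_lit 180, nat_lit 85, nat_lit 161] 24 0))) (.leaf (Rule.fwd [nat_lit 161, nat_lit 218, nat_lit 142, nat_lit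 104, nat_lit 85, nat_lit 180] 25 6)))), (.node (nat_lit 1) (.leaf XRule.defn) (.leaf XRule.ax))⟩
noncomputable def ci104 : CI := ⟨[5], (nat_lit 123), true, (.node (nat_lit 8) (.node (nat_lit 4) (.node (nat_lit 2) (.node (nat_lit 1) (.leaf Rule.defn) (.leaf Rule.copy)) (.node (nat_lit 1) (.leaf (Rule.fwd [nat_lit 123] 42 0)) (.leaf (Rule.fwd [nat_lit 66, nat_lit 237, nat_lit 123, nat_lit 28, nat_lit 28] 31 0)))) (.node (nat_lit 2) (.node (nat_lit 1) (.leaf (Rule.fwd [nat_lit 104, nat_lit 161, nat_lit 85, nat_lit 123, nat_lit 85, nat_lit 104] 15 2)) (.leaf (Rule.fwd [nat_lit 104, nat_lit 104, nat_lit 161, nat_lit 85, nat_lit 123, nat_lit 85] 15 3))) (.node (nat_lit 1) (.leaf (Rule.fwd [nat_lit 256, nat_lit 142, nat_lit 104, nat_lit 161] 20 2)) (.leaf (Rule.fwd [nat_lit 218, nat_lit 104, nat_lit 218] 38 0))))) (.node (nat_lit 2) (.node (nat_lit 1) (.leaf (Rule.fwd [nat_lit 28, nat_lit 142, nat_lit 28, nat_lit 47,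 nat_lit 85] 41 2)) (.leaf (Rule.fwd [nat_lit 161, nat_lit 104, nat_lit 256, nat_lit 142] 20 0))) (.leaf (Rule.fwd [nat_lit 47, nat_lit 28, nat_lit 28, nat_lit 47, nat_lit 28] 29 0)))), (.node (nat_lit 1) (.leaf XRule.defn) (.leaf XRule.ax))⟩
noncomputable def ci123 : CI := ⟨[6], (nat_lit 104), true, (.node (nat_lit 8) (.node (nat_lit 4) (.node (nat_lit 2) (.node (nat_lit 1) (.leaf Rule.defn) (.leaf Rule.copy)) (.node (nat_lit 1) (.leaf (Rule.fwd [nat_lit 104] 42 0)) (.leaf (Rule.fwd [nat_lit 9, nat_lit 66, nat_lit 9, nat_lit 9, nat_lit 66] 28 5)))) (.node (nat_lit 2) (.node (nat_lit 1) (.leaf (Rule.fwd [nat_lit 123, nat_lit 123, nat_lit 85, nat_lit 104, nat_lit 85, nat_lit 180] 14 0)) (.leaf (Rule.fwd [nat_lit 85, nat_lit 104, nat_lit 142] 12 0))) (.node (nat_lit 1) (.leaf (Rule.fwd [nat_lit 199, nat_lit 123, nat_lit 199] 39 1)) (.leaf (Rule.fwd [nat_lit 123, nat_lit 142, nat_lit 85, nat_lit 180] 19 4))))) (.leaf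 (Rule.fwd [nat_lit 28, nat_lit 28, nat_lit 104, nat_lit 66, nat_lit 237] 31 3))), (.node (nat_lit 1) (.leaf XRule.defn) (.leaf XRule.ax))⟩
noncomputable def ci142 : CI := ⟨[7], (nat_lit 142), true, (.node (nat_lit 8) (.node (nat_lit 4) (.node (nat_lit 2) (.node (nat_lit 1) (.leaf Rule.defn) (.leaf Rule.copy)) (.node (nat_lit 1) (.leaf (Rule.fwd [nat_lit 9, nat_lit 9, nat_lit 256, nat_lit 28, nat_lit 28] 32 5)) (.leaf (Rule.fwd [nat_lit 9, nat_lit 123, nat_lit 85, nat_lit 66, nat_lit 9] 40 5)))) (.node (nat_lit 2) (.node (nat_lit 1) (.leaf (Rule.fwd [nat_lit 123, nat_lit 85, nat_lit 104] 12 3)) (.leaf (Rule.fwd [nat_lit 142] 42 0))) (.node (nat_lit 1) (.leaf (Rule.fwd [nat_lit 104, nat_lit 104, nat_lit 161, nat_lit 85] 18 1)) (.leaf (Rule.fwd [nat_lit 237, nat_lit 142, nat_lit 237] 10 0))))) (.node (nat_lit 4) (.node (nat_lit 2) (.node (nat_lit 1) (.leaf (Rule.fwd [nat_lit 161, nat_lit 142, nat_lit 218, nat_lit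 161] 4 1)) (.leaf (Rule.fwd [nat_lit 161, nat_lit 161, nat_lit 237, nat_lit 180, nat_lit 180] 6 2))) (.node (nat_lit 1) (.leaf (Rule.fwd [nat_lit 218, nat_lit 161, nat_lit 142, nat_lit 161] 4 3)) (.leaf (Rule.fwd [nat_lit 104, nat_lit 85, nat_lit 180, nat_lit 85, nat_lit 161, nat_lit 218] 25 3)))) (.node (nat_lit 2) (.node (nat_lit 1) (.leaf (Rule.fwd [nat_lit 180, nat_lit 142, nat_lit 180, nat_lit 199] 5 4)) (.leaf (Rule.fwd [nat_lit 85, nat_lit 180, nat_lit 123, nat_lit 123] 19 2))) (.leaf (Rule.fwd [nat_lit 28, nat_lit 47, nat_lit 85, nat_lit 104, nat_lit 28] 41 0))))), (.node (nat_lit 1) (.leaf XRule.defn) (.leaf XRule.ax))⟩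
noncomputable def ci161 : CI := ⟨[8], (nat_lit 180), true, (.node (nat_lit 8) (.node (nat_lit 4) (.node (nat_lit 2) (.node (nat_lit 1) (.leaf Rule.defn) (.leaf Rule.copy)) (.node (nat_lit 1) (.leaf (Rule.fwd [nat_lit 180] 42 0)) (.leaf (Rule.fwd [nat_lit 142, nat_lit 161, nat_lit 142, nat_lit 218] 4 0)))) (.node (nat_lit 2) (.node (nat_lit 1) (.leaf (Rule.fwd [nat_lit 104, nat_lit 256, nat_lit 142, nat_lit 104] 20 1)) (.leaf (Rule.fwd [nat_lit 199, nat_lit 161, nat_lit 199] 8 0))) (.node (nat_lit 1) (.leaf (Rule.fwd [nat_lit 85, nat_lit 123, nat_lit 142, nat_lit 199, nat_lit 180, nat_lit 85] 24 6)) (.leaf (Rule.fwd [nat_lit 161, nat_lit 161, nat_lit 161] 22 0))))) (.node (nat_lit 2) (.node (nat_lit 1) (.leaf (Rule.fwd [nat_lit 85, nat_lit 142, nat_lit 104, nat_lit 104] 18 4)) (.leaf (Rule.fwd [nat_lit 142, nat_lit 218, nat_lit 161, nat_lit 142] 4 2))) (.leaf (Rule.fwd [nat_lit 85, nat_lit 123, nat_lit 85, nat_lit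 104, nat_lit 104, nat_lit 104] 15 0)))), (.node (nat_lit 1) (.leaf XRule.defn) (.leaf XRule.ax))⟩
noncomputable def ci180 : CI := ⟨[9], (nat_lit 161), true, (.node (nat_lit 8) (.node (nat_lit 4) (.node (nat_lit 2) (.node (nat_lit 1) (.leaf Rule.defn) (.leaf Rule.copy)) (.node (nat_lit 1) (.leaf (Rule.fwd [nat_lit 161] 42 0)) (.leaf (Rule.fwd [nat_lit 123, nat_lit 142, nat_lit 256, nat_lit 123] 21 2)))) (.node (nat_lit 2) (.node (nat_lit 1) (.leaf (Rule.fwd [nat_lit 218, nat_lit 180, nat_lit 218] 9 1)) (.leaf (Rule.fwd [nat_lit 180, nat_lit 180, nat_lit 180] 23 0))) (.node (nat_lit 1) (.leaf (Rule.fwd [nat_lit 180, nat_lit 142, nat_lit 161, nat_lit 161, nat_lit 237] 6 0)) (.leaf (Rule.fwd [nat_lit 85, nat_lit 161, nat_lit 85, nat_lit 123, nat_lit 142, nat_lit 199] 24 4))))) (.leaf (Rule.fwd [nat_lit 199, nat_lit 142, nat_lit 180, nat_lit 142] 5 1))), (.node (nat_lit 1) (.leaf XRule.defn) (.leaf XRule.ax))⟩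
noncomputable def ci199 : CI := ⟨[10], (nat_lit 218), true, (.node (nat_lit 4) (.node (nat_lit 2) (.node (nat_lit 1) (.leaf Rule.defn) (.leaf Rule.copy)) (.node (nat_lit 1) (.leaf (Rule.fwd [nat_lit 218] 42 0)) (.leaf (Rule.fwd [nat_lit 199, nat_lit 199] 2 0)))) (.node (nat_lit 2) (.node (nat_lit 1) (.leaf (Rule.fwd [nat_lit 180, nat_lit 85, nat_lit 161, nat_lit 85, nat_lit 123, nat_lit 142] 24 3)) (.leaf (Rule.fwd [nat_lit 142, nat_lit 180, nat_lit 142, nat_lit 180] 5 0))) (.node (nat_lit 1) (.leaf (Rule.fwd [nat_lit 66, nat_lit 256, nat_lit 47, nat_lit 256] 35 2)) (.leaf (Rule.fwd [nat_lit 256, nat_lit 237] 0 1))))), (.node (nat_lit 1) (.leaf XRule.defn) (.leaf XRule.ax))⟩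
noncomputable def ci218 : CI := ⟨[11], (nat_lit 199), true, (.node (nat_lit 8) (.node (nat_lit 4) (.node (nat_lit 2) (.node (nat_lit 1) (.leaf Rule.defn) (.leaf Rule.copy)) (.node (nat_lit 1) (.leaf (Rule.fwd [nat_lit 199] 42 0)) (.leaf (Rule.fwd [nat_lit 237, nat_lit 256] 1 2)))) (.node (nat_lit 2) (.node (nat_lit 1) (.leaf (Rule.fwd [nat_lit 256, nat_lit 66, nat_lit 256, nat_lit 47] 34 1)) (.leaf (Rule.fwd [nat_lit 104, nat_lit 218, nat_lit 104] 38 1))) (.node (nat_lit 1) (.leaf (Rule.fwd [nat_lit 218, nat_lit 218] 3 0)) (.leaf (Rule.fwd [nat_lit 142, nat_lit 104, nat_lit 85, nat_lit 180, nat_lit 85, nat_lit 161] 25 4))))) (.leaf (Rule.fwd [nat_lit 161, nat_lit 142, nat_lit 161, nat_lit 142] 4 4))), (.node (nat_lit 1) (.leaf XRule.defn) (.leaf XRule.ax))⟩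
noncomputable def ci237 : CI := ⟨[12], (nat_lit 237), true, (.node (nat_lit 8) (.node (nat_lit 4) (.node (nat_lit 2) (.node (nat_lit 1) (.leaf Rule.defn) (.leaf Rule.copy)) (.node (nat_lit 1) (.leaf (Rule.fwd [nat_lit 47, nat_lit 123, nat_lit 9, nat_lit 9, nat_lit 104] 30 3)) (.leaf (Rule.fwd [nat_lit 237] 42 0)))) (.node (nat_lit 2) (.node (nat_lit 1) (.leaf (Rule.fwd [nat_lit 85, nat_lit 237, nat_lit 85] 16 1)) (.leaf (Rule.fwd [nat_lit 256, nat_lit 218] 1 1))) (.node (nat_lit 1) (.leaf (Rule.fwd [nat_lit 180, nat_lit 180, nat_lit 142, nat_lit 161, nat_lit 161] 6 5)) (.leaf (Rule.fwd [nat_lit 199, nat_lit 256] 0 0))))) (.node (nat_lit 1) (.leaf (Rule.fwd [nat_lit 142, nat_lit 237, nat_lit 142] 10 1)) (.leaf (Rule.fwd [nat_lit 123, nat_lit 28, nat_lit 28, nat_lit 104, nat_lit 66] 31 4)))), (.node (nat_lit 1) (.leaf XRule.defn) (.leaf XRule.ax))⟩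
noncomputable def ci256 : CI := ⟨[13], (nat_lit 256), true, (.node (nat_lit 8) (.node (nat_lit 4) (.node (nat_lit 2) (.node (nat_lit 1) (.leaf Rule.defn) (.leaf Rule.copy)) (.node (nat_lit 1) (.leaf (Rule.fwd [nat_lit 28, nat_lit 28, nat_lit 142, nat_lit 9, nat_lit 9] 32 2)) (.leaf (Rule.fwd [nat_lit 47, nat_lit 218, nat_lit 256, nat_lit 66] 34 4)))) (.node (nat_lit 2) (.node (nat_lit 1) (.leaf (Rule.fwd [nat_lit 142, nat_lit 104, nat_lit 161, nat_lit 104] 20 3)) (.leaf (Rule.fwd [nat_lit 237, nat_lit 199] 0 2))) (.node (nat_lit 1) (.leaf (Rule.fwd [nat_lit 256] 42 0)) (.leaf (Rule.fwd [nat_lit 218, nat_lit 237] 1 0))))) (.leaf (Rule.fwd [nat_lit 66, nat_lit 256, nat_lit 47, nat_lit 218] 34 2))), (.node (nat_lit 1) (.leaf XRule.defn) (.leaf XRule.ax))⟩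
noncomputable def outer : Tr CI := (.node (nat_lit 1) (.node (nat_lit 8) (.node (nat_lit 2) (.node (nat_lit 4) (.node (nat_lit 256) (.leaf ci0) (.leaf ci256)) (.leaf ci180)) (.leaf ci66)) (.node (nat_lit 2) (.node (nat_lit 4) (.leaf ci104) (.leaf ci28)) (.node (nat_lit 4) (.leaf ci218) (.leaf ci142)))) (.node (nat_lit 2) (.node (nat_lit 4) (.node (nat_lit 8) (.leaf ci161) (.leaf ci9)) (.node (nat_lit 8) (.leaf ci85) (.leaf ci237))) (.node (nat_lit 4) (.leaf ci123) (.node (nat_lit 8) (.leaf ci199) (.leaf ci47)))))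
def cols : List ℕ := [nat_lit 9, nat_lit 28, nat_lit 47, nat_lit 66, nat_lit 85, nat_lit 104, nat_lit 123, nat_lit 142, nat_lit 161, nat_lit 180, nat_lit 199, nat_lit 218, nat_lit 237, nat_lit 256]
def invL : List ℕ := [1, 0, 3, 2, 4, 6, 5, 7, 9, 8, 11, 10, 12, 13]
def rels : List (List ℕ) := [[12, 10, 13], [10, 10, 10], [8, 7, 8, 7, 11], [9, 9, 7, 8, 8, 12], [8, 10, 8, 10], [7, 12, 7, 12], [6, 4, 5, 7], [6, 6, 6, 4, 5, 4, 9], [4, 12, 4, 12], [4, 7, 5, 5, 8], [5, 8, 5, 13, 7], [8, 8, 8, 8], [4, 6, 7, 10, 9, 4, 8], [1, 1, 1, 4], [0, 3, 0, 0, 3, 6], [0, 0, 5, 12, 2, 6], [0, 0, 13, 1, 1, 7], [2, 11, 13, 3, 13], [2, 2, 2, 2], [5, 11, 5, 11], [0, 6, 4, 3, 0, 7]]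
def subs : List (List ℕ) := [[4], [5], [6], [7], [8], [9], [10], [11], [12], [13]]
noncomputable def row (n : ℕ) : ℕ := rowOf (fun h => rows.get h) (nat_lit 5) (nat_lit 31) (nat_lit 275) (nat_lit 0x7ffffffffffffffffffffffffffffffffffffffffffffffffffffffffffffffffffff) n
noncomputable def xleaf (h : ℕ) : ℕ := recs.get h
noncomputable def mF : ℕ → ℕ := mainRow row (rowChk row xleaf outer (nat_lit 8) (nat_lit 255) (nat_lit 15) (nat_lit 12) (nat_lit 4095) (nat_lit 524287) (nat_lit 128) (nat_lit 32) (nat_lit 256) (nat_lit 9) (nat_lit 511) (nat_lit 17) (nat_lit 131071) (nat_lit 8) (nat_lit 255) cols)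
noncomputable def xF : ℕ → ℕ → ℕ := xLeaf row xleaf outer (nat_lit 255) (nat_lit 12) (nat_lit 524287) (nat_lit 128) (nat_lit 32) (nat_lit 9) (nat_lit 511) (nat_lit 17) (nat_lit 131071) (nat_lit 130560) (nat_lit 8) (nat_lit 255) (nat_lit 10) (nat_lit 1023) (nat_lit 2) (nat_lit 3) (nat_lit 256) (nat_lit 16384) (nat_lit 128)
noncomputable def cert : Cert := ⟨row, xleaf, outer, cols, nat_lit 8, nat_lit 255, nat_lit 15, nat_lit 12, nat_lit 4095, nat_lit 524287, nat_lit 128, nat_lit 32, nat_lit 256, nat_lit 9, nat_lit 511, nat_lit 17, nat_lit 131071, nat_lit 130560, nat_lit 8, nat_lit 255, nat_lit 10, nat_lit 1023, nat_lit 2, nat_lit 3, nat_lit 256, nat_lit 16384, nat_lit 128, nat_lit 19, nat_lit 128, nat_lit 1⟩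
theorem tabok : tabOK (fun i => invL.getD i i) rels subs outer cols (nat_lit 9) (nat_lit 256) = true := by decide +kernel
theorem m0 : rng mF (nat_lit 1) (nat_lit 32) = 0 := by decide +kernel
noncomputable def s0 : List ℕ := [nat_lit 0x401004010040100400000000000000000000000000000000000000000000000000000000000000000000000000000000000000000000000000000000000000000000000000000000000000000000000000000000000000000000000000000000000000000000000000000000000000000000000000000000000000000000000000000000000000000000000000000000000000000000000000000000000000]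
theorem x0 : xs xF s0 (nat_lit 1) = 0 := by decide +kernel
theorem mz0 : AllZ mF 1 (nat_lit 33) := (AllZ.step (AllZ.nil mF 1) (nat_lit 32) (nat_lit 33) rfl m0)
theorem xz0 : XZ xF (nat_lit 1) := (XZ.step (XZ.nil xF) s0 (nat_lit 1) (nat_lit 1) (by decide +kernel) x0)
/-- the certificate (32 points) is valid -/
theorem valid : cert.Valid (fun i => invL.getD i i) rels subs 14 :=
  ⟨by decide +kernel, tabok, by decide +kernel, mz0, xz0⟩
theorem cert_N : cert.N = 32 := rfl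

end CL.TC.GPsp62L2
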