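import Cfsg.Agent.Spor.TCSound

/-! coset enumeration certificate generated by tools/tc -/

set_option maxRecDepth 100000
set_option autoImplicit false
set_option linter.all false

namespace CL.TC.GPsp62L3

noncomputable def rows0 : Tr ℕ := (.leaf (nat_lit 0x36b036d40fe4c11fc41b7183f090bdc613b1c2359866960f7ad2819a1c1761866a305fe209dcc33b186e930cf2a15d1c399f5986e7603fe207b54137282ea805ef01db20279183ee3068dd4a1dd9c335182ed60ef081dfc40f4e066c80fd4e1db0c2553c305f950af8615fc40b7987f1806e9217bcc2b7b046da0b7af4c05e182ff8817d40bee611ddc27ab057830ee0c17b9c2a379384f3709ea813d0c27b1857f102df61ff500f5986ed90c54d4a11b581b9a837130ffe205e182ba3846e30bd661ff140d9f6983fa407d860fb581fb9836f70ffe205cd837ea027960741d881fb9c23f187f2308e0617e141f95037a505fe205be0346fda82e760ed681dad4334986ed30dfa807fc40bc9836d4052eee607a1c136186eb303f2607f8c3bc2827c307fe203f10106fb2026870dd8e09f8c37f1867a404f860bfc407e184fb3082ef2815ecc0bf185fe30afc613f8c23f183fe306fc60bfc40423d900fc201f8603f4807e980fe201fe403f8c13f181fe30200))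
noncomputable def recs0 : Tr ℕ := (.leaf (nat_lit 0x1b301b301a001a0018d017a0167015401410141))
noncomputable def rows : Tr ℕ := rows0
noncomputable def recs : Tr ℕ := recs0
noncomputable def ci0 : CI := ⟨[], (nat_lit 0), false, (.node (nat_lit 1) (.leaf Rule.defn) (.leaf Rule.copy)), (.leaf (XRule.rot (nat_lit 0) [] 26 0))⟩
noncomputable def ci8 : CI := ⟨[0], (nat_lit 8), false, (.node (nat_lit 8) (.node (nat_lit 4) (.node (nat_lit 2) (.node (nat_lit 1) (.leaf Rule.defn) (.leaf Rule.copy)) (.node (nat_lit 1) (.leaf (Rule.fwd [nat_lit 8] 26 0)) (.leaf (Rule.fwd [nat_lit 27, nat_lit 8, nat_lit 103, nat_lit 46, nat_lit 46, nat_lit 46] 14 3)))) (.node (nat_lit 2) (.node (nat_lit 1) (.leaf (Rule.fwd [nat_lit 46, nat_lit 65, nat_lit 122, nat_lit 103, nat_lit 8, nat_lit 84] 24 0)) (.leaf (Rule.fwd [nat_lit 27, nat_lit 27, nat_lit 27, nat_lit 84, nat_lit 8, nat_lit 46] 15 4))) (.node (nat_lit 1) (.leaf (Rule.fwd [nat_lit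 27, nat_lit 65, nat_lit 46] 12 1)) (.leaf (Rule.fwd [nat_lit 65, nat_lit 27, nat_lit 27, nat_lit 84] 18 0))))) (.node (nat_lit 1) (.leaf (Rule.fwd [nat_lit 84, nat_lit 8, nat_lit 46, nat_lit 65, nat_lit 122, nat_lit 103] 24 5)) (.leaf (Rule.fwd [nat_lit 160, nat_lit 8, nat_lit 160] 16 0)))), (.node (nat_lit 1) (.leaf XRule.defn) (.leaf XRule.defn))⟩
noncomputable def ci27 : CI := ⟨[1], (nat_lit 46), false, (.node (nat_lit 4) (.node (nat_lit 2) (.node (nat_lit 1) (.leaf Rule.defn) (.leaf Rule.copy)) (.node (nat_lit 1) (.leaf (Rule.fwd [nat_lit 46] 26 0)) (.leaf (Rule.fwd [nat_lit 27, nat_lit 84, nat_lit 8, nat_lit 65] 18 2)))) (.node (nat_lit 2) (.node (nat_lit 1) (.leaf (Rule.fwd [nat_lit 179, nat_lit 65, nat_lit 27, nat_lit 84] 20 2)) (.leaf (Rule.fwd [nat_lit 84, nat_lit 27, nat_lit 179, nat_lit 65] 20 0))) (.leaf (Rule.fwd [nat_lit 84, nat_lit 8, nat_lit 65, nat_lit 27] 18 3)))), (.node (nat_lit 1) (.leaf XRule.defn)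 (.leaf XRule.defn))⟩
noncomputable def ci46 : CI := ⟨[2], (nat_lit 27), false, (.node (nat_lit 4) (.node (nat_lit 2) (.node (nat_lit 1) (.leaf Rule.defn) (.leaf Rule.copy)) (.node (nat_lit 1) (.leaf (Rule.fwd [nat_lit 27] 26 0)) (.leaf (Rule.fwd [nat_lit 46, nat_lit 65, nat_lit 8, nat_lit 103] 19 4)))) (.node (nat_lit 2) (.node (nat_lit 1) (.leaf (Rule.fwd [nat_lit 46, nat_lit 8, nat_lit 27, nat_lit 8, nat_lit 103, nat_lit 46] 14 1)) (.leaf (Rule.fwd [nat_lit 65, nat_lit 8, nat_lit 103, nat_lit 46] 19 3))) (.node (nat_lit 1) (.leaf (Rule.fwd [nat_lit 46, nat_lit 46, nat_lit 8, nat_lit 27, nat_lit 8, nat_lit 103] 14 0)) (.leaf (Rule.fwd [nat_lit 65, nat_lit 122, nat_lit 103, nat_lit 8, nat_lit 84, nat_lit 8] 24 1))))), (.node (nat_lit 1) (.leaf XRule.defn) (.leaf XRule.defn))⟩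
noncomputable def ci65 : CI := ⟨[3], (nat_lit 65), true, (.node (nat_lit 8) (.node (nat_lit 4) (.node (nat_lit 2) (.node (nat_lit 1) (.leaf Rule.defn) (.leaf Rule.copy)) (.node (nat_lit 1) (.leaf (Rule.fwd [nat_lit 65] 26 0)) (.leaf (Rule.fwd [nat_lit 46, nat_lit 8, nat_lit 27] 12 3)))) (.node (nat_lit 2) (.node (nat_lit 1) (.leaf (Rule.fwd [nat_lit 8, nat_lit 103, nat_lit 46, nat_lit 46] 19 2)) (.leaf (Rule.fwd [nat_lit 84, nat_lit 84, nat_lit 160, nat_lit 103, nat_lit 103] 6 2))) (.node (nat_lit 1) (.leaf (Rule.fwd [nat_lit 103, nat_lit 122, nat_lit 65, nat_lit 103] 5 2)) (.leaf (Rule.fwd [nat_lit 103, nat_lit 65, nat_lit 103, nat_lit 122] 5 4))))) (.node (nat_lit 2) (.node (nat_lit 1) (.leaf (Rule.fwd [nat_lit 160, nat_lit 65, nat_lit 160] 10 0)) (.leaf (Rule.fwd [nat_lit 27, nat_lit 8, nat_lit 103, nat_lit 8, nat_lit 84, nat_lit 141] 25 3))) (.node (nat_lit 1) (.leaf (Rule.fwd [nat_lit 84, nat_lit 65, nat_lit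 141, nat_lit 84] 4 1)) (.leaf (Rule.fwd [nat_lit 27, nat_lit 27, nat_lit 84, nat_lit 8] 18 1))))), (.node (nat_lit 1) (.leaf XRule.defn) (.leaf XRule.ax))⟩
noncomputable def ci84 : CI := ⟨[4], (nat_lit 103), true, (.node (nat_lit 8) (.node (nat_lit 4) (.node (nat_lit 2) (.node (nat_lit 1) (.leaf Rule.defn) (.leaf Rule.copy)) (.node (nat_lit 1) (.leaf (Rule.fwd [nat_lit 103] 26 0)) (.leaf (Rule.fwd [nat_lit 27, nat_lit 179, nat_lit 65, nat_lit 27] 20 1)))) (.node (nat_lit 2) (.node (nat_lit 1) (.leaf (Rule.fwd [nat_lit 8, nat_lit 65, nat_lit 27, nat_lit 27] 18 4)) (.leaf (Rule.fwd [nat_lit 141, nat_lit 65, nat_lit 27, nat_lit 8, nat_lit 103, nat_lit 8] 25 5))) (.node (nat_lit 1) (.leaf (Rule.fwd [nat_lit 84, nat_lit 84, nat_lit 84] 22 0)) (.leaf (Rule.fwd [nat_lit 122, nat_lit 84, nat_lit 122] 8 0))))) (.leaf (Rule.fwd [nat_lit 65, nat_lit 84, nat_lit 65, nat_lit 141] 4 0))), (.node (nat_lit 1) (.leaf XRule.defn)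 (.leaf XRule.ax))⟩
noncomputable def ci103 : CI := ⟨[5], (nat_lit 84), true, (.node (nat_lit 4) (.node (nat_lit 2) (.node (nat_lit 1) (.leaf Rule.defn) (.leaf Rule.copy)) (.node (nat_lit 1) (.leaf (Rule.fwd [nat_lit 84] 26 0)) (.leaf (Rule.fwd [nat_lit 103, nat_lit 103, nat_lit 103] 23 0)))) (.leaf (Rule.fwd [nat_lit 46, nat_lit 46, nat_lit 65, nat_lit 8] 19 0))), (.node (nat_lit 1) (.leaf XRule.defn) (.leaf XRule.ax))⟩
noncomputable def ci122 : CI := ⟨[6], (nat_lit 141), true, (.node (nat_lit 4) (.node (nat_lit 2) (.node (nat_lit 1) (.leaf Rule.defn) (.leaf Rule.copy)) (.node (nat_lit 1) (.leaf (Rule.fwd [nat_lit 141] 26 0)) (.leaf (Rule.fwd [nat_lit 122, nat_lit 122] 2 0)))) (.node (nat_lit 1) (.leaf (Rule.fwd [nat_lit 103, nat_lit 8, nat_lit 84, nat_lit 8, nat_lit 46, nat_lit 65] 24 3)) (.leaf (Rule.fwd [nat_lit 65, nat_lit 103, nat_lit 65, nat_lit 103] 5 0)))), (.node (nat_lit 1) (.leaf XRule.defn) (.leaf XRule.ax))⟩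
noncomputable def ci141 : CI := ⟨[7], (nat_lit 122), true, (.node (nat_lit 4) (.node (nat_lit 2) (.node (nat_lit 1) (.leaf Rule.defn) (.leaf Rule.copy)) (.node (nat_lit 1) (.leaf (Rule.fwd [nat_lit 122] 26 0)) (.leaf (Rule.fwd [nat_lit 103, nat_lit 141, nat_lit 103] 9 0)))) (.node (nat_lit 2) (.node (nat_lit 1) (.leaf (Rule.fwd [nat_lit 84, nat_lit 65, nat_lit 84, nat_lit 65] 4 4)) (.leaf (Rule.fwd [nat_lit 141, nat_lit 141] 3 0))) (.leaf (Rule.fwd [nat_lit 65, nat_lit 27, nat_lit 8, nat_lit 103, nat_lit 8, nat_lit 84] 25 4)))), (.node (nat_lit 1) (.leaf XRule.defn) (.leaf XRule.ax))⟩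
noncomputable def ci160 : CI := ⟨[8], (nat_lit 160), true, (.node (nat_lit 4) (.node (nat_lit 2) (.node (nat_lit 1) (.leaf Rule.defn) (.leaf Rule.copy)) (.node (nat_lit 1) (.leaf (Rule.fwd [nat_lit 8, nat_lit 160, nat_lit 8] 16 1)) (.leaf (Rule.fwd [nat_lit 65, nat_lit 160, nat_lit 65] 10 1)))) (.node (nat_lit 2) (.node (nat_lit 1) (.leaf (Rule.fwd [nat_lit 179, nat_lit 141] 1 1)) (.leaf (Rule.fwd [nat_lit 160] 26 0))) (.leaf (Rule.fwd [nat_lit 103, nat_lit 103, nat_lit 65, nat_lit 84, nat_lit 84] 6 5)))), (.node (nat_lit 1) (.leaf XRule.defn) (.leaf XRule.ax))⟩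
noncomputable def ci179 : CI := ⟨[9], (nat_lit 179), true, (.node (nat_lit 4) (.node (nat_lit 2) (.node (nat_lit 1) (.leaf Rule.defn) (.leaf Rule.copy)) (.node (nat_lit 1) (.leaf (Rule.fwd [nat_lit 46, nat_lit 103, nat_lit 46, nat_lit 65] 21 4)) (.leaf (Rule.fwd [nat_lit 179] 26 0)))) (.node (nat_lit 2) (.node (nat_lit 1) (.leaf (Rule.fwd [nat_lit 65, nat_lit 27, nat_lit 84, nat_lit 27] 20 3)) (.leaf (Rule.fwd [nat_lit 160, nat_lit 122] 0 2))) (.leaf (Rule.fwd [nat_lit 141, nat_lit 160] 1 0)))), (.node (nat_lit 1) (.leaf XRule.defn) (.leaf XRule.ax))⟩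
noncomputable def outer : Tr CI := (.node (nat_lit 1) (.node (nat_lit 8) (.node (nat_lit 4) (.node (nat_lit 32) (.leaf ci0) (.leaf ci160)) (.leaf ci84)) (.node (nat_lit 2) (.leaf ci8) (.node (nat_lit 4) (.leaf ci122) (.leaf ci46)))) (.node (nat_lit 2) (.node (nat_lit 4) (.leaf ci65) (.leaf ci141)) (.node (nat_lit 4) (.node (nat_lit 8) (.leaf ci179) (.leaf ci27)) (.leaf ci103))))
def cols : List ℕ := [nat_lit 8, nat_lit 27, nat_lit 46, nat_lit 65, nat_lit 84, nat_lit 103, nat_lit 122, nat_lit 141, nat_lit 160, nat_lit 179]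
def invL : List ℕ := [0, 2, 1, 3, 5, 4, 7, 6, 8, 9]
def rels : List (List ℕ) := [[8, 6, 9], [6, 6, 6], [4, 3, 4, 3, 7], [5, 5, 3, 4, 4, 8], [4, 6, 4, 6], [3, 8, 3, 8], [2, 0, 1, 3], [2, 2, 2, 0, 1, 0, 5], [0, 8, 0, 8], [0, 3, 1, 1, 4], [1, 4, 1, 9, 3], [4, 4, 4, 4], [0, 2, 3, 6, 5, 0, 4]]
def subs : List (List ℕ) := [[3], [4], [5], [6], [7], [8], [9]]
noncomputable def row (n : ℕ) : ℕ := rowOf (fun h => rows.get h) (nat_lit 5) (nat_lit 31) (nat_lit 198) (nat_lit 0x3fffffffffffffffffffffffffffffffffffffffffffffffff) n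
noncomputable def xleaf (h : ℕ) : ℕ := recs.get h
noncomputable def mF : ℕ → ℕ := mainRow row (rowChk row xleaf outer (nat_lit 8) (nat_lit 255) (nat_lit 15) (nat_lit 12) (nat_lit 4095) (nat_lit 524287) (nat_lit 128) (nat_lit 15) (nat_lit 256) (nat_lit 8) (nat_lit 255) (nat_lit 16) (nat_lit 65535) (nat_lit 8) (nat_lit 255) cols)
noncomputable def xF : ℕ → ℕ → ℕ := xLeaf row xleaf outer (nat_lit 255) (nat_lit 12) (nat_lit 524287) (nat_lit 128) (nat_lit 15) (nat_lit 8) (nat_lit 255) (nat_lit 16) (nat_lit 65535) (nat_lit 65280) (nat_lit 8) (nat_lit 255) (nat_lit 10) (nat_lit 1023) (nat_lit 2) (nat_lit 3) (nat_lit 179) (nat_lit 3840) (nat_lit 128)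
noncomputable def cert : Cert := ⟨row, xleaf, outer, cols, nat_lit 8, nat_lit 255, nat_lit 15, nat_lit 12, nat_lit 4095, nat_lit 524287, nat_lit 128, nat_lit 15, nat_lit 256, nat_lit 8, nat_lit 255, nat_lit 16, nat_lit 65535, nat_lit 65280, nat_lit 8, nat_lit 255, nat_lit 10, nat_lit 1023, nat_lit 2, nat_lit 3, nat_lit 179, nat_lit 3840, nat_lit 128, nat_lit 19, nat_lit 128, nat_lit 1⟩
theorem tabok : tabOK (fun i => invL.getD i i) rels subs outer cols (nat_lit 8) (nat_lit 179) = true := by decide +kernel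
theorem m0 : rng mF (nat_lit 1) (nat_lit 15) = 0 := by decide +kernel
noncomputable def s0 : List ℕ := [nat_lit 0x401004010040000000000000000000000000000000000000000000000000000000000000000000000000000000000000000000000000000000000000000000000000000000000000000000000000000000000000000000000000000000000000000000000000000000000000000000000000000000000000000000000000000000000000000000000000000000000000000000000000000000000000000000]
theorem x0 : xs xF s0 (nat_lit 1) = 0 := by decide +kernel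
theorem mz0 : AllZ mF 1 (nat_lit 16) := (AllZ.step (AllZ.nil mF 1) (nat_lit 15) (nat_lit 16) rfl m0)
theorem xz0 : XZ xF (nat_lit 1) := (XZ.step (XZ.nil xF) s0 (nat_lit 1) (nat_lit 1) (by decide +kernel) x0)
/-- the certificate (15 points) is valid -/
theorem valid : cert.Valid (fun i => invL.getD i i) rels subs 10 :=
  ⟨by decide +kernel, tabok, by decide +kernel, mz0, xz0⟩
theorem cert_N : cert.N = 15 := rfl

end CL.TC.GPsp62L3
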