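/-
A presentation of Psp62 (generated by tools/pc/gm.py).
-/
import Cfsg.Agent.Known.GPsp62
import Cfsg.Agent.Known.GPsp62L1
import Cfsg.Agent.Known.GPsp62L2
import Cfsg.Agent.Known.GPsp62L3
import Cfsg.Agent.Known.GPsp62L4
import Cfsg.Agent.Known.GPsp62L5
import Cfsg.Agent.Known.GPsp62L6

set_option autoImplicit false
set_option maxRecDepth 100000
set_option linter.all false

namespace CL.Pc.GPsp62
open Cfsg CL.Spor

noncomputable def rs0 : List (ℕ × ℕ) := [(0x492, 0), (0x123d1, 0), (0x451, 0), (0xf3cf, 0), (0x1030d30d, 0), (0x44d34c38e, 0), (0x30c, 0), (0x3cd3cd, 0), (0x44c44c, 0), (0x30a24b, 0), (0xe24a24b2cb, 0), (0x249, 0), (0x449449, 0), (0xd28a309, 0), (0xc48a34a, 0), (0x34d34d, 0), (0xd24e3cc2c9, 0), (0x246186, 0), (0x2c8145205, 0), (0x2c744a145, 0), (0x306192145, 0), (0x12212407, 0), (0x1c71c7, 0), (0x40a40a, 0), (0x3052092c5, 0), (0x183043082, 0), (0x204082083,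 0), (0x40a104104, 0), (0x38b2421100c1, 0), (0x3cc34218c141, 0), (0x1240c2c9202301, 0), (0xf30b2471c2481, 0), (0x124092c6201302, 0), (0xe14714124b041, 0), (0x102c91c2341141, 0), (0x30d28220e181, 0), (0xf3891c124d141, 0), (0x38a1471c104a0c1, 0), (0x81, 0), (0x103, 0), (0x185, 0), (0x207, 0), (0x2ca, 0), (0x38d, 0), (0x40f, 0)]
noncomputable def rs : List (ℕ × ℕ) := (rs0 ++ [])
noncomputable def p1 : PLev := ⟨524286, [1, 2, 3, 4, 5, 6, 7, 8, 9, 10, 11, 12, 13, 14, 15, 16, 17, 18], TC.GPsp62L1.invL, TC.GPsp62L1.rels, TC.GPsp62L1.subs, [5, 6, 7, 8, 9, 10, 11, 12, 13, 14, 15, 16, 17, 18], 63⟩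
noncomputable def p2 : PLev := ⟨524256, [5, 6, 7, 8, 9, 10, 11, 12, 13, 14, 15, 16, 17, 18], TC.GPsp62L2.invL, TC.GPsp62L2.rels, TC.GPsp62L2.subs, [9, 10, 11, 12, 13, 14, 15, 16, 17, 18], 32⟩
noncomputable def p3 : PLev := ⟨523776, [9, 10, 11, 12, 13, 14, 15, 16, 17, 18], TC.GPsp62L3.invL, TC.GPsp62L3.rels, TC.GPsp62L3.subs, [12, 13, 14, 15, 16, 17, 18], 15⟩
noncomputable def p4 : PLev := ⟨520192, [12, 13, 14, 15, 16, 17, 18], TC.GPsp62L4.invL, TC.GPsp62L4.rels, TC.GPsp62L4.subs, [15, 16, 17, 18], 8⟩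
noncomputable def p5 : PLev := ⟨491520, [15, 16, 17, 18], TC.GPsp62L5.invL, TC.GPsp62L5.rels, TC.GPsp62L5.subs, [18], 3⟩
noncomputable def p6 : PLev := ⟨262144, [18], TC.GPsp62L6.invL, TC.GPsp62L6.rels, TC.GPsp62L6.subs, [], 2⟩
theorem rs0_ok : allL (fun p : ℕ × ℕ => eqB A 18 11 [0, 7, 1, 15, 3, 31] p.1 p.2) rs0 = true := by decide +kernel
theorem rs_ok : ∀ p ∈ rs, (fun p : ℕ × ℕ => eqB A 18 11 [0, 7, 1, 15, 3, 31] p.1 p.2) p = true :=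
  allL_app rs0_ok (allL_end)
theorem p1_ok : p1.Valid := ⟨_, TC.GPsp62L1.valid, TC.GPsp62L1.cert_N.le⟩
theorem p2_ok : p2.Valid := ⟨_, TC.GPsp62L2.valid, TC.GPsp62L2.cert_N.le⟩
theorem p3_ok : p3.Valid := ⟨_, TC.GPsp62L3.valid, TC.GPsp62L3.cert_N.le⟩
theorem p4_ok : p4.Valid := ⟨_, TC.GPsp62L4.valid, TC.GPsp62L4.cert_N.le⟩
theorem p5_ok : p5.Valid := ⟨_, TC.GPsp62L5.valid, TC.GPsp62L5.cert_N.le⟩
theorem p6_ok : p6.Valid := ⟨_, TC.GPsp62L6.valid, TC.GPsp62L6.cert_N.le⟩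
universe u
theorem pres : PresBound.{u} rs 18 1451520 :=
  presBound_of (f := 2) (defs := []) (vs := [p1, p2, p3, p4, p5, p6]) (valid_cons p1_ok (valid_cons p2_ok (valid_cons p3_ok (valid_cons p4_ok (valid_cons p5_ok (valid_cons p6_ok (valid_nil))))))) (by decide +kernel)

end CL.Pc.GPsp62
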