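import Cfsg.Agent.Spor.TCSound

/-! coset enumeration certificate generated by tools/tc -/

set_option maxRecDepth 100000
set_option autoImplicit false
set_option linter.all false

namespace CL.TC.GPsu62L3

noncomputable def rows0 : Tr ℕ := (.node (nat_lit 4) (.node (nat_lit 2) (.node (nat_lit 1) (.leaf (nat_lit 0xf831ced182348c73ac63ba4e186b58e36a41b6a048fe102fc18dbf0cf0657d656b833bdd5986e8ccf7465eb4c177e19de998a7e861bf830f7f081422a18855063d983214769ba6c8853224dae31ecd18ce60ce1fc205fa40f8ed0a877e0c39fc204f430cc619be7b84939e4792437d0185e9305138667b0a14027f0813e903b186659c8384d486e5a0432c61afc33b4918c658cbd8b4467098323c819be78caffc204a3302cc1873d983ff8675ac30ad819621a88ccb456659ed3a7f081362c6df8674acf32f8381a65039f8673f4710cdcac1be80c4341c70983357b2077e0ce1fc204a142d52602ea2cc5f86725c9310c4d601678c4928671fc338ff0813f0ce134632fc337c8416bf0cdce348669a4312d5184688cab4d25aa630a53296e8c83b5e264f830b7f081022450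d91866cfc336fe19b3f0cd74dc53a1429fe19abe0c1ffc204fa40b8efa5057e0c29fc203de531fc198fe0cb5f8669b83207e19a2d8cb15c81bb0f6601ff080fe902bcca12de3327e199ea2c2f79a38b832d7e199bf0ccb8bbd864fc3327e198ff0cc5fc203f242b7e1987d9409f8660c091bf931461b8b825d4812e83097f080f90c29f865ffc32f5e192b030ad8062aa6429cdf01966b142fe0c25e47085788f3d0c4bfc203fc32efa20b7f0cb99d0395cf49087e196ff0cb5f8659e2308ff080fd144bf8658fc32bfe195bf0caae37140ffc32a792947f0ca7f8652fc328fe1943e902dfc203d861c4c388cca28c9d1564d823277e193ff0c9d35c3dfc326ff080e82c8538633fc32623ef5037e0c19fc202d43227c191360c41a142ad6812e91827f0c97f864ab0e06017f080be901bb860ad4522fe1927e0c779062cfc3247e191ff0c8d8ba0645fc322fe19134284ffc202fc321d1401e88c333c62ffc3217e19061bd9415b940ada3057f080b7a019f8640fc31fe618abf0c7df863dfc31e4dec18e3f0c77bcc37da3047e18ebe0c6ffc202d4706e8182359c13a86095cde9047e18e772841f8638dc904ff080bf0c6fa4809fc31b7e18d7f0c68e3f8633fc3197e18c7f0c61f862fa0305d218a7f0c5dfc202fc316fe18b0cb68c51f862bea3147e18abf0c53f8628fc313ff080bb8c35f8626fc312a3fc3893f0c4930618fc311fe188bf0c434061bfc3107f0807f0c3ff861e329e30e7e1877f0c39f861bfc30d7e1867f0c31fc201f4309fe185ff0c2c8fe8614fc30afe1853f0c27f8612fc308fe1843f0c1ff860ef83017f08042378c19f860dfc3067e182ff0c15f8609fc3047e181ff0c0dfc201fa4018efc1007e0c03f4401fa300fe1007f0c03fc401fc302fe1813f0c07f860200))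 (.leaf (nat_lit 0xa03186d40fe80c6139833cc41cd118c3f841524c6dba50acb19ee58ca8b9b603fa6a186c190298c65b5243fe1054f18c348cb3a505ebc31fdf58fdc64e47d38653bab294e1952e8ca340652983367f082a2acf3246639ef17a3cec8f62288554a1e9e3344d19d6c3c3d3060ece33c55188be0c79fc20a08ac33bd6195ab110d58611b03177e1a1b0ac593c62f9e33dff082be907a3ba1c2adc31bff082740c51b0a20fa5066e18e71ac8f8c65894338d3414ac29b863b48439ee19ff082730d0740633a3017dd197ad0ce95ca7ad0334cdfd208352041fc208ca3206870ab7a477b46499ee185318cb30c239885cb0dad04ed1927424554c631fe1046418ab50c419c64bba30a50188f58c1f0ded049dc304ef40ef58c87a062bfe1047d2826fb1036c661be528df184dc6739092067698d356b186b28c973067b9e442ff082230c49ec678fa51023df197ee8cbf7d05ebea2d5f7986f8cbd7ca5fb6341e7189be0c69fc2080890d3b4e1a1320c999c674a4323fe1a164d8f752280fc3427f0823e906a3bfc2079c31d52190e78c5334640a45225198ea84c8739e1e9c3264f603b6aa3887f0631fe103d41926a347f48c83a7118d468e6714311467c8c327d852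18ebf840ff4832a4341d428e290c6551845a46365079e290cbd28e1cc5a2e2051510290c7f44620fe103d0a8fe930814065f9c31cd0520e70c930d4ca299c341d040a7f840f41e28a031d4e1912840174083c9c31f4b698e6ec485d44a7dac3165980f2cc4ef65464b230fd419dff840fec8579c321997859fe80cff454269e33fd0820a68d0368681f2308cba1cbe0c59fc207089833ed768ba638fb54661b032ae018f2b20c768e60caa067f081fe905a3bb542bea6147f081b4a46f9d249d8313eb18a28b8e99124ca443ed261aac338c779c638ca324e718e7f840d9c60dcac1c61191b3a4154c653c2a09435218be78c5ff8683fe1035098ce9c80f9c6439c3217e1a0a88c5348e299bdc60376281ba0c573c62fd241dec40aff840d4d273a0627e4199e88c3ab9b2027da913ec189f38c8b9c60bfe1036d40ae610dd68849a67387e1a05c69204d4062da883ffe1a026acf5f867fa922c6848d690ccbf0625fe1030479419fb8c234da17f642b7e19fbc8c21ec811fc33eea1837f840df48261df6302d07063f840b3287b98311c829be70c3b1de36fc33e4e59828308b613a4238a311c6808e6c849fc2059f632d1a9d23a8e12464a96307d178e21a88cf730a71fc33dff0816530f34226aa3239d658f7f0cf550664ac3244dd6191e5bce145a19a242e4831da50c39fc205fc33cc7a93bc8c35dc6735c)))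 (.node (nat_lit 1) (.leaf (nat_lit 0x945304819824b8c165e60b03304a19825bcc1fc213b23164c311668c488f82235e432f5e40d6a8d0db0e5bbc31aff084a9b4c94603092336ca91d973840bd78635e672fde707fb0cadfc212c0e1ae818fef38753201ca6918b8c519e221c9f5ca7894326c519e2538dd15c4fa6326ff08469110546287329d72e48395e50cf964647a0310c831e620caf8467ea232ce518e7f842211e065af832d7f084358cbfb4c69a430bf7399ea0ccd4466ba6b2dd2196ec3cb4b7fc210fa42dd2185ef0c6bc0e59fa60add285278c332866e8e30c62f1604791ccfb5069b873bff084368cd3bc65aa482e6a28fe88ca17068486a2340d6612a9a10344672a7240d3189aa0c959143bfe10859206ee182a652d87c8633e47197248c974161b8b12e4979f3f84211ea6d92921fa18b91ef0c3f5c686ae91e77317bd0c4b3067df0309df184ad8d0ff0655fe1080454490698c835507eb2b1652785ea8cfd79e419833e5491f7f8421f48561dba628f73147f841f28c519e61f481a1e40d0f3065090c42cc3902650f7616865298c294f80fa90ca5fc20f9e30b52185a60c894861fa43095478aa1adb8a77063e96329ff083e9aca72e86da351f551986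82ce74863b94438cddc1953c0c1fd8654bcb1f4919525acd7fc20fbc742541a1bc0c27786375c90b43cb19ae5410f3466d94343ff083e3dcd7406459a82a501a12940b2e31164f8433c43197618c9dfc20e8832ec519d678c512c6418ea194919f21a3141d08a0e94326ff083a24c9f0864288b2146188660ccf1067f94335cdc5c9365949d1060e9233c4b6177f841d2c61e8ed42d4917690d0118e6c719c3356540d270d092866f9c539d18a133ac978c62bc683f7f083a7c4663ba56859ab39e71a1732c6d29c57cc3264a51c63b0f7a0c38f83257f083422ad09545e81aa32c64219a50c8d55e58d233fca208efb425fc20dfa4258efa18df32855b9238cc315d520cb72873fc20cb2313d91a02790616d8835ca7324531922a249185a48c0324558922a0c91fc20cb231057508ab8cc88f5d62190337cd406e9ac696965c9a30ecca9bed0cd18863bf83237f08302250ccd2d8729a5334b392a8accd25682963395c19a711855fc20cfa4238ee9702fe0c89fc20bd230668689e98c6399a839a33951214278c492c660b0d4e227f082fe908bf4a0dd6a06cf48be88c67446659a429d519d68b8c38b4c632a6f19ec18eb60c7fb1437d0d14ff082ff0d0f3c6339ec1748195d7298c3d3601e8631ecc187a2c8dd0c64e86f274f183a79853f0641fe105845319569b8fd51055a0e34cc19f6e8cab54a6298527c819c7f8417f48421d))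 (.leaf (nat_lit 0x9633d4919ea70d055467afe11358219a88ccd68c49a631a5619b29949b0ddc62da63135130b670d054082dd4c257f089a68d0539e6a93135c58939737b8fd50655a4320ff089780ccfe4c62ad02ae2193312cb954c7ea833f4dcdb8b258c594062e9a820cf1a1a68cc336856a632aff08969a8d54462b329432bcb617223caf31a7088342c8195e2b8f3fc2249b32aca693e314648f48c22fe1114619c640cf32c6249031a4d50da83c791864b9632a4c510316639013148294f404c189ab410134672983417f088ab0ccd61469ac31d23c3c1e630cf31d879923114951ee20cf91c65c8831f7f088658d0d18668328c62ed619761bc9f1905d95426cd19a2c2cd13c631d071eff0883e106c3b5dc3cba330dd307ec0c5d6c659fe10fdd199288cc754a2eb693bda19ddc638c691c66a9291b4718865c0e925a73923357f08725ccc72465f92636a3cb19a230cdd2c6689cb1ed881a23449f2866efe10dd19a0e7b8c359c44479c73a4e186a898cb28676d0c1a50188ff84356dc3aa0315cd21d260ce8b934c73a5042cc192e68c993e46aa03114819da78ca548628f0510ff0868225b0e529666943234c3a06950b1318469cf3d4a18b67348bfc219a43310ecb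a1c63b8f72c622fe10c4b986248c971c68493220cd7a0648ca52e23b9ba510dcf186650c433461c9633e7f0863e943336a1e8c311cb720690c4ee32461992b0dc9791e3cc3b2dc4c96323c71893f84312061d95037c919bd1e4c4dd25a688e53ac4190a30c3d2dc759232ec8498a58c4ffc2189722d0ec8b1b7f842d2066c90743ce314230cd9286528c32bc8190240ced29a5fc58e30b4921b63b82d2c66bfe10b4d70fa3d8db1c66ba2318c51936bbd010d1d86b8cd43cc8143f842d31a6c8c3284a1946934b722a6c96a274819fe6e7d8992c6369103b4e19ce6c833296769e3114d19fff842d4462ba433e9953a05f60cb3e8667d832dcf1907f842bb8a59a8d33dd691b4a0755c67a719913acc29d640cdd5c675a0b1ed719e273cf1fc215b6b23c779e6a8d0c8fe0625f6834f119678a0fd7901fec32dff08526c49d4c6699ef0ee548a1725c48d306469233950191b18c954a680ae3405761eaac0b7f0665fe10a0452586a80ce94061aa1142476872a8c3538623a6713523113f8429f48661ddc309fc198ff8427c0c14ec5315e49dec0c5d58617a432fd85922ab44561b5c63fe109fd2193e942bb8615aa316551a1a50ced48a7794317ca20fb1773cc5dce62ec331751993f842750641f033f566a1a38cdd4ca72a630cc3579a1ae0c3f79077bc31ad628b3f84273a87db8f1bd6714a80c893867571))))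 (.leaf (nat_lit 0x11c650923284519ae590a11c66d9322a49b152e28adfc243a032ece1a08cab0cc35463cb0c2b5021f6b1cbf5a063fe11e557946a8cc5590689933cae68192f42c97446738a43e4f1a1270c6dfc2348e32a46193741d0b9c6855c9a31b4f39327ac69420859e332c861c680c99fc234ba328dd3166890a08f91283fe114cf40bf3b0754dc31ca322d118ca80ceb71e35b4324cf18c316739053d4809633d4f18b67ccff34c7a903237f08a6720ff3da87a232ea3d2496290cb14064aa432c4b19cadb85b3a22d98338de18dff844f286701d)))
noncomputable def recs0 : Tr ℕ := (.leaf (nat_lit 0xed00768038a01b000cd8061802e2015c))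
noncomputable def rows : Tr ℕ := rows0
noncomputable def recs : Tr ℕ := recs0
noncomputable def ci0 : CI := ⟨[], (nat_lit 0), false, (.node (nat_lit 1) (.leaf Rule.defn) (.leaf Rule.copy)), (.leaf (XRule.rot (nat_lit 0) [] 42 0))⟩
noncomputable def ci8 : CI := ⟨[0], (nat_lit 29), false, (.node (nat_lit 16) (.node (nat_lit 8) (.node (nat_lit 4) (.node (nat_lit 2) (.node (nat_lit 1) (.leaf Rule.defn) (.leaf Rule.copy)) (.node (nat_lit 1) (.leaf (Rule.fwd [nat_lit 29] 42 0)) (.leaf (Rule.fwd [nat_lit 8, nat_lit 8] 18 0)))) (.node (nat_lit 2) (.node (nat_lit 1) (.leaf (Rule.fwd [nat_lit 50, nat_lit 50, nat_lit 8, nat_lit 92, nat_lit 50] 15 4)) (.leaf (Rule.fwd [nat_lit 92, nat_lit 50, nat_lit 8, nat_lit 50, nat_lit 50] 15 1))) (.node (nat_lit 1) (.leaf (Rule.fwd [nat_lit 92, nat_lit 197, nat_lit 218, nat_lit 50, nat_lit 50, nat_lit 134] 26 0)) (.leaf (Rule.fwd [nat_lit 218, nat_lit 8, nat_lit 50, nat_lit 8,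 nat_lit 155, nat_lit 8, nat_lit 113] 38 6))))) (.node (nat_lit 4) (.node (nat_lit 2) (.node (nat_lit 1) (.leaf (Rule.fwd [nat_lit 134, nat_lit 218, nat_lit 155, nat_lit 29, nat_lit 176, nat_lit 218] 34 0)) (.leaf (Rule.fwd [nat_lit 155, nat_lit 8, nat_lit 113, nat_lit 8, nat_lit 218, nat_lit 8, nat_lit 50] 38 2))) (.node (nat_lit 1) (.leaf (Rule.fwd [nat_lit 50, nat_lit 113, nat_lit 197, nat_lit 50, nat_lit 155, nat_lit 71] 32 0)) (.leaf (Rule.fwd [nat_lit 50, nat_lit 8, nat_lit 92, nat_lit 92, nat_lit 8, nat_lit 113, nat_lit 218] 36 0)))) (.node (nat_lit 2) (.node (nat_lit 1) (.leaf (Rule.fwd [nat_lit 50, nat_lit 8, nat_lit 155, nat_lit 92, nat_lit 71, nat_lit 71, nat_lit 113] 40 0)) (.leaf (Rule.fwd [nat_lit 155, nat_lit 92, nat_lit 71, nat_lit 71, nat_lit 113, nat_lit 8, nat_lit 50] 40 2))) (.node (nat_lit 1) (.leaf (Rule.fwd [nat_lit 113, nat_lit 8, nat_lit 218, nat_lit 8, nat_lit 50, nat_lit 8, nat_lit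 155] 38 4)) (.leaf (Rule.fwd [nat_lit 113, nat_lit 218, nat_lit 8, nat_lit 50, nat_lit 8, nat_lit 92, nat_lit 92] 36 5)))))) (.node (nat_lit 2) (.node (nat_lit 1) (.leaf (Rule.fwd [nat_lit 71, nat_lit 155, nat_lit 71, nat_lit 71, nat_lit 71, nat_lit 8, nat_lit 71] 16 5)) (.leaf (Rule.fwd [nat_lit 71, nat_lit 8, nat_lit 71, nat_lit 155, nat_lit 71, nat_lit 71, nat_lit 71] 16 3))) (.node (nat_lit 1) (.leaf (Rule.fwd [nat_lit 50, nat_lit 8, nat_lit 155, nat_lit 8, nat_lit 113, nat_lit 8, nat_lit 218] 38 0)) (.leaf (Rule.fwd [nat_lit 92, nat_lit 92, nat_lit 8, nat_lit 113, nat_lit 218, nat_lit 8, nat_lit 50] 36 2))))), (.node (nat_lit 1) (.leaf XRule.defn) (.leaf XRule.defn))⟩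
noncomputable def ci29 : CI := ⟨[1], (nat_lit 8), false, (.node (nat_lit 16) (.node (nat_lit 8) (.node (nat_lit 4) (.node (nat_lit 2) (.node (nat_lit 1) (.leaf Rule.defn) (.leaf Rule.copy)) (.node (nat_lit 1) (.leaf (Rule.fwd [nat_lit 8] 42 0)) (.leaf (Rule.fwd [nat_lit 71, nat_lit 113, nat_lit 29, nat_lit 71, nat_lit 71] 14 3)))) (.node (nat_lit 2) (.node (nat_lit 1) (.leaf (Rule.fwd [nat_lit 29, nat_lit 29] 19 0)) (.leaf (Rule.fwd [nat_lit 218, nat_lit 92, nat_lit 29, nat_lit 113, nat_lit 113, nat_lit 29, nat_lit 71] 37 1))) (.node (nat_lit 1) (.leaf (Rule.fwd [nat_lit 92, nat_lit 29, nat_lit 134, nat_lit 29, nat_lit 71, nat_lit 29, nat_lit 218] 39 7)) (.leaf (Rule.fwd [nat_lit 155, nat_lit 71, nat_lit 71, nat_lit 218, nat_lit 176, nat_lit 113] 27 1))))) (.node (nat_lit 4) (.node (nat_lit 2) (.node (nat_lit 1) (.leaf (Rule.fwd [nat_lit 176, nat_lit 218, nat_lit 8, nat_lit 134, nat_lit 218, nat_lit 155]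 34 4)) (.leaf (Rule.fwd [nat_lit 50, nat_lit 29, nat_lit 50, nat_lit 50, nat_lit 50, nat_lit 134, nat_lit 50] 17 6))) (.node (nat_lit 1) (.leaf (Rule.fwd [nat_lit 71, nat_lit 71, nat_lit 29, nat_lit 71, nat_lit 113] 14 0)) (.leaf (Rule.fwd [nat_lit 71, nat_lit 29, nat_lit 92, nat_lit 50, nat_lit 50, nat_lit 113, nat_lit 134] 41 3)))) (.node (nat_lit 2) (.node (nat_lit 1) (.leaf (Rule.fwd [nat_lit 71, nat_lit 29, nat_lit 218, nat_lit 29, nat_lit 92, nat_lit 29, nat_lit 134] 39 3)) (.leaf (Rule.fwd [nat_lit 50, nat_lit 50, nat_lit 50, nat_lit 134, nat_lit 50, nat_lit 29, nat_lit 50] 17 4))) (.node (nat_lit 1) (.leaf (Rule.fwd [nat_lit 50, nat_lit 134, nat_lit 71, nat_lit 176, nat_lit 92, nat_lit 71] 33 1)) (.leaf (Rule.fwd [nat_lit 113, nat_lit 113, nat_lit 29, nat_lit 71, nat_lit 29, nat_lit 218, nat_lit 92] 37 6)))))) (.leaf (Rule.fwd [nat_lit 92, nat_lit 50, nat_lit 50, nat_lit 113, nat_lit 134, nat_lit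 29, nat_lit 71] 41 1))), (.node (nat_lit 1) (.leaf XRule.defn) (.leaf XRule.defn))⟩
noncomputable def ci50 : CI := ⟨[2], (nat_lit 71), false, (.node (nat_lit 16) (.node (nat_lit 8) (.node (nat_lit 4) (.node (nat_lit 2) (.node (nat_lit 1) (.leaf Rule.defn) (.leaf Rule.copy)) (.node (nat_lit 1) (.leaf (Rule.fwd [nat_lit 71] 42 0)) (.leaf (Rule.fwd [nat_lit 8, nat_lit 50, nat_lit 50, nat_lit 8, nat_lit 92] 15 5)))) (.node (nat_lit 2) (.node (nat_lit 1) (.leaf (Rule.fwd [nat_lit 113, nat_lit 134, nat_lit 176, nat_lit 71, nat_lit 218, nat_lit 176] 30 0)) (.leaf (Rule.fwd [nat_lit 134, nat_lit 71, nat_lit 176, nat_lit 92, nat_lit 71, nat_lit 29] 33 0))) (.node (nat_lit 1) (.leaf (Rule.fwd [nat_lit 8, nat_lit 155, nat_lit 92, nat_lit 71, nat_lit 71, nat_lit 113, nat_lit 8] 40 1)) (.leaf (Rule.fwd [nat_lit 134, nat_lit 8, nat_lit 92, nat_lit 197, nat_lit 218, nat_lit 50] 26 5))))) (.node (nat_lit 4) (.node (nat_lit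 2) (.node (nat_lit 1) (.leaf (Rule.fwd [nat_lit 197, nat_lit 155, nat_lit 92, nat_lit 71, nat_lit 197, nat_lit 218] 31 5)) (.leaf (Rule.fwd [nat_lit 113, nat_lit 197, nat_lit 50, nat_lit 155, nat_lit 71, nat_lit 8] 32 1))) (.node (nat_lit 1) (.leaf (Rule.fwd [nat_lit 8, nat_lit 92, nat_lit 50, nat_lit 8, nat_lit 50] 15 2)) (.leaf (Rule.fwd [nat_lit 8, nat_lit 92, nat_lit 92, nat_lit 8, nat_lit 113, nat_lit 218, nat_lit 8] 36 1)))) (.node (nat_lit 2) (.node (nat_lit 1) (.leaf (Rule.fwd [nat_lit 50, nat_lit 8, nat_lit 92, nat_lit 50, nat_lit 8] 15 3)) (.leaf (Rule.fwd [nat_lit 155, nat_lit 71, nat_lit 8, nat_lit 50, nat_lit 113, nat_lit 197] 32 4))) (.node (nat_lit 1) (.leaf (Rule.fwd [nat_lit 29, nat_lit 50, nat_lit 29, nat_lit 50, nat_lit 50, nat_lit 50, nat_lit 134] 17 7)) (.leaf (Rule.fwd [nat_lit 134, nat_lit 50, nat_lit 29, nat_lit 50, nat_lit 29, nat_lit 50, nat_lit 50] 17 1)))))) (.node (nat_lit 4)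 (.node (nat_lit 2) (.node (nat_lit 1) (.leaf (Rule.fwd [nat_lit 29, nat_lit 50, nat_lit 50, nat_lit 50, nat_lit 134, nat_lit 50, nat_lit 29] 17 5)) (.leaf (Rule.fwd [nat_lit 50, nat_lit 113, nat_lit 134, nat_lit 29, nat_lit 71, nat_lit 29, nat_lit 92] 41 7))) (.node (nat_lit 1) (.leaf (Rule.fwd [nat_lit 50, nat_lit 134, nat_lit 50, nat_lit 29, nat_lit 50, nat_lit 29, nat_lit 50] 17 2)) (.leaf (Rule.fwd [nat_lit 113, nat_lit 134, nat_lit 29, nat_lit 71, nat_lit 29, nat_lit 92, nat_lit 50] 41 6)))) (.leaf (Rule.fwd [nat_lit 50, nat_lit 50, nat_lit 134, nat_lit 50, nat_lit 29, nat_lit 50, nat_lit 29] 17 3)))), (.node (nat_lit 1) (.leaf XRule.defn) (.leaf XRule.defn))⟩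
noncomputable def ci71 : CI := ⟨[3], (nat_lit 50), false, (.node (nat_lit 16) (.node (nat_lit 8) (.node (nat_lit 4) (.node (nat_lit 2) (.node (nat_lit 1) (.leaf Rule.defn) (.leaf Rule.copy)) (.node (nat_lit 1) (.leaf (Rule.fwd [nat_lit 50] 42 0)) (.leaf (Rule.fwd [nat_lit 29, nat_lit 71, nat_lit 113, nat_lit 29, nat_lit 71] 14 2)))) (.node (nat_lit 2) (.node (nat_lit 1) (.leaf (Rule.fwd [nat_lit 71, nat_lit 218, nat_lit 176, nat_lit 113, nat_lit 29, nat_lit 155] 27 6)) (.leaf (Rule.fwd [nat_lit 8, nat_lit 50, nat_lit 113, nat_lit 197, nat_lit 50, nat_lit 155] 32 6))) (.node (nat_lit 1) (.leaf (Rule.fwd [nat_lit 71, nat_lit 29, nat_lit 71, nat_lit 113, nat_lit 29] 14 1)) (.leaf (Rule.fwd [nat_lit 29, nat_lit 50, nat_lit 134, nat_lit 71, nat_lit 176, nat_lit 92] 33 2))))) (.node (nat_lit 4) (.node (nat_lit 2) (.node (nat_lit 1) (.leaf (Rule.fwd [nat_lit 8, nat_lit 71, nat_lit 155, nat_lit 71, nat_lit 71, nat_lit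 71, nat_lit 8] 16 4)) (.leaf (Rule.fwd [nat_lit 218, nat_lit 176, nat_lit 113, nat_lit 29, nat_lit 155, nat_lit 71] 27 5))) (.node (nat_lit 1) (.leaf (Rule.fwd [nat_lit 8, nat_lit 71, nat_lit 8, nat_lit 71, nat_lit 155, nat_lit 71, nat_lit 71] 16 2)) (.leaf (Rule.fwd [nat_lit 29, nat_lit 92, nat_lit 50, nat_lit 50, nat_lit 113, nat_lit 134, nat_lit 29] 41 2)))) (.node (nat_lit 2) (.node (nat_lit 1) (.leaf (Rule.fwd [nat_lit 176, nat_lit 92, nat_lit 71, nat_lit 29, nat_lit 50, nat_lit 134] 33 5)) (.leaf (Rule.fwd [nat_lit 71, nat_lit 71, nat_lit 8, nat_lit 71, nat_lit 8, nat_lit 71, nat_lit 155] 16 0))) (.node (nat_lit 1) (.leaf (Rule.fwd [nat_lit 218, nat_lit 176, nat_lit 50, nat_lit 113, nat_lit 134, nat_lit 176] 30 4)) (.leaf (Rule.fwd [nat_lit 71, nat_lit 113, nat_lit 8, nat_lit 50, nat_lit 8, nat_lit 155, nat_lit 92] 40 5)))))) (.node (nat_lit 4) (.node (nat_lit 2) (.node (nat_lit 1) (.leaf (Rule.fwd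 [nat_lit 155, nat_lit 71, nat_lit 71, nat_lit 71, nat_lit 8, nat_lit 71, nat_lit 8] 16 6)) (.leaf (Rule.fwd [nat_lit 29, nat_lit 218, nat_lit 29, nat_lit 92, nat_lit 29, nat_lit 134, nat_lit 29] 39 2))) (.node (nat_lit 1) (.leaf (Rule.fwd [nat_lit 197, nat_lit 218, nat_lit 50, nat_lit 197, nat_lit 155, nat_lit 92] 31 1)) (.leaf (Rule.fwd [nat_lit 71, nat_lit 8, nat_lit 71, nat_lit 8, nat_lit 71, nat_lit 155, nat_lit 71] 16 1)))) (.leaf (Rule.fwd [nat_lit 29, nat_lit 218, nat_lit 92, nat_lit 29, nat_lit 113, nat_lit 113, nat_lit 29] 37 2)))), (.node (nat_lit 1) (.leaf XRule.defn) (.leaf XRule.defn))⟩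
noncomputable def ci92 : CI := ⟨[4], (nat_lit 113), true, (.node (nat_lit 16) (.node (nat_lit 8) (.node (nat_lit 4) (.node (nat_lit 2) (.node (nat_lit 1) (.leaf Rule.defn) (.leaf Rule.copy)) (.node (nat_lit 1) (.leaf (Rule.fwd [nat_lit 113] 42 0)) (.leaf (Rule.fwd [nat_lit 92, nat_lit 8, nat_lit 113, nat_lit 218, nat_lit 8, nat_lit 50, nat_lit 8] 36 3)))) (.node (nat_lit 2) (.node (nat_lit 1) (.leaf (Rule.fwd [nat_lit 92, nat_lit 92, nat_lit 92] 20 0)) (.leaf (Rule.fwd [nat_lit 176, nat_lit 92, nat_lit 176] 22 0))) (.node (nat_lit 1) (.leaf (Rule.fwd [nat_lit 218, nat_lit 113, nat_lit 176, nat_lit 218] 28 0)) (.leaf (Rule.fwd [nat_lit 176, nat_lit 113, nat_lit 218, nat_lit 92] 12 1))))) (.node (nat_lit 4) (.node (nat_lit 2) (.node (nat_lit 1) (.leaf (Rule.fwd [nat_lit 197, nat_lit 113, nat_lit 113, nat_lit 218] 13 4)) (.leaf (Rule.fwd [nat_lit 134, nat_lit 113, nat_lit 134, nat_lit 134, nat_lit 92, nat_lit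 218] 6 0))) (.node (nat_lit 1) (.leaf (Rule.fwd [nat_lit 50, nat_lit 8, nat_lit 50, nat_lit 50, nat_lit 8] 15 0)) (.leaf (Rule.fwd [nat_lit 134, nat_lit 92, nat_lit 134, nat_lit 134, nat_lit 197] 24 0)))) (.node (nat_lit 2) (.node (nat_lit 1) (.leaf (Rule.fwd [nat_lit 155, nat_lit 155, nat_lit 92, nat_lit 155, nat_lit 197] 4 0)) (.leaf (Rule.fwd [nat_lit 8, nat_lit 113, nat_lit 218, nat_lit 8, nat_lit 50, nat_lit 8, nat_lit 92] 36 4))) (.node (nat_lit 1) (.leaf (Rule.fwd [nat_lit 29, nat_lit 134, nat_lit 29, nat_lit 71, nat_lit 29, nat_lit 218, nat_lit 29] 39 6)) (.leaf (Rule.fwd [nat_lit 155, nat_lit 197, nat_lit 92, nat_lit 155, nat_lit 155] 4 3)))))) (.node (nat_lit 4) (.node (nat_lit 2) (.node (nat_lit 1) (.leaf (Rule.fwd [nat_lit 134, nat_lit 134, nat_lit 197, nat_lit 92, nat_lit 134] 24 2)) (.leaf (Rule.fwd [nat_lit 197, nat_lit 218, nat_lit 50, nat_lit 50, nat_lit 134, nat_lit 8] 26 1))) (.node (nat_lit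 1) (.leaf (Rule.fwd [nat_lit 218, nat_lit 113, nat_lit 218, nat_lit 197] 29 3)) (.leaf (Rule.fwd [nat_lit 50, nat_lit 50, nat_lit 113, nat_lit 134, nat_lit 29, nat_lit 71, nat_lit 29] 41 0)))) (.node (nat_lit 2) (.node (nat_lit 1) (.leaf (Rule.fwd [nat_lit 71, nat_lit 71, nat_lit 113, nat_lit 8, nat_lit 50, nat_lit 8, nat_lit 155] 40 4)) (.leaf (Rule.fwd [nat_lit 218, nat_lit 92, nat_lit 134, nat_lit 113, nat_lit 134, nat_lit 134] 6 5))) (.leaf (Rule.fwd [nat_lit 155, nat_lit 113, nat_lit 218, nat_lit 113, nat_lit 155, nat_lit 155] 7 3))))), (.node (nat_lit 1) (.leaf XRule.defn) (.leaf XRule.ax))⟩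
noncomputable def ci113 : CI := ⟨[5], (nat_lit 92), true, (.node (nat_lit 16) (.node (nat_lit 8) (.node (nat_lit 4) (.node (nat_lit 2) (.node (nat_lit 1) (.leaf Rule.defn) (.leaf Rule.copy)) (.node (nat_lit 1) (.leaf (Rule.fwd [nat_lit 92] 42 0)) (.leaf (Rule.fwd [nat_lit 134, nat_lit 29, nat_lit 71, nat_lit 29, nat_lit 92, nat_lit 50, nat_lit 50] 41 5)))) (.node (nat_lit 2) (.node (nat_lit 1) (.leaf (Rule.fwd [nat_lit 197, nat_lit 113, nat_lit 197] 23 1)) (.leaf (Rule.fwd [nat_lit 134, nat_lit 134, nat_lit 92, nat_lit 218, nat_lit 92, nat_lit 134] 6 2))) (.node (nat_lit 1) (.leaf (Rule.fwd [nat_lit 218, nat_lit 92, nat_lit 92, nat_lit 176] 12 3)) (.leaf (Rule.fwd [nat_lit 218, nat_lit 197, nat_lit 92, nat_lit 218] 29 1))))) (.node (nat_lit 4) (.node (nat_lit 2) (.node (nat_lit 1) (.leaf (Rule.fwd [nat_lit 113, nat_lit 218, nat_lit 92, nat_lit 197] 13 2)) (.leaf (Rule.fwd [nat_lit 113, nat_lit 113, nat_lit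 113] 21 0))) (.node (nat_lit 1) (.leaf (Rule.fwd [nat_lit 134, nat_lit 134, nat_lit 113, nat_lit 176, nat_lit 134] 5 4)) (.leaf (Rule.fwd [nat_lit 29, nat_lit 71, nat_lit 29, nat_lit 218, nat_lit 92, nat_lit 29, nat_lit 113] 37 4)))) (.node (nat_lit 2) (.node (nat_lit 1) (.leaf (Rule.fwd [nat_lit 155, nat_lit 113, nat_lit 176, nat_lit 155, nat_lit 155] 25 3)) (.leaf (Rule.fwd [nat_lit 8, nat_lit 50, nat_lit 8, nat_lit 155, nat_lit 92, nat_lit 71, nat_lit 71] 40 7))) (.node (nat_lit 1) (.leaf (Rule.fwd [nat_lit 8, nat_lit 218, nat_lit 8, nat_lit 50, nat_lit 8, nat_lit 155, nat_lit 8] 38 5)) (.leaf (Rule.fwd [nat_lit 176, nat_lit 218, nat_lit 92, nat_lit 218] 28 2)))))) (.node (nat_lit 4) (.node (nat_lit 2) (.node (nat_lit 1) (.leaf (Rule.fwd [nat_lit 29, nat_lit 71, nat_lit 71, nat_lit 29, nat_lit 71] 14 5)) (.leaf (Rule.fwd [nat_lit 176, nat_lit 134, nat_lit 113, nat_lit 134, nat_lit 134] 5 1))) (.node (nat_lit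 1) (.leaf (Rule.fwd [nat_lit 113, nat_lit 29, nat_lit 71, nat_lit 29, nat_lit 218, nat_lit 92, nat_lit 29] 37 5)) (.leaf (Rule.fwd [nat_lit 197, nat_lit 50, nat_lit 155, nat_lit 71, nat_lit 8, nat_lit 50] 32 2)))) (.node (nat_lit 1) (.leaf (Rule.fwd [nat_lit 134, nat_lit 176, nat_lit 71, nat_lit 218, nat_lit 176, nat_lit 50] 30 1)) (.leaf (Rule.fwd [nat_lit 176, nat_lit 155, nat_lit 155, nat_lit 113, nat_lit 155] 25 1))))), (.node (nat_lit 1) (.leaf XRule.defn) (.leaf XRule.ax))⟩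
noncomputable def ci134 : CI := ⟨[6], (nat_lit 155), true, (.node (nat_lit 16) (.node (nat_lit 8) (.node (nat_lit 4) (.node (nat_lit 2) (.node (nat_lit 1) (.leaf Rule.defn) (.leaf Rule.copy)) (.node (nat_lit 1) (.leaf (Rule.fwd [nat_lit 155] 42 0)) (.leaf (Rule.fwd [nat_lit 176, nat_lit 71, nat_lit 218, nat_lit 176, nat_lit 50, nat_lit 113] 30 2)))) (.node (nat_lit 2) (.node (nat_lit 1) (.leaf (Rule.fwd [nat_lit 197, nat_lit 134, nat_lit 197] 8 0)) (.leaf (Rule.fwd [nat_lit 113, nat_lit 134, nat_lit 134, nat_lit 113, nat_lit 176] 5 5))) (.node (nat_lit 1) (.leaf (Rule.fwd [nat_lit 134, nat_lit 92, nat_lit 218, nat_lit 92, nat_lit 134, nat_lit 113] 6 3)) (.leaf (Rule.fwd [nat_lit 218, nat_lit 134, nat_lit 218] 10 0))))) (.node (nat_lit 4) (.node (nat_lit 2) (.node (nat_lit 1) (.leaf (Rule.fwd [nat_lit 92, nat_lit 134, nat_lit 134, nat_lit 197, nat_lit 92] 24 1)) (.leaf (Rule.fwd [nat_lit 197, nat_lit 92,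 nat_lit 134, nat_lit 92, nat_lit 134] 24 4))) (.node (nat_lit 1) (.leaf (Rule.fwd [nat_lit 8, nat_lit 92, nat_lit 197, nat_lit 218, nat_lit 50, nat_lit 50] 26 6)) (.leaf (Rule.fwd [nat_lit 29, nat_lit 71, nat_lit 29, nat_lit 92, nat_lit 50, nat_lit 50, nat_lit 113] 41 4)))) (.node (nat_lit 2) (.node (nat_lit 1) (.leaf (Rule.fwd [nat_lit 113, nat_lit 176, nat_lit 134, nat_lit 113, nat_lit 134] 5 2)) (.leaf (Rule.fwd [nat_lit 134, nat_lit 197, nat_lit 92, nat_lit 134, nat_lit 92] 24 3))) (.node (nat_lit 1) (.leaf (Rule.fwd [nat_lit 113, nat_lit 134, nat_lit 134, nat_lit 92, nat_lit 218, nat_lit 92] 6 1)) (.leaf (Rule.fwd [nat_lit 71, nat_lit 176, nat_lit 92, nat_lit 71, nat_lit 29, nat_lit 50] 33 6)))))) (.node (nat_lit 2) (.node (nat_lit 1) (.leaf (Rule.fwd [nat_lit 134, nat_lit 113, nat_lit 176, nat_lit 134, nat_lit 113] 5 3)) (.leaf (Rule.fwd [nat_lit 50, nat_lit 29, nat_lit 50, nat_lit 29, nat_lit 50,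 nat_lit 50, nat_lit 50] 17 0))) (.node (nat_lit 1) (.leaf (Rule.fwd [nat_lit 92, nat_lit 218, nat_lit 92, nat_lit 134, nat_lit 113, nat_lit 134] 6 4)) (.leaf (Rule.fwd [nat_lit 29, nat_lit 71, nat_lit 29, nat_lit 218, nat_lit 29, nat_lit 92, nat_lit 29] 39 4))))), (.node (nat_lit 1) (.leaf XRule.defn) (.leaf XRule.ax))⟩
noncomputable def ci155 : CI := ⟨[7], (nat_lit 134), true, (.node (nat_lit 16) (.node (nat_lit 8) (.node (nat_lit 4) (.node (nat_lit 2) (.node (nat_lit 1) (.leaf Rule.defn) (.leaf Rule.copy)) (.node (nat_lit 1) (.leaf (Rule.fwd [nat_lit 134] 42 0)) (.leaf (Rule.fwd [nat_lit 8, nat_lit 113, nat_lit 8, nat_lit 218, nat_lit 8, nat_lit 50, nat_lit 8] 38 3)))) (.node (nat_lit 2) (.node (nat_lit 1) (.leaf (Rule.fwd [nat_lit 176, nat_lit 155, nat_lit 176] 9 1)) (.leaf (Rule.fwd [nat_lit 113, nat_lit 155, nat_lit 113, nat_lit 176, nat_lit 155] 25 4))) (.node (nat_lit 1) (.leaf (Rule.fwd [nat_lit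 113, nat_lit 176, nat_lit 155, nat_lit 155, nat_lit 113] 25 2)) (.leaf (Rule.fwd [nat_lit 155, nat_lit 92, nat_lit 155, nat_lit 197, nat_lit 92] 4 1))))) (.node (nat_lit 4) (.node (nat_lit 2) (.node (nat_lit 1) (.leaf (Rule.fwd [nat_lit 92, nat_lit 71, nat_lit 197, nat_lit 218, nat_lit 50, nat_lit 197] 31 3)) (.leaf (Rule.fwd [nat_lit 197, nat_lit 92, nat_lit 155, nat_lit 155, nat_lit 92] 4 4))) (.node (nat_lit 1) (.leaf (Rule.fwd [nat_lit 71, nat_lit 71, nat_lit 218, nat_lit 176, nat_lit 113, nat_lit 29] 27 0)) (.leaf (Rule.fwd [nat_lit 155, nat_lit 113, nat_lit 155, nat_lit 113, nat_lit 176] 25 5)))) (.node (nat_lit 2) (.node (nat_lit 1) (.leaf (Rule.fwd [nat_lit 71, nat_lit 8, nat_lit 50, nat_lit 113, nat_lit 197, nat_lit 50] 32 5)) (.leaf (Rule.fwd [nat_lit 218, nat_lit 155, nat_lit 218] 11 1))) (.node (nat_lit 1) (.leaf (Rule.fwd [nat_lit 71, nat_lit 71, nat_lit 71, nat_lit 8, nat_lit 71, nat_lit 8,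 nat_lit 71] 16 7)) (.leaf (Rule.fwd [nat_lit 92, nat_lit 71, nat_lit 71, nat_lit 113, nat_lit 8, nat_lit 50, nat_lit 8] 40 3)))))) (.node (nat_lit 2) (.node (nat_lit 1) (.leaf (Rule.fwd [nat_lit 29, nat_lit 176, nat_lit 218, nat_lit 8, nat_lit 134, nat_lit 218] 34 3)) (.leaf (Rule.fwd [nat_lit 92, nat_lit 155, nat_lit 113, nat_lit 218, nat_lit 113, nat_lit 155] 7 4))) (.node (nat_lit 1) (.leaf (Rule.fwd [nat_lit 155, nat_lit 92, nat_lit 155, nat_lit 113, nat_lit 218, nat_lit 113] 7 5)) (.leaf (Rule.fwd [nat_lit 92, nat_lit 155, nat_lit 197, nat_lit 92, nat_lit 155] 4 2))))), (.node (nat_lit 1) (.leaf XRule.defn) (.leaf XRule.ax))⟩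
noncomputable def ci176 : CI := ⟨[8], (nat_lit 197), true, (.node (nat_lit 8) (.node (nat_lit 4) (.node (nat_lit 2) (.node (nat_lit 1) (.leaf Rule.defn) (.leaf Rule.copy)) (.node (nat_lit 1) (.leaf (Rule.fwd [nat_lit 197] 42 0)) (.leaf (Rule.fwd [nat_lit 176, nat_lit 176] 0 0)))) (.node (nat_lit 2) (.node (nat_lit 1) (.leaf (Rule.fwd [nat_lit 92, nat_lit 71, nat_lit 29, nat_lit 50, nat_lit 134, nat_lit 71] 33 4)) (.leaf (Rule.fwd [nat_lit 218, nat_lit 92, nat_lit 218, nat_lit 113] 28 3))) (.node (nat_lit 1) (.leaf (Rule.fwd [nat_lit 92, nat_lit 176, nat_lit 92] 22 1)) (.leaf (Rule.fwd [nat_lit 113, nat_lit 218, nat_lit 92, nat_lit 92] 12 2))))) (.node (nat_lit 4) (.node (nat_lit 2) (.node (nat_lit 1) (.leaf (Rule.fwd [nat_lit 134, nat_lit 113, nat_lit 134, nat_lit 134, nat_lit 113] 5 0)) (.leaf (Rule.fwd [nat_lit 218, nat_lit 176, nat_lit 218] 2 0))) (.node (nat_lit 1) (.leaf (Rule.fwd [nat_lit 155, nat_lit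 176, nat_lit 155] 9 0)) (.leaf (Rule.fwd [nat_lit 155, nat_lit 155, nat_lit 113, nat_lit 155, nat_lit 113] 25 0)))) (.node (nat_lit 2) (.node (nat_lit 1) (.leaf (Rule.fwd [nat_lit 50, nat_lit 113, nat_lit 134, nat_lit 176, nat_lit 71, nat_lit 218] 30 6)) (.leaf (Rule.fwd [nat_lit 218, nat_lit 8, nat_lit 134, nat_lit 218, nat_lit 155, nat_lit 29] 34 5))) (.node (nat_lit 1) (.leaf (Rule.fwd [nat_lit 113, nat_lit 29, nat_lit 155, nat_lit 71, nat_lit 71, nat_lit 218] 27 3)) (.leaf (Rule.fwd [nat_lit 71, nat_lit 218, nat_lit 176, nat_lit 50, nat_lit 113, nat_lit 134] 30 3)))))), (.node (nat_lit 1) (.leaf XRule.defn) (.leaf XRule.ax))⟩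
noncomputable def ci197 : CI := ⟨[9], (nat_lit 176), true, (.node (nat_lit 8) (.node (nat_lit 4) (.node (nat_lit 2) (.node (nat_lit 1) (.leaf Rule.defn) (.leaf Rule.copy)) (.node (nat_lit 1) (.leaf (Rule.fwd [nat_lit 176] 42 0)) (.leaf (Rule.fwd [nat_lit 92, nat_lit 134, nat_lit 92, nat_lit 134, nat_lit 134] 24 5)))) (.node (nat_lit 2) (.node (nat_lit 1) (.leaf (Rule.fwd [nat_lit 50, nat_lit 155, nat_lit 71, nat_lit 8, nat_lit 50, nat_lit 113] 32 3)) (.leaf (Rule.fwd [nat_lit 197, nat_lit 197] 1 0))) (.node (nat_lit 1) (.leaf (Rule.fwd [nat_lit 92, nat_lit 155, nat_lit 155, nat_lit 92, nat_lit 155] 4 5)) (.leaf (Rule.fwd [nat_lit 113, nat_lit 197, nat_lit 113] 23 0))))) (.node (nat_lit 4) (.node (nat_lit 2) (.node (nat_lit 1) (.leaf (Rule.fwd [nat_lit 113, nat_lit 113, nat_lit 218, nat_lit 92] 13 3)) (.leaf (Rule.fwd [nat_lit 134, nat_lit 197, nat_lit 134] 8 1))) (.node (nat_lit 1) (.leaf (Rule.fwd [nat_lit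 8, nat_lit 134, nat_lit 218, nat_lit 155, nat_lit 29, nat_lit 218] 35 6)) (.leaf (Rule.fwd [nat_lit 155, nat_lit 92, nat_lit 71, nat_lit 197, nat_lit 218, nat_lit 50] 31 4)))) (.node (nat_lit 2) (.node (nat_lit 1) (.leaf (Rule.fwd [nat_lit 218, nat_lit 50, nat_lit 50, nat_lit 134, nat_lit 8, nat_lit 92] 26 2)) (.leaf (Rule.fwd [nat_lit 92, nat_lit 218, nat_lit 113, nat_lit 218] 29 4))) (.node (nat_lit 1) (.leaf (Rule.fwd [nat_lit 218, nat_lit 197, nat_lit 218] 3 1)) (.leaf (Rule.fwd [nat_lit 218, nat_lit 50, nat_lit 197, nat_lit 155, nat_lit 92, nat_lit 71] 31 0)))))), (.node (nat_lit 1) (.leaf XRule.defn) (.leaf XRule.ax))⟩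
noncomputable def ci218 : CI := ⟨[10], (nat_lit 218), true, (.node (nat_lit 16) (.node (nat_lit 8) (.node (nat_lit 4) (.node (nat_lit 2) (.node (nat_lit 1) (.leaf Rule.defn) (.leaf Rule.copy)) (.node (nat_lit 1) (.leaf (Rule.fwd [nat_lit 218] 42 0)) (.leaf (Rule.fwd [nat_lit 50, nat_lit 50, nat_lit 134, nat_lit 8, nat_lit 92, nat_lit 197] 26 3)))) (.node (nat_lit 2) (.node (nat_lit 1) (.leaf (Rule.fwd [nat_lit 155, nat_lit 29, nat_lit 176, nat_lit 218, nat_lit 8, nat_lit 134] 34 2)) (.leaf (Rule.fwd [nat_lit 8, nat_lit 134, nat_lit 218, nat_lit 155, nat_lit 29, nat_lit 176] 34 6))) (.node (nat_lit 1) (.leaf (Rule.fwd [nat_lit 176, nat_lit 50, nat_lit 113, nat_lit 134, nat_lit 176, nat_lit 71] 30 5)) (.leaf (Rule.fwd [nat_lit 92, nat_lit 197, nat_lit 113, nat_lit 113] 13 0))))) (.node (nat_lit 4) (.node (nat_lit 2) (.node (nat_lit 1) (.leaf (Rule.fwd [nat_lit 113, nat_lit 176, nat_lit 218, nat_lit 92] 28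 1)) (.leaf (Rule.fwd [nat_lit 197, nat_lit 218, nat_lit 197] 3 0))) (.node (nat_lit 1) (.leaf (Rule.fwd [nat_lit 92, nat_lit 29, nat_lit 113, nat_lit 113, nat_lit 29, nat_lit 71, nat_lit 29] 37 0)) (.leaf (Rule.fwd [nat_lit 155, nat_lit 218, nat_lit 155] 11 0)))) (.node (nat_lit 2) (.node (nat_lit 1) (.leaf (Rule.fwd [nat_lit 176, nat_lit 218, nat_lit 176] 2 1)) (.leaf (Rule.fwd [nat_lit 134, nat_lit 218, nat_lit 134] 10 1))) (.node (nat_lit 1) (.leaf (Rule.fwd [nat_lit 92, nat_lit 218, nat_lit 113, nat_lit 176] 28 4)) (.leaf (Rule.fwd [nat_lit 113, nat_lit 218, nat_lit 197, nat_lit 92] 29 2)))))) (.node (nat_lit 8) (.node (nat_lit 4) (.node (nat_lit 2) (.node (nat_lit 1) (.leaf (Rule.fwd [nat_lit 8, nat_lit 50, nat_lit 8, nat_lit 92, nat_lit 92, nat_lit 8, nat_lit 113] 36 7)) (.leaf (Rule.fwd [nat_lit 92, nat_lit 92, nat_lit 176, nat_lit 113] 12 4))) (.node (nat_lit 1) (.leaf (Rule.fwd [nat_lit 92, nat_lit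 134, nat_lit 113, nat_lit 134, nat_lit 134, nat_lit 92] 6 6)) (.leaf (Rule.fwd [nat_lit 50, nat_lit 197, nat_lit 155, nat_lit 92, nat_lit 71, nat_lit 197] 31 6)))) (.node (nat_lit 2) (.node (nat_lit 1) (.leaf (Rule.fwd [nat_lit 176, nat_lit 113, nat_lit 29, nat_lit 155, nat_lit 71, nat_lit 71] 27 4)) (.leaf (Rule.fwd [nat_lit 197, nat_lit 8, nat_lit 134, nat_lit 218, nat_lit 155, nat_lit 29] 35 0))) (.node (nat_lit 1) (.leaf (Rule.fwd [nat_lit 29, nat_lit 92, nat_lit 29, nat_lit 134, nat_lit 29, nat_lit 71, nat_lit 29] 39 0)) (.leaf (Rule.fwd [nat_lit 113, nat_lit 155, nat_lit 155, nat_lit 92, nat_lit 155, nat_lit 113] 7 0))))) (.leaf (Rule.fwd [nat_lit 8, nat_lit 50, nat_lit 8, nat_lit 155, nat_lit 8, nat_lit 113, nat_lit 8] 38 7)))), (.node (nat_lit 1) (.leaf XRule.defn) (.leaf XRule.ax))⟩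
noncomputable def outer : Tr CI := (.node (nat_lit 1) (.node (nat_lit 2) (.node (nat_lit 8) (.node (nat_lit 16) (.leaf ci0) (.leaf ci176)) (.node (nat_lit 4) (.leaf ci8) (.leaf ci92))) (.node (nat_lit 4) (.node (nat_lit 8) (.leaf ci50) (.leaf ci218)) (.leaf ci134))) (.node (nat_lit 2) (.node (nat_lit 4) (.leaf ci113) (.node (nat_lit 8) (.leaf ci197) (.leaf ci29))) (.node (nat_lit 4) (.leaf ci155) (.leaf ci71))))
def cols : List ℕ := [nat_lit 8, nat_lit 29, nat_lit 50, nat_lit 71, nat_lit 92, nat_lit 113, nat_lit 134, nat_lit 155, nat_lit 176, nat_lit 197, nat_lit 218]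
def invL : List ℕ := [1, 0, 3, 2, 5, 4, 7, 6, 9, 8, 10]
def rels : List (List ℕ) := [[8, 8, 8], [8, 10, 8, 10], [4, 7, 7, 4, 7, 9], [4, 6, 5, 6, 6, 4, 10], [6, 9, 6, 9], [6, 10, 6, 10], [4, 4, 8, 5, 10], [1, 3, 3, 1, 3, 5], [3, 3, 3, 0, 3, 0, 3, 7], [0, 0, 0], [4, 4, 4, 4], [4, 8, 4, 8], [4, 6, 4, 6, 6, 9], [0, 4, 9, 10, 2, 2, 6], [4, 10, 5, 8, 10], [2, 5, 6, 8, 3, 10, 8], [0, 2, 5, 9, 2, 7, 3], [0, 6, 10, 7, 1, 8, 10], [0, 2, 0, 4, 4, 0, 5, 10], [0, 2, 0, 7, 0, 5, 0, 10], [0, 2, 0, 7, 4, 3, 3, 5]]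
def subs : List (List ℕ) := [[4], [5], [6], [7], [8], [9], [10]]
noncomputable def row (n : ℕ) : ℕ := rowOf (fun h => rows.get h) (nat_lit 5) (nat_lit 31) (nat_lit 239) (nat_lit 0x7fffffffffffffffffffffffffffffffffffffffffffffffffffffffffff) n
noncomputable def xleaf (h : ℕ) : ℕ := recs.get h
noncomputable def mF : ℕ → ℕ := mainRow row (rowChk row xleaf outer (nat_lit 9) (nat_lit 511) (nat_lit 31) (nat_lit 14) (nat_lit 16383) (nat_lit 2097151) (nat_lit 128) (nat_lit 135) (nat_lit 256) (nat_lit 8) (nat_lit 255) (nat_lit 17) (nat_lit 131071) (nat_lit 8) (nat_lit 255) cols)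
noncomputable def xF : ℕ → ℕ → ℕ := xLeaf row xleaf outer (nat_lit 511) (nat_lit 14) (nat_lit 2097151) (nat_lit 128) (nat_lit 135) (nat_lit 8) (nat_lit 255) (nat_lit 17) (nat_lit 131071) (nat_lit 130816) (nat_lit 8) (nat_lit 255) (nat_lit 10) (nat_lit 1023) (nat_lit 2) (nat_lit 3) (nat_lit 218) (nat_lit 34560) (nat_lit 128)
noncomputable def cert : Cert := ⟨row, xleaf, outer, cols, nat_lit 9, nat_lit 511, nat_lit 31, nat_lit 14, nat_lit 16383, nat_lit 2097151, nat_lit 128, nat_lit 135, nat_lit 256, nat_lit 8, nat_lit 255, nat_lit 17, nat_lit 131071, nat_lit 130816, nat_lit 8, nat_lit 255, nat_lit 10, nat_lit 1023, nat_lit 2, nat_lit 3, nat_lit 218, nat_lit 34560, nat_lit 128, nat_lit 21, nat_lit 128, nat_lit 1⟩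
theorem tabok : tabOK (fun i => invL.getD i i) rels subs outer cols (nat_lit 8) (nat_lit 218) = true := by decide +kernel
theorem m0 : rng mF (nat_lit 1) (nat_lit 135) = 0 := by decide +kernel
noncomputable def s0 : List ℕ := [nat_lit 0x401004010000000000000000000000000000000000000000000000000000000000000000000000000000000000000000000000000000000000000000000000000000000000000000000000000000000000000000000000000000000000000000000000000000000000000000000000000000000000000000000000000000000000000000000000000000000000000000000000000000000000000000000000]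
theorem x0 : xs xF s0 (nat_lit 1) = 0 := by decide +kernel
theorem mz0 : AllZ mF 1 (nat_lit 136) := (AllZ.step (AllZ.nil mF 1) (nat_lit 135) (nat_lit 136) rfl m0)
theorem xz0 : XZ xF (nat_lit 1) := (XZ.step (XZ.nil xF) s0 (nat_lit 1) (nat_lit 1) (by decide +kernel) x0)
/-- the certificate (135 points) is valid -/
theorem valid : cert.Valid (fun i => invL.getD i i) rels subs 11 :=
  ⟨by decide +kernel, tabok, by decide +kernel, mz0, xz0⟩
theorem cert_N : cert.N = 135 := rfl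

end CL.TC.GPsu62L3
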