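import Cfsg.Agent.Spor.TCSound

/-! coset enumeration certificate generated by tools/tc -/

set_option maxRecDepth 100000
set_option autoImplicit false
set_option linter.all false

namespace CL.TC.GPsu62L4

noncomputable def rows0 : Tr ℕ := (.leaf (nat_lit 0xd4837b10738b8dec319fe229ae06f898f1779514e2631d1053f8896f31bec62ddcc6907830f6f41edc63dfc4378188f2620dca3883c5443f8866c319e8a2ff543f798ced31367dea39bd06f59906f315fe219b4c7b7a0d976b620e0641b8c73828fff10bdc639a8c80bbb98d71311e261bc543b8b077851ffe21411be42f6b8eed30cfe213b6083d2077081d41ec631d1453920ff2316e462fdd437f8840473416e6625d50239b0c7331dfe211ccc346fa38bff107ee615c4c439b0c7530aeea3ecfd90338a087030bfe20fc10739387f661041f083fccc7f998c7e320fa815d544bf8838479409e061fdcc277185ff106dd03bbcc38bbca057b308e8c2ffc41bf18ff7311e862883e90379286f241ae2e3dfc4179183f84122ee083bd542f818af030fe482dd4c57f882846f50fde613c5c4fe18ef1710fe20bc4c546fd3877f104f6c0bc0c6b818d70813f2632cfed447928d71311fe209f8c7ba20bf631841eec2bb9c67f18efe31cf8611c0c27f882046e419e2a2bd0c43f18def613fe209c0c246fd30978616f060ff0c53f881fe31aece2c5de944fc209f060ffe207f8c678a05f180c41ee80fd0c5fe2897d40cfe205f8c63f18b9778508f2815f8c5bf8817e315fc629cd84507da01f9603fa805f8c4ff1897f102f660637f1013d1877c304fc623fc407f1887e30f2efaa0bf5017f1877f101fc61bf8c33f185a0fc306f4a05e0c1bf1857e309f880dfc40423cc017c306f2607f8c23f183ff101fc60c37f8807f180ff201fc60bf8c13f181fe30200))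
noncomputable def recs0 : Tr ℕ := (.leaf (nat_lit 0x17a017a01670154))
noncomputable def rows : Tr ℕ := rows0
noncomputable def recs : Tr ℕ := recs0
noncomputable def ci0 : CI := ⟨[], (nat_lit 0), false, (.node (nat_lit 1) (.leaf Rule.defn) (.leaf Rule.copy)), (.leaf (XRule.rot (nat_lit 0) [] 14 0))⟩
noncomputable def ci8 : CI := ⟨[0], (nat_lit 27), false, (.node (nat_lit 4) (.node (nat_lit 2) (.node (nat_lit 1) (.leaf Rule.defn) (.leaf Rule.copy)) (.node (nat_lit 1) (.leaf (Rule.fwd [nat_lit 27] 14 0)) (.leaf (Rule.fwd [nat_lit 65, nat_lit 103, nat_lit 8, nat_lit 65, nat_lit 65] 4 3)))) (.node (nat_lit 2) (.node (nat_lit 1) (.leaf (Rule.fwd [nat_lit 65, nat_lit 65, nat_lit 8, nat_lit 65, nat_lit 103] 4 0)) (.leaf (Rule.fwd [nat_lit 8, nat_lit 84, nat_lit 27, nat_lit 122] 12 0))) (.node (nat_lit 1) (.leaf (Rule.fwd [nat_lit 84, nat_lit 27, nat_lit 122, nat_lit 8] 12 1)) (.leaf (Rule.fwd [nat_lit 122, nat_lit 8, nat_lit 46,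 nat_lit 27, nat_lit 46, nat_lit 46] 6 5))))), (.node (nat_lit 1) (.leaf XRule.defn) (.leaf XRule.defn))⟩
noncomputable def ci27 : CI := ⟨[1], (nat_lit 8), false, (.node (nat_lit 4) (.node (nat_lit 2) (.node (nat_lit 1) (.leaf Rule.defn) (.leaf Rule.copy)) (.node (nat_lit 1) (.leaf (Rule.fwd [nat_lit 8] 14 0)) (.leaf (Rule.fwd [nat_lit 84, nat_lit 46, nat_lit 27, nat_lit 46, nat_lit 46] 5 1)))) (.node (nat_lit 2) (.node (nat_lit 1) (.leaf (Rule.fwd [nat_lit 122, nat_lit 8, nat_lit 103, nat_lit 27] 13 1)) (.leaf (Rule.fwd [nat_lit 46, nat_lit 46, nat_lit 8, nat_lit 122, nat_lit 8, nat_lit 46] 6 2))) (.node (nat_lit 1) (.leaf (Rule.fwd [nat_lit 65, nat_lit 65, nat_lit 8, nat_lit 65, nat_lit 27, nat_lit 122] 7 6)) (.leaf (Rule.fwd [nat_lit 46, nat_lit 46, nat_lit 27, nat_lit 84, nat_lit 46] 5 4))))), (.node (nat_lit 1) (.leaf XRule.defn) (.leaf XRule.defn))⟩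
noncomputable def ci46 : CI := ⟨[2], (nat_lit 65), false, (.node (nat_lit 4) (.node (nat_lit 2) (.node (nat_lit 1) (.leaf Rule.defn) (.leaf Rule.copy)) (.node (nat_lit 1) (.leaf (Rule.fwd [nat_lit 65] 14 0)) (.leaf (Rule.fwd [nat_lit 46, nat_lit 8, nat_lit 122, nat_lit 8, nat_lit 46, nat_lit 27] 6 3)))) (.node (nat_lit 2) (.node (nat_lit 1) (.leaf (Rule.fwd [nat_lit 27, nat_lit 46, nat_lit 46, nat_lit 27, nat_lit 84] 5 5)) (.leaf (Rule.fwd [nat_lit 103, nat_lit 46, nat_lit 103] 8 0))) (.node (nat_lit 1) (.leaf (Rule.fwd [nat_lit 46, nat_lit 27, nat_lit 84, nat_lit 46, nat_lit 27] 5 3)) (.leaf (Rule.fwd [nat_lit 8, nat_lit 122, nat_lit 8, nat_lit 46, nat_lit 27, nat_lit 46] 6 4))))), (.node (nat_lit 1) (.leaf XRule.defn) (.leaf XRule.defn))⟩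
noncomputable def ci65 : CI := ⟨[3], (nat_lit 46), false, (.node (nat_lit 4) (.node (nat_lit 2) (.node (nat_lit 1) (.leaf Rule.defn) (.leaf Rule.copy)) (.node (nat_lit 1) (.leaf (Rule.fwd [nat_lit 46] 14 0)) (.leaf (Rule.fwd [nat_lit 8, nat_lit 65, nat_lit 103, nat_lit 8, nat_lit 65] 4 2)))) (.node (nat_lit 2) (.node (nat_lit 1) (.leaf (Rule.fwd [nat_lit 84, nat_lit 65, nat_lit 84] 9 1)) (.leaf (Rule.fwd [nat_lit 103, nat_lit 8, nat_lit 65, nat_lit 65, nat_lit 8] 4 4))) (.leaf (Rule.fwd [nat_lit 65, nat_lit 8, nat_lit 65, nat_lit 103, nat_lit 8] 4 1)))), (.node (nat_lit 1) (.leaf XRule.defn) (.leaf XRule.defn))⟩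
noncomputable def ci84 : CI := ⟨[4], (nat_lit 103), true, (.node (nat_lit 4) (.node (nat_lit 2) (.node (nat_lit 1) (.leaf Rule.defn) (.leaf Rule.copy)) (.node (nat_lit 1) (.leaf (Rule.fwd [nat_lit 103] 14 0)) (.leaf (Rule.fwd [nat_lit 27, nat_lit 122, nat_lit 8, nat_lit 8] 12 2)))) (.node (nat_lit 2) (.node (nat_lit 1) (.leaf (Rule.fwd [nat_lit 65, nat_lit 84, nat_lit 65] 9 0)) (.leaf (Rule.fwd [nat_lit 84, nat_lit 84] 0 0))) (.leaf (Rule.fwd [nat_lit 46, nat_lit 27, nat_lit 46, nat_lit 46, nat_lit 27] 5 0)))), (.node (nat_lit 1) (.leaf XRule.defn) (.leaf XRule.ax))⟩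
noncomputable def ci103 : CI := ⟨[5], (nat_lit 84), true, (.node (nat_lit 4) (.node (nat_lit 2) (.node (nat_lit 1) (.leaf Rule.defn) (.leaf Rule.copy)) (.node (nat_lit 1) (.leaf (Rule.fwd [nat_lit 84] 14 0)) (.leaf (Rule.fwd [nat_lit 46, nat_lit 103, nat_lit 46] 8 1)))) (.node (nat_lit 2) (.node (nat_lit 1) (.leaf (Rule.fwd [nat_lit 27, nat_lit 27, nat_lit 122, nat_lit 8] 13 3)) (.leaf (Rule.fwd [nat_lit 103, nat_lit 103] 1 0))) (.leaf (Rule.fwd [nat_lit 122, nat_lit 103, nat_lit 122] 3 1)))), (.node (nat_lit 1) (.leaf XRule.defn) (.leaf XRule.ax))⟩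
noncomputable def ci122 : CI := ⟨[6], (nat_lit 122), true, (.node (nat_lit 8) (.node (nat_lit 4) (.node (nat_lit 2) (.node (nat_lit 1) (.leaf Rule.defn) (.leaf Rule.copy)) (.node (nat_lit 1) (.leaf (Rule.fwd [nat_lit 27, nat_lit 65, nat_lit 65, nat_lit 8, nat_lit 65, nat_lit 27] 7 0)) (.leaf (Rule.fwd [nat_lit 122] 14 0)))) (.node (nat_lit 2) (.node (nat_lit 1) (.leaf (Rule.fwd [nat_lit 46, nat_lit 122, nat_lit 46] 10 1)) (.leaf (Rule.fwd [nat_lit 65, nat_lit 122, nat_lit 65] 11 0))) (.node (nat_lit 1) (.leaf (Rule.fwd [nat_lit 84, nat_lit 122, nat_lit 84] 2 1)) (.leaf (Rule.fwd [nat_lit 103, nat_lit 122, nat_lit 103] 3 0))))) (.leaf (Rule.fwd [nat_lit 8, nat_lit 46, nat_lit 27, nat_lit 46, nat_lit 46, nat_lit 8] 6 6))), (.node (nat_lit 1) (.leaf XRule.defn) (.leaf XRule.ax))⟩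
noncomputable def outer : Tr CI := (.node (nat_lit 2) (.node (nat_lit 64) (.node (nat_lit 8) (.leaf ci0) (.leaf ci8)) (.node (nat_lit 1) (.leaf ci84) (.leaf ci65))) (.node (nat_lit 1) (.node (nat_lit 4) (.leaf ci122) (.leaf ci46)) (.node (nat_lit 4) (.leaf ci27) (.leaf ci103))))
def cols : List ℕ := [nat_lit 8, nat_lit 27, nat_lit 46, nat_lit 65, nat_lit 84, nat_lit 103, nat_lit 122]
def invL : List ℕ := [1, 0, 3, 2, 5, 4, 6]
def rels : List (List ℕ) := [[4, 4, 4], [4, 6, 4, 6], [0, 3, 3, 0, 3, 5], [0, 2, 1, 2, 2, 0, 6], [2, 5, 2, 5], [2, 6, 2, 6], [0, 0, 4, 1, 6]]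
def subs : List (List ℕ) := [[4], [5], [6]]
noncomputable def row (n : ℕ) : ℕ := rowOf (fun h => rows.get h) (nat_lit 5) (nat_lit 31) (nat_lit 141) (nat_lit 0x1fffffffffffffffffffffffffffffffffff) n
noncomputable def xleaf (h : ℕ) : ℕ := recs.get h
noncomputable def mF : ℕ → ℕ := mainRow row (rowChk row xleaf outer (nat_lit 8) (nat_lit 255) (nat_lit 15) (nat_lit 12) (nat_lit 4095) (nat_lit 524287) (nat_lit 128) (nat_lit 32) (nat_lit 256) (nat_lit 8) (nat_lit 255) (nat_lit 16) (nat_lit 65535) (nat_lit 8) (nat_lit 255) cols)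
noncomputable def xF : ℕ → ℕ → ℕ := xLeaf row xleaf outer (nat_lit 255) (nat_lit 12) (nat_lit 524287) (nat_lit 128) (nat_lit 32) (nat_lit 8) (nat_lit 255) (nat_lit 16) (nat_lit 65535) (nat_lit 65280) (nat_lit 8) (nat_lit 255) (nat_lit 10) (nat_lit 1023) (nat_lit 2) (nat_lit 3) (nat_lit 122) (nat_lit 8192) (nat_lit 128)
noncomputable def cert : Cert := ⟨row, xleaf, outer, cols, nat_lit 8, nat_lit 255, nat_lit 15, nat_lit 12, nat_lit 4095, nat_lit 524287, nat_lit 128, nat_lit 32, nat_lit 256, nat_lit 8, nat_lit 255, nat_lit 16, nat_lit 65535, nat_lit 65280, nat_lit 8, nat_lit 255, nat_lit 10, nat_lit 1023, nat_lit 2, nat_lit 3, nat_lit 122, nat_lit 8192, nat_lit 128, nat_lit 19, nat_lit 128, nat_lit 1⟩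
theorem tabok : tabOK (fun i => invL.getD i i) rels subs outer cols (nat_lit 8) (nat_lit 122) = true := by decide +kernel
theorem m0 : rng mF (nat_lit 1) (nat_lit 32) = 0 := by decide +kernel
noncomputable def s0 : List ℕ := [nat_lit 0x401000000000000000000000000000000000000000000000000000000000000000000000000000000000000000000000000000000000000000000000000000000000000000000000000000000000000000000000000000000000000000000000000000000000000000000000000000000000000000000000000000000000000000000000000000000000000000000000000000000000000000000000000000]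
theorem x0 : xs xF s0 (nat_lit 1) = 0 := by decide +kernel
theorem mz0 : AllZ mF 1 (nat_lit 33) := (AllZ.step (AllZ.nil mF 1) (nat_lit 32) (nat_lit 33) rfl m0)
theorem xz0 : XZ xF (nat_lit 1) := (XZ.step (XZ.nil xF) s0 (nat_lit 1) (nat_lit 1) (by decide +kernel) x0)
/-- the certificate (32 points) is valid -/
theorem valid : cert.Valid (fun i => invL.getD i i) rels subs 7 :=
  ⟨by decide +kernel, tabok, by decide +kernel, mz0, xz0⟩
theorem cert_N : cert.N = 32 := rfl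

end CL.TC.GPsu62L4
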