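/-
A presentation of Psu62 (generated by tools/pc/gm.py).
-/
import Cfsg.Agent.Known.GPsu62
import Cfsg.Agent.Known.GPsu62L1
import Cfsg.Agent.Known.GPsu62L2
import Cfsg.Agent.Known.GPsu62L3
import Cfsg.Agent.Known.GPsu62L4
import Cfsg.Agent.Known.GPsu62L5

set_option autoImplicit false
set_option maxRecDepth 100000
set_option linter.all false

namespace CL.Pc.GPsu62
open Cfsg CL.Spor

noncomputable def rs0 : List (ℕ × ℕ) := [(0x4d3, 0), (0x11451, 0), (0x4d14d1, 0), (0x49035040d, 0), (0x1334f3ce3cd, 0), (0x48f48f, 0), (0x4cf4cf, 0), (0x1339134d, 0), (0x38c28c30a, 0), (0x40c24c24c30c, 0), (0x9249, 0), (0x34d34d, 0), (0x44d44d, 0), (0x48f3cd3cd, 0), (0xf2cb4d2349, 0), (0x1344e4cd, 0), (0x114cc44f38b, 0), (0xc40b48e2c9, 0), (0x1344a4133c9, 0), (0x4ce24d3492c9, 0), (0x4c93894092c9, 0), (0x38c30d4092c9, 0), (0x2851c7148206, 0), (0x3062082061c5, 0), (0x5145, 0), (0x392191345, 0), (0xa4c63512c5,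 0), (0xd412212387, 0), (0x291245448205, 0), (0x2462d12cf285, 0), (0x285245285245, 0), (0x48d2d234b, 0), (0x3132c6412345, 0), (0x40d24740d247, 0), (0xf2cd4461c9205, 0), (0x131891d2388285, 0), (0xc24e152347385, 0), (0x31128f3c92c9, 0), (0x1124d1d01cd205, 0), (0x184082082083, 0), (0x8044041101043, 0), (0x30c3, 0), (0x38930c148201111281, 0), (0x1334d3cb2c930c10e483, 0), (0x1138f38a30c28b0ce484, 0), (0x1038f2cb2c5208148108101, 0), (0x1038a2c92c820808814d281, 0), (0x124cd35030c2871c1113281, 0), (0x1135040a1882061c23062c1, 0), (0x4533cd2cb28b1c51c6090242, 0), (0x4cf34b24b2851c71c604e482, 0), (0x34f34c2481881471423042c1, 0), (0x44f3cc187188187082210301, 0), (0x34d2cb2c71881871c23c7341, 0), (0x1138f30a2c61c61c61c21d2201, 0), (0xd34f24b2051c61c5087286241, 0), (0x45340e3cc2870880873c1, 0), (0x35040b2c718814708c28c3c1, 0), (0xd34c24b2062062050884cf2c1, 0), (0x124cf38c14718714708734a341, 0), (0x1334d28b18714718808e1d13c1,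 0), (0x44d3cf3ca30c30c14248d401, 0), (0x44d3cc24b2cb147188183390101, 0), (0x114d028c302493441, 0), (0x1028c30a1c7148202484441, 0), (0x1028c18718820508820f0c2, 0), (0x4533ce3ca2cb24c08e1070c2, 0), (0x34f3492c93093071c708e1cb441, 0), (0x114cd34a30c2482052062014d2041, 0), (0x124cd28c2452081832434c2, 0), (0x81, 0), (0x103, 0), (0x185, 0), (0x207, 0), (0x289, 0), (0x30b, 0), (0x38d, 0), (0x40f, 0), (0x491, 0)]
noncomputable def rs : List (ℕ × ℕ) := (rs0 ++ [])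
noncomputable def p1 : PLev := ⟨1048574, [1, 2, 3, 4, 5, 6, 7, 8, 9, 10, 11, 12, 13, 14, 15, 16, 17, 18, 19], TC.GPsu62L1.invL, TC.GPsu62L1.rels, TC.GPsu62L1.subs, [5, 6, 7, 8, 9, 10, 11, 12, 13, 14, 15, 16, 17, 18, 19], 693⟩
noncomputable def p2 : PLev := ⟨1048544, [5, 6, 7, 8, 9, 10, 11, 12, 13, 14, 15, 16, 17, 18, 19], TC.GPsu62L2.invL, TC.GPsu62L2.rels, TC.GPsu62L2.subs, [9, 10, 11, 12, 13, 14, 15, 16, 17, 18, 19], 512⟩
noncomputable def p3 : PLev := ⟨1048064, [9, 10, 11, 12, 13, 14, 15, 16, 17, 18, 19], TC.GPsu62L3.invL, TC.GPsu62L3.rels, TC.GPsu62L3.subs, [13, 14, 15, 16, 17, 18, 19], 135⟩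
noncomputable def p4 : PLev := ⟨1040384, [13, 14, 15, 16, 17, 18, 19], TC.GPsu62L4.invL, TC.GPsu62L4.rels, TC.GPsu62L4.subs, [17, 18, 19], 32⟩
noncomputable def p5 : PLev := ⟨917504, [17, 18, 19], TC.GPsu62L5.invL, TC.GPsu62L5.rels, TC.GPsu62L5.subs, [], 6⟩
theorem rs0_ok : allL (fun p : ℕ × ℕ => eqB A 19 20 [0, 1, 16, 3, 45] p.1 p.2) rs0 = true := by decide +kernel
theorem rs_ok : ∀ p ∈ rs, (fun p : ℕ × ℕ => eqB A 19 20 [0, 1, 16, 3, 45] p.1 p.2) p = true :=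
  allL_app rs0_ok (allL_end)
theorem p1_ok : p1.Valid := ⟨_, TC.GPsu62L1.valid, TC.GPsu62L1.cert_N.le⟩
theorem p2_ok : p2.Valid := ⟨_, TC.GPsu62L2.valid, TC.GPsu62L2.cert_N.le⟩
theorem p3_ok : p3.Valid := ⟨_, TC.GPsu62L3.valid, TC.GPsu62L3.cert_N.le⟩
theorem p4_ok : p4.Valid := ⟨_, TC.GPsu62L4.valid, TC.GPsu62L4.cert_N.le⟩
theorem p5_ok : p5.Valid := ⟨_, TC.GPsu62L5.valid, TC.GPsu62L5.cert_N.le⟩
universe u
theorem pres : PresBound.{u} rs 19 9196830720 :=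
  presBound_of (f := 2) (defs := []) (vs := [p1, p2, p3, p4, p5]) (valid_cons p1_ok (valid_cons p2_ok (valid_cons p3_ok (valid_cons p4_ok (valid_cons p5_ok (valid_nil)))))) (by decide +kernel)

end CL.Pc.GPsu62
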