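/-
The presentation of Suz (generated by tools/pc/gm.py).
-/
import Cfsg.Agent.Known.GSuz
import Cfsg.Agent.Known.PcCox
import Cfsg.Agent.Spor.SuzUb

set_option autoImplicit false
set_option maxRecDepth 100000
set_option linter.all false

namespace CL.Pc.GSuz
open Cfsg CL.Spor

noncomputable def rs0 : List (ℕ × ℕ) := [(0x4d3, 0), (0x513513513513513, 0), (0x553553, 0), (0x593593, 0), (0x5d35d3, 0), (0x613613, 0), (0x653653, 0), (0x514, 0), (0x554554554, 0), (0x594594, 0), (0x5d45d4, 0), (0x614614614, 0), (0x654654654, 0), (0x555, 0), (0x595595595595595595595595, 0), (0x5d55d5, 0), (0x615615, 0), (0x655655, 0), (0x596, 0), (0x5d65d65d6, 0), (0x616616, 0), (0x656656, 0), (0x5d7, 0), (0x617617, 0), (0x657657, 0), (0x618, 0), (0x658658658658, 0), (0x659, 0), (0x15595595595593, 0), (0x18658653, 0), (0x615513615513615513615513615513, 0), (0x19614658519614658519614, 0), (0x5d65565545955955165565545955955165565545d65565545955955165565545955955165565545d6556554595595516556554595595516556554, 0), (0x25995d95544d6,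 0), (0x45985d6556559, 0), (0x1830410c2084, 0), (0x204084104043, 0), (0xa187147188188, 0), (0xc1452062052051c6, 0), (0xe24b2c9309, 0), (0x40c28b2ca2ca, 0), (0x48e3cd40e, 0), (0x81, 0), (0x103, 0), (0x185, 0), (0x207, 0), (0x289, 0), (0x30b, 0), (0x38d, 0), (0x40f, 0), (0x491, 0)]
noncomputable def rs : List (ℕ × ℕ) := (rs0 ++ [])
def gens : List Spor.Suz.Gen := [.a, .b, .c, .d, .e, .f, .g]
def ix : Spor.Suz.Gen → ℕ := fun a => match a with | .a => 19 | .b => 20 | .c => 21 | .d => 22 | .e => 23 | .f => 24 | .g => 25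
def jx : Spor.Suz.Gen → ℕ := fun a => match a with | .a => 19 | .b => 20 | .c => 21 | .d => 22 | .e => 23 | .f => 24 | .g => 25
noncomputable def r0 : List (ℕ × ℕ) := [(0x4d3, 0), (0x513513513513513, 0), (0x553553, 0), (0x593593, 0), (0x5d35d3, 0), (0x613613, 0), (0x653653, 0), (0x514, 0), (0x554554554, 0), (0x594594, 0), (0x5d45d4, 0), (0x614614614, 0), (0x654654654, 0), (0x555, 0), (0x595595595595595595595595, 0), (0x5d55d5, 0), (0x615615, 0), (0x655655, 0), (0x596, 0), (0x5d65d65d6, 0), (0x616616, 0), (0x656656, 0), (0x5d7, 0), (0x617617, 0), (0x657657, 0), (0x618, 0), (0x658658658658, 0), (0x659, 0), (0x15595595595593, 0), (0x18658653, 0), (0x615513615513615513615513615513, 0), (0x19614658519614658519614, 0), (0x5d65565545955955165565545955955165565545d65565545955955165565545955955165565545d6556554595595516556554595595516556554, 0)]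
theorem rs0_ok : allL (fun p : ℕ × ℕ => eqB A 25 79 [78, 1258, 548, 1030, 209, 243] p.1 p.2) rs0 = true := by decide +kernel
theorem r0_0 : allR (relsChk A 79 r0) 0 470 = true := by decide +kernel
theorem r0_1 : allR (relsChk A 79 r0) 470 470 = true := by decide +kernel
theorem r0_2 : allR (relsChk A 79 r0) 940 470 = true := by decide +kernel
theorem r0_3 : allR (relsChk A 79 r0) 1410 372 = true := by decide +kernel
theorem pm_0 : allR (invChk2 A 1782 [(19, 19), (20, 20), (21, 21), (22, 22), (23, 23), (24, 24), (25, 25)]) 0 1782 = true := by decide +kernel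
theorem rs_ok : ∀ p ∈ rs, (fun p : ℕ × ℕ => eqB A 25 79 [78, 1258, 548, 1030, 209, 243] p.1 p.2) p = true :=
  allL_app rs0_ok (allL_end)
theorem gens_all : ∀ a, a ∈ gens := fun a => by cases a <;> decide
universe u
theorem ub : CoxUb.{u} Spor.Suz.edges Spor.Suz.extra gens 448345497600 := fun _ _ _ h => CL.SuzP.cardA h
theorem pres : PresBound.{u} rs 25 448345497600 :=
  ub.presBound (ix := ix) (jx := jx) (f := 79) (m := 66584576) (defs := [(2, 0x5995d95544d6), (1, 2), (2, 1), (4, 0x5985d6556559), (3, 4), (4, 3), (6, 0x30410c2084), (5, 6), (6, 5), (8, 0x4084104043), (7, 8), (8, 7), (10, 0x187147188188), (9, 0xa), (10, 9), (12, 0x1452062052051c6), (11, 0xc), (12, 0xb), (14, 0x24b2c9309), (13, 0xe), (14, 0xd), (16, 0xc28b2ca2ca), (15, 0x10), (16, 0xf), (18, 0xe3cd40e), (17, 0x12), (18, 0x11)]) gens_all (by decide +kernel)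
theorem input : ∃ _ : MulAction Spor.Suz (Fin 1782), Inp Spor.Suz (finPt 1782) := by
  obtain ⟨x, hx⟩ := exists_perm_all (M := 38) (m := 66584576) (allR_step pm_0 (allR_end (by decide))) df_ok (by decide +kernel)
  exact ub.input (ix := ix) (jx := jx) gens_all hx (hx.sat_all (f := 79) (rs := r0) (by decide +kernel) (allR_step r0_0 (allR_step r0_1 (allR_step r0_2 (allR_step r0_3 (allR_end (by decide))))))) (by decide +kernel)

end CL.Pc.GSuz
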