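/-
Weight spaces of the transvection groups with fixed centre in representations of `SL_n(q)`.
-/
import Cfsg.Agent.Known.LSSp
import Cfsg.Agent.Known.GLTv
import Cfsg.Agent.Cls.SLnTv

set_option autoImplicit false

open Module Matrix Cfsg CL.GLn

namespace CL.LS

variable {F : Type*} [Field F] {n : Type*} [Fintype n] [DecidableEq n]

/-- The linear form `φ ↦ φ ⬝ w`. -/
def dotR (w : n → F) : Dual F (n → F) where
  toFun φ := φ ⬝ᵥ w
  map_add' _ _ := add_dotProduct _ _ _
  map_smul' _ _ := smul_dotProduct _ _ _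

omit [DecidableEq n] in
@[simp] theorem dotR_apply (w φ : n → F) : dotR w φ = φ ⬝ᵥ w := rfl

theorem exists_dotR (l : Dual F (n → F)) : ∃ w, l = dotR w :=
  ⟨fun i => l (Pi.single i 1), LinearMap.pi_ext' fun i => LinearMap.ext_ring (by simp)⟩

theorem exists_dot_of_notMem {W : Submodule F (n → F)} {v : n → F} (hv : v ∉ W) :
    ∃ φ : n → F, φ ⬝ᵥ v = 1 ∧ ∀ w ∈ W, φ ⬝ᵥ w = 0 := by
  obtain ⟨l, h1, h2⟩ := CL.SLn.exists_dual_of_notMem hv
  obtain ⟨φ, rfl⟩ := exists_dotR l
  exact ⟨φ, by rwa [dotProduct_comm], fun w hw => by rw [dotProduct_comm]; exact h2 w hw⟩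

theorem dotR_ne_zero {e : n → F} (he : e ≠ 0) : dotR e ≠ 0 := fun h => by
  obtain ⟨φ, h1, -⟩ := exists_dot_of_notMem (W := ⊥) he
  have := LinearMap.congr_fun h φ
  simp [h1] at this

/-- The row vectors killing `e`. -/
def annE (e : n → F) : Submodule F (n → F) := LinearMap.ker (dotR e)

omit [DecidableEq n] in
theorem mem_annE {e φ : n → F} : φ ∈ annE e ↔ φ ⬝ᵥ e = 0 := Iff.rfl

theorem sl_ext {g h : SpecialLinearGroup n F} (e : (g : Matrix n n F) = (h : Matrix n n F)) : g = h := Subtype.ext e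

/-- The transvections with centre `e`. -/
noncomputable def slA (e : n → F) (φ : annE e) : SpecialLinearGroup n F := tv e φ

theorem slA_add (e : n → F) (x y : annE e) : slA e (x + y) = slA e x * slA e y :=
  (tv_mul_tv_left x.2 y.2).symm

theorem coe_slA (e : n → F) (x : annE e) : (slA e x : Matrix n n F) = 1 + vecMulVec e x := coe_tv x.2

theorem tv_mulVec {v φ : n → F} (h : φ ⬝ᵥ v = 0) (x : n → F) :
    (tv v φ : Matrix n n F) *ᵥ x = x + (φ ⬝ᵥ x) • v := by
  rw [coe_tv h, add_mulVec, one_mulVec, vecMulVec_mulVec, op_smul_eq_smul]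

/-- The weight attached to a vector. -/
def lam (e w : n → F) : Dual F (annE e) := dotR w ∘ₗ (annE e).subtype

omit [DecidableEq n] in
@[simp] theorem lam_apply (e w : n → F) (φ : annE e) : lam e w φ = (φ : n → F) ⬝ᵥ w := rfl

theorem exists_lam (e : n → F) (l : Dual F (annE e)) : ∃ w, l = lam e w := by
  obtain ⟨l', rfl⟩ := LinearMap.exists_extend l
  obtain ⟨w, rfl⟩ := exists_dotR l'
  exact ⟨w, rfl⟩

theorem lam_eq_iff {e w w' : n → F} : lam e w' = lam e w ↔ w' - w ∈ F ∙ e := by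
  refine ⟨fun h => ?_, fun h => ?_⟩
  · by_contra hn
    obtain ⟨φ, h1, h2⟩ := exists_dot_of_notMem hn
    have := LinearMap.congr_fun h ⟨φ, h2 e (Submodule.mem_span_singleton_self e)⟩
    rw [lam_apply, lam_apply, ← sub_eq_zero, ← dotProduct_sub, h1] at this
    exact one_ne_zero this
  · obtain ⟨c, hc⟩ := Submodule.mem_span_singleton.1 h
    ext φ
    rw [lam_apply, lam_apply, ← sub_eq_zero, ← dotProduct_sub, ← hc, dotProduct_smul, mem_annE.1 φ.2, smul_zero]

omit [DecidableEq n] in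
theorem lam_zero (e : n → F) : lam e 0 = 0 := by ext φ; simp

theorem lam_eq_zero_iff {e w : n → F} : lam e w = 0 ↔ w ∈ F ∙ e := by
  rw [← lam_zero, lam_eq_iff, sub_zero]

/-- The action on `annE e` of a matrix having `e` as an eigenvector. -/
def annAct {e : n → F} (g : Matrix n n F) {a : F} (h : g *ᵥ e = a • e) : annE e →ₗ[F] annE e where
  toFun φ := ⟨a⁻¹ • ((φ : n → F) ᵥ* g), by
    rw [mem_annE, smul_dotProduct, ← dotProduct_mulVec, h, dotProduct_smul, mem_annE.1 φ.2]; simp⟩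
  map_add' x y := Subtype.ext (by simp [add_vecMul])
  map_smul' c x := Subtype.ext (by simp [smul_vecMul, smul_comm c])

theorem slA_mul {e : n → F} (g : SpecialLinearGroup n F) {a : F} (ha : a ≠ 0)
    (h : (g : Matrix n n F) *ᵥ e = a • e) (φ : annE e) : slA e φ * g = g * slA e (annAct g.1 h φ) := by
  apply sl_ext
  rw [Matrix.SpecialLinearGroup.coe_mul, Matrix.SpecialLinearGroup.coe_mul, coe_slA, coe_slA, add_mul, mul_add,
    mul_vecMulVec, vecMulVec_mul, h]
  simp [annAct, smul_vecMulVec, vecMulVec_smul, smul_smul, ha]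

omit [DecidableEq n] in
theorem lam_comp_annAct {e : n → F} (g : Matrix n n F) {a : F} (h : g *ᵥ e = a • e) (w : n → F) :
    lam e w ∘ₗ annAct g h = lam e (a⁻¹ • g *ᵥ w) := by
  ext φ
  simp [annAct, dotProduct_mulVec]

/-- `SL_n`, `n ≥ 3`, is transitive on pairs of independent vectors. -/
theorem exists_SL_pair (h3 : 3 ≤ Fintype.card n) {e w e' w' : n → F} (he : e ≠ 0) (hw : w ∉ F ∙ e) (he' : e' ≠ 0)
    (hw' : w' ∉ F ∙ e') : ∃ g : SpecialLinearGroup n F, (g : Matrix n n F) *ᵥ e = e' ∧ (g : Matrix n n F) *ᵥ w = w' := by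
  have key : ∀ {e w : n → F}, e ≠ 0 → w ∉ F ∙ e → ∃ π : (n → F) →ₗ[F] F × F, ∀ u,
      π ((LinearMap.toSpanSingleton F _ e).coprod (LinearMap.toSpanSingleton F _ w) u) = u := by
    intro e w he hw
    obtain ⟨π, hπ⟩ := LinearMap.exists_leftInverse_of_injective
      ((LinearMap.toSpanSingleton F _ e).coprod (LinearMap.toSpanSingleton F _ w)) (by
        rw [LinearMap.ker_eq_bot']
        rintro ⟨a, b⟩ h
        simp only [LinearMap.coprod_apply, LinearMap.toSpanSingleton_apply] at h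
        have hb : b = 0 := by
          by_contra hb
          refine hw (Submodule.mem_span_singleton.2 ⟨-(b⁻¹ * a), ?_⟩)
          rw [neg_smul, mul_smul, eq_neg_of_add_eq_zero_left h, smul_neg, neg_neg, smul_smul, inv_mul_cancel₀ hb,
            one_smul]
        rw [hb, zero_smul, add_zero, smul_eq_zero] at h
        rw [hb, h.resolve_right he]; rfl)
    exact ⟨π, fun u => LinearMap.congr_fun hπ u⟩
  obtain ⟨π, hπ⟩ := key he hw
  obtain ⟨π', hπ'⟩ := key he' hw'
  obtain ⟨k, h1, -, h2⟩ := exists_equiv_of_sections_det hπ hπ' (by simp; omega) one_ne_zero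
  refine ⟨⟨LinearMap.toMatrix' (k : (n → F) →ₗ[F] n → F), by rw [LinearMap.det_toMatrix', h2]⟩, ?_, ?_⟩
  · simpa using h1 (1, 0)
  · simpa using h1 (0, 1)

theorem card_annE [Finite F] {e : n → F} (he : e ≠ 0) :
    Nat.card (annE e) = Nat.card F ^ (Fintype.card n - 1) := by
  have := card_ker_dual (dotR_ne_zero he)
  rwa [finrank_fintype_fun_eq_card] at this

omit [DecidableEq n] in
theorem exists_notMem_span (h2 : 2 ≤ Fintype.card n) (e : n → F) : ∃ w, w ∉ F ∙ e := by
  by_contra h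
  push Not at h
  have h1 : finrank F (F ∙ e) ≤ 1 := (finrank_span_le_card (R := F) ({e} : Set (n → F))).trans_eq (by simp)
  rw [Submodule.eq_top_iff'.2 h, finrank_top, finrank_fintype_fun_eq_card] at h1
  omega

variable [Finite F] {K V : Type*} [Field K] [AddCommGroup V] [Module K V] [FiniteDimensional K V]
  {ρ : SpecialLinearGroup n F →* Module.End K V} {ψ : AddChar F K}

omit [Finite F] in
theorem finrank_wsp_slA_le (h3 : 3 ≤ Fintype.card n) {e : n → F} (he : e ≠ 0) {l l' : Dual F (annE e)} (hl : l ≠ 0)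
    (hl' : l' ≠ 0) : finrank K (wsp ρ ψ (slA e) l) ≤ finrank K (wsp ρ ψ (slA e) l') := by
  obtain ⟨w, rfl⟩ := exists_lam e l
  obtain ⟨w', rfl⟩ := exists_lam e l'
  obtain ⟨g, h1, h2⟩ := exists_SL_pair h3 he (mt lam_eq_zero_iff.2 hl) he (mt lam_eq_zero_iff.2 hl')
  have := finrank_wsp_le (ρ := ρ) (ψ := ψ) (slA_mul g one_ne_zero (h1.trans (one_smul F e).symm)) (lam e w)
  rwa [lam_comp_annAct, inv_one, one_smul, h2] at this

theorem one_le_finrank_wsp_slA (hψ : ψ ≠ 1) (h3 : 3 ≤ Fintype.card n) (hker : ρ.ker ≤ Subgroup.center _)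
    {e : n → F} (he : e ≠ 0) {l : Dual F (annE e)} (hl : l ≠ 0) : 1 ≤ finrank K (wsp ρ ψ (slA e) l) := by
  obtain ⟨w, hw⟩ := exists_notMem_span (by omega) e
  obtain ⟨φ, h1, h2⟩ := exists_dot_of_notMem hw
  have hφ := h2 e (Submodule.mem_span_singleton_self e)
  obtain ⟨l', h4, h5⟩ := exists_weight (ρ := ρ) hψ (slA_add e) (x := ⟨φ, hφ⟩) fun h => by
    obtain ⟨r, -, hr⟩ := Matrix.SpecialLinearGroup.mem_center_iff.1 (hker h)
    have h6 := tv_mulVec hφ w
    have h7 := tv_mulVec hφ e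
    change scalar n r = (tv e φ : Matrix n n F) at hr
    rw [← hr, scalar_apply, diagonal_const_mulVec] at h6 h7
    rw [hφ, zero_smul, add_zero] at h7
    have h8 : r = 1 := smul_left_injective F he (h7.trans (one_smul F e).symm)
    rw [h8, one_smul, h1, one_smul, left_eq_add] at h6
    exact he h6
  exact (Nat.pos_of_ne_zero (mt Submodule.finrank_eq_zero.1 h4)).trans_le
    (finrank_wsp_slA_le h3 he (fun h => h5 (by rw [h, LinearMap.zero_apply, AddChar.map_zero_eq_one])) hl)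

theorem mul_le_finrank_sl (hψ : ψ ≠ 1) (h3 : 3 ≤ Fintype.card n) {e : n → F} (he : e ≠ 0) {l : Dual F (annE e)}
    (hl : l ≠ 0) : finrank K (wsp ρ ψ (slA e) l) * (Nat.card F ^ (Fintype.card n - 1) - 1) ≤ finrank K V := by
  have := mul_ncard_le (ρ := ρ) hψ (slA_add e) id {l | l ≠ 0} fun t ht => ⟨t, finrank_wsp_slA_le h3 he hl ht, rfl⟩
  rwa [show ({l | l ≠ 0} : Set (Dual F (annE e))).ncard = _ from card_ne_zero_eq, card_dual, card_annE he] at this

theorem sl_bound (hψ : ψ ≠ 1) (h3 : 3 ≤ Fintype.card n) (hker : ρ.ker ≤ Subgroup.center _) :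
    Nat.card F ^ (Fintype.card n - 1) - 1 ≤ finrank K V := by
  obtain ⟨i⟩ : Nonempty n := Fintype.card_pos_iff.1 (by omega)
  have he : (Pi.single i 1 : n → F) ≠ 0 := by simp
  obtain ⟨w, hw⟩ := exists_notMem_span (by omega) (Pi.single i 1 : n → F)
  have hl := mt lam_eq_zero_iff.1 hw
  exact (Nat.le_mul_of_pos_left _ (one_le_finrank_wsp_slA hψ h3 hker he hl)).trans (mul_le_finrank_sl hψ h3 he hl)

end CL.LS
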