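/-
Averaging operators in a representation and a trace computation for `SL₂`.
-/
import Cfsg.Agent.Known.LSWeight

set_option autoImplicit false

open Module

namespace CL.LS

section Avg

variable {K G V : Type*} [Field K] [Group G] [AddCommGroup V] [Module K V] {ρ : G →* Module.End K V}

/-- `e` is the averaging operator of the group generated by `S`. -/
structure IsAvg (ρ : G →* Module.End K V) (S : Set G) (e : Module.End K V) : Prop where
  left : ∀ x ∈ S, ρ x * e = e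
  right : ∀ x ∈ S, e * ρ x = e
  absL : ∀ T, (∀ x ∈ S, ρ x * T = T) → e * T = T
  absR : ∀ T, (∀ x ∈ S, T * ρ x = T) → T * e = T

namespace IsAvg

variable {S S' : Set G} {e e' : Module.End K V}

theorem idem (h : IsAvg ρ S e) : e * e = e := h.absL e h.left

theorem mul_left (h : IsAvg ρ S e) (h' : IsAvg ρ S' e') (hs : S ⊆ S') : e * e' = e' :=
  h.absL e' fun x hx => h'.left x (hs hx)

theorem mul_right (h : IsAvg ρ S e) (h' : IsAvg ρ S' e') (hs : S ⊆ S') : e' * e = e' :=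
  h.absR e' fun x hx => h'.right x (hs hx)

theorem conj (h : IsAvg ρ S e) (h' : IsAvg ρ S' e') {g : G} (h1 : ∀ x ∈ S, g * x * g⁻¹ ∈ S')
    (h2 : ∀ y ∈ S', g⁻¹ * y * g ∈ S) : ρ g * e = e' * ρ g := by
  rw [← h'.absL (ρ g * e) fun y hy => by
    rw [← mul_assoc, ← map_mul, show y * g = g * (g⁻¹ * y * g) by group, map_mul, mul_assoc,
      h.left _ (h2 y hy)], ← mul_assoc]
  exact h.absR _ fun x hx => by
    rw [mul_assoc, ← map_mul, show g * x = g * x * g⁻¹ * g by group, map_mul, ← mul_assoc,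
      h'.right _ (h1 x hx)]

theorem comm (h : IsAvg ρ S e) {T : Module.End K V} (hT : ∀ x ∈ S, ρ x * T = T * ρ x) : e * T = T * e := by
  rw [← h.absL (T * e) fun x hx => by rw [← mul_assoc, hT x hx, mul_assoc, h.left x hx], ← mul_assoc]
  exact (h.absR _ fun x hx => by rw [mul_assoc, ← hT x hx, ← mul_assoc, h.right x hx]).symm

end IsAvg

theorem isAvg_sum {A : Type*} [Fintype A] (hA : (Fintype.card A : K) ≠ 0) (a : A → G)
    (h1 : ∀ y, ∃ σ : A ≃ A, ∀ x, a y * a x = a (σ x)) (h2 : ∀ y, ∃ σ : A ≃ A, ∀ x, a x * a y = a (σ x)) :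
    IsAvg ρ (Set.range a) ((Fintype.card A : K)⁻¹ • ∑ x, ρ (a x)) where
  left := by
    rintro _ ⟨y, rfl⟩
    obtain ⟨σ, hσ⟩ := h1 y
    rw [mul_smul_comm, Finset.mul_sum]
    exact congrArg _ (Fintype.sum_equiv σ _ _ fun x => by rw [← map_mul, hσ])
  right := by
    rintro _ ⟨y, rfl⟩
    obtain ⟨σ, hσ⟩ := h2 y
    rw [smul_mul_assoc, Finset.sum_mul]
    exact congrArg _ (Fintype.sum_equiv σ _ _ fun x => by rw [← map_mul, hσ])
  absL T hT := by
    rw [smul_mul_assoc, Finset.sum_mul, Finset.sum_congr rfl fun x _ => hT _ ⟨x, rfl⟩, Finset.sum_const,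
      Finset.card_univ, ← Nat.cast_smul_eq_nsmul K, smul_smul, inv_mul_cancel₀ hA, one_smul]
  absR T hT := by
    rw [mul_smul_comm, Finset.mul_sum, Finset.sum_congr rfl fun x _ => hT _ ⟨x, rfl⟩, Finset.sum_const,
      Finset.card_univ, ← Nat.cast_smul_eq_nsmul K, smul_smul, inv_mul_cancel₀ hA, one_smul]

theorem isAvg_add {A : Type*} [Fintype A] [AddCommGroup A] (hA : (Fintype.card A : K) ≠ 0) {a : A → G}
    (ha : ∀ x y, a (x + y) = a x * a y) :
    IsAvg ρ (Set.range a) ((Fintype.card A : K)⁻¹ • ∑ x, ρ (a x)) :=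
  isAvg_sum hA a (fun y => ⟨Equiv.addLeft y, fun x => (ha y x).symm⟩)
    fun y => ⟨Equiv.addRight y, fun x => (ha x y).symm⟩

theorem exists_trace_eq_nat [FiniteDimensional K V] {p : Module.End K V} (hp : p * p = p) :
    ∃ k : ℕ, LinearMap.trace K V p = k :=
  ⟨_, (LinearMap.IsIdempotentElem.isProj_range p hp).trace⟩

theorem sum_eq_add_sum_units {F M : Type*} [Field F] [Fintype F] [DecidableEq F] [AddCommMonoid M] (f : F → M) :
    ∑ t, f t = f 0 + ∑ t : Fˣ, f t := by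
  rw [← Finset.add_sum_erase _ _ (Finset.mem_univ 0)]
  congr 1
  exact (Finset.sum_bij (fun (t : Fˣ) _ => (t : F)) (fun t _ => by simp) (fun _ _ _ _ h => Units.ext h)
    (fun t ht => ⟨Units.mk0 t (by simpa using ht), Finset.mem_univ _, rfl⟩) fun _ _ => rfl).symm

/-- The trace computation in `SL₂`: the Hecke operator has eigenvalues `1` and `-1/q`. -/
theorem sl2_trace [FiniteDimensional K V] [CharZero K] {F : Type*} [Field F] [Fintype F] [DecidableEq F]
    {e e₂ : Module.End K V} {n : G} {h : Fˣ → G} {y : F → G} (he : e * e = e) (he₂ : e₂ * e₂ = e₂)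
    (hc : e₂ * e = e * e₂) (hh : ∀ s t, h (s * t) = h s * h t) (hhe : ∀ t, ρ (h t) * e = e * ρ (h t))
    (hhe₂ : ∀ t, ρ (h t) * e₂ = e₂ * ρ (h t)) (hn : ∀ t, n * h t = h t⁻¹ * n) (hnn : n * n = h (-1))
    (h2 : e * ρ n * e₂ = e * ρ n)
    (h3 : ρ n * e = e₂ * ((Fintype.card F : K)⁻¹ • ∑ t, ρ (y t)) * ρ n) (hy0 : y 0 = 1)
    (hy : ∀ t : Fˣ, e * ρ (y t) * e = e * ρ (h (-t⁻¹)) * ρ n * e) :
    ∃ r b : ℕ, (Fintype.card F : K) * ∑ t : Fˣ, LinearMap.trace K V (e * (1 - ρ (y t))) =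
      (Fintype.card F - 1) * (Fintype.card F * (LinearMap.trace K V e - LinearMap.trace K V (e * e₂)) +
        Fintype.card F * r + (Fintype.card F + 1) * b) := by
  set q : K := (Fintype.card F : K) with hq
  have hq0 : q ≠ 0 := Nat.cast_ne_zero.mpr Fintype.card_ne_zero
  have hq1 : (Fintype.card Fˣ : K) = q - 1 := by
    rw [Fintype.card_units, Nat.cast_sub Fintype.card_pos, Nat.cast_one]
  have hq2 : q - 1 ≠ 0 := hq1 ▸ Nat.cast_ne_zero.mpr Fintype.card_ne_zero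
  have hq3 : q + 1 ≠ 0 := by rw [hq]; exact_mod_cast Nat.succ_ne_zero (Fintype.card F)
  have hA := isAvg_sum (ρ := ρ) (hq1 ▸ hq2) h (fun s => ⟨Equiv.mulLeft s, fun t => (hh s t).symm⟩)
    fun s => ⟨Equiv.mulRight s, fun t => (hh t s).symm⟩
  obtain ⟨a, ha⟩ : ∃ a, a = (Fintype.card Fˣ : K)⁻¹ • ∑ x, ρ (h x) := ⟨_, rfl⟩
  rw [← ha] at hA
  have a1 : a * e = e * a := hA.comm (by rintro _ ⟨t, rfl⟩; exact hhe t)
  have a2 : a * e₂ = e₂ * a := hA.comm (by rintro _ ⟨t, rfl⟩; exact hhe₂ t)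
  have a3 : ρ n * a = a * ρ n := hA.conj hA (by
      rintro _ ⟨t, rfl⟩
      exact ⟨t⁻¹, by rw [hn]; group⟩) (by
      rintro _ ⟨t, rfl⟩
      exact ⟨t⁻¹, by rw [mul_assoc, ← inv_inv t, ← hn, inv_inv]; group⟩)
  have a4 : ∑ t : Fˣ, e * ρ (y t) * e = (q - 1) • (a * (e * ρ n * e)) := by
    simp_rw [hy]
    rw [← Finset.sum_mul, ← Finset.sum_mul, ← Finset.mul_sum,
      Fintype.sum_equiv ((Equiv.inv Fˣ).trans (Equiv.neg Fˣ)) (fun t => ρ (h (-t⁻¹))) (fun t => ρ (h t))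
        fun t => rfl, ← mul_assoc, ← mul_assoc, a1, ha, hq1]
    simp only [mul_smul_comm, smul_mul_assoc, smul_smul, mul_inv_cancel₀ hq2, one_smul]
  have r1 : ∀ z, a * (a * z) = a * z := fun z => by rw [← mul_assoc, hA.idem]
  have r2 : ∀ z, e * (a * z) = a * (e * z) := fun z => by rw [← mul_assoc, ← a1, mul_assoc]
  have r3 : ∀ z, e₂ * (a * z) = a * (e₂ * z) := fun z => by rw [← mul_assoc, ← a2, mul_assoc]
  have r4 : ∀ z, ρ n * (a * z) = a * (ρ n * z) := fun z => by rw [← mul_assoc, a3, mul_assoc]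
  have r5 : ∀ z, e * (e * z) = e * z := fun z => by rw [← mul_assoc, he]
  have r6 : ∀ z, e₂ * (e₂ * z) = e₂ * z := fun z => by rw [← mul_assoc, he₂]
  have r7 : ∀ z, e₂ * (e * z) = e * (e₂ * z) := fun z => by rw [← mul_assoc, hc, mul_assoc]
  have r8 : ∀ z, e₂ * (ρ n * (e * z)) = ρ n * (e * z) := fun z => by
    rw [← mul_assoc (ρ n), h3]; simp only [mul_assoc, r6]
  have r9 : ∀ z, e * (ρ n * (e * (e₂ * z))) = e * (ρ n * (e * z)) := fun z => by
    rw [← r7, ← mul_assoc, ← mul_assoc, h2, mul_assoc]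
  have r10 : ∀ z, a * (ρ (h (-1)) * z) = a * z := fun z => by rw [← mul_assoc, hA.right _ ⟨_, rfl⟩]
  have r11 : ∀ z, e * (ρ (h (-1)) * z) = ρ (h (-1)) * (e * z) := fun z => by
    rw [← mul_assoc, ← hhe, mul_assoc]
  have r12 : ∀ z, e₂ * (ρ (h (-1)) * z) = ρ (h (-1)) * (e₂ * z) := fun z => by
    rw [← mul_assoc, ← hhe₂, mul_assoc]
  have r13 : ∀ z, ρ n * (ρ (h (-1)) * z) = ρ (h (-1)) * (ρ n * z) := fun z => by
    rw [← mul_assoc, ← map_mul, hn, map_mul, mul_assoc, inv_neg, inv_one]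
  have key : ∀ X Y : Module.End K V, X * 1 = Y * 1 → X = Y := fun X Y h => by simpa using h
  obtain ⟨T, hT⟩ : ∃ T, T = a * (e * ρ n * e) := ⟨_, rfl⟩
  obtain ⟨E, hE⟩ : ∃ E, E = a * (e * e₂) := ⟨_, rfl⟩
  have hEE : E * E = E := key _ _ (by simp only [hE, mul_assoc, r1, r2, r3, r5, r6, r7])
  have hET : E * T = T := key _ _ (by simp only [hE, hT, mul_assoc, r1, r2, r3, r5, r6, r7, r8])
  have hTE : T * E = T := key _ _ (by simp only [hE, hT, mul_assoc, r1, r2, r3, r4, r5, r6, r7, r9])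
  have hTT : T * T = q⁻¹ • (E + (q - 1) • T) := by
    have d1 : T * T = a * (e * (ρ n * e * ρ n) * e) :=
      key _ _ (by simp only [hT, mul_assoc, r1, r2, r4, r5])
    have d2 : a * (e * (e₂ * (∑ t, ρ (y t)) * ρ (h (-1))) * e) =
        a * (e₂ * (∑ t, e * ρ (y t) * e) * ρ (h (-1))) := by
      rw [← Finset.sum_mul, ← Finset.mul_sum]
      exact key _ _ (by simp only [mul_assoc, r7, r11])
    rw [d1, h3, mul_assoc _ (ρ n) (ρ n), ← map_mul, hnn]
    simp only [mul_smul_comm, smul_mul_assoc]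
    rw [d2, sum_eq_add_sum_units, a4, hy0, map_one, mul_one, he, mul_add, add_mul, mul_add]
    simp only [mul_smul_comm, smul_mul_assoc]
    congr 2
    · exact key _ _ (by simp only [hE, mul_assoc, r7, r10, r11, r12])
    · congr 1
      exact key _ _ (by simp only [hT, mul_assoc, r1, r3, r7, r8, r10, r11, r12, r13])
  obtain ⟨r, hr⟩ := exists_trace_eq_nat (p := e * e₂ - E) (by
    have c1 : e * e₂ * (e * e₂) = e * e₂ := key _ _ (by simp only [mul_assoc, r5, r6, r7])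
    have c2 : e * e₂ * E = E := key _ _ (by simp only [hE, mul_assoc, r2, r3, r5, r6, r7])
    have c3 : E * (e * e₂) = E := key _ _ (by simp only [hE, mul_assoc, r5, r6, r7])
    rw [sub_mul, mul_sub, mul_sub, hEE, c1, c2, c3]
    abel)
  obtain ⟨b, hb⟩ := exists_trace_eq_nat (p := (q / (q + 1)) • (E - T)) (by
    rw [smul_mul_smul_comm, sub_mul, mul_sub, mul_sub, hEE, hET, hTE, hTT]
    match_scalars <;> field_simp <;> ring)
  rw [← hT] at a4
  refine ⟨r, b, ?_⟩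
  have t1 : ∑ t : Fˣ, LinearMap.trace K V (e * (1 - ρ (y t))) =
      (q - 1) * (LinearMap.trace K V e - LinearMap.trace K V T) := by
    rw [mul_sub, ← smul_eq_mul (q - 1) (LinearMap.trace K V T), ← map_smul, ← a4, map_sum, ← hq1,
      ← nsmul_eq_mul, ← Finset.card_univ, ← Finset.sum_const, ← Finset.sum_sub_distrib]
    refine Finset.sum_congr rfl fun t _ => ?_
    rw [mul_sub, mul_one, map_sub, LinearMap.trace_mul_comm K _ e, ← mul_assoc, he]
  rw [map_sub] at hr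
  rw [map_smul, map_sub, smul_eq_mul] at hb
  rw [t1, ← hr, ← hb]
  field_simp
  ring

end Avg

end CL.LS
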