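/-
Minimal degrees of exceptional groups, part 1: linear algebra (actions of a subgroup, the Heisenberg dimension formula).
-/
import Cfsg.Agent.Known.LSWeight

set_option autoImplicit false

open Module
open scoped commutatorElement

namespace CL.MX

variable {G V : Type*} [Group G] [AddCommGroup V] [Module ℂ V]

/-- An action of the subgroup `K`, written as a function on the ambient group. -/
structure Act (K : Subgroup G) (a : G → Module.End ℂ V) : Prop where
  one : a 1 = 1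
  mul : ∀ {g h : G}, g ∈ K → h ∈ K → a (g * h) = a g * a h

theorem exists_act {K : Subgroup G} (ρ : K →* Module.End ℂ V) : ∃ a, Act K a ∧ ∀ g : K, a g = ρ g := by
  classical
  refine ⟨fun g => if h : g ∈ K then ρ ⟨g, h⟩ else 1, ⟨?_, fun {g h} hg hh => ?_⟩, fun g => by simp⟩
  · rw [dif_pos (one_mem K)]; exact map_one ρ
  · rw [dif_pos hg, dif_pos hh, dif_pos (mul_mem hg hh), ← map_mul]; rfl

/-- The vectors fixed by `A ⊓ K`. -/
def Fx (K : Subgroup G) (a : G → Module.End ℂ V) (A : Subgroup G) : Submodule ℂ V where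
  carrier := {v | ∀ g ∈ A, g ∈ K → a g v = v}
  add_mem' hv hw g h1 h2 := by rw [map_add, hv g h1 h2, hw g h1 h2]
  zero_mem' g _ _ := map_zero _
  smul_mem' c v hv g h1 h2 := by rw [map_smul, hv g h1 h2]

theorem Fx_mono {K : Subgroup G} {a : G → Module.End ℂ V} {A B : Subgroup G} (h : A ≤ B) : Fx K a B ≤ Fx K a A :=
  fun _ hv g h1 h2 => hv g (h h1) h2

theorem sum_finrank_le [FiniteDimensional ℂ V] {I J : Type*} [Fintype I] (T : J → Module.End ℂ V) (w : I → J → ℂ)
    (hw : Function.Injective w) (P : I → Submodule ℂ V) (hP : ∀ i, ∀ v ∈ P i, ∀ j, T j v = w i j • v)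
    {M : Submodule ℂ V} (hM : ∀ i, P i ≤ M) : ∑ i, finrank ℂ (P i) ≤ finrank ℂ M := by
  rw [← Module.finrank_pi_fintype ℂ (M := fun i => P i)]
  refine LinearMap.finrank_le_finrank_of_injective
    (f := ∑ i, (Submodule.inclusion (hM i)).comp (LinearMap.proj i)) ((injective_iff_map_eq_zero _).2 fun x hx => ?_)
  have h := congrArg Subtype.val hx
  simp only [LinearMap.sum_apply, LinearMap.comp_apply, LinearMap.proj_apply, AddSubmonoidClass.coe_finsetSum,
    Submodule.coe_inclusion, ZeroMemClass.coe_zero] at h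
  funext i
  exact Subtype.ext (CL.LS.eq_zero_of_sum_eq_zero T w Finset.univ hw.injOn (fun i => (x i : V))
    (fun i _ j => hP i _ (x i).2 j) h i (Finset.mem_univ i))

namespace Act

variable {K : Subgroup G} {a : G → Module.End ℂ V} (h : Act K a)
include h

theorem mul_apply {g g' : G} (hg : g ∈ K) (hg' : g' ∈ K) (v : V) : a (g * g') v = a g (a g' v) := by
  rw [h.mul hg hg', Module.End.mul_apply]

theorem one_apply (v : V) : a 1 v = v := by rw [h.one]; rfl

theorem inv_apply {g : G} (hg : g ∈ K) (v : V) : a g⁻¹ (a g v) = v := by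
  rw [← h.mul_apply (inv_mem hg) hg, inv_mul_cancel, h.one_apply]

theorem apply_inv {g : G} (hg : g ∈ K) (v : V) : a g (a g⁻¹ v) = v := by
  rw [← h.mul_apply hg (inv_mem hg), mul_inv_cancel, h.one_apply]

theorem injective {g : G} (hg : g ∈ K) : Function.Injective (a g) := Function.LeftInverse.injective (h.inv_apply hg)

theorem ne_zero {g : G} (hg : g ∈ K) {v : V} (hv : v ≠ 0) : a g v ≠ 0 := fun e =>
  hv (h.injective hg (e.trans (map_zero _).symm))

theorem conj_apply {g y : G} (hg : g ∈ K) (hy : y ∈ K) (v : V) : a y (a g v) = a g (a (g⁻¹ * y * g) v) := by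
  rw [← h.mul_apply hy hg, ← h.mul_apply hg (mul_mem (mul_mem (inv_mem hg) hy) hg)]
  congr 2; group

theorem map_mem_Fx {g : G} (hg : g ∈ K) {A B : Subgroup G} (hAB : ∀ y ∈ A, g⁻¹ * y * g ∈ B) {v : V} (hv : v ∈ Fx K a B) :
    a g v ∈ Fx K a A := fun y h1 h2 => by
  rw [h.conj_apply hg h2, hv _ (hAB y h1) (mul_mem (mul_mem (inv_mem hg) h2) hg)]

theorem map_mem_Fx_of_normalizer {g : G} (hg : g ∈ K) {A : Subgroup G} (hA : g ∈ Subgroup.normalizer (A : Set G)) {v : V}
    (hv : v ∈ Fx K a A) : a g v ∈ Fx K a A :=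
  h.map_mem_Fx hg (fun y hy => by simpa using (Subgroup.mem_normalizer_iff.1 (inv_mem hA) y).1 hy) hv

theorem finrank_le_of_map [FiniteDimensional ℂ V] {g : G} (hg : g ∈ K) {W W' : Submodule ℂ V} (hW : ∀ v ∈ W, a g v ∈ W') :
    finrank ℂ W ≤ finrank ℂ W' :=
  LinearMap.finrank_le_finrank_of_injective (f := (a g).restrict hW) fun x y e =>
    Subtype.ext (h.injective hg (congrArg Subtype.val e))

/-- The Heisenberg dimension formula. -/
theorem heis [FiniteDimensional ℂ V] (A : Subgroup G) [Finite (A ⊓ K : Subgroup G)] (W : Submodule ℂ V)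
    (hW : ∀ g ∈ A, g ∈ K → ∀ v ∈ W, a g v ∈ W)
    (hb : ∀ g ∈ A, g ∈ K → g ≠ 1 → ∃ b ∈ K, (∀ v ∈ W, a b v ∈ W) ∧ ∃ c : ℂ, c ≠ 1 ∧ ∀ v ∈ W, a ⁅b, g⁆ v = c • v) :
    finrank ℂ W = Nat.card (A ⊓ K : Subgroup G) * finrank ℂ (W ⊓ Fx K a A : Submodule ℂ V) := by
  classical
  let _ := Fintype.ofFinite (A ⊓ K : Subgroup G)
  let τ : Representation ℂ (A ⊓ K : Subgroup G) W :=
    { toFun := fun g => (a g).restrict (hW g g.2.1 g.2.2)
      map_one' := LinearMap.ext fun v => Subtype.ext (h.one_apply v)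
      map_mul' := fun g g' => LinearMap.ext fun v => Subtype.ext (h.mul_apply g.2.2 g'.2.2 v) }
  have h0 : (Nat.card (A ⊓ K : Subgroup G) : ℂ) ≠ 0 := Nat.cast_ne_zero.2 Nat.card_pos.ne'
  let _ := invertibleOfNonzero h0
  have h1 := τ.card_inv_mul_sum_char_eq_finrank
  have h2 : ∑ g, τ.character g = finrank ℂ W := by
    rw [Finset.sum_eq_single 1 (fun g _ hg => ?_) (by simp), Representation.char_one]
    obtain ⟨b, hbK, hbW, c, hc, e⟩ := hb g g.2.1 g.2.2 fun e => hg (Subtype.ext e)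
    have hu : IsUnit ((a b).restrict hbW) := (LinearMap.isUnit_iff_ker_eq_bot _).2 (LinearMap.ker_eq_bot.2 fun x y e =>
      Subtype.ext (h.injective hbK (congrArg Subtype.val e)))
    obtain ⟨B, hB⟩ := hu
    have e1 : (B : Module.End ℂ W) * τ g = c • (τ g * B) := LinearMap.ext fun v => Subtype.ext (by
      rw [hB]
      change a b (a g v) = c • a g (a b v)
      have hc : ⁅b, (g : G)⁆ ∈ K := by
        rw [commutatorElement_def]; exact mul_mem (mul_mem (mul_mem hbK g.2.2) (inv_mem hbK)) (inv_mem g.2.2)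
      rw [← e _ (hW g g.2.1 g.2.2 _ (hbW v v.2)), ← h.mul_apply hbK g.2.2, ← h.mul_apply g.2.2 hbK,
        ← h.mul_apply hc (mul_mem g.2.2 hbK)]
      congr 2; rw [commutatorElement_def]; group)
    have e2 : LinearMap.trace ℂ W (τ g) = c * LinearMap.trace ℂ W (τ g) := by
      conv_lhs => rw [← LinearMap.trace_conj ℂ (τ g) B, e1, smul_mul_assoc, Units.mul_inv_cancel_right, map_smul, smul_eq_mul]
    change LinearMap.trace ℂ W (τ g) = 0
    by_contra h3
    exact hc (mul_right_cancel₀ h3 (e2.symm.trans (one_mul _).symm))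
  have h3 : finrank ℂ τ.invariants = finrank ℂ (W ⊓ Fx K a A : Submodule ℂ V) := by
    rw [← Submodule.finrank_map_subtype_eq]
    refine congrArg (fun P : Submodule ℂ V => finrank ℂ P) ?_
    ext v
    simp only [Submodule.mem_map, Submodule.mem_inf, Representation.mem_invariants]
    constructor
    · rintro ⟨w, hw, rfl⟩
      exact ⟨w.2, fun g h1 h2 => congrArg Subtype.val (hw ⟨g, h1, h2⟩)⟩
    · rintro ⟨h1, h2⟩
      exact ⟨⟨v, h1⟩, fun g => Subtype.ext (h2 g g.2.1 g.2.2), rfl⟩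
  rw [h2, h3, inv_mul_eq_iff_eq_mul₀ h0] at h1
  exact_mod_cast h1

/-- The stabiliser of the line through `v`. -/
def St (v : V) : Subgroup G where
  carrier := {g | g ∈ K ∧ ∃ c : ℂ, c ≠ 0 ∧ a g v = c • v}
  one_mem' := ⟨one_mem K, 1, one_ne_zero, by rw [h.one_apply, one_smul]⟩
  mul_mem' := by
    rintro g g' ⟨hg, c, hc, e⟩ ⟨hg', c', hc', e'⟩
    exact ⟨mul_mem hg hg', c' * c, mul_ne_zero hc' hc, by rw [h.mul_apply hg hg', e', map_smul, e, smul_smul]⟩
  inv_mem' := by
    rintro g ⟨hg, c, hc, e⟩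
    refine ⟨inv_mem hg, c⁻¹, inv_ne_zero hc, ?_⟩
    rw [eq_inv_smul_iff₀ hc, ← map_smul, ← e, h.inv_apply hg]

/-- The stabiliser of `v`. -/
def Fv (v : V) : Subgroup G where
  carrier := {g | g ∈ K ∧ a g v = v}
  one_mem' := ⟨one_mem K, h.one_apply v⟩
  mul_mem' := by
    rintro g g' ⟨hg, e⟩ ⟨hg', e'⟩
    exact ⟨mul_mem hg hg', by rw [h.mul_apply hg hg', e', e]⟩
  inv_mem' := by
    rintro g ⟨hg, e⟩
    exact ⟨inv_mem hg, by conv_lhs => rw [← e, h.inv_apply hg]⟩

theorem comm_mem_Fv {v : V} {g g' : G} (hg : g ∈ h.St v) (hg' : g' ∈ h.St v) : ⁅g, g'⁆ ∈ h.Fv v := by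
  obtain ⟨k, c, hc, e⟩ := hg
  obtain ⟨k', c', hc', e'⟩ := hg'
  have hk : ⁅g, g'⁆ ∈ K := by rw [commutatorElement_def]; exact mul_mem (mul_mem (mul_mem k k') (inv_mem k)) (inv_mem k')
  refine ⟨hk, ?_⟩
  have e1 : a ⁅g, g'⁆ (a (g' * g) v) = a (g * g') v := by
    rw [← h.mul_apply hk (mul_mem k' k)]; congr 2; rw [commutatorElement_def]; group
  rw [h.mul_apply k' k, h.mul_apply k k', e, map_smul, e', map_smul, map_smul, map_smul, e, smul_comm c' c] at e1
  exact smul_right_injective V hc' (smul_right_injective V hc e1)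

theorem mem_St_of_finrank [FiniteDimensional ℂ V] {E : Submodule ℂ V} (hE : finrank ℂ E = 1) {v : V} (hv : v ∈ E)
    (h0 : v ≠ 0) {g : G} (hg : g ∈ K) (hgv : a g v ∈ E) : g ∈ h.St v := by
  obtain ⟨c, hc⟩ := (finrank_eq_one_iff_of_nonzero' (⟨v, hv⟩ : E) (by simpa using h0)).1 hE ⟨_, hgv⟩
  have e : a g v = c • v := (congrArg Subtype.val hc).symm
  exact ⟨hg, c, fun e0 => h.ne_zero hg h0 (by rw [e, e0, zero_smul]), e⟩

end Act

theorem le_of_finrank_one [FiniteDimensional ℂ V] {E E' : Submodule ℂ V} (hE : finrank ℂ E = 1) (h : E' ≤ E)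
    (h0 : finrank ℂ E' ≠ 0) : E ≤ E' :=
  (Submodule.eq_of_le_of_finrank_le h (by omega)).ge

end CL.MX
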