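/-
Minimal degrees for `G₂`, part 1: weight spaces, determinants, the relations.
-/
import Cfsg.Agent.Known.MXBase

set_option autoImplicit false
set_option linter.unusedSectionVars false

open Module

namespace CL.MX.G2

variable {F G V : Type*} [Field F] [Group G] [AddCommGroup V] [Module ℂ V] (ρ : G →* End ℂ V) (ψ : AddChar F ℂ)

/-- The weight space of a one-parameter family. -/
def W (y : F → G) (c : F) : Submodule ℂ V where
  carrier := {v | ∀ t, ρ (y t) v = ψ (c * t) • v}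
  add_mem' hv hw t := by rw [map_add, hv t, hw t, smul_add]
  zero_mem' t := by simp
  smul_mem' c v hv t := by rw [map_smul, hv t, smul_comm]

/-- Invariant subspaces. -/
def Inv (Y : Submodule ℂ V) (g : G) : Prop := ∀ v ∈ Y, ρ g v ∈ Y

open Classical in
/-- The determinant on an invariant subspace. -/
noncomputable def dt (Y : Submodule ℂ V) (g : G) : ℂ := if h : Inv ρ Y g then LinearMap.det ((ρ g).restrict h) else 0

variable {ρ ψ} {y y' : F → G} {c e : F} {g g' : G} {v : V} {M Y Y' : Submodule ℂ V}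

theorem mem_W0 : v ∈ W ρ ψ y 0 ↔ ∀ t, ρ (y t) v = v := by simp [W]

theorem mul_apply (g g' : G) (v : V) : ρ (g * g') v = ρ g (ρ g' v) := by rw [map_mul, End.mul_apply]

theorem shift_iff {k : F → G} {s : F → F} (hs : Function.Surjective s) {c' : F} (h : ∀ t, y' (s t) * g = g * y t * k t)
    (hk : ∀ t, ψ (c' * t) • ρ (k t) v = ψ (c * s t) • v) : ρ g v ∈ W ρ ψ y' c ↔ v ∈ W ρ ψ y c' := by
  refine hs.forall.trans (forall_congr' fun t => ?_)
  have h0 : ψ (c' * t) ≠ 0 := (ψ.val_isUnit _).ne_zero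
  have h1 : ψ (c * s t) ≠ 0 := (ψ.val_isUnit _).ne_zero
  rw [← mul_apply, h, mul_apply, mul_apply, ← map_smul, (CL.LS.rho_injective g).eq_iff,
    ← (smul_right_injective V h0).eq_iff, ← map_smul, hk, map_smul, smul_comm, (smul_right_injective V h1).eq_iff]

theorem conj_iff (he : e ≠ 0) (h : ∀ t, g * y t = y' (e * t) * g) : ρ g v ∈ W ρ ψ y' c ↔ v ∈ W ρ ψ y (c * e) :=
  shift_iff (k := fun _ => 1) (mul_left_surjective₀ he) (fun t => by rw [h, mul_one]) fun t => by simp [mul_assoc]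

theorem comm_iff (h : ∀ t, Commute g (y t)) : ρ g v ∈ W ρ ψ y c ↔ v ∈ W ρ ψ y c := by
  simpa using conj_iff (c := c) one_ne_zero fun t => by rw [one_mul, (h t).eq]

theorem shift {k : F → G} (h : ∀ t, y t * g = g * y t * k t) (hk : ∀ t, ρ (k t) v = ψ (e * t) • v) :
    ρ g v ∈ W ρ ψ y (c + e) ↔ v ∈ W ρ ψ y c :=
  shift_iff Function.surjective_id h fun t => by rw [hk, smul_smul, add_mul, AddChar.map_add_eq_mul, id]

theorem shift0 {k : F → G} (h : ∀ t, y t * g = g * y t * k t) (hk : ∀ t, ρ (k t) v = v) :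
    ρ g v ∈ W ρ ψ y c ↔ v ∈ W ρ ψ y c := by
  simpa using shift (ψ := ψ) (c := c) (e := 0) h (by simpa using hk)

theorem Inv.mul (h : Inv ρ Y g) (h' : Inv ρ Y g') : Inv ρ Y (g * g') := fun v hv => mul_apply g g' v ▸ h _ (h' v hv)

theorem dt_mul (h : Inv ρ Y g) (h' : Inv ρ Y g') : dt ρ Y (g * g') = dt ρ Y g * dt ρ Y g' := by
  rw [dt, dt, dt, dif_pos h, dif_pos h', dif_pos (h.mul h'), ← map_mul]
  exact congrArg _ (LinearMap.ext fun v => Subtype.ext (mul_apply (ρ := ρ) g g' v))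

theorem dt_smul [FiniteDimensional ℂ V] {z : ℂ} (h : ∀ v ∈ Y, ρ g v = z • v) : dt ρ Y g = z ^ finrank ℂ Y := by
  have h1 : Inv ρ Y g := fun v hv => h v hv ▸ Y.smul_mem z hv
  rw [dt, dif_pos h1, show (ρ g).restrict h1 = z • LinearMap.id from LinearMap.ext fun v => Subtype.ext (h v v.2),
    LinearMap.det_smul, LinearMap.det_id, mul_one]

/-- The isomorphism of subspaces given by a group element. -/
noncomputable def iso (g : G) (h : ∀ v, ρ g v ∈ Y' ↔ v ∈ Y) : Y ≃ₗ[ℂ] Y' :=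
  .ofBijective ((ρ g).restrict fun v => (h v).2) ⟨fun _ _ e => Subtype.ext (CL.LS.rho_injective g (congrArg Subtype.val e)),
    fun w => by
      have e : ρ g (ρ g⁻¹ w) = w := by rw [← mul_apply, mul_inv_cancel, map_one, End.one_apply]
      exact ⟨⟨_, (h _).1 (e.symm ▸ w.2)⟩, Subtype.ext e⟩⟩

variable (ρ) in
theorem feq (g : G) (h : ∀ v, ρ g v ∈ Y' ↔ v ∈ Y) : finrank ℂ Y = finrank ℂ Y' := (iso g h).finrank_eq

theorem dt_conj {n : G} (hn : ∀ v, ρ n v ∈ Y' ↔ v ∈ Y) (e : n * g = g' * n) (h : Inv ρ Y g) : dt ρ Y' g' = dt ρ Y g := by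
  have k : ∀ v : Y, ρ g' (iso n hn v) = ρ n (ρ g v) := fun v => by rw [← mul_apply, e, mul_apply]; rfl
  have h' : Inv ρ Y' g' := fun w hw => by
    obtain ⟨v, hv⟩ := (iso n hn).surjective ⟨w, hw⟩
    rw [show w = iso n hn v from congrArg Subtype.val hv.symm, k, hn]; exact h _ v.2
  rw [dt, dt, dif_pos h, dif_pos h', ← LinearMap.det_conj _ (iso n hn)]
  refine congrArg _ (LinearMap.ext fun w => ?_)
  obtain ⟨v, rfl⟩ := (iso n hn).surjective w
  simpa using Subtype.ext (k v)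

variable [FiniteDimensional ℂ V]

/-- A torus element forces a one-parameter group to act trivially on a line. -/
theorem fix_of_line (ha : ∀ t u, y (t + u) = y t * y u) (hY : finrank ℂ Y = 1) (h1 : ∀ t, Inv ρ Y (y t)) (h2 : Inv ρ Y g)
    (he : e ≠ 1) (h : ∀ t, g * y t = y (e * t) * g) : Y ≤ W ρ ψ y 0 := fun v hv => mem_W0.2 fun t => by
  rcases eq_or_ne v 0 with rfl | h0
  · simp
  have k := (finrank_eq_one_iff_of_nonzero' (⟨v, hv⟩ : Y) (by simpa using h0)).1 hY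
  obtain ⟨t, rfl⟩ := mul_left_surjective₀ (sub_ne_zero.2 he) t
  obtain ⟨l, hl⟩ := k ⟨_, h1 t v hv⟩
  obtain ⟨m, hm⟩ := k ⟨_, h2 v hv⟩
  replace hl : l • v = ρ (y t) v := congrArg Subtype.val hl
  replace hm : m • v = ρ g v := congrArg Subtype.val hm
  have hm0 : m ≠ 0 := fun e => h0 (CL.LS.rho_injective (ρ := ρ) g (by rw [← hm, e, zero_smul, map_zero]))
  refine CL.LS.rho_injective (ρ := ρ) (y t) (smul_right_injective V hm0 ?_)
  simp only [← mul_apply, ← ha]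
  rw [show t + (e - 1) * t = e * t by ring, ← map_smul, hm, ← mul_apply, ← h, mul_apply, ← hl, map_smul, ← hm, smul_comm]

variable (ρ) [Fintype F] (hψ : ψ ≠ 1) (ha : ∀ t u, y (t + u) = y t * y u) (hM : ∀ t, Inv ρ M (y t))
include hψ ha hM

theorem sumW : ∑ c, finrank ℂ (M ⊓ W ρ ψ y c : Submodule ℂ V) = finrank ℂ M := by
  classical
  let σ : Multiplicative F →* End ℂ M :=
    { toFun := fun t => (ρ (y t.toAdd)).restrict (hM _)
      map_one' := LinearMap.ext fun v => Subtype.ext (by simp [CL.LS.a_zero ha])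
      map_mul' := fun t u => LinearMap.ext fun v => Subtype.ext (by simp [ha]; rfl) }
  let _ := Fintype.ofFinite (Dual F F)
  rw [← CL.LS.sum_finrank_wsp (ρ := σ) (A := F) (a := Multiplicative.ofAdd) hψ fun _ _ => rfl]
  refine Fintype.sum_equiv (LinearMap.ringLmapEquivSelf F F F).symm.toEquiv _ _ fun c => ?_
  rw [← Submodule.finrank_map_subtype_eq]
  refine congrArg (fun P : Submodule ℂ V => finrank ℂ P) (Submodule.ext fun v => ⟨fun h => ⟨⟨v, h.1⟩, fun t => Subtype.ext ?_, rfl⟩, ?_⟩)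
  · simpa [σ, mul_comm] using h.2 t
  · rintro ⟨w, hw, rfl⟩
    exact ⟨w.2, fun t => by simpa [σ, mul_comm] using congrArg Subtype.val (hw t)⟩

theorem sum0 [DecidableEq F] : finrank ℂ M = finrank ℂ (M ⊓ W ρ ψ y 0 : Submodule ℂ V) + ∑ c : Fˣ, finrank ℂ (M ⊓ W ρ ψ y c : Submodule ℂ V) := by
  rw [← sumW ρ hψ ha hM, ← Finset.add_sum_erase _ _ (Finset.mem_univ 0)]
  congr 1
  exact (Finset.sum_bij (fun (t : Fˣ) _ => (t : F)) (fun t _ => by simp) (fun _ _ _ _ h => Units.ext h)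
    (fun t ht => ⟨Units.mk0 t (by simpa using ht), Finset.mem_univ _, rfl⟩) fun _ _ => rfl).symm

theorem sum1 {N : ℕ} (h : ∀ c ≠ 0, finrank ℂ (M ⊓ W ρ ψ y c : Submodule ℂ V) = N) :
    finrank ℂ M = finrank ℂ (M ⊓ W ρ ψ y 0 : Submodule ℂ V) + (Fintype.card F - 1) * N := by
  classical
  rw [sum0 ρ hψ ha hM, Finset.sum_congr rfl fun (c : Fˣ) _ => h c c.ne_zero, Finset.sum_const, Finset.card_univ, Fintype.card_units,
    smul_eq_mul]

theorem sum2 (h : ∀ e, ∃ g, ∀ v, ρ g v ∈ M ⊓ W ρ ψ y (c + e) ↔ v ∈ M ⊓ W ρ ψ y c) :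
    finrank ℂ M = Fintype.card F * finrank ℂ (M ⊓ W ρ ψ y c : Submodule ℂ V) := by
  rw [← sumW ρ hψ ha hM, Finset.sum_congr rfl (g := fun _ => finrank ℂ (M ⊓ W ρ ψ y c : Submodule ℂ V)) fun c' _ => ?_,
    Finset.sum_const, Finset.card_univ, smul_eq_mul]
  obtain ⟨g, hg⟩ := h (c' - c)
  rw [feq ρ g hg, add_sub_cancel]

theorem heis {x z : F → G} {ζ : F} (hx : ∀ u v, ρ (x u) v ∈ M ↔ v ∈ M) (hz : M ≤ W ρ ψ z ζ) (h0 : ζ ≠ 0) (he : e ≠ 0)
    (h : ∀ t u, y u * x t = x t * y u * z (e * t * u)) :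
    finrank ℂ M = Fintype.card F * finrank ℂ (M ⊓ W ρ ψ y c : Submodule ℂ V) :=
  sum2 ρ hψ ha hM fun e' => ⟨x (e' / (ζ * e)), fun v => by
    simp only [Submodule.mem_inf, hx]
    exact and_congr_right fun hv => shift (h _) fun t => by rw [hz hv]; congr 2; field_simp⟩

end CL.MX.G2
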