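/-
Minimal degrees for `G₂`, part 2: the relations, the layers of the long root subgroups, characteristic not three.
-/
import Cfsg.Agent.Known.MXG2a
import Cfsg.Agent.Char.Integrality

set_option autoImplicit false
set_option linter.unusedSectionVars false

open Module

namespace CL.MX.G2

variable {F G V : Type*} [Field F] [Group G] [AddCommGroup V] [Module ℂ V] {ρ : G →* End ℂ V} {ψ : AddChar F ℂ}

/-- The relations in the minimal parabolic subgroups of `G₂`. -/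
structure Rel (a b A B C Z : F → G) (na nb : G) (T : F → F → G) : Prop where
  a_add : ∀ t u, a (t + u) = a t * a u
  b_add : ∀ t u, b (t + u) = b t * b u
  A_add : ∀ t u, A (t + u) = A t * A u
  B_add : ∀ t u, B (t + u) = B t * B u
  C_add : ∀ t u, C (t + u) = C t * C u
  Z_add : ∀ t u, Z (t + u) = Z t * Z u
  ba : ∀ t u, b u * a t = a t * b u * (A (t * u) * B (t ^ 2 * u) * C (-(t ^ 3 * u)) * Z (-(t ^ 3 * u ^ 2)))
  Aa : ∀ t u, A u * a t = a t * A u * (B (2 * t * u) * C (-(3 * t ^ 2 * u)) * Z (-(3 * t * u ^ 2)))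
  Ba : ∀ t u, B u * a t = a t * B u * C (-3 * t * u)
  BA : ∀ t u, B u * A t = A t * B u * Z (-3 * t * u)
  Cb : ∀ t u, C u * b t = b t * C u * Z (-1 * t * u)
  aC : ∀ t u, Commute (a t) (C u)
  aZ : ∀ t u, Commute (a t) (Z u)
  bA : ∀ t u, Commute (b t) (A u)
  bB : ∀ t u, Commute (b t) (B u)
  bZ : ∀ t u, Commute (b t) (Z u)
  AC : ∀ t u, Commute (A t) (C u)
  AZ : ∀ t u, Commute (A t) (Z u)
  BC : ∀ t u, Commute (B t) (C u)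
  BZ : ∀ t u, Commute (B t) (Z u)
  CZ : ∀ t u, Commute (C t) (Z u)
  na_b : ∀ t, na * b t = C (1 * t) * na
  na_C : ∀ t, na * C t = b (-1 * t) * na
  na_A : ∀ t, na * A t = B (1 * t) * na
  na_B : ∀ t, na * B t = A (-1 * t) * na
  na_Z : ∀ t, na * Z t = Z (1 * t) * na
  nb_a : ∀ t, nb * a t = A (1 * t) * nb
  nb_A : ∀ t, nb * A t = a (-1 * t) * nb
  nb_C : ∀ t, nb * C t = Z (1 * t) * nb
  nb_Z : ∀ t, nb * Z t = C (-1 * t) * nb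
  nb_B : ∀ t, nb * B t = B (1 * t) * nb
  tor : ∀ u ≠ 0, ∀ v ≠ 0, ∀ t, T u v * a t = a (u * t) * T u v ∧ T u v * b t = b (v * t) * T u v ∧
    T u v * A t = A (u * v * t) * T u v ∧ T u v * B t = B (u ^ 2 * v * t) * T u v ∧
    T u v * C t = C (u ^ 3 * v * t) * T u v ∧ T u v * Z t = Z (u ^ 3 * v ^ 2 * t) * T u v

theorem ci {x y : F → G} (h : ∀ t u, Commute (x t) (y u)) : (∀ t c v, ρ (x t) v ∈ W ρ ψ y c ↔ v ∈ W ρ ψ y c) ∧
    ∀ t c v, ρ (y t) v ∈ W ρ ψ x c ↔ v ∈ W ρ ψ x c :=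
  ⟨fun t _ _ => comm_iff (h t), fun t _ _ => comm_iff fun u => (h u t).symm⟩

theorem arith {q d x m n : ℕ} (hq : 7 ≤ q) (hd : d + 1 = q ^ 3) (hx : x = (q - 1) * ((q + 1) * m + n)) (hn : n ≤ 1) (h0 : x ≠ 0)
    (h1 : x ≤ d) (h : d ∣ 3 * (q ^ 3 * (q ^ 3 + 1)) * x) : x = d := by
  rw [← hd, show 3 * ((d + 1) * (d + 1 + 1)) * x = d * (3 * (d + 3) * x) + 6 * x by ring,
    Nat.dvd_add_right (dvd_mul_right _ _)] at h
  obtain ⟨p, rfl⟩ : ∃ p, q = p + 1 := ⟨_, (Nat.sub_add_cancel (by omega)).symm⟩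
  obtain rfl : d = p * ((p + 1) * (p + 2) + 1) := Nat.add_right_cancel (hd.trans (by ring))
  subst hx
  rw [Nat.add_sub_cancel] at *
  obtain ⟨j, hj⟩ := Nat.dvd_of_mul_dvd_mul_left (by omega : 0 < p) (h.trans (mul_left_comm ..).dvd)
  have j1 : j ≤ 6 := Nat.le_of_mul_le_mul_left (c := (p + 1) * (p + 2) + 1) (by
    have := Nat.le_of_mul_le_mul_left h1 (by omega : 0 < p); omega) (by omega)
  have j2 : (6 * n - j : ℤ) = 0 := Int.eq_zero_of_abs_lt_dvd (m := p + 2) ⟨(p + 1) * j - 6 * m, by zify at hj; linarith⟩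
    (abs_lt.2 ⟨by omega, by omega⟩)
  obtain rfl : j = 6 := by
    rcases Nat.le_one_iff_eq_zero_or_eq_one.1 hn with rfl | rfl
    · obtain rfl : j = 0 := by omega
      exact (h0 (by rw [show (p + 1 + 1) * m + 0 = 0 by omega, mul_zero])).elim
    · omega
  congr 1; omega

namespace Rel

variable {a b A B C Z : F → G} {na nb : G} {T : F → F → G} (h : Rel a b A B C Z na nb T)
include h

theorem na_iff : (∀ c v, ρ na v ∈ W ρ ψ C c ↔ v ∈ W ρ ψ b c) ∧ (∀ c v, ρ na v ∈ W ρ ψ b c ↔ v ∈ W ρ ψ C (-c)) ∧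
    (∀ c v, ρ na v ∈ W ρ ψ B c ↔ v ∈ W ρ ψ A c) ∧ (∀ c v, ρ na v ∈ W ρ ψ A c ↔ v ∈ W ρ ψ B (-c)) ∧
    ∀ c v, ρ na v ∈ W ρ ψ Z c ↔ v ∈ W ρ ψ Z c :=
  ⟨fun _ _ => by simpa using conj_iff one_ne_zero h.na_b, fun _ _ => by simpa using conj_iff (by simp) h.na_C,
    fun _ _ => by simpa using conj_iff one_ne_zero h.na_A, fun _ _ => by simpa using conj_iff (by simp) h.na_B,
    fun _ _ => by simpa using conj_iff one_ne_zero h.na_Z⟩

theorem nb_iff : (∀ c v, ρ nb v ∈ W ρ ψ A c ↔ v ∈ W ρ ψ a c) ∧ (∀ c v, ρ nb v ∈ W ρ ψ a c ↔ v ∈ W ρ ψ A (-c)) ∧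
    (∀ c v, ρ nb v ∈ W ρ ψ Z c ↔ v ∈ W ρ ψ C c) ∧ (∀ c v, ρ nb v ∈ W ρ ψ C c ↔ v ∈ W ρ ψ Z (-c)) ∧
    ∀ c v, ρ nb v ∈ W ρ ψ B c ↔ v ∈ W ρ ψ B c :=
  ⟨fun _ _ => by simpa using conj_iff one_ne_zero h.nb_a, fun _ _ => by simpa using conj_iff (by simp) h.nb_A,
    fun _ _ => by simpa using conj_iff one_ne_zero h.nb_C, fun _ _ => by simpa using conj_iff (by simp) h.nb_Z,
    fun _ _ => by simpa using conj_iff one_ne_zero h.nb_B⟩

theorem T_iff {u v : F} (hu : u ≠ 0) (hv : v ≠ 0) : (∀ c w, ρ (T u v) w ∈ W ρ ψ a c ↔ w ∈ W ρ ψ a (c * u)) ∧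
    (∀ c w, ρ (T u v) w ∈ W ρ ψ b c ↔ w ∈ W ρ ψ b (c * v)) ∧ (∀ c w, ρ (T u v) w ∈ W ρ ψ A c ↔ w ∈ W ρ ψ A (c * (u * v))) ∧
    (∀ c w, ρ (T u v) w ∈ W ρ ψ B c ↔ w ∈ W ρ ψ B (c * (u ^ 2 * v))) ∧
    (∀ c w, ρ (T u v) w ∈ W ρ ψ C c ↔ w ∈ W ρ ψ C (c * (u ^ 3 * v))) ∧
    ∀ c w, ρ (T u v) w ∈ W ρ ψ Z c ↔ w ∈ W ρ ψ Z (c * (u ^ 3 * v ^ 2)) :=
  ⟨fun _ _ => conj_iff hu fun t => (h.tor u hu v hv t).1, fun _ _ => conj_iff hv fun t => (h.tor u hu v hv t).2.1,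
    fun _ _ => conj_iff (by simp [*]) fun t => (h.tor u hu v hv t).2.2.1,
    fun _ _ => conj_iff (by simp [*]) fun t => (h.tor u hu v hv t).2.2.2.1,
    fun _ _ => conj_iff (by simp [*]) fun t => (h.tor u hu v hv t).2.2.2.2.1,
    fun _ _ => conj_iff (by simp [*]) fun t => (h.tor u hu v hv t).2.2.2.2.2⟩

theorem bC0 {v : V} (hv : v ∈ W ρ ψ Z 0) (t c : F) : ρ (b t) v ∈ W ρ ψ C c ↔ v ∈ W ρ ψ C c :=
  shift0 (h.Cb t) fun _ => mem_W0.1 hv _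

variable [FiniteDimensional ℂ V] [Fintype F] (hψ : ψ ≠ 1)
include hψ

/-- The layers of the long root subgroups. -/
theorem layers {Y : Submodule ℂ V} (hb : ∀ t v, ρ (b t) v ∈ Y ↔ v ∈ Y) (hC : ∀ t v, ρ (C t) v ∈ Y ↔ v ∈ Y)
    (hZ : ∀ t v, ρ (Z t) v ∈ Y ↔ v ∈ Y) (hn : ∀ v, ρ nb v ∈ Y ↔ v ∈ Y) (hT : ∀ t ≠ 0, ∀ v, ρ (T 1 t) v ∈ Y ↔ v ∈ Y) :
    finrank ℂ Y = (Fintype.card F - 1) * (Fintype.card F + 1) * finrank ℂ (Y ⊓ W ρ ψ Z 0 ⊓ W ρ ψ C 1 : Submodule ℂ V) +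
      finrank ℂ (Y ⊓ W ρ ψ Z 0 ⊓ W ρ ψ C 0 : Submodule ℂ V) ∧ finrank ℂ (Y ⊓ W ρ ψ Z 0 ⊓ W ρ ψ C 0 : Submodule ℂ V) =
      finrank ℂ (Y ⊓ W ρ ψ Z 0 ⊓ W ρ ψ C 0 ⊓ W ρ ψ b 0 : Submodule ℂ V) +
      (Fintype.card F - 1) * finrank ℂ (Y ⊓ W ρ ψ Z 0 ⊓ W ρ ψ C 0 ⊓ W ρ ψ b 1 : Submodule ℂ V) := by
  have k1 : ∀ c ≠ 0, finrank ℂ (Y ⊓ W ρ ψ Z 0 ⊓ W ρ ψ C c : Submodule ℂ V) = finrank ℂ (Y ⊓ W ρ ψ Z 0 ⊓ W ρ ψ C 1 : Submodule ℂ V) :=
    fun c hc => feq ρ (T 1 c) fun v => by simp [hT c hc, h.T_iff one_ne_zero hc]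
  refine ⟨?_, sum1 ρ (M := Y ⊓ W ρ ψ Z 0 ⊓ W ρ ψ C 0) hψ h.b_add
    (fun t v hv => ⟨⟨(hb t v).2 hv.1.1, ((ci h.bZ).1 ..).2 hv.1.2⟩, (h.bC0 hv.1.2 ..).2 hv.2⟩)
    fun c hc => feq ρ (T 1 c) fun v => by simp [hT c hc, h.T_iff one_ne_zero hc]⟩
  rw [sum1 ρ hψ h.Z_add (fun t v => (hZ t v).2) fun c hc => (heis ρ hψ h.C_add (c := 0) (fun t v => by simp +contextual [hC, ci h.CZ])
      (by simp [hb, ci h.bZ]) inf_le_right hc (by simp) h.Cb).trans (congrArg _ ((feq ρ nb fun v => by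
        simp [hn, h.nb_iff, and_right_comm]).symm.trans (k1 c hc))),
    sum1 ρ hψ h.C_add (fun t v => by simp +contextual [hC, ci h.CZ]) k1]
  ring

theorem top_layers : finrank ℂ V = (Fintype.card F - 1) * (Fintype.card F + 1) * finrank ℂ (W ρ ψ Z 0 ⊓ W ρ ψ C 1 : Submodule ℂ V) +
      finrank ℂ (W ρ ψ Z 0 ⊓ W ρ ψ C 0 : Submodule ℂ V) ∧ finrank ℂ (W ρ ψ Z 0 ⊓ W ρ ψ C 0 : Submodule ℂ V) =
      finrank ℂ (W ρ ψ Z 0 ⊓ W ρ ψ C 0 ⊓ W ρ ψ b 0 : Submodule ℂ V) +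
      (Fintype.card F - 1) * finrank ℂ (W ρ ψ Z 0 ⊓ W ρ ψ C 0 ⊓ W ρ ψ b 1 : Submodule ℂ V) := by
  have := h.layers (ρ := ρ) hψ (Y := ⊤) (by simp) (by simp) (by simp) (by simp) (by simp)
  rwa [finrank_top, top_inf_eq] at this

theorem ne_zero (hZ : ρ (Z 1) ≠ 1) : finrank ℂ (W ρ ψ Z 0 ⊓ W ρ ψ C 1 : Submodule ℂ V) ≠ 0 := fun e => hZ (by
  have h1 := (h.top_layers (ρ := ρ) hψ).1
  rw [e, mul_zero, zero_add] at h1
  exact LinearMap.ext fun v => mem_W0.1 ((Submodule.eq_top_of_finrank_eq h1.symm).ge (Submodule.mem_top (x := v))).1 1)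

/-- The basic bound in characteristic not three. -/
theorem bound (h3 : (3 : F) ≠ 0) {u : F} (hu : u ≠ 0) (hu3 : u ^ 3 ≠ 1) (hZ : ρ (Z 1) ≠ 1) :
    2 * Fintype.card F ≤ finrank ℂ (W ρ ψ Z 0 ⊓ W ρ ψ C 1 : Submodule ℂ V) ∨
      finrank ℂ (W ρ ψ Z 0 ⊓ W ρ ψ C 1 : Submodule ℂ V) = Fintype.card F ∧
        1 ≤ finrank ℂ (W ρ ψ Z 0 ⊓ W ρ ψ C 0 ⊓ W ρ ψ b 1 : Submodule ℂ V) := by
  have h1 := heis ρ (M := W ρ ψ Z 0 ⊓ W ρ ψ C 1) hψ h.B_add (c := 0) (fun t v => by simp +contextual [ci h.BC, ci h.BZ])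
    (by simp [ci h.aC, ci h.aZ]) inf_le_right one_ne_zero (neg_ne_zero.2 h3) h.Ba
  have h0 := right_ne_zero_of_mul (h1 ▸ h.ne_zero hψ hZ)
  refine (le_or_gt 2 _).imp (fun h2 => h1 ▸ mul_comm 2 _ ▸ Nat.mul_le_mul_left _ h2) fun h2 => ?_
  replace h2 : finrank ℂ (W ρ ψ Z 0 ⊓ W ρ ψ C 1 ⊓ W ρ ψ B 0 : Submodule ℂ V) = 1 := by omega
  have h4 : (u ^ 3)⁻¹ ≠ 0 := by simp [hu]
  refine ⟨by rw [h1, h2, mul_one], h2.ge.trans ((Submodule.finrank_mono (le_inf inf_le_left (fix_of_line (ψ := ψ) h.b_add h2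
    (fun t v hv => ⟨⟨((ci h.bZ).1 ..).2 hv.1.1, (h.bC0 hv.1.1 ..).2 hv.1.2⟩, ((ci h.bB).1 ..).2 hv.2⟩) (g := T u (u ^ 3)⁻¹)
    (fun v => by simp +contextual [h.T_iff hu h4, hu]) (inv_ne_one.2 hu3) fun t => (h.tor u hu _ h4 t).2.1))).trans
    (feq ρ na fun v => by simp [h.na_iff, and_right_comm]).ge)⟩

omit hψ [Fintype F] in
/-- A unique line fixed by the long root subgroups is fixed by `U`. -/
theorem fix_U {u : F} (hu : u ≠ 0) (hu1 : u ≠ 1) (h1 : finrank ℂ (W ρ ψ Z 0 ⊓ W ρ ψ C 0 ⊓ W ρ ψ b 0 : Submodule ℂ V) = 1) :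
    W ρ ψ Z 0 ⊓ W ρ ψ C 0 ⊓ W ρ ψ b 0 ≤ W ρ ψ A 0 ⊓ W ρ ψ B 0 ⊓ W ρ ψ a 0 := by
  have k : W ρ ψ Z 0 ⊓ W ρ ψ C 0 ⊓ W ρ ψ b 0 ≤ W ρ ψ A 0 ⊓ W ρ ψ B 0 := le_inf
    (fix_of_line h.A_add h1 (fun t v => by simp +contextual [ci h.AZ, ci h.AC, ci h.bA]) (g := T 1 u)
      (fun v => by simp +contextual [h.T_iff one_ne_zero hu]) hu1 fun t => by simpa using (h.tor 1 one_ne_zero u hu t).2.2.1)
    (fix_of_line h.B_add h1 (fun t v => by simp +contextual [ci h.BZ, ci h.BC, ci h.bB]) (g := T 1 u)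
      (fun v => by simp +contextual [h.T_iff one_ne_zero hu]) hu1 fun t => by simpa using (h.tor 1 one_ne_zero u hu t).2.2.2.1)
  exact le_inf k (fix_of_line h.a_add h1 (fun t v hv => ⟨⟨((ci h.aZ).1 ..).2 hv.1.1, ((ci h.aC).1 ..).2 hv.1.2⟩,
    (shift0 (h.ba t) fun s => by simp only [mul_apply, mem_W0.1 hv.1.1, mem_W0.1 hv.1.2, mem_W0.1 (k hv).1, mem_W0.1 (k hv).2]).2
      hv.2⟩) (g := T u 1) (fun v => by simp +contextual [h.T_iff hu one_ne_zero]) hu1 fun t => (h.tor u hu 1 one_ne_zero t).1)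

/-- The degree `q ^ 3 - 1`: the element of order three centralising the long root subgroups acts as a scalar. -/
theorem scalar [Finite G] (τ : Representation ℂ G V) [τ.IsIrreducible] {s : G} (hs : s ^ 3 = 1) (kb : ∀ t, Commute s (b t))
    (kC : ∀ t, Commute s (C t)) (kZ : ∀ t, Commute s (Z t)) (kn : Commute s nb) (kT : ∀ t ≠ 0, Commute s (T 1 t))
    (hc : (Subgroup.centralizer {s}).index = Fintype.card F ^ 3 * (Fintype.card F ^ 3 + 1)) (hq : 7 ≤ Fintype.card F)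
    (hd : finrank ℂ V + 1 = Fintype.card F ^ 3) (h0 : finrank ℂ (W τ ψ Z 0 ⊓ W τ ψ C 0 ⊓ W τ ψ b 0 : Submodule ℂ V) = 0)
    (h1 : finrank ℂ (W τ ψ Z 0 ⊓ W τ ψ C 0 ⊓ W τ ψ b 1 : Submodule ℂ V) ≤ 1) : ∃ κ : ℂ, ∀ v, τ s v = κ • v := by
  have := CL.Char.nontrivial_of_irr τ
  obtain ⟨κ, hκ⟩ := End.exists_eigenvalue (τ s)
  have e3 : τ s * τ s * τ s = 1 := by rw [← map_mul, ← map_mul, ← pow_three', hs, map_one]
  have k3 : κ ^ 3 = 1 := by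
    obtain ⟨v, hv⟩ := hκ.exists_hasEigenvector
    refine smul_left_injective ℂ hv.2 ?_
    simpa [hv.apply_eq_smul, smul_smul, pow_three] using LinearMap.congr_fun e3 v
  have k : ∀ {g}, Commute s g → ∀ v, τ g v ∈ End.eigenspace (τ s) κ ↔ v ∈ End.eigenspace (τ s) κ := fun {g} hg v => by
    rw [End.mem_eigenspace_iff, End.mem_eigenspace_iff, ← mul_apply, hg.eq, mul_apply, ← map_smul, (CL.LS.rho_injective g).eq_iff]
  obtain ⟨l1, l2⟩ := h.layers hψ (fun t => k (kb t)) (fun t => k (kC t)) (fun t => k (kZ t)) (k kn) fun t ht => k (kT t ht)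
  have m : ∀ c, finrank ℂ (End.eigenspace (τ s) κ ⊓ W τ ψ Z 0 ⊓ W τ ψ C 0 ⊓ W τ ψ b c : Submodule ℂ V) ≤
      finrank ℂ (W τ ψ Z 0 ⊓ W τ ψ C 0 ⊓ W τ ψ b c : Submodule ℂ V) := fun c =>
    Submodule.finrank_mono (inf_le_inf_right _ (inf_le_inf_right _ inf_le_right))
  have hp : LinearMap.IsProj (End.eigenspace (τ s) κ) ((3 : ℂ)⁻¹ • (1 + κ ^ 2 • τ s + κ • (τ s * τ s))) :=
    ⟨fun v => End.mem_eigenspace_iff.2 (by
      have := LinearMap.congr_fun e3 v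
      simp only [End.mul_apply, End.one_apply] at this
      simp only [LinearMap.smul_apply, LinearMap.add_apply, End.mul_apply, End.one_apply, map_smul, map_add, this]
      linear_combination (norm := module) -(3 : ℂ)⁻¹ • k3 • τ s v - (3 : ℂ)⁻¹ • rfl (a := (κ - κ) • v)), fun v hv => by
      simp only [LinearMap.smul_apply, LinearMap.add_apply, End.mul_apply, End.one_apply, map_smul, End.mem_eigenspace_iff.1 hv]
      linear_combination (norm := module) (2 / 3 : ℂ) • k3 • v⟩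
  have ht := hp.trace
  have i1 := CL.Char.isIntegral_central_char τ s
  have i2 := CL.Char.isIntegral_central_char τ (s * s)
  have ik : IsIntegral ℤ κ := IsIntegral.of_pow (n := 3) (by norm_num) (k3 ▸ isIntegral_one)
  rw [show Subgroup.centralizer {s * s} = Subgroup.centralizer {s} from Subgroup.ext fun g => by
    simp only [Subgroup.mem_centralizer_singleton_iff]
    refine ⟨fun e => ?_, fun e => (Commute.mul_right e e).eq⟩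
    simpa [← mul_assoc, ← pow_three', hs] using (Commute.mul_right e e).eq] at i2
  have hd0 := CL.Char.finrank_cast_ne_zero_of_irr τ
  have i3 : finrank ℂ V ∣ 3 * (Subgroup.centralizer {s}).index * finrank ℂ (End.eigenspace (τ s) κ) :=
    CL.Char.dvd_of_isIntegral_div (by exact_mod_cast hd0) (by
      refine (congrArg _ ?_).mp (((isIntegral_natCast (Subgroup.centralizer {s}).index).add ((ik.pow 2).mul i1)).add (ik.mul i2))
      push_cast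
      rw [← ht, Representation.character, Representation.character]
      simp only [map_mul, map_smul, map_add, LinearMap.trace_one, smul_eq_mul]
      field_simp)
  have b1 := Submodule.finrank_le (End.eigenspace (τ s) κ)
  have b0 : finrank ℂ (End.eigenspace (τ s) κ) ≠ 0 := fun e => hκ (Submodule.finrank_eq_zero.1 e)
  refine ⟨κ, fun v => End.mem_eigenspace_iff.1 ((Submodule.eq_top_of_finrank_eq ?_).ge trivial)⟩
  have m1 := (m 1).trans h1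
  rw [l2, Nat.le_zero.1 ((m 0).trans h0.le), zero_add, mul_assoc, ← mul_add] at l1
  exact arith hq hd l1 m1 b0 b1 (hc ▸ i3)

end Rel

end CL.MX.G2
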