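/-
Minimal degrees for `G₂`, part 3: characteristic three.
-/
import Cfsg.Agent.Known.MXG2b

set_option autoImplicit false
set_option linter.unusedSectionVars false

open Module

namespace CL.MX.G2

variable {F G V : Type*} [Field F] [Group G] [AddCommGroup V] [Module ℂ V] {ρ : G →* End ℂ V} {ψ : AddChar F ℂ}

theorem add_cube (h3 : (3 : F) = 0) (t u : F) : (t + u) ^ 3 = t ^ 3 + u ^ 3 := by linear_combination (t ^ 2 * u + t * u ^ 2) * h3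

theorem cube_bij [Finite F] (h3 : (3 : F) = 0) : Function.Bijective fun t : F => t ^ 3 :=
  Finite.injective_iff_bijective.1 fun t u e => sub_eq_zero.1 (pow_eq_zero_iff (n := 3) (by norm_num) |>.1 (by
    rw [sub_eq_add_neg, add_cube h3]; linear_combination e))

theorem W_cube0 [Finite F] (h3 : (3 : F) = 0) (y : F → G) : W ρ ψ (fun t => y (t ^ 3)) 0 = W ρ ψ y 0 :=
  Submodule.ext fun _ => by rw [mem_W0, mem_W0, (cube_bij h3).2.forall (p := fun t => ρ (y t) _ = _)]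

theorem W_cube [Finite F] (h3 : (3 : F) = 0) (hψ : ψ ≠ 1) (y : F → G) : ∃ c ≠ 0, W ρ ψ (fun t => y (t ^ 3)) 1 = W ρ ψ y c := by
  let σ : F ≃+ F := .ofBijective (AddMonoidHom.mk' (· ^ 3) (add_cube h3)) (cube_bij h3)
  obtain ⟨c, hc⟩ := CL.LS.exists_eq_psi_mul hψ (ψ.compAddMonoidHom σ.symm.toAddMonoidHom)
  replace hc : ∀ t, ψ (1 * t) = ψ (c * t ^ 3) := fun t => (by simp : ψ (1 * t) = _).trans (hc (σ t))
  exact ⟨c, fun e => hψ (AddChar.ext _ _ fun t => by simpa [e] using hc t), Submodule.ext fun v =>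
    (forall_congr' fun t => by rw [hc]).trans ((cube_bij h3).2.forall (p := fun t => ρ (y t) v = ψ (c * t) • v)).symm⟩

theorem fc {P Q : Submodule ℂ V} (h : P = Q) : finrank ℂ P = finrank ℂ Q := by rw [h]

namespace Rel

variable {a b A B C Z : F → G} {na nb : G} {T : F → F → G} (h : Rel a b A B C Z na nb T) (h3 : (3 : F) = 0)
include h h3

theorem Aa' (t u : F) : A u * a t = a t * A u * B (-1 * t * u) := by
  rw [h.Aa, h3, show 2 * t * u = -1 * t * u by linear_combination t * u * h3]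
  simp [CL.LS.a_zero h.C_add, CL.LS.a_zero h.Z_add]

theorem aB (t u : F) : Commute (a t) (B u) := by simp [h.Ba, h3, CL.LS.a_zero h.C_add, Commute, SemiconjBy]

theorem AB (t u : F) : Commute (A t) (B u) := by simp [h.BA, h3, CL.LS.a_zero h.Z_add, Commute, SemiconjBy]

/-- The symmetry of the relations in characteristic three. -/
theorem dual : Rel (fun t => b (t ^ 3)) a (fun t => C (t ^ 3)) (fun t => Z (t ^ 3)) A B nb na fun u v => T v (u ^ 3) where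
  a_add t u := by rw [add_cube h3, h.b_add]
  b_add := h.a_add
  A_add t u := by rw [add_cube h3, h.C_add]
  B_add t u := by rw [add_cube h3, h.Z_add]
  C_add := h.A_add
  Z_add := h.B_add
  ba t u := by
    rw [h.ba, mul_assoc (a u * _), mul_assoc (C _ * _), ← (((h.AC _ _).mul_right (h.AZ _ _)).mul_left
      ((h.BC _ _).mul_right (h.BZ _ _))).eq, ← mul_assoc (A _ * B _) (C _),
      (((h.AZ _ _).mul_left (h.BZ _ _)).mul_left (h.CZ _ _)).symm.mul_mul_mul_comm,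
      ((h.AC _ _).mul_left (h.BC _ _)).symm.mul_mul_mul_comm, (h.AB h3 _ _).symm.mul_mul_mul_comm, ← h.A_add, ← h.B_add,
      ← h.C_add, ← h.Z_add]
    ring_nf
    simp [CL.LS.a_zero h.A_add, CL.LS.a_zero h.B_add, CL.LS.a_zero h.C_add, CL.LS.a_zero h.Z_add]
  Aa t u := by
    rw [h.Cb, h3, show (2 * t * u) ^ 3 = -1 * t ^ 3 * u ^ 3 by linear_combination 3 * t ^ 3 * u ^ 3 * h3]
    simp [CL.LS.a_zero h.A_add, CL.LS.a_zero h.B_add]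
  Ba t u := by simp [h3, CL.LS.a_zero h.A_add, (h.bZ _ _).eq]
  BA t u := by simp [h3, CL.LS.a_zero h.B_add, (h.CZ _ _).eq]
  Cb := h.Aa' h3
  aC _ _ := h.bA _ _
  aZ _ _ := h.bB _ _
  bA _ _ := h.aC _ _
  bB _ _ := h.aZ _ _
  bZ := h.aB h3
  AC _ _ := (h.AC _ _).symm
  AZ _ _ := (h.BC _ _).symm
  BC _ _ := (h.AZ _ _).symm
  BZ _ _ := (h.BZ _ _).symm
  CZ := h.AB h3
  na_b := h.nb_a
  na_C := h.nb_A
  na_A t := by simp [h.nb_C]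
  na_B t := by simp [h.nb_Z, Odd.neg_pow (by decide : Odd 3)]
  na_Z := h.nb_B
  nb_a t := by simp [h.na_b]
  nb_A t := by simp [h.na_C, Odd.neg_pow (by decide : Odd 3)]
  nb_C := h.na_A
  nb_Z := h.na_B
  nb_B t := by simp [h.na_Z]
  tor u hu v hv t := by
    have k := h.tor v hv _ (pow_ne_zero 3 hu)
    refine ⟨(k _).2.1.trans ?_, (k _).1, (k _).2.2.2.2.1.trans ?_, (k _).2.2.2.2.2.trans ?_, (k _).2.2.1.trans ?_,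
      (k _).2.2.2.1.trans ?_⟩ <;> congr 2 <;> ring

theorem aA0 {v : V} (hv : v ∈ W ρ ψ B 0) (t c : F) : ρ (a t) v ∈ W ρ ψ A c ↔ v ∈ W ρ ψ A c :=
  shift0 (h.Aa' h3 t) fun _ => mem_W0.1 hv _

omit h3 in
theorem bY (ζ γ u : F) (v : V) : ρ (b u) v ∈ W ρ ψ B 0 ⊓ W ρ ψ Z ζ ⊓ W ρ ψ C (γ + -(ζ * u)) ↔ v ∈ W ρ ψ B 0 ⊓ W ρ ψ Z ζ ⊓ W ρ ψ C γ := by
  simp only [Submodule.mem_inf, ci h.bB, ci h.bZ]
  exact and_congr_right fun hv => shift (h.Cb u) fun t => by rw [hv.2]; congr 2; ring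

theorem invA (ζ γ t : F) : Inv ρ (W ρ ψ B 0 ⊓ W ρ ψ Z ζ ⊓ W ρ ψ C γ) (A t) := fun v => by
  simp +contextual [ci (h.AB h3), ci h.AZ, ci h.AC]

theorem inva (ζ γ t : F) : Inv ρ (W ρ ψ B 0 ⊓ W ρ ψ Z ζ ⊓ W ρ ψ C γ) (a t) := fun v => by
  simp +contextual [ci (h.aB h3), ci h.aZ, ci h.aC]

omit h3 in
theorem nbY (ζ γ : F) (v : V) : ρ nb v ∈ W ρ ψ B 0 ⊓ W ρ ψ Z γ ⊓ W ρ ψ C (-ζ) ↔ v ∈ W ρ ψ B 0 ⊓ W ρ ψ Z ζ ⊓ W ρ ψ C γ := by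
  simp [h.nb_iff, and_right_comm]

omit h3 in
theorem ba' (t u : F) : b u * (A (t * u) * (B (t ^ 2 * u) * C (-(t ^ 3 * u)) * Z (-(t ^ 3 * u ^ 2))) * a (-t)) = a (-t) * b u := by
  have e : a t * a (-t) = 1 := by rw [← h.a_add, add_neg_cancel, CL.LS.a_zero h.a_add]
  rw [← mul_right_inj (a t), ← mul_assoc (a t) (a _), e, one_mul]
  refine .trans ?_ ((congrArg (· * a (-t)) (h.ba t u)).symm.trans (by rw [mul_assoc, e, mul_one]))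
  simp only [mul_assoc]

omit h3 in
theorem smul_Y {v : V} (hv : v ∈ W ρ ψ B 0 ⊓ W ρ ψ Z 1 ⊓ W ρ ψ C 1) (t u : F) :
    ρ (B (t ^ 2 * u) * C (-(t ^ 3 * u)) * Z (-(t ^ 3 * u ^ 2))) v = ψ (t ^ 3 * -(u * (u + 1))) • v := by
  rw [mul_apply, mul_apply, hv.1.2, map_smul, hv.2, map_smul, map_smul, mem_W0.1 hv.1.1, smul_smul, ← AddChar.map_add_eq_mul]
  congr 2; ring

variable [FiniteDimensional ℂ V]

theorem dt_A {ζ : F} (hζ : ζ ≠ 0) (γ t : F) : dt ρ (W ρ ψ B 0 ⊓ W ρ ψ Z ζ ⊓ W ρ ψ C γ) (A t) = 1 := by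
  have k : ∀ t, dt ρ (W ρ ψ B 0 ⊓ W ρ ψ Z ζ ⊓ W ρ ψ C 0) (A (-t)) = dt ρ (W ρ ψ B 0 ⊓ W ρ ψ Z ζ ⊓ W ρ ψ C 0) (A t) := fun t =>
    dt_conj (n := T 1 (-1)) (fun v => by simp [h.T_iff one_ne_zero (neg_ne_zero.2 one_ne_zero)])
      (by simpa using (h.tor 1 one_ne_zero (-1) (by simp) t).2.2.1) (h.invA h3 _ _ _)
  rw [show γ = 0 + -(ζ * (-γ / ζ)) by field_simp; ring, dt_conj (h.bY _ _ _) (h.bA _ _).eq (h.invA h3 _ _ _),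
    show t = -t + -t by linear_combination t * h3, h.A_add, dt_mul (h.invA h3 _ _ _) (h.invA h3 _ _ _)]
  nth_rewrite 1 [k]
  rw [← dt_mul (h.invA h3 _ _ _) (h.invA h3 _ _ _), ← h.A_add, add_neg_cancel, CL.LS.a_zero h.A_add, dt_smul (z := 1) (by simp),
    one_pow]

theorem dt_a (ζ : F) {γ : F} (hγ : γ ≠ 0) (t : F) : dt ρ (W ρ ψ B 0 ⊓ W ρ ψ Z ζ ⊓ W ρ ψ C γ) (a t) = 1 := by
  rw [← dt_conj (h.nbY ζ γ) (h.nb_a t) (h.inva h3 _ _ _), h.dt_A h3 hγ]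

variable [Fintype F] (hψ : ψ ≠ 1) {u : F} (u0 : u ≠ 0) (u1 : u ^ 2 ≠ 1)
include hψ u0 u1

omit h in
theorem psi_ne {n : F} (hn : ∀ t, ψ (n * (t ^ 3 * -(u * (u + 1)))) = 1) : n = 0 := by
  have := CL.LS.eq_zero_of_forall_psi hψ (c := n * -(u * (u + 1))) ((cube_bij h3).2.forall.2 fun t => by rw [← hn t]; congr 1; ring)
  have h1 : u + 1 ≠ 0 := fun e => u1 (by linear_combination (u - 1) * e)
  simpa [u0, h1] using this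

theorem three_dvd : 3 ∣ finrank ℂ (W ρ ψ B 0 ⊓ W ρ ψ Z 1 ⊓ W ρ ψ C 1 : Submodule ℂ V) := by
  have := Fact.mk Nat.prime_three
  have : CharP F 3 := (CharP.charP_iff_prime_eq_zero (Fact.out)).2 (by exact_mod_cast h3)
  refine (CharP.cast_eq_zero_iff F 3 _).1 (psi_ne h3 hψ u0 u1 fun t => ?_)
  have k : Inv ρ (W ρ ψ B 0 ⊓ W ρ ψ Z 1 ⊓ W ρ ψ C 1) _ := fun v hv => h.smul_Y hv t u ▸ Submodule.smul_mem _ _ hv
  have := dt_conj (h.bY 1 1 u) (h.ba' t u) (((h.invA h3 _ _ _).mul k).mul (h.inva h3 _ _ _))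
  rwa [dt_mul ((h.invA h3 _ _ _).mul k) (h.inva h3 _ _ _), dt_mul (h.invA h3 _ _ _) k, h.dt_a h3 _ one_ne_zero,
    h.dt_A h3 one_ne_zero, h.dt_a h3 _ fun e => u1 (by linear_combination -(u + 1) * e), dt_smul fun v hv => h.smul_Y hv t u,
    one_mul, mul_one, ← AddChar.map_nsmul_eq_pow, nsmul_eq_mul, eq_comm] at this

theorem eq_bot (h0 : ∀ ζ ≠ 0, ∀ γ, W ρ ψ B 0 ⊓ W ρ ψ Z ζ ⊓ W ρ ψ C γ ≤ W ρ ψ A 0) : W ρ ψ B 0 ⊓ W ρ ψ Z 1 ⊓ W ρ ψ C 1 = ⊥ := by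
  have k : ∀ γ ≠ 0, W ρ ψ B 0 ⊓ W ρ ψ Z 1 ⊓ W ρ ψ C γ ≤ W ρ ψ a 0 := fun γ hγ v hv =>
    (h.nb_iff.1 _ _).1 (h0 γ hγ _ ((h.nbY 1 γ v).2 hv))
  refine (Submodule.eq_bot_iff _).2 fun v hv => by_contra fun v0 => one_ne_zero (psi_ne h3 hψ u0 u1 fun t => ?_)
  have := congrArg (ρ · v) (h.ba' t u)
  simp only [mul_apply (b u), mul_apply _ (a _), mul_apply (A _), mul_apply (a _), mem_W0.1 (k 1 one_ne_zero hv), h.smul_Y hv, map_smul,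
    mem_W0.1 (h0 1 one_ne_zero 1 hv), mem_W0.1 (k _ (fun e => u1 (by linear_combination -(u + 1) * e)) ((h.bY 1 1 u v).2 hv))] at this
  rw [one_mul]
  exact smul_left_injective ℂ (mt (fun e => CL.LS.rho_injective (ρ := ρ) (b u) (e.trans (map_zero _).symm)) v0)
    (this.trans (one_smul _ _).symm)

omit u0 u1 h3 hψ in
theorem finrank_BZ {β ζ : F} (hβ : β ≠ 0) (hζ : ζ ≠ 0) :
    finrank ℂ (W ρ ψ B β ⊓ W ρ ψ Z ζ : Submodule ℂ V) = finrank ℂ (W ρ ψ B 1 ⊓ W ρ ψ Z 1 : Submodule ℂ V) :=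
  feq ρ (T (β ^ 2 / ζ) (ζ ^ 2 / β ^ 3)) fun v => by
    simp only [Submodule.mem_inf, h.T_iff (u := β ^ 2 / ζ) (v := ζ ^ 2 / β ^ 3) (by simp [*]) (by simp [*])]
    congr! 2 <;> field_simp

theorem one_of_eq (e : finrank ℂ (W ρ ψ Z 0 ⊓ W ρ ψ C 1 ⊓ W ρ ψ B 0 : Submodule ℂ V) = Fintype.card F) :
    finrank ℂ (W ρ ψ Z 0 ⊓ W ρ ψ C 1 ⊓ W ρ ψ B 0 ⊓ W ρ ψ A 0 : Submodule ℂ V) = Fintype.card F ∧
      finrank ℂ (W ρ ψ Z 0 ⊓ W ρ ψ C 0 ⊓ W ρ ψ B 0 ⊓ W ρ ψ A 0 ⊓ W ρ ψ b 1 : Submodule ℂ V) = 1 := by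
  classical
  have h1 := sum2 ρ (M := W ρ ψ Z 0 ⊓ W ρ ψ C 1 ⊓ W ρ ψ B 0 ⊓ W ρ ψ A 0) (c := 0) hψ h.b_add
    (fun t v hv => by simpa [ci h.bA, ci h.bB, ci h.bZ, h.bC0 hv.1.1.1] using hv) fun e => by
      obtain ⟨t, ht⟩ := (cube_bij h3).2 (-e)
      refine ⟨a t, fun v => ?_⟩
      simp only [Submodule.mem_inf, ci (h.aB h3), ci h.aC, ci h.aZ]
      refine (and_congr_left' (and_congr_right fun hv => h.aA0 h3 (And.right hv) _ _)).trans (and_congr_right fun hv =>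
        shift (h.ba t) fun s => ?_)
      rw [mul_apply, mul_apply, mul_apply, mem_W0.1 hv.1.1.1, hv.1.1.2, map_smul, map_smul, mem_W0.1 hv.1.2, mem_W0.1 hv.2]
      congr 2; linear_combination -s * ht
  replace h1 := h1.trans (congrArg _ (feq ρ (Y := W ρ ψ Z 0 ⊓ W ρ ψ C 0 ⊓ W ρ ψ B 0 ⊓ W ρ ψ A 0 ⊓ W ρ ψ b 1) na fun v => by
    simp [h.na_iff]; tauto).symm)
  rw [sum0 ρ hψ h.A_add fun t v => by simp +contextual [ci (h.AB h3), ci h.AZ, ci h.AC],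
    CL.Char.sum_eq_sum_cosets (powMonoidHom 2 : Fˣ →* Fˣ).range, Finset.sum_congr rfl fun c _ => Finset.sum_congr rfl
      (g := fun _ => finrank ℂ (W ρ ψ Z 0 ⊓ W ρ ψ C 1 ⊓ W ρ ψ B 0 ⊓ W ρ ψ A (c.out : Fˣ) : Submodule ℂ V)) fun ⟨_, w, rfl⟩ _ =>
        feq ρ (T (w⁻¹ : Fˣ) (w ^ 3 : Fˣ)) fun v => by
          simp only [Submodule.mem_inf, h.T_iff (w⁻¹).ne_zero (w ^ 3).ne_zero]
          congr! 3 <;> simp; field_simp] at e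
  simp only [Finset.sum_const, smul_eq_mul, ← Finset.mul_sum, Finset.card_univ] at e
  rw [h1] at e ⊢
  have h2 : finrank ℂ (W ρ ψ Z 0 ⊓ W ρ ψ C 0 ⊓ W ρ ψ B 0 ⊓ W ρ ψ A 0 ⊓ W ρ ψ b 1 : Submodule ℂ V) ≠ 0 := fun h2 => by
    rw [h2, mul_zero, zero_add] at e
    have h4 := Subgroup.card_subgroup_dvd_card (powMonoidHom 2 : Fˣ →* Fˣ).range
    rw [Nat.card_eq_fintype_card, Nat.card_eq_fintype_card, Fintype.card_units] at h4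
    have h5 := Nat.dvd_sub (Dvd.intro _ e) h4
    rw [Nat.sub_sub_self Fintype.card_pos, Nat.dvd_one, ← Nat.card_eq_fintype_card, Subgroup.card_eq_one] at h5
    exact u1 (by simpa using congrArg Units.val (Subgroup.mem_bot.1 (h5.le ⟨Units.mk0 u u0, rfl⟩)))
  have h4 := Nat.le_of_mul_le_mul_left ((Nat.le_add_right _ _).trans (e.trans (mul_one _).symm).le) Fintype.card_pos
  rw [show finrank ℂ (W ρ ψ Z 0 ⊓ W ρ ψ C 0 ⊓ W ρ ψ B 0 ⊓ W ρ ψ A 0 ⊓ W ρ ψ b 1 : Submodule ℂ V) = 1 by omega]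
  exact ⟨mul_one _, rfl⟩

theorem side (hZ : ρ (Z 1) ≠ 1) : ∃ x ≠ 0, ∃ y, finrank ℂ (W ρ ψ B 1 ⊓ W ρ ψ Z 1 : Submodule ℂ V) = Fintype.card F * (Fintype.card F * x) ∧
    finrank ℂ (W ρ ψ B 0 ⊓ W ρ ψ Z 1 ⊓ W ρ ψ C 0 ⊓ W ρ ψ A 0 : Submodule ℂ V) = y ∧
    finrank ℂ (W ρ ψ Z 0 ⊓ W ρ ψ C 1 : Submodule ℂ V) = y + (Fintype.card F - 1) * x + (Fintype.card F - 1) * (Fintype.card F * x) ∧
    (x = 1 → y ≤ 3 → y = 1 ∧ finrank ℂ (W ρ ψ Z 0 ⊓ W ρ ψ C 1 ⊓ W ρ ψ B 0 ⊓ W ρ ψ A 0 : Submodule ℂ V) = Fintype.card F ∧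
      finrank ℂ (W ρ ψ Z 0 ⊓ W ρ ψ C 0 ⊓ W ρ ψ B 0 ⊓ W ρ ψ A 0 ⊓ W ρ ψ b 1 : Submodule ℂ V) = 1) := by
  have hq : 0 < Fintype.card F := Fintype.card_pos
  obtain ⟨x, hx⟩ : ∃ x, finrank ℂ (W ρ ψ Z 0 ⊓ W ρ ψ C 1 ⊓ W ρ ψ B 1 ⊓ W ρ ψ A 0 : Submodule ℂ V) = x := ⟨_, rfl⟩
  have k1 : ∀ β ≠ 0, finrank ℂ (W ρ ψ B 1 ⊓ W ρ ψ Z 1 : Submodule ℂ V) =
      Fintype.card F * finrank ℂ (W ρ ψ Z 0 ⊓ W ρ ψ C 1 ⊓ W ρ ψ B β : Submodule ℂ V) := fun β hβ => by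
    rw [← h.finrank_BZ hβ one_ne_zero, heis ρ hψ h.C_add (c := 0) (fun t v => by simp +contextual [ci h.BC, ci h.CZ])
      (by simp [ci h.bB, ci h.bZ]) inf_le_right one_ne_zero (by simp) h.Cb]
    exact congrArg _ (feq ρ nb fun v => by simp [h.nb_iff]; tauto).symm
  have k2 := k1 1 one_ne_zero
  rw [heis ρ (M := W ρ ψ Z 0 ⊓ W ρ ψ C 1 ⊓ W ρ ψ B 1) hψ h.A_add (c := 0)
    (fun t v => by simp +contextual [ci (h.AB h3), ci h.AZ, ci h.AC]) (by simp [ci (h.aB h3), ci h.aC, ci h.aZ]) inf_le_right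
      one_ne_zero (by simp) (h.Aa' h3), hx] at k2
  have k3 : ∀ ζ ≠ 0, ∀ γ, finrank ℂ (W ρ ψ B 0 ⊓ W ρ ψ Z ζ ⊓ W ρ ψ C γ : Submodule ℂ V) =
      finrank ℂ (W ρ ψ B 0 ⊓ W ρ ψ Z ζ ⊓ W ρ ψ C γ ⊓ W ρ ψ A 0 : Submodule ℂ V) + (Fintype.card F - 1) * x := fun ζ hζ γ =>
    sum1 ρ hψ h.A_add (h.invA h3 _ _) fun α hα => by
      refine Nat.eq_of_mul_eq_mul_left hq (Nat.eq_of_mul_eq_mul_left hq ?_)
      rw [← k2, ← h.finrank_BZ hα hζ, heis ρ (M := W ρ ψ B α ⊓ W ρ ψ Z ζ) hψ h.A_add (c := 0)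
        (fun t v => by simp +contextual [ci (h.AB h3), ci h.AZ]) (by simp [ci (h.aB h3), ci h.aZ]) inf_le_left hα (by simp)
        (h.Aa' h3), inf_right_comm _ (W ρ ψ C γ), ← heis ρ hψ h.C_add (fun t v => by simp +contextual [ci h.BC, ci h.CZ, ci h.AC])
        (by simp [ci h.bB, ci h.bZ, ci h.bA]) (inf_le_left.trans inf_le_right) hζ (by simp) h.Cb]
      exact congrArg _ (feq ρ na fun v => by simp [h.na_iff]; tauto)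
  have k4 : finrank ℂ (W ρ ψ Z 0 ⊓ W ρ ψ C 1 ⊓ W ρ ψ B 0 : Submodule ℂ V) =
      finrank ℂ (W ρ ψ B 0 ⊓ W ρ ψ Z 1 ⊓ W ρ ψ C 0 : Submodule ℂ V) := feq ρ nb fun v => by simp [h.nb_iff]; tauto
  have k5 : finrank ℂ (W ρ ψ B 0 ⊓ W ρ ψ Z 1 ⊓ W ρ ψ C 1 : Submodule ℂ V) =
      finrank ℂ (W ρ ψ B 0 ⊓ W ρ ψ Z 1 ⊓ W ρ ψ C 0 : Submodule ℂ V) := feq ρ (b 1) fun v => by simpa using h.bY 1 1 1 v
  have k6 := sum1 ρ (M := W ρ ψ Z 0 ⊓ W ρ ψ C 1) hψ h.B_add (fun t v => by simp +contextual [ci h.BC, ci h.BZ])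
    fun β hβ => Nat.eq_of_mul_eq_mul_left hq ((k1 β hβ).symm.trans k2)
  refine ⟨x, fun e => h.ne_zero hψ hZ ?_, _, k2, rfl, by rw [k6, k4, k3 1 one_ne_zero], fun e hy => ?_⟩
  · rw [k6, k4, ← k5, e, h.eq_bot h3 hψ u0 u1 fun ζ hζ γ => inf_eq_left.1 (Submodule.eq_of_le_of_finrank_eq inf_le_left
      (by rw [k3 ζ hζ γ, e]; rfl)), finrank_bot]
    rfl
  · have := Fact.mk Nat.prime_three
    have : CharP F 3 := (CharP.charP_iff_prime_eq_zero (Fact.out)).2 (by exact_mod_cast h3)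
    have k7 := (CharP.cast_eq_zero_iff F 3 _).1 (FiniteField.cast_card_eq_zero F)
    have k8 := h.three_dvd (ρ := ρ) h3 hψ u0 u1
    rw [k5, k3 1 one_ne_zero, e] at k8
    exact ⟨by omega, h.one_of_eq h3 hψ u0 u1 (by rw [k4, k3 1 one_ne_zero, e]; omega)⟩

theorem three (hZ : ρ (Z 1) ≠ 1) (hB : ρ (B 1) ≠ 1) : Fintype.card F ^ 4 + Fintype.card F ^ 2 ≤ finrank ℂ V + 2 := by
  have u2 : u ≠ 1 := fun e => u1 (by rw [e, one_pow])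
  obtain ⟨x, x0, y, e1, -, e3, e4⟩ := h.side h3 hψ u0 u1 hZ
  obtain ⟨x', -, y', e1', e2', -, e4'⟩ := (h.dual h3).side h3 hψ u0 u1 hB
  obtain ⟨c, c0, hc⟩ := W_cube (ρ := ρ) h3 hψ Z
  rw [W_cube0 h3, W_cube0 h3] at e2' e4'
  rw [hc, inf_comm, h.finrank_BZ one_ne_zero c0, e1] at e1'
  obtain rfl := Nat.eq_of_mul_eq_mul_left Fintype.card_pos (Nat.eq_of_mul_eq_mul_left Fintype.card_pos e1')
  have l1 := (h.top_layers (ρ := ρ) hψ).1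
  have l2 := sum1 ρ (M := W ρ ψ Z 0 ⊓ W ρ ψ C 0) hψ h.B_add (fun t v => by simp +contextual [ci h.BC, ci h.BZ])
    (N := Fintype.card F * y') fun β hβ => by
      rw [feq ρ (Y' := W ρ ψ Z 0 ⊓ W ρ ψ C 0 ⊓ W ρ ψ B 1) (T 1 β) fun v => by simp [h.T_iff one_ne_zero hβ],
        heis ρ hψ h.A_add (c := 0) (fun t v => by simp +contextual [ci (h.AB h3), ci h.AZ, ci h.AC])
        (by simp [ci (h.aB h3), ci h.aC, ci h.aZ]) inf_le_right one_ne_zero (by simp) (h.Aa' h3), ← e2']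
      exact congrArg _ (fc (by ac_rfl))
  rw [e3, l2] at l1
  obtain ⟨p, hp⟩ : ∃ p, Fintype.card F = p + 3 := ⟨_, (Nat.sub_add_cancel (Fintype.two_lt_card_iff.2
    ⟨0, 1, u, zero_ne_one, u0.symm, u2.symm⟩)).symm⟩
  by_cases hx : x = 1 ∧ y ≤ 3 ∧ y' ≤ 3
  · obtain ⟨rfl, -, f2⟩ := e4 hx.1 hx.2.1
    obtain ⟨rfl, f3, f4⟩ := e4' hx.1 hx.2.2
    have l3 := sum1 ρ (M := W ρ ψ Z 0 ⊓ W ρ ψ C 0 ⊓ W ρ ψ B 0) hψ h.A_add
      (fun t v => by simp +contextual [ci (h.AB h3), ci h.AZ, ci h.AC]) (N := Fintype.card F) fun α hα =>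
        (feq ρ (T 1 α) fun v => by simp [h.T_iff one_ne_zero hα]; tauto).trans f3
    have i : ∀ t, Inv ρ (W ρ ψ Z 0 ⊓ W ρ ψ C 0 ⊓ W ρ ψ B 0 ⊓ W ρ ψ A 0) (b t) := fun t v hv => by
      simpa [ci h.bA, ci h.bB, ci h.bZ, h.bC0 hv.1.1.1] using hv
    have l4 := sum1 ρ hψ h.b_add i fun c hc => (feq ρ (T 1 c) fun v => by simp [h.T_iff one_ne_zero hc]).trans f2
    have k : ∀ v ∈ W ρ ψ Z 0 ⊓ W ρ ψ C 0 ⊓ W ρ ψ B 0 ⊓ W ρ ψ A 0, ∀ t s,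
        ρ (A (t * s) * B (t ^ 2 * s) * C (-(t ^ 3 * s)) * Z (-(t ^ 3 * s ^ 2))) v = v := fun v hv t s => by
      simp only [mul_apply, mem_W0.1 hv.1.1.1, mem_W0.1 hv.1.1.2, mem_W0.1 hv.1.2, mem_W0.1 hv.2]
    replace f4 : finrank ℂ (W ρ ψ Z 0 ⊓ W ρ ψ C 0 ⊓ W ρ ψ B 0 ⊓ W ρ ψ A 0 ⊓ W ρ ψ a 1 : Submodule ℂ V) = 1 :=
      (fc (by ac_rfl)).trans f4
    have f5 := fix_of_line (ψ := ψ) h.b_add f4 (fun t v hv => ⟨i t v hv.1, fun s => by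
      simpa only [neg_neg, mul_apply, hv.2 s, map_smul, mem_W0.1 hv.1.1.1.1, mem_W0.1 hv.1.1.1.2, mem_W0.1 hv.1.1.2,
        mem_W0.1 hv.1.2] using congrArg (ρ · v) (h.ba' (-s) t).symm⟩) (g := T 1 u) (fun v => by simp +contextual [h.T_iff one_ne_zero u0]) u2
      fun t => (h.tor 1 one_ne_zero u u0 t).2.1
    have l5 := sum1 ρ (M := W ρ ψ Z 0 ⊓ W ρ ψ C 0 ⊓ W ρ ψ B 0 ⊓ W ρ ψ A 0 ⊓ W ρ ψ b 0) hψ h.a_add (fun t v hv =>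
      ⟨by simpa [ci (h.aB h3), ci h.aC, ci h.aZ, h.aA0 h3 hv.1.1.2] using hv.1, (shift0 (h.ba t) (k v hv.1 t)).2 hv.2⟩)
      (N := 1) fun c hc => (feq ρ (T c 1) fun v => by simp [h.T_iff hc one_ne_zero]; tauto).trans
        ((fc (inf_eq_left.2 f5)).trans f4)
    rw [l1, l3, l4, l5, hx.1, hp]
    simp only [Nat.add_succ_sub_one]
    ring_nf; omega
  · rw [l1, hp]
    simp only [Nat.add_succ_sub_one]
    obtain h | ⟨rfl, h | h⟩ : 2 ≤ x ∨ x = 1 ∧ (4 ≤ y ∨ 4 ≤ y') := by omega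
    all_goals obtain ⟨k, rfl⟩ := Nat.exists_eq_add_of_le h; ring_nf; omega

end Rel

end CL.MX.G2
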