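/-
The degree of an irreducible representation of a Chevalley group with a unique line fixed by `U`.
-/
import Cfsg.Agent.Known.MCAvg
import Cfsg.Agent.Chev.WeylReal
import Cfsg.Agent.Char.Integrality

set_option autoImplicit false
set_option linter.unusedSectionVars false

open Module

namespace CL.MX

open CL.Chev CL.Cox CL.LS

variable {G V : Type*} [Group G] [Finite G] [AddCommGroup V] [Module ℂ V] [FiniteDimensional ℂ V]

/-- The spherical function. -/
theorem exists_spherical (τ : Representation ℂ G V) [τ.IsIrreducible] (U : Subgroup G)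
    (h1 : finrank ℂ (Representation.invariants (τ.comp U.subtype)) = 1) : ∃ φ : G → ℂ, (∀ u ∈ U, φ u = 1) ∧
      (∀ g g', (∀ u ∈ U, ∃ a c, u = a * c ∧ g * a * g⁻¹ ∈ U ∧ g'⁻¹ * c * g' ∈ U) → φ (g * g') = φ g * φ g') ∧
      (∀ g g', Nat.card U * (φ g * φ g') = ∑ᶠ u : U, φ (g * u * g')) ∧ finrank ℂ V * ∑ᶠ g, φ g * φ g⁻¹ = Nat.card G := by
  classical
  let _ := Fintype.ofFinite G
  have h0 : (Fintype.card U : ℂ) ≠ 0 := Nat.cast_ne_zero.2 Fintype.card_ne_zero
  have he := isAvg_sum (ρ := τ) h0 (Subtype.val : U → G) (fun y => ⟨Equiv.mulLeft y, fun _ => rfl⟩)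
    fun y => ⟨Equiv.mulRight y, fun _ => rfl⟩
  obtain ⟨e, hedef⟩ : ∃ e : End ℂ V, e = (Fintype.card U : ℂ)⁻¹ • ∑ x : U, τ x := ⟨_, rfl⟩
  rw [← hedef] at he
  have hL : ∀ u ∈ U, τ u * e = e := fun u hu => he.left u ⟨⟨u, hu⟩, rfl⟩
  have hR : ∀ u ∈ U, e * τ u = e := fun u hu => he.right u ⟨⟨u, hu⟩, rfl⟩
  have hp : LinearMap.IsProj (Representation.invariants (τ.comp U.subtype)) e :=
    ⟨fun v u => LinearMap.congr_fun (hL u u.2) v, fun v hv => by
      have : ∀ u : U, τ u v = v := hv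
      simp [hedef, this, ← Nat.cast_smul_eq_nsmul ℂ, smul_smul, inv_mul_cancel₀ h0]⟩
  obtain ⟨f, -, hf⟩ := finrank_eq_one_iff'.1 h1
  choose l hl using fun v => hf ⟨e v, hp.map_mem v⟩
  replace hl : ∀ v, l v • (f : V) = e v := fun v => congrArg Subtype.val (hl v)
  have hφ : ∀ g, e * τ g * e = l (τ g f) • e := fun g => LinearMap.ext fun v => by
    rw [End.mul_apply, End.mul_apply, LinearMap.smul_apply, ← hl v, map_smul, map_smul, ← hl, smul_comm]
  have ht : LinearMap.trace ℂ V e = 1 := by rw [hp.trace, h1, Nat.cast_one]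
  have inj : ∀ {c c' : ℂ}, c • e = c' • e → c = c' := fun h => by
    simpa [ht] using congrArg (LinearMap.trace ℂ V) h
  have two : ∀ g g', e * τ g * e * (τ g' * e) = (l (τ g f) * l (τ g' f)) • e := fun g g' => by
    rw [hφ, smul_mul_assoc, ← mul_assoc, hφ, smul_smul]
  have mid : ∀ g g', (Fintype.card U : ℂ) • (e * τ g * e * (τ g' * e)) = ∑ u : U, e * τ (g * u * g') * e := fun g g' => by
    conv_lhs => rw [← smul_mul_assoc, ← mul_smul_comm]; enter [1, 2]; rw [hedef, smul_smul, mul_inv_cancel₀ h0, one_smul]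
    simp only [Finset.mul_sum, Finset.sum_mul, map_mul, mul_assoc]
  refine ⟨fun g => l (τ g f), fun u hu => inj (by rw [← hφ, hR u hu, he.idem, one_smul]), fun g g' h => inj ?_, fun g g' => inj ?_, ?_⟩
  · rw [← two, ← hφ]
    refine smul_right_injective _ h0 ?_
    simp only [mid]
    rw [Finset.sum_congr rfl (g := fun _ => e * τ (g * g') * e) fun u _ => ?_, Finset.sum_const, Finset.card_univ,
      Nat.cast_smul_eq_nsmul]
    obtain ⟨a, c, h2, h3, h4⟩ := h u u.2
    rw [show g * u * g' = g * a * g⁻¹ * (g * g') * (g'⁻¹ * c * g') by rw [h2]; group, map_mul, map_mul, ← mul_assoc, ← mul_assoc,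
      hR _ h3, mul_assoc _ (τ _) e, hL _ h4]
  · rw [mul_smul, ← two, Nat.card_eq_fintype_card, mid, finsum_eq_sum_of_fintype, Finset.sum_smul]
    exact Finset.sum_congr rfl fun u _ => hφ _
  · have h2 := CL.Char.eq_scalar_of_commute τ (∑ g, τ g * e * τ g⁻¹) fun h => by
      rw [Finset.sum_mul, Finset.mul_sum, ← Equiv.sum_comp (Equiv.mulLeft h)]
      refine Finset.sum_congr rfl fun g _ => ?_
      simp only [Equiv.coe_mulLeft, mul_assoc, ← map_mul, mul_inv_rev, inv_mul_cancel, mul_one]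
      rw [map_mul, mul_assoc]
    have h3 : LinearMap.trace ℂ V (∑ g, τ g * e * τ g⁻¹) = Nat.card G := by
      rw [map_sum, Finset.sum_congr rfl (g := fun _ => 1) fun g _ => by
        rw [LinearMap.trace_mul_comm, ← mul_assoc, ← map_mul, inv_mul_cancel, map_one, one_mul, ht]]
      simp
    have h4 := congrArg (fun X => e * X * e) h2
    simp only [Finset.mul_sum, Finset.sum_mul] at h4
    rw [h3, Finset.sum_congr rfl (g := fun g => (l (τ g f) * l (τ g⁻¹ f)) • e) fun g _ => by rw [← two]; simp only [mul_assoc],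
      ← Finset.sum_smul, mul_smul_comm, smul_mul_assoc, ← End.one_eq_id, mul_one, he.idem] at h4
    rw [finsum_eq_sum_of_fintype, inj h4, mul_div_cancel₀ _ (CL.Char.finrank_cast_ne_zero_of_irr τ)]

variable {ι Φ : Type} [Fintype ι] [DecidableEq ι] {R : RS ι Φ} {F : Type*} [Field F] [Fintype F] {S : StSys R F G} [Finite Φ]

theorem hecke (hS : S.Faithful) (hM : S.HMul) (hG : S.grp = ⊤) (τ : Representation ℂ G V) [τ.IsIrreducible]
    (h1 : finrank ℂ (Representation.invariants (τ.comp S.U.subtype)) = 1) {M : CoxeterMatrix ι} (hC : IsCartan M R.cartanM) :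
    ∃ (t : ι → ℂ) (f : R.W → ℂ), (∀ i, t i = 1 ∨ t i = Fintype.card F ∨ t i = (Fintype.card F : ℂ)⁻¹) ∧ LenMul (R.coxOf hC) t f ∧
      f 1 = 1 ∧ finrank ℂ V * (Nat.card S.B * ∑ᶠ w, f w) = Nat.card G := by
  classical
  obtain ⟨φ, p1, p2, p3, p4⟩ := exists_spherical τ S.U h1
  have bl : ∀ b ∈ S.B, ∀ g, φ (b * g) = φ b * φ g := fun b hb g => p2 b g fun u hu =>
    ⟨u, 1, (mul_one u).symm, conj_mem_of_normalizer (S.B_le_normalizer_U hb) hu, by simp⟩
  have br : ∀ b ∈ S.B, ∀ g, φ (g * b) = φ g * φ b := fun b hb g => p2 g b fun u hu =>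
    ⟨1, u, (one_mul u).symm, by simp, inv_conj_mem_of_normalizer (S.B_le_normalizer_U hb) hu⟩
  have bi : ∀ b ∈ S.B, φ b * φ b⁻¹ = 1 := fun b hb => by rw [← bl b hb, mul_inv_cancel, p1 1 (one_mem _)]
  choose n hn using fun w : R.W => S.exists_NW_of_mem_W w.2
  have cell : ∀ (w : R.W), ∀ g ∈ S.cell w, φ g * φ g⁻¹ = φ (n w) * φ (n w)⁻¹ := fun w g hg => by
    obtain ⟨b, hb, b', hb', rfl⟩ := (StSys.mem_cell_iff (hn w)).1 hg
    rw [mul_inv_rev, mul_inv_rev, br b' hb', bl b hb, bl _ (inv_mem hb'), br _ (inv_mem hb)]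
    linear_combination (φ (n w) * φ (n w)⁻¹ * (φ b' * φ b'⁻¹)) * bi b hb + φ (n w) * φ (n w)⁻¹ * bi b' hb'
  have hq : (Fintype.card F : ℂ) ≠ 0 := Nat.cast_ne_zero.2 Fintype.card_ne_zero
  have hA : ∀ i, ∀ a ∈ S.XS {r | R.Pos r ∧ R.Pos (R.sperm i r)}, S.nS i * a * (S.nS i)⁻¹ ∈ S.U := fun i a ha =>
    (S.induces_nS i).conj_mem_XS (fun _ h => h.2) ha
  refine ⟨fun i => Fintype.card F * (φ (S.nS i) * φ (S.nS i)⁻¹), fun w => Fintype.card F ^ R.ell w * (φ (n w) * φ (n w)⁻¹),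
    fun i => ?_, fun w i h => ?_, ?_, ?_⟩
  · -- rank one
    let e : S.XS {r | R.Pos r ∧ R.Pos (R.sperm i r)} × F ≃ S.U := Equiv.ofBijective
      (fun p => ⟨p.1 * S.x (R.simple i) p.2, mul_mem (S.XS_mono (fun _ h => h.1) p.1.2) (S.x_mem_U (R.pos_simple i) _)⟩) ⟨by
        rintro ⟨a, t⟩ ⟨a', t'⟩ h
        have h2 : S.x (R.simple i) (t - t') = (a : G)⁻¹ * a' := by
          rw [sub_eq_add_neg, S.x_add, S.x_neg, mul_inv_eq_iff_eq_mul, mul_assoc, eq_inv_mul_iff_mul_eq]; exact congrArg Subtype.val h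
        have h3 : t - t' = 0 := by
          by_contra h3
          have := hA i _ (h2 ▸ mul_mem (inv_mem a.2) a'.2)
          obtain ⟨c, hc, e⟩ := (S.induces_nS i).exists_conj (R.simple i)
          rw [e, hS.x_mem_U_iff (mul_ne_zero hc h3), RS.sperm_apply, R.pos_sref_iff] at this
          exact this.elim (fun h => h.2 rfl) (R.simple_ne_neg_simple i i)
        rw [h3, S.x_zero, eq_inv_mul_iff_mul_eq, mul_one] at h2
        exact Prod.ext (Subtype.ext h2) (sub_eq_zero.1 h3), fun u => by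
        obtain ⟨a, ha, c, hc, e⟩ := StSys.exists_pos_mul_inv (R.sperm i) u.2
        rw [R.inv_sperm] at hc
        obtain ⟨t, rfl⟩ := S.mem_X.1 hc
        exact ⟨(⟨a, ha⟩, t), Subtype.ext e.symm⟩⟩
    let _ := Fintype.ofFinite (S.XS {r | R.Pos r ∧ R.Pos (R.sperm i r)})
    have h2 := p3 (S.nS i) (S.nS i)⁻¹
    rw [← finsum_comp_equiv e, finsum_eq_sum_of_fintype, Fintype.sum_prod_type, Finset.sum_congr rfl
      (g := fun _ => ∑ t, φ (S.nS i * S.x (R.simple i) t * (S.nS i)⁻¹)) fun a _ => Finset.sum_congr rfl fun t _ => by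
        change φ (_ * (a * S.x _ t) * _) = _
        rw [show S.nS i * (a * S.x (R.simple i) t) * (S.nS i)⁻¹ =
            S.nS i * a * (S.nS i)⁻¹ * (S.nS i * S.x (R.simple i) t * (S.nS i)⁻¹) by group,
          bl _ (S.U_le_B (hA i a a.2)), p1 _ (hA i a a.2), one_mul],
      Finset.sum_const, Finset.card_univ, ← Nat.card_congr e, Nat.card_prod, Nat.card_eq_fintype_card, Nat.card_eq_fintype_card,
      Nat.cast_mul, mul_assoc, nsmul_eq_mul] at h2
    replace h2 := mul_left_cancel₀ (Nat.cast_ne_zero.2 Fintype.card_ne_zero) h2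
    have hU := fun t => S.x_mem_U (R.pos_simple i) t
    let θ : Fˣ →* ℂ := ⟨⟨fun c => φ (S.h (R.simple i) c), by simp [S.h_one, p1 1 (one_mem _)]⟩, fun c c' => by
      simp only [Units.val_mul]; rw [hM _ _ _ c.ne_zero c'.ne_zero, bl _ (S.H_le_B (S.h_mem_H _ c.ne_zero))]⟩
    obtain ⟨c, hc, e⟩ := (S.induces_nS i).exists_conj (R.simple i)
    rw [sum_eq_add_sum_units, S.x_zero, mul_one, mul_inv_cancel, p1 1 (one_mem _), Finset.sum_congr rfl
      (g := fun t => θ (-(Units.mk0 c hc * t)⁻¹) * φ (S.nS i)) fun t _ => by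
        rw [e, RS.sperm_apply, R.sref_simple, S.x_neg_root, br _ (S.U_le_B (hU _)), bl _ (S.U_le_B (hU _)), p1 _ (hU _),
          S.n_eq_h_mul, bl _ (S.H_le_B (S.h_mem_H _ (by simp [hc])))]
        simp [θ, S.nS_def], ← Finset.sum_mul,
      Fintype.sum_equiv ((Equiv.mulLeft (Units.mk0 c hc)).trans ((Equiv.inv _).trans (Equiv.neg _)))
        (fun t => θ (-(Units.mk0 c hc * t)⁻¹)) θ fun _ => rfl] at h2
    by_cases h3 : θ = 1
    · have h4 : φ (S.nS i)⁻¹ = φ (S.nS i) := by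
        rw [S.nS_inv, bl _ (S.H_le_B (S.h_mem_H _ (by simp))), show φ (S.h (R.simple i) (-1)) = θ (-1) by simp [θ], h3]; simp
      simp only [h3, MonoidHom.one_apply, Finset.sum_const, Finset.card_univ, Fintype.card_units, nsmul_eq_mul, mul_one,
        Nat.cast_pred Fintype.card_pos, h4] at h2 ⊢
      have : (φ (S.nS i) - 1) * (Fintype.card F * φ (S.nS i) + 1) = 0 := by linear_combination h2
      rcases mul_eq_zero.1 this with h | h
      · exact .inr (.inl (by rw [sub_eq_zero.1 h]; ring))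
      · exact .inr (.inr (eq_inv_of_mul_eq_one_left (by linear_combination (Fintype.card F * φ (S.nS i) - 1) * h)))
    · exact .inl (h2.trans (by rw [sum_hom_units_eq_zero θ h3]; ring))
  · rw [R.length_coxOf, R.length_coxOf, R.coxOf_simple, R.wlen_lt_mul_left_iff] at h
    have hX : ∀ c ∈ S.XS (R.inv (R.sperm i)), (n w)⁻¹ * c * n w ∈ S.U := fun c hc =>
      (StSys.NW_induces (hn w)).inv_conj_mem_XS (fun r hr => by rw [R.inv_sperm] at hr; rw [hr]; exact h) hc
    simp only [R.coxOf_simple]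
    rw [← cell (R.sW i * w) _ (StSys.self_mem_cell (StSys.NW_mul (S.nS_mem_NW i) (hn w))), mul_inv_rev, p2 _ _ fun u hu => ?_,
      p2 _ _ fun u hu => ?_, show R.ell (R.sW i * w : R.W) = R.ell w + 1 from R.ell_sperm_mul_of_pos (R.W_le_aut w.2) h]
    · ring
    · obtain ⟨c, hc, a, ha, e⟩ := StSys.exists_inv_mul_pos (R.sperm i) hu
      exact ⟨c, a, e, by simpa using hX c hc, by simpa using hA i a ha⟩
    · obtain ⟨a, ha, c, hc, e⟩ := StSys.exists_pos_mul_inv (R.sperm i) hu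
      exact ⟨a, c, e, hA i a ha, hX c hc⟩
  · simp only [OneMemClass.coe_one, R.ell_one, pow_zero, one_mul]
    exact bi _ (S.H_le_B (StSys.NW_one_iff.1 (hn 1)))
  · let _ := Fintype.ofFinite G
    let _ := Fintype.ofFinite R.W
    choose c h2 h3 using fun g : G => StSys.exists_mem_cell (S := S) (g := g) (hG ▸ trivial)
    rw [← p4, finsum_eq_sum_of_fintype, finsum_eq_sum_of_fintype, Finset.mul_sum,
      ← Finset.sum_fiberwise Finset.univ fun g => (⟨c g, h2 g⟩ : R.W)]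
    refine congrArg _ (Finset.sum_congr rfl fun w _ => ?_)
    have h4 : ∀ g, (⟨c g, h2 g⟩ : R.W) = w ↔ g ∈ S.cell w := fun g =>
      ⟨fun e => e ▸ h3 g, fun h => Subtype.ext (hS.eq_of_mem_cell (h3 g) h)⟩
    rw [Finset.sum_congr rfl fun g hg => cell w g ((h4 g).1 (Finset.mem_filter.1 hg).2), Finset.sum_const, nsmul_eq_mul,
      ← Fintype.card_subtype, ← Nat.card_eq_fintype_card (α := {_x // _}), Nat.card_congr (Equiv.subtypeEquivRight h4)]
    erw [hS.card_cell w.2]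
    rw [Nat.card_eq_fintype_card (α := F)]; push_cast; ring

end CL.MX
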