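/-
Minimal degrees for `G₂`, part 4: the relations in the group of the Prelude, the degrees `q ^ 3 - 1` and `q ^ 3`.
-/
import Cfsg.Agent.Known.MXG2c
import Cfsg.Agent.Known.MXHecke
import Cfsg.Agent.Chev.InvOdd
import Cfsg.Agent.S1059

set_option autoImplicit false
set_option linter.unusedSectionVars false

open Module

namespace CL.MX.G2

open CL.Chev CL.Chev.Cert CL.Cox Cfsg Cfsg.Lie

variable {F : Type*} [Field F]

/-- The root elements. -/
noncomputable def xg (r : ℕ) (t : F) : chevG2.group F := ⟨realG2.xN r t, realG2.group_eq F ▸ realG2.xN_mem_grp r t⟩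

/-- The short node. -/
def i0 : Fin chevG2.rank := ⟨0, by decide⟩
/-- The long node. -/
def i1 : Fin chevG2.rank := ⟨1, by decide⟩
/-- The base of the long roots. -/
def lr (i : Fin 2) : Fin chevG2.nroots := ⟨6 + 4 * i, by revert i; decide⟩

theorem xg_eq (r : Fin chevG2.nroots) (t : F) : (realG2.Sg F).x r t = xg r t := Subtype.ext (realG2.xN_coe r t).symm

theorem xg_lt {r : ℕ} (h : r < chevG2.nroots) (t : F) : xg r t = (realG2.Sg F).x ⟨r, h⟩ t := (xg_eq ⟨r, h⟩ t).symm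

theorem xg_add {r : ℕ} (h : r < chevG2.nroots) (t u : F) : xg r (t + u) = xg r t * xg r u := by simp only [xg_lt h, StSys.x_add]

theorem xg_comm {r s : ℕ} {l : List (ℕ × ℤ × ℕ × ℕ)} (h : r < 12 ∧ s < 12 ∧ s ≠ r ∧ s ≠ auxG2.ng r ∧ auxG2.aTerms r s = l)
    (t u : F) : xg s u * xg r t = xg r t * xg s u * (l.map fun c => xg c.1 ((c.2.1 : F) * (-t) ^ c.2.2.1 * u ^ c.2.2.2)).prod := by
  obtain ⟨h1, h2, h3, h4, rfl⟩ := h
  apply Subtype.ext
  simp only [Subgroup.coe_mul, xg, tabG2.comm_xN realG2 h1 h2 h3 h4, Subgroup.val_list_prod, List.map_map]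
  rfl

theorem xg_commute {r s : ℕ} (h : r < 12 ∧ s < 12 ∧ s ≠ r ∧ s ≠ auxG2.ng r ∧ auxG2.aTerms r s = []) (t u : F) :
    Commute (xg r t) (xg s u) := by simpa [Commute, SemiconjBy] using (xg_comm h t u).symm

theorem nS_xg (i : Fin chevG2.rank) {s k : ℕ} {e : ℤ} (h : s < chevG2.nroots ∧ auxG2.w i s = k ∧ auxG2.eta i s = e) (t : F) :
    (realG2.Sg F).nS i * xg s t = xg k (e * t) * (realG2.Sg F).nS i := by
  obtain ⟨h1, rfl, rfl⟩ := h
  rw [← mul_inv_eq_iff_eq_mul, xg_lt h1, StSys.nS_def, StSys.conj_n _ _ _ one_ne_zero, xg_eq, RS.refl_simple, RS.sperm_apply,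
    tabG2.sref, one_zpow, mul_one]
  exact congrArg (fun z : ℤ => xg _ ((z : F) * t)) (tabG2.eta realG2 nCheckG2 F i ⟨s, h1⟩)

theorem h_xg (i : Fin chevG2.rank) {s : ℕ} (h : s < chevG2.nroots) {c : F} (hc : c ≠ 0) (t : F) :
    (realG2.Sg F).h (realG2.R.simple i) c * xg s t = xg s (c ^ auxG2.ca i s * t) * (realG2.Sg F).h (realG2.R.simple i) c := by
  rw [← mul_inv_eq_iff_eq_mul, xg_lt h, StSys.conj_h _ _ _ hc, xg_eq, tabG2.pair_simple]

/-- The torus. -/
noncomputable def tg (u v : F) : chevG2.group F := (realG2.Sg F).h (realG2.R.simple i0) (u ^ 2 * v) * (realG2.Sg F).h (realG2.R.simple i1) (u ^ 3 * v ^ 2)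

theorem tg_xg {s i j : ℕ} (h : s < 12 ∧ auxG2.rt s 0 = i ∧ auxG2.rt s 1 = j) {u v : F} (hu : u ≠ 0) (hv : v ≠ 0) (t : F) :
    tg u v * xg s t = xg s (u ^ i * v ^ j * t) * tg u v := by
  obtain ⟨e1, e2⟩ := (by decide +kernel : ∀ s < 12, 2 * auxG2.ca i0 s + 3 * auxG2.ca i1 s = auxG2.rt s 0 ∧
    auxG2.ca i0 s + 2 * auxG2.ca i1 s = auxG2.rt s 1) s h.1
  rw [tg, mul_assoc, h_xg i1 h.1 (by simp [*]), ← mul_assoc, h_xg i0 h.1 (by simp [*]), mul_assoc, ← zpow_natCast u i,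
    ← zpow_natCast v j, ← h.2.1, ← h.2.2, ← e1, ← e2]
  simp only [mul_zpow, zpow_add₀ hu, zpow_add₀ hv, zpow_mul, zpow_ofNat]
  congr 2; ring

theorem rel : Rel (F := F) (xg 7) (xg 6) (xg 8) (xg 9) (xg 10) (xg 11) ((realG2.Sg F).nS i0) ((realG2.Sg F).nS i1) tg where
  a_add := xg_add (by decide)
  b_add := xg_add (by decide)
  A_add := xg_add (by decide)
  B_add := xg_add (by decide)
  C_add := xg_add (by decide)
  Z_add := xg_add (by decide)
  ba t u := by
    simp [xg_comm (r := 7) (s := 6) (l := [(8, -1, 1, 1), (9, 1, 2, 1), (10, 1, 3, 1), (11, 1, 3, 2)]) (by decide +kernel) t u,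
      mul_assoc, Odd.neg_pow (by decide : Odd 3)]
  Aa t u := by simp [xg_comm (r := 7) (s := 8) (l := [(9, -2, 1, 1), (10, -3, 2, 1), (11, 3, 1, 2)]) (by decide +kernel) t u, mul_assoc]
  Ba t u := by simp [xg_comm (r := 7) (s := 9) (l := [(10, 3, 1, 1)]) (by decide +kernel) t u]
  BA t u := by simp [xg_comm (r := 8) (s := 9) (l := [(11, 3, 1, 1)]) (by decide +kernel) t u]
  Cb t u := by simp [xg_comm (r := 6) (s := 10) (l := [(11, 1, 1, 1)]) (by decide +kernel) t u]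
  aC := xg_commute (by decide +kernel)
  aZ := xg_commute (by decide +kernel)
  bA := xg_commute (by decide +kernel)
  bB := xg_commute (by decide +kernel)
  bZ := xg_commute (by decide +kernel)
  AC := xg_commute (by decide +kernel)
  AZ := xg_commute (by decide +kernel)
  BC := xg_commute (by decide +kernel)
  BZ := xg_commute (by decide +kernel)
  CZ := xg_commute (by decide +kernel)
  na_b t := by simpa using nS_xg i0 (s := 6) (k := 10) (e := 1) (by decide +kernel) t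
  na_C t := by simpa using nS_xg i0 (s := 10) (k := 6) (e := -1) (by decide +kernel) t
  na_A t := by simpa using nS_xg i0 (s := 8) (k := 9) (e := 1) (by decide +kernel) t
  na_B t := by simpa using nS_xg i0 (s := 9) (k := 8) (e := -1) (by decide +kernel) t
  na_Z t := by simpa using nS_xg i0 (s := 11) (k := 11) (e := 1) (by decide +kernel) t
  nb_a t := by simpa using nS_xg i1 (s := 7) (k := 8) (e := 1) (by decide +kernel) t
  nb_A t := by simpa using nS_xg i1 (s := 8) (k := 7) (e := -1) (by decide +kernel) t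
  nb_C t := by simpa using nS_xg i1 (s := 10) (k := 11) (e := 1) (by decide +kernel) t
  nb_Z t := by simpa using nS_xg i1 (s := 11) (k := 10) (e := -1) (by decide +kernel) t
  nb_B t := by simpa using nS_xg i1 (s := 9) (k := 9) (e := 1) (by decide +kernel) t
  tor u hu v hv t := ⟨by simpa using tg_xg (s := 7) (i := 1) (j := 0) (by decide +kernel) hu hv t,
    by simpa using tg_xg (s := 6) (i := 0) (j := 1) (by decide +kernel) hu hv t,
    by simpa using tg_xg (s := 8) (i := 1) (j := 1) (by decide +kernel) hu hv t,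
    by simpa using tg_xg (s := 9) (i := 2) (j := 1) (by decide +kernel) hu hv t,
    by simpa using tg_xg (s := 10) (i := 3) (j := 1) (by decide +kernel) hu hv t,
    tg_xg (s := 11) (by decide +kernel) hu hv t⟩

variable [Fintype F]

theorem index_cent {w : Fˣ} (hw : orderOf w = 3) :
    (Subgroup.centralizer {(realG2.Sg F).h (realG2.R.simple i0) w}).index = Fintype.card F ^ 3 * (Fintype.card F ^ 3 + 1) := by
  have hM := (realG2.full F).hMul
  have hp : ∀ r, r ∈ realG2.R.Psi (Pi.mulSingle i0 w) ↔ auxG2.ca i0 r % 3 = 0 := fun r => by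
    rw [RS.mem_Psi, RS.chi_mulSingle, ← orderOf_dvd_iff_zpow_eq_one, hw, tabG2.pair_simple]
    exact Int.dvd_iff_emod_eq_zero
  have hC : (Matrix.of fun i j => realG2.R.pair (lr i) (lr j)) = !![2, -1; -1, 2] := by
    simp only [tabG2.pair realG2]; decide +kernel
  have hm : ∀ i, lr i ∈ realG2.R.Psi (Pi.mulSingle i0 w) := by simp only [hp]; decide +kernel
  have hb : realG2.R.SubBase (realG2.R.Psi (Pi.mulSingle i0 w)) lr := ⟨hm, fun _ => RS.neg_mem_Psi.2,
    fun i r => (RS.apply_mem_Psi (RS.WS_le_Stab _ (RS.refl_mem_WS (hm i)))).2,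
    by simp only [realG2.R.pos_iff_ht, tabG2.ht_eq realG2]; decide +kernel, by rw [hC]; decide, by
      simp only [tabG2.pair realG2, tabG2.ht_eq realG2, hp, realG2.R.pos_iff_ht]; decide +kernel⟩
  have hN : ({r | realG2.R.Pos r} ∩ realG2.R.Psi (Pi.mulSingle i0 w)).ncard = 3 := by
    rw [show {r | realG2.R.Pos r} ∩ realG2.R.Psi (Pi.mulSingle i0 w) =
      ↑(Finset.univ.filter fun r : Fin chevG2.nroots => 0 < auxG2.hgt r ∧ auxG2.ca i0 r % 3 = 0) by
        ext r; simp [hp, realG2.R.pos_iff_ht, tabG2.ht_eq realG2], Set.ncard_coe_finset]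
    decide +kernel
  have h1 := (realG2.full F).faithful.card_cent hM (realG2.full F).top ((MonoidHom.ker_eq_bot_iff _).1 (ker_torus_G2 _))
    (Pi.mulSingle i0 w)
  rw [hN, hb.sum_stab (isOfFinOrder_of_finite _), chain_finsum _ (A := !![2, -1; -1, 2]) (hC ▸ hb.rs.isCartan_coxM.repOK) _
    (l := [(1, [[], [1], [0, 1]]), (0, [[], [0]])]) (by decide +kernel) (by decide), hM.torus_mulSingle,
    Nat.card_eq_fintype_card (α := F), Fintype.card_fin] at h1
  have h2 := (Subgroup.centralizer {(realG2.Sg F).h (realG2.R.simple i0) w}).card_mul_index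
  rw [h1, Cfsg.Agent.S1059.result rfl] at h2
  obtain ⟨p, hp⟩ : ∃ p, Fintype.card F = p + 2 := ⟨_, (Nat.sub_add_cancel Fintype.one_lt_card).symm⟩
  refine Nat.eq_of_mul_eq_mul_left (by rw [hp]; simp [polyOf]) (h2.trans ?_)
  zify [Nat.one_le_pow _ _ (Fintype.card_pos (α := F)), Fintype.card_pos (α := F)]
  simp [polyOf, show chevG2.rank = 2 from rfl]
  ring

variable {V : Type*} [AddCommGroup V] [Module ℂ V] [FiniteDimensional ℂ V] (τ : Representation ℂ (chevG2.group F) V)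
  [τ.IsIrreducible] {ψ : AddChar F ℂ}

theorem ne_cube (hq : 7 ≤ Fintype.card F) {u : F} (u0 : u ≠ 0) (u1 : u ≠ 1)
    (h1 : finrank ℂ (W τ ψ (xg 11) 0 ⊓ W τ ψ (xg 10) 0 ⊓ W τ ψ (xg 6) 0 : Submodule ℂ V) = 1) : finrank ℂ V ≠ Fintype.card F ^ 3 := by
  intro hd
  have hS := realG2.full F
  have k := rel.fix_U u0 u1 h1
  have k1 : Representation.invariants (τ.comp (realG2.Sg F).U.subtype) =
      W τ ψ (xg 11) 0 ⊓ W τ ψ (xg 10) 0 ⊓ W τ ψ (xg 6) 0 := by
    refine le_antisymm (fun v hv => ?_) fun v hv g => ?_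
    · have : ∀ r < chevG2.nroots, (∀ i < 2, 0 ≤ auxG2.rt r i) → v ∈ W τ ψ (xg r) 0 := fun r hr h => mem_W0.2 fun t =>
        hv ⟨xg r t, by rw [xg_lt hr]; exact StSys.x_mem_U _ ((tabG2.pos_iff realG2 ⟨r, hr⟩).2 h) t⟩
      exact ⟨⟨this _ (by decide) (by decide +kernel), this _ (by decide) (by decide +kernel)⟩, this _ (by decide) (by decide +kernel)⟩
    · have ha : Act (⊤ : Subgroup (chevG2.group F)) τ := ⟨map_one τ, fun _ _ => map_mul τ _ _⟩
      refine (((realG2.Sg F).XS_le_iff (K := ha.Fv v)).2 (fun r hr t => ⟨trivial, ?_⟩) g.2).2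
      rw [xg_eq]
      rcases (by decide +kernel : ∀ r < 12, (∀ i < 2, 0 ≤ auxG2.rt r i) → r = 6 ∨ r = 7 ∨ r = 8 ∨ r = 9 ∨ r = 10 ∨ r = 11) r r.2
        ((tabG2.pos_iff realG2 r).1 hr) with h | h | h | h | h | h <;> rw [h]
      exacts [mem_W0.1 hv.2 t, mem_W0.1 (k hv).2 t, mem_W0.1 (k hv).1.1 t, mem_W0.1 (k hv).1.2 t, mem_W0.1 hv.1.2 t, mem_W0.1 hv.1.1 t]
  obtain ⟨t, f, h2, h3, h4, h5⟩ := hecke hS.faithful hS.hMul hS.top τ ((fc k1).trans h1) (realG2.isCartan isCartan_datG2)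
  have e1 := hS.hMul.card_ker_mul_card_H
  rw [show hS.hMul.torus.ker = ⊥ from ker_torus_G2 _, Subgroup.card_bot, one_mul] at e1
  rw [poincare2_G2 _ (t i0) (t i1) f (by rwa [show ![t i0, t i1] = t from funext fun i => by fin_cases i <;> rfl]), h4, hd, hS.faithful.card_B, e1,
    hS.faithful.uFaithful.card_U, realG2.ncard_pos, Cfsg.Agent.S1059.result rfl, Nat.card_eq_fintype_card, Fintype.card_fin] at h5
  have a := h2 i0
  have b := h2 i1
  generalize t i0 = x, t i1 = y, Fintype.card F = q at h5 a b hq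
  have q0 : (q : ℂ) ≠ 0 := Nat.cast_ne_zero.2 (by omega)
  have q1 : (q : ℂ) - 1 ≠ 0 := sub_ne_zero.2 (Nat.cast_ne_one.2 (by omega))
  replace h5 : (q : ℂ) ^ 3 * ((1 + x) * (1 + y) * (1 + x * y + x ^ 2 * y ^ 2)) = (q + 1) ^ 2 * (q ^ 4 + q ^ 2 + 1) := by
    refine mul_left_cancel₀ (mul_ne_zero (pow_ne_zero 6 q0) (pow_ne_zero 2 q1)) ?_
    push_cast [Nat.one_le_pow _ _ (show 0 < q by omega), show 1 ≤ q by omega, show chevG2.rank = 2 from rfl,
      show chevG2.nroots / 2 = 6 from rfl] at h5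
    linear_combination h5
  obtain ⟨p, hp⟩ := Nat.exists_eq_add_of_le hq
  rcases a with rfl | rfl | rfl <;> rcases b with rfl | rfl | rfl <;> field_simp at h5 <;> norm_cast at h5 <;>
    rw [hp] at h5 <;> ring_nf at h5 <;> omega

theorem ne_pred (hτ : ∀ g, τ g = 1 → g = 1) (hψ : ψ ≠ 1) (hq : 7 ≤ Fintype.card F) (h3 : Fintype.card F % 3 = 1)
    (h0 : finrank ℂ (W τ ψ (xg 11) 0 ⊓ W τ ψ (xg 10) 0 ⊓ W τ ψ (xg 6) 0 : Submodule ℂ V) = 0)
    (h1 : finrank ℂ (W τ ψ (xg 11) 0 ⊓ W τ ψ (xg 10) 0 ⊓ W τ ψ (xg 6) 1 : Submodule ℂ V) ≤ 1) :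
    finrank ℂ V + 1 ≠ Fintype.card F ^ 3 := by
  classical
  intro hd
  have hS := realG2.full F
  have := Fact.mk Nat.prime_three
  obtain ⟨w, hw⟩ := exists_prime_orderOf_dvd_card (G := Fˣ) 3 (by rw [Fintype.card_units]; omega)
  have w3 : (w : F) ^ 3 = 1 := by rw [← Units.val_pow_eq_pow_val, ← hw, pow_orderOf_eq_one, Units.val_one]
  have k : ∀ {r : ℕ}, r < chevG2.nroots ∧ auxG2.ca i0 r % 3 = 0 → ∀ t : F,
      Commute ((realG2.Sg F).h (realG2.R.simple i0) w) (xg r t) := fun {r} h t => by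
    obtain ⟨z, hz⟩ := Int.dvd_iff_emod_eq_zero.2 h.2
    simpa [hz, zpow_mul, w3, Commute, SemiconjBy] using h_xg i0 h.1 w.ne_zero t
  have hH := fun i {c : F} (hc : c ≠ 0) => (realG2.Sg F).h_mem_H (realG2.R.simple i) hc
  obtain ⟨κ, hκ⟩ := rel.scalar hψ τ (s := (realG2.Sg F).h (realG2.R.simple i0) w)
    (by rw [← zpow_natCast, ← hS.hMul.h_zpow _ w.ne_zero, zpow_natCast, w3, StSys.h_one])
    (k (by decide +kernel)) (k (by decide +kernel)) (k (by decide +kernel)) (by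
      rw [StSys.nS_def, StSys.n, xg_eq, xg_eq, tabG2.neg, tabG2.simple]
      exact ((k (by decide +kernel) _).mul_right (k (by decide +kernel) _)).mul_right (k (by decide +kernel) _))
    (fun t ht => hS.hMul.commute_of_mem_H (hH _ w.ne_zero) (mul_mem (hH _ (by simp [ht])) (hH _ (by simp [ht]))))
    (index_cent hw) hq hd h0 h1
  have e := h_xg i0 (s := 9) (by decide) w.ne_zero 1
  rw [show auxG2.ca i0 9 = 1 by decide +kernel, zpow_one, mul_one] at e
  have e2 : xg 9 ((w : F) - 1) = 1 := hτ _ (LinearMap.ext fun v => CL.LS.rho_injective (ρ := τ) (xg 9 1) (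
    CL.LS.rho_injective (ρ := τ) ((realG2.Sg F).h (realG2.R.simple i0) w) (by
      rw [← mul_apply (xg 9 1), ← xg_add (by decide), add_sub_cancel, hκ, ← map_smul, ← hκ, ← mul_apply, ← e, mul_apply]; rfl)))
  rw [xg_lt (by decide), hS.faithful.x_eq_one_iff, sub_eq_zero, Units.val_eq_one] at e2
  simp [e2] at hw

end CL.MX.G2
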