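/-
The alternating group of degree 7 in the standard model of PSU(3,5).
Generated by tools/pg.
-/
import Cfsg.Agent.Spor.PGCtx
import Cfsg.Agent.Spor.PGStruct
import Cfsg.Agent.Spor.StdU35

set_option autoImplicit false
set_option maxRecDepth 200000
set_option Elab.async false
set_option linter.unusedVariables false

namespace CL.MinU35
open CL.PG

noncomputable def xa6 : Net := (.cons 64 (nat_lit 0xb47f09d44a3634b8)
 (.cons 32 (nat_lit 0xb48a7811000000003780962b)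
 (.cons 16 (nat_lit 0xdc3a0000a09a00004a090000ebdb)
 (.cons 8 (nat_lit 0xaa006f000b00b60072007200e400a2)
 (.cons 4 (nat_lit 0x60c0a0707060d080d0e0b090f04070f)
 (.cons 2 (nat_lit 0x11121020300012022303300012101130)
 (.cons 1 (nat_lit 0x15111451511015141441450141015011)
 (.cons 2 (nat_lit 0x202202002020002202200000000002)
 (.cons 4 (nat_lit 0x8000206060004060e00080200060a0e)
 (.cons 8 (nat_lit 0x3c00c000d60028006c003a008c00c8)
 (.cons 16 (nat_lit 0xd9360000036a00003fbe00005c9a)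
 (.cons 32 (nat_lit 0x82b746ca00000000662f50a0)
 (.cons 64 (nat_lit 0xba5fd6485689d214)
 .nil)))))))))))))
noncomputable def xa7 : Net := (.cons 64 (nat_lit 0xe83329a2e05e7f3e)
 (.cons 32 (nat_lit 0x1bf8254f000000000e36d0e6)
 (.cons 16 (nat_lit 0x37720000c29000004c500000bffa)
 (.cons 8 (nat_lit 0x74004f0003002b008000f1003f0072)
 (.cons 4 (nat_lit 0xc08040f0d00000f040c0f00080e0c07)
 (.cons 2 (nat_lit 0x333200030033012230320212102011)
 (.cons 1 (nat_lit 0x14054441110514510110540015454151)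
 (.cons 2 (nat_lit 0x20000202000020000200020020002202)
 (.cons 4 (nat_lit 0xe0a000e00020e0c000c000804000200)
 (.cons 8 (nat_lit 0x18005000dc007200c000c000c000cc)
 (.cons 16 (nat_lit 0x323000000c1000007f6c0000639c)
 (.cons 32 (nat_lit 0xfe37a0400000000023fff178)
 (.cons 64 (nat_lit 0xdfa4e9510298788a)
 .nil)))))))))))))
noncomputable def xa8 : Net := (.cons 64 (nat_lit 0x1d448ffc34257352)
 (.cons 32 (nat_lit 0xa1ffec7d000000007dfbc80e)
 (.cons 16 (nat_lit 0x1ce600004016000053c60000498c)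
 (.cons 8 (nat_lit 0xdd0096002c00a900190099008300ca)
 (.cons 4 (nat_lit 0xc00050a0e070209060d0a080b080300)
 (.cons 2 (nat_lit 0x21030121302113311110123013021222)
 (.cons 1 (nat_lit 0x11011401511154411404541151144404)
 (.cons 2 (nat_lit 0x2000200002002022000002202220200)
 (.cons 4 (nat_lit 0x208040e080202080a04020208040800)
 (.cons 8 (nat_lit 0xc20064005c00b400d0005800c800b2)
 (.cons 16 (nat_lit 0x25680000533a00008c6a000024e8)
 (.cons 32 (nat_lit 0xae54101a0000000098f36eb2)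
 (.cons 64 (nat_lit 0x2aa311453ad8c930)
 .nil)))))))))))))
noncomputable def xa9 : Net := (.cons 64 (nat_lit 0xe6425960e74166de)
 (.cons 32 (nat_lit 0xf6bc121d000000006d7ff5ec)
 (.cons 16 (nat_lit 0xaf1f00005f510000022000004d76)
 (.cons 8 (nat_lit 0xa60074003400310089006600b5008c)
 (.cons 4 (nat_lit 0x20c0b0604030b08080b0a0e0e0f0704)
 (.cons 2 (nat_lit 0x31113302212033012321320323301222)
 (.cons 1 (nat_lit 0x54144114044441051540144014410010)
 (.cons 2 (nat_lit 0x22000020202000000220000220020)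
 (.cons 4 (nat_lit 0x40808040600040a000a0c020a040c02)
 (.cons 8 (nat_lit 0x2c001c006a004400fa00fc006800b4)
 (.cons 16 (nat_lit 0xddea00000cea000024240000e52c)
 (.cons 32 (nat_lit 0x97f8e02c000000004906a054)
 (.cons 64 (nat_lit 0xccc2704696d2c670)
 .nil)))))))))))))
noncomputable def xa10 : Net := (.cons 64 (nat_lit 0xfaa0471bc33b2e02)
 (.cons 32 (nat_lit 0xc87917b200000000b453b94c)
 (.cons 16 (nat_lit 0x8c750000c0a4000084c100002586)
 (.cons 8 (nat_lit 0x8f005c004a002600a00040005b0062)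
 (.cons 4 (nat_lit 0x509050d010d04070c020e010d040204)
 (.cons 2 (nat_lit 0x20320210230311121012101333212112)
 (.cons 1 (nat_lit 0x41455144115105115041151454455410)
 (.cons 2 (nat_lit 0x22000000020000020020000002000220)
 (.cons 4 (nat_lit 0x60a0c00080e0a0604040804080c080c)
 (.cons 8 (nat_lit 0xfa0068004c001e001e00c4007600da)
 (.cons 16 (nat_lit 0x99a00009080000013ea000025aa)
 (.cons 32 (nat_lit 0x5c9d83e000000000b00f32c2)
 (.cons 64 (nat_lit 0xe76ccd16623f2dd4)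
 .nil)))))))))))))
noncomputable def xa11 : Net := (.cons 64 (nat_lit 0xce121f8ef24b06f0)
 (.cons 32 (nat_lit 0xb951cc440000000045c83fc8)
 (.cons 16 (nat_lit 0x221d0000d5ff0000807a000096f8)
 (.cons 8 (nat_lit 0x1f00c50042009500eb006f007500ba)
 (.cons 4 (nat_lit 0x60f0a0c0501070f0b0f0900050e0004)
 (.cons 2 (nat_lit 0x23132323121103321123310223200130)
 (.cons 1 (nat_lit 0x5110541014510010410401550511504)
 (.cons 2 (nat_lit 0x20000000000020220000000022002)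
 (.cons 4 (nat_lit 0xe080a0a00000606000a0c08080c0002)
 (.cons 8 (nat_lit 0x3c00e0008c000400a8006400500008)
 (.cons 16 (nat_lit 0xc7e200000600000086d400000884)
 (.cons 32 (nat_lit 0xa815c8880000000050c83c9e)
 (.cons 64 (nat_lit 0xd7361c40774906e0)
 .nil)))))))))))))
noncomputable def xa12 : Net := (.cons 64 (nat_lit 0xce121f8ef24b06f0)
 (.cons 32 (nat_lit 0xb951cc440000000045c83fc8)
 (.cons 16 (nat_lit 0x221d0000d5ff0000807a000096f8)
 (.cons 8 (nat_lit 0x1f00c50042009500eb006f007500ba)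
 (.cons 4 (nat_lit 0x60f0a0c0501070f0b0f0900050e0004)
 (.cons 2 (nat_lit 0x23132323121103321123310223200130)
 (.cons 1 (nat_lit 0x5110541014510010410401550511504)
 (.cons 2 (nat_lit 0x20000000000020220000000022002)
 (.cons 4 (nat_lit 0xe080a0a00000606000a0c08080c0002)
 (.cons 8 (nat_lit 0x3c00e0008c000400a8006400500008)
 (.cons 16 (nat_lit 0xc7e200000600000086d400000884)
 (.cons 32 (nat_lit 0xa815c8880000000050c83c9e)
 (.cons 64 (nat_lit 0xd7361c40774906e0)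
 .nil)))))))))))))
noncomputable def xa13 : Net := (.cons 64 (nat_lit 0x6e3eb2bff87b09d0)
 (.cons 32 (nat_lit 0x9c716830000000003da8c0a0)
 (.cons 16 (nat_lit 0x6e840000ee1c00006b980000bab8)
 (.cons 8 (nat_lit 0x8300d000d500c300250004009b0004)
 (.cons 4 (nat_lit 0x20105060a080d030a090006080a0c0a)
 (.cons 2 (nat_lit 0x233313012301320312232033132020)
 (.cons 1 (nat_lit 0x41111445504001441411151114411514)
 (.cons 2 (nat_lit 0x2020000002000220000202020002020)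
 (.cons 4 (nat_lit 0x2080a060a0804020c0c00020a08080c)
 (.cons 8 (nat_lit 0xa8004000d0009000d20004006400c0)
 (.cons 16 (nat_lit 0xee900000ce1400006b900000bab8)
 (.cons 32 (nat_lit 0x8c716830000000001da8c0a0)
 (.cons 64 (nat_lit 0x6e3eb2bdf87b09d0)
 .nil)))))))))))))
noncomputable def xws : List (List ℕ) :=
  [W (nat_lit 0x90180702c0101c03),
  W (nat_lit 0x9024050140a00804),
  W (nat_lit 0xd03c0f0380e03c0d0400d03c0d03c0d0340d),
  W (nat_lit 0xe040100380e0380e03c0e03c0e),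
  W (nat_lit 0x1104c12),
  W (nat_lit 0x5816),
  W (nat_lit 0x1304c1104411),
  W (nat_lit 0x4c1104c11)]
noncomputable def xns : List Net := [CL.Std.U35.a0, CL.Std.U35.a1, CL.Std.U35.a2, CL.Std.U35.a3, CL.Std.U35.a4, CL.Std.U35.a5, xa6, xa7, xa8, xa9, xa10, xa11, xa12, xa13]
noncomputable def xD : List (ℕ × List ℕ) := app CL.Std.U35.D (mkDefs xws 6)
noncomputable def xchk : List (List ℕ × List ℕ) → Bool := CL.Std.U35.P.relsB xns
noncomputable def xzt0 : List ℕ :=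
  []
noncomputable def xzcj1 : List (List ℕ) :=
  []
noncomputable def xzt4 : List ℕ :=
  [22]
noncomputable def xzcj5 : List (List ℕ) :=
  [[22]]
noncomputable def xzus8 : List (List ℕ) :=
  [[16],
  [17],
  [18],
  W (nat_lit 0x4411)]
noncomputable def xzF9 : List (List (ℕ × List ℕ)) :=
  [[(1, []),
   (4, []),
   (0, []),
   (2, [20]),
   (3, W (nat_lit 0x5c15))],
  [(3, []),
   (1, [20]),
   (0, [20]),
   (4, [22]),
   (2, [20])]]
noncomputable def xzrs12 : List (ℕ × List ℕ) :=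
  [(125, [12]),
  (41, W (nat_lit 0x340d)),
  (101, W (nat_lit 0x380e)),
  (21, W (nat_lit 0xd0340d)),
  (22, W (nat_lit 0x380e05c0d)),
  (10, W (nat_lit 0xd0341603813)),
  (14, W (nat_lit 0xe038170340d)),
  (18, W (nat_lit 0xe038110580d))]
noncomputable def xK_w0_1_v0 : Lev :=
  ⟨125, 10, sg (W (nat_lit 0x4c1104c11)), [[24]], 10, 1⟩
noncomputable def xK_w0_1_v1 : Lev :=
  ⟨1, 2, sg [24], [], 11, 0⟩
noncomputable def xK_w0_1_vs2 : List Lev :=
  []
noncomputable def xK_w0_1_vs1 : List Lev :=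
  xK_w0_1_v1 :: xK_w0_1_vs2
noncomputable def xK_w0_1_vs : List Lev :=
  xK_w0_1_v0 :: xK_w0_1_vs1
noncomputable def xzcj14 : List (List ℕ) :=
  [W (nat_lit 0x5c11)]
noncomputable def xK_w0_2_v0 : Lev :=
  ⟨41, 20, sg (W (nat_lit 0x4c1304c1104c11)), [], 11, 0⟩
noncomputable def xK_w0_2_vs1 : List Lev :=
  []
noncomputable def xK_w0_2_vs : List Lev :=
  xK_w0_2_v0 :: xK_w0_2_vs1
noncomputable def xzcj18 : List (List ℕ) :=
  []
noncomputable def xK_w0_3_v0 : Lev :=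
  ⟨101, 20, sg (W (nat_lit 0x4c1304c1104c11)), [], 11, 0⟩
noncomputable def xK_w0_3_vs1 : List Lev :=
  []
noncomputable def xK_w0_3_vs : List Lev :=
  xK_w0_3_v0 :: xK_w0_3_vs1
noncomputable def xzcj22 : List (List ℕ) :=
  []
noncomputable def xK_w0_4_v0 : Lev :=
  ⟨21, 20, sg (W (nat_lit 0x4c1304c1104c11)), [], 11, 0⟩
noncomputable def xK_w0_4_vs1 : List Lev :=
  []
noncomputable def xK_w0_4_vs : List Lev :=
  xK_w0_4_v0 :: xK_w0_4_vs1
noncomputable def xzcj26 : List (List ℕ) :=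
  []
noncomputable def xK_w0_5_v0 : Lev :=
  ⟨22, 10, sg (W (nat_lit 0x4c1104c11)), [[26]], 11, 1⟩
noncomputable def xK_w0_5_v1 : Lev :=
  ⟨1, 2, sg [26], [], 12, 0⟩
noncomputable def xK_w0_5_vs2 : List Lev :=
  []
noncomputable def xK_w0_5_vs1 : List Lev :=
  xK_w0_5_v1 :: xK_w0_5_vs2
noncomputable def xK_w0_5_vs : List Lev :=
  xK_w0_5_v0 :: xK_w0_5_vs1
noncomputable def xzcj30 : List (List ℕ) :=
  [[22]]
noncomputable def xK_w0_6_v0 : Lev :=
  ⟨10, 20, sg (W (nat_lit 0x4c1304c1104c11)), [], 12, 0⟩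
noncomputable def xK_w0_6_vs1 : List Lev :=
  []
noncomputable def xK_w0_6_vs : List Lev :=
  xK_w0_6_v0 :: xK_w0_6_vs1
noncomputable def xzcj34 : List (List ℕ) :=
  []
noncomputable def xK_v0 : Lev :=
  ⟨0, 126, sg (W (nat_lit 0x3c0d03c0d03c0d03c0d03c0d03c0d)), [[16], [18]], 6, 2⟩
noncomputable def xK_v1 : Lev :=
  ⟨14, 5, sg (W (nat_lit 0x441104411)), [[20]], 8, 1⟩
noncomputable def xK_v2 : Lev :=
  ⟨44, 2, sg [20], [[22]], 9, 1⟩
noncomputable def xK_v3 : Lev :=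
  ⟨1, 2, sg [22], [], 10, 0⟩
noncomputable def xK_vs4 : List Lev :=
  []
noncomputable def xK_vs3 : List Lev :=
  xK_v3 :: xK_vs4
noncomputable def xK_vs2 : List Lev :=
  xK_v2 :: xK_vs3
noncomputable def xK_vs1 : List Lev :=
  xK_v1 :: xK_vs2
noncomputable def xK_vs : List Lev :=
  xK_v0 :: xK_vs1
noncomputable def xzcj38 : List (List ℕ) :=
  [W (nat_lit 0x5c15)]
noncomputable def xK_w0_8_v0 : Lev :=
  ⟨18, 20, sg (W (nat_lit 0x4c1304c1104c11)), [], 12, 0⟩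
noncomputable def xK_w0_8_vs1 : List Lev :=
  []
noncomputable def xK_w0_8_vs : List Lev :=
  xK_w0_8_v0 :: xK_w0_8_vs1
noncomputable def xzcj42 : List (List ℕ) :=
  []
noncomputable def xzB45 : List BG :=
  [⟨[13], [([24], W (nat_lit 0x5c11))],
  [([⟨[], [18], 1, [18]⟩], []),
   ([⟨[], [], 0, []⟩,
    ⟨[16], [20], 1, W (nat_lit 0x4411)⟩,
    ⟨[18], [], 3, W (nat_lit 0x1705412)⟩,
    ⟨[19], [18], 2, []⟩,
    ⟨[20], W (nat_lit 0x4416), 5, W (nat_lit 0x5411)⟩,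
    ⟨W (nat_lit 0x4411), [19], 1, [16]⟩], [0]),
   ([⟨[], [], 1, []⟩,
    ⟨[16], W (nat_lit 0x4411), 3, W (nat_lit 0x5411)⟩,
    ⟨[17], [21], 5, W (nat_lit 0x1705412)⟩,
    ⟨[18], [16], 4, W (nat_lit 0x4411)⟩,
    ⟨[19], [18], 4, []⟩,
    ⟨[20], W (nat_lit 0x4815), 6, []⟩,
    ⟨W (nat_lit 0x4411), W (nat_lit 0x4c11), 2, W (nat_lit 0x5c11)⟩,
    ⟨W (nat_lit 0x4414), W (nat_lit 0x4414), 3, [17]⟩,
    ⟨W (nat_lit 0x4812), [17], 3, W (nat_lit 0x1705412)⟩,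
    ⟨W (nat_lit 0x4815), W (nat_lit 0x4815), 8, [17]⟩], [0]),
   ([⟨[], W (nat_lit 0x4812), 4, W (nat_lit 0x1705413)⟩,
    ⟨[16], W (nat_lit 0x4c11), 4, [16]⟩,
    ⟨[17], [22], 2, [16]⟩,
    ⟨[18], [19], 2, [18]⟩,
    ⟨[19], W (nat_lit 0x4411), 1, W (nat_lit 0x5c13)⟩,
    ⟨[20], W (nat_lit 0x4812), 3, [22]⟩,
    ⟨W (nat_lit 0x4411), W (nat_lit 0x4816), 8, []⟩,
    ⟨W (nat_lit 0x4414), [20], 5, [22]⟩,
    ⟨W (nat_lit 0x4812), [20], 6, [16]⟩,
    ⟨W (nat_lit 0x4815), [21], 2, W (nat_lit 0x5c13)⟩], [0]),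
   ([⟨[], [], 2, []⟩,
    ⟨[16], W (nat_lit 0x4414), 8, [17]⟩,
    ⟨[17], W (nat_lit 0x4416), 6, []⟩,
    ⟨[18], W (nat_lit 0x4416), 8, W (nat_lit 0x4411)⟩,
    ⟨[19], W (nat_lit 0x4815), 4, W (nat_lit 0x1705413)⟩,
    ⟨[20], W (nat_lit 0x4816), 3, W (nat_lit 0x4411)⟩,
    ⟨W (nat_lit 0x4411), W (nat_lit 0x4413), 3, [17]⟩,
    ⟨W (nat_lit 0x4414), W (nat_lit 0x4c13), 2, W (nat_lit 0x1705413)⟩,
    ⟨W (nat_lit 0x4812), [], 4, W (nat_lit 0x4411)⟩,
    ⟨W (nat_lit 0x4815), W (nat_lit 0x4413), 6, W (nat_lit 0x1705413)⟩], [0]),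
   ([⟨[], [22], 3, []⟩,
    ⟨[16], W (nat_lit 0x4414), 2, [18]⟩,
    ⟨[18], [17], 6, [22]⟩,
    ⟨[19], [18], 7, []⟩,
    ⟨[20], W (nat_lit 0x4411), 8, [18]⟩,
    ⟨W (nat_lit 0x4411), W (nat_lit 0x4812), 1, W (nat_lit 0x5c13)⟩], [0]),
   ([⟨[], [21], 8, [17]⟩,
    ⟨[16], W (nat_lit 0x4417), 4, W (nat_lit 0x4411)⟩,
    ⟨[17], W (nat_lit 0x4815), 3, [17]⟩,
    ⟨[18], [17], 5, [22]⟩,
    ⟨[19], [22], 8, W (nat_lit 0x5c13)⟩,
    ⟨[20], [17], 7, W (nat_lit 0x5c15)⟩,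
    ⟨W (nat_lit 0x4411), W (nat_lit 0x4414), 4, []⟩,
    ⟨W (nat_lit 0x4414), [22], 6, [22]⟩,
    ⟨W (nat_lit 0x4812), W (nat_lit 0x5016), 2, []⟩,
    ⟨W (nat_lit 0x4815), [], 8, [18]⟩], [0]),
   ([⟨[], [], 5, []⟩,
    ⟨[16], [17], 8, W (nat_lit 0x5c13)⟩,
    ⟨[18], W (nat_lit 0x4812), 6, [20]⟩], [0]),
   ([⟨[], W (nat_lit 0x4416), 3, []⟩,
    ⟨[16], W (nat_lit 0x4816), 6, [16]⟩,
    ⟨[17], [21], 4, [16]⟩,
    ⟨[18], [], 7, W (nat_lit 0x5413)⟩,
    ⟨[19], W (nat_lit 0x4417), 6, W (nat_lit 0x1705412)⟩,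
    ⟨[20], W (nat_lit 0x5016), 8, W (nat_lit 0x5c11)⟩,
    ⟨W (nat_lit 0x4411), [17], 4, W (nat_lit 0x1705413)⟩,
    ⟨W (nat_lit 0x4414), W (nat_lit 0x4817), 6, W (nat_lit 0x5411)⟩,
    ⟨W (nat_lit 0x4812), W (nat_lit 0x4417), 2, [16]⟩,
    ⟨W (nat_lit 0x4815), W (nat_lit 0x4417), 5, W (nat_lit 0x5411)⟩], [0])]⟩]
noncomputable def xzE46 : List (ℕ × List ℕ) :=
  [(14, W (nat_lit 0x170541303816))]
noncomputable def xzts51 : List (List ℕ) :=
  [W (nat_lit 0x90180702c0101c03),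
  W (nat_lit 0x9024050140a00804)]

theorem xzb2 : bnd (pcB xD [] 2 xzt0 xzcj1) (leB (app xD []) [[22]] ([22] :: [])) = true := by decide +kernel
theorem xzr3 : xchk (pcR [] [22] 2 xzt0 xzcj1) = true := by decide +kernel
theorem xzb6 : bnd (pcB xD [[22]] 2 xzt4 xzcj5) (leB (app xD []) [[20]] ([20] :: [[22]])) = true := by decide +kernel
theorem xzr7 : xchk (pcR [[22]] [20] 2 xzt4 xzcj5) = true := by decide +kernel
theorem xzb10 : schB xD [[16], [18]] [[20]] xzus8 xzF9 5 = true := by decide +kernel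
theorem xzr11 : xchk (schR [[16], [18]] xzus8 xzF9) = true := by decide +kernel
theorem xzc13 : CL.Std.U35.P.chainB xns xD xK_w0_1_vs [[16], [18]] = true := by decide +kernel
theorem xzb15 : wdB xD [[16], [18]] xK_w0_1_v0.nx xzcj14 = true := by decide +kernel
theorem xzr16 : xchk (wdR xK_w0_1_v0.nx [12] xzcj14) = true := by decide +kernel
theorem xzc17 : CL.Std.U35.P.chainB xns xD xK_w0_2_vs [[16], [18]] = true := by decide +kernel
theorem xzb19 : wdB xD [[16], [18]] xK_w0_2_v0.nx xzcj18 = true := by decide +kernel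
theorem xzr20 : xchk (wdR xK_w0_2_v0.nx (W (nat_lit 0x340d)) xzcj18) = true := by decide +kernel
theorem xzc21 : CL.Std.U35.P.chainB xns xD xK_w0_3_vs [[16], [18]] = true := by decide +kernel
theorem xzb23 : wdB xD [[16], [18]] xK_w0_3_v0.nx xzcj22 = true := by decide +kernel
theorem xzr24 : xchk (wdR xK_w0_3_v0.nx (W (nat_lit 0x380e)) xzcj22) = true := by decide +kernel
theorem xzc25 : CL.Std.U35.P.chainB xns xD xK_w0_4_vs [[16], [18]] = true := by decide +kernel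
theorem xzb27 : wdB xD [[16], [18]] xK_w0_4_v0.nx xzcj26 = true := by decide +kernel
theorem xzr28 : xchk (wdR xK_w0_4_v0.nx (W (nat_lit 0xd0340d)) xzcj26) = true := by decide +kernel
theorem xzc29 : CL.Std.U35.P.chainB xns xD xK_w0_5_vs [[16], [18]] = true := by decide +kernel
theorem xzb31 : wdB xD [[16], [18]] xK_w0_5_v0.nx xzcj30 = true := by decide +kernel
theorem xzr32 : xchk (wdR xK_w0_5_v0.nx (W (nat_lit 0x380e05c0d)) xzcj30) = true := by decide +kernel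
theorem xzc33 : CL.Std.U35.P.chainB xns xD xK_w0_6_vs [[16], [18]] = true := by decide +kernel
theorem xzb35 : wdB xD [[16], [18]] xK_w0_6_v0.nx xzcj34 = true := by decide +kernel
theorem xzr36 : xchk (wdR xK_w0_6_v0.nx (W (nat_lit 0xd0341603813)) xzcj34) = true := by decide +kernel
theorem xzc37 : CL.Std.U35.P.chainB xns xD xK_vs [[12], [14]] = true := by decide +kernel
theorem xzb39 : wdB xD [[16], [18]] xK_v1.nx xzcj38 = true := by decide +kernel
theorem xzr40 : xchk (wdR xK_v1.nx (W (nat_lit 0xe038170340d)) xzcj38) = true := by decide +kernel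
theorem xzc41 : CL.Std.U35.P.chainB xns xD xK_w0_8_vs [[16], [18]] = true := by decide +kernel
theorem xzb43 : wdB xD [[16], [18]] xK_w0_8_v0.nx xzcj42 = true := by decide +kernel
theorem xzr44 : xchk (wdR xK_w0_8_v0.nx (W (nat_lit 0xe038110580d)) xzcj42) = true := by decide +kernel
theorem xzb47 : bB CL.Std.U35.P.n CL.Std.U35.P.N xns (app xD xzE46) [[12], [14]] [[16], [18]] 0 xzrs12 xzB45 = true := by decide +kernel
theorem xzb48 : CL.Std.U35.P.invSz xns [[12], [14]] 0 (orbM CL.Std.U35.P.N xns xK_v0) 126 = true := by decide +kernel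
theorem xzr49 : xchk (bR 0 xzrs12 xzB45) = true := by decide +kernel
theorem xzr50 : xchk (defRels xzE46) = true := by decide +kernel
theorem xzm52 : leB xD xzts51 [[0], [2]] = true := by decide +kernel
theorem xzr53 : xchk (zp [] [[12], [14]] xzts51) = true := by decide +kernel
theorem xze54 : extB CL.Std.U35.ns xns 6 xws CL.Std.U35.D = true := by decide +kernel
theorem xzn55 : CL.Std.U35.P.netsB xns (mkDefs xws 6) = true := by decide +kernel

section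
variable {G X : Type*} [Group G] [MulAction G X] {e : ℕ → X} {gs : List G}

theorem xlen {k} (c : Ctx CL.Std.U35.P e gs CL.Std.U35.ns CL.Std.U35.D k) : gs.length = 6 := c.len xze54

theorem xctx0 {k} (c : Ctx CL.Std.U35.P e gs CL.Std.U35.ns CL.Std.U35.D k) : Ctx CL.Std.U35.P e (ext gs xws) xns xD chk0 :=
  c.ext rfl xze54 xzn55

theorem xctx {k} (c : Ctx CL.Std.U35.P e gs CL.Std.U35.ns CL.Std.U35.D k) {H : Subgroup G} (hF : Faithful e CL.Std.U35.P.n H) (hH : ∀ g ∈ gs, g ∈ H) :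
    Ctx CL.Std.U35.P e (ext gs xws) xns xD xchk :=
  (xctx0 c).withB hF (mem_of_mem_ext hH _)

theorem xK_u3 (c : Ctx CL.Std.U35.P e gs xns xD xchk) :
    UB (subW gs [[22]]) 2 :=
  (c.pc_step (UB.nil gs) (Rels.nil _)
    (c.rels _ xzr3) xzb2).le (by decide)

theorem xK_u2 (c : Ctx CL.Std.U35.P e gs xns xD xchk) :
    UB (subW gs [[20]]) 4 :=
  (c.pc_step (xK_u3 c) (Rels.nil _)
    (c.rels _ xzr7) xzb6).le (by decide)

theorem xK_u1 (c : Ctx CL.Std.U35.P e gs xns xD xchk) :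
    UB (subW gs [[16], [18]]) 20 :=
  (c.sch_step (xK_u2 c)
    (c.rels _ xzr11) xzb10).le (by decide)

theorem xK_w0_1_c : CL.Std.U35.P.chainB xns xD xK_w0_1_vs [[16], [18]] = true :=
  xzc13

theorem xK_w0_1_o : prodL xK_w0_1_vs 1 = 20 := by decide +kernel

theorem xK_w0_2_c : CL.Std.U35.P.chainB xns xD xK_w0_2_vs [[16], [18]] = true :=
  xzc17

theorem xK_w0_2_o : prodL xK_w0_2_vs 1 = 20 := by decide +kernel

theorem xK_w0_3_c : CL.Std.U35.P.chainB xns xD xK_w0_3_vs [[16], [18]] = true :=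
  xzc21

theorem xK_w0_3_o : prodL xK_w0_3_vs 1 = 20 := by decide +kernel

theorem xK_w0_4_c : CL.Std.U35.P.chainB xns xD xK_w0_4_vs [[16], [18]] = true :=
  xzc25

theorem xK_w0_4_o : prodL xK_w0_4_vs 1 = 20 := by decide +kernel

theorem xK_w0_5_c : CL.Std.U35.P.chainB xns xD xK_w0_5_vs [[16], [18]] = true :=
  xzc29

theorem xK_w0_5_o : prodL xK_w0_5_vs 1 = 20 := by decide +kernel

theorem xK_w0_6_c : CL.Std.U35.P.chainB xns xD xK_w0_6_vs [[16], [18]] = true :=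
  xzc33

theorem xK_w0_6_o : prodL xK_w0_6_vs 1 = 20 := by decide +kernel

theorem xK_c : CL.Std.U35.P.chainB xns xD xK_vs [[12], [14]] = true :=
  xzc37

theorem xK_o : prodL xK_vs 1 = 2520 := by decide +kernel

theorem xK_w0_8_c : CL.Std.U35.P.chainB xns xD xK_w0_8_vs [[16], [18]] = true :=
  xzc41

theorem xK_w0_8_o : prodL xK_w0_8_vs 1 = 20 := by decide +kernel

theorem xK_u0w (c : Ctx CL.Std.U35.P e gs xns xD xchk) :
    AllWd e gs [[16], [18]] xzrs12 :=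
  ⟨c.wd (v := xK_w0_1_v0) (vs := xK_w0_1_vs1) (xK_u1 c) xK_w0_1_c xK_w0_1_o
      (c.rels _ xzr16) xzb15,
    ⟨c.wd (v := xK_w0_2_v0) (vs := xK_w0_2_vs1) (xK_u1 c) xK_w0_2_c xK_w0_2_o
      (c.rels _ xzr20) xzb19,
    ⟨c.wd (v := xK_w0_3_v0) (vs := xK_w0_3_vs1) (xK_u1 c) xK_w0_3_c xK_w0_3_o
      (c.rels _ xzr24) xzb23,
    ⟨c.wd (v := xK_w0_4_v0) (vs := xK_w0_4_vs1) (xK_u1 c) xK_w0_4_c xK_w0_4_o
      (c.rels _ xzr28) xzb27,
    ⟨c.wd (v := xK_w0_5_v0) (vs := xK_w0_5_vs1) (xK_u1 c) xK_w0_5_c xK_w0_5_o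
      (c.rels _ xzr32) xzb31,
    ⟨c.wd (v := xK_w0_6_v0) (vs := xK_w0_6_vs1) (xK_u1 c) xK_w0_6_c xK_w0_6_o
      (c.rels _ xzr36) xzb35,
    ⟨c.wd (v := xK_v1) (vs := xK_vs2) (xK_u1 c) (Par.chainB_tail xK_c) (by decide +kernel)
      (c.rels _ xzr40) xzb39,
    ⟨c.wd (v := xK_w0_8_v0) (vs := xK_w0_8_vs1) (xK_u1 c) xK_w0_8_c xK_w0_8_o
      (c.rels _ xzr44) xzb43,
    trivial⟩⟩⟩⟩⟩⟩⟩⟩

theorem xK_u0 (c : Ctx CL.Std.U35.P e gs xns xD xchk) :
    UB (subW gs [[12], [14]]) 2520 :=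
  (c.b_step (xK_u1 c) (xK_u0w c) (c.rels _ xzr50)
    (c.rels _ xzr49) xzb47 xzb48).le (by decide)

theorem xK_ub (c : Ctx CL.Std.U35.P e gs xns xD xchk) :
    UB (subW gs [[12], [14]]) 2520 :=
  (xK_u0 c)

theorem xK_ex (c : Ctx CL.Std.U35.P e gs xns xD xchk) :
    Exact e CL.Std.U35.P.n CL.Std.U35.P.N gs xns 1 xK_vs [[12], [14]] :=
  c.exact xK_c xK_o (xK_ub c)

theorem xK_card (c : Ctx CL.Std.U35.P e gs xns xD xchk) :
    Nat.card (subW gs [[12], [14]]) = 2520 :=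
  (xK_ex c).card.trans xK_o

theorem xKle (c : Ctx CL.Std.U35.P e gs xns xD xchk) :
    (subW gs [[12], [14]]) ≤ (subW gs [[0], [2]]) :=
  (c.le_of_rels (ws := [[12], [14]]) (l := [[0], [2]]) (c.rels _ xzr53) xzm52)

end
end CL.MinU35

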