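/-
Certificates for the 2- and 3-parts of the Schur multiplier of M12 (generated).
-/
import Cfsg.Agent.Known.PcM24

set_option autoImplicit false

namespace CL.Pc
open Cfsg CL.Spor

namespace M12p2
def relT : ℕ := 0x180030006000c00180000006000a06140028185000000180c20184030800000000103a20600000030182000000000000000
def dT : ℕ := 0xd622358c8
def eT : ℕ := 0x35102040030406102030a20000000c288040c1c20608000040a20600000
def D : Data :=
  ⟨2, 6, 64, 1, 4, 14, 40, 31, 8, fun i j => tget 15 0x7fff relT (tri i j), 28, 6, 2,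
    fun k l => tget 3 7 dT (Nat.add (Nat.mul 6 k) l), fun k l => tget 21 0x1fffff eT (Nat.add (Nat.mul 6 k) l)⟩
def S : Fin2 :=
  ⟨28, 2, [0, 0x201, 0x50100407, 0x901, 0x806, 0x80200706, 0x406],
    [0, 0, 0, 0, 0, 0, 0, 0, 0, 0, 0, 0x30001000100000202030000000001000003000200, 0x1030000000103000000000000000000000001020200, 0x1030200020303020101030000010000000203000103, 0x1030200020303020302020000010002000003020200, 0, 0x2030103020202020000010000010003000000010300, 0x3000000000000000000000000000000000000000000, 0x1030100030001030101030300000302030201010003, 0x3000000000000000000000000030100, 0x1030300020000030300020000010001000203000203, 0, 0x100000000000000000000000000030100, 0x100, 0x202010000000003000000010300, 0x10000, 0x1000000, 0x2020200020002020000030000010001000200030303],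
    [(0x1101, 2, 0x3000000000001000000)]⟩
def r0 : List RelC := [⟨0, 6, 0x41, 0x1602⟩, ⟨0, 2, 0x82, 0x1703⟩, ⟨0, 4, 0x104, 0x1903⟩, ⟨0, 5, 0x145, 0x1a03⟩, ⟨0, 2, 0x41, 0x1b030160300402⟩, ⟨0, 4, 0x41, 0x1b030160300b02⟩, ⟨0, 4, 0xc3, 0x1b030180300d02⟩, ⟨0, 5, 0x41, 0x1b030160301002⟩, ⟨0, 5, 0xc3, 0x1b030180301202⟩, ⟨0, 5, 0x82, 0x1a0301102⟩, ⟨0, 5, 0x104, 0x1a0301302⟩, ⟨0, 4, 0x82, 0x1b03019030170300c02⟩, ⟨0, 3, 0x83, 0x1b010190100e0100d0100802⟩, ⟨0, 3, 0x82, 0x1b03019020180300e0300c0300802⟩, ⟨0, 3, 0x41, 0x1b0201a0301403013030100300e0300b0300702⟩, ⟨0, 5, 0x83, 0x19010170301301⟩, ⟨0, 4, 0x42, 0x19030170101603⟩, ⟨0, 3, 0x43, 0x1b0201a0301401013010120100e0100d0100702⟩, ⟨0, 3, 0x42, 0x1a020190201803013030110100c0100b03⟩, ⟨1, 0x85, 0x142, 0x1b0101a0101803016010100100b01⟩, ⟨2, 0xc4, 0x103, 0x1a0301603013030110100c0100403⟩]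
theorem r0_ok : allL (chkRel D) r0 = true := by decide +kernel
def rels : List RelC := (r0 ++ [])
theorem params : Params D S rels 1 :=
  ⟨(by norm_num : Nat.Prime 2), by decide +kernel, by decide +kernel, by decide +kernel, by decide +kernel,
    by decide +kernel, by decide +kernel, by decide +kernel, by decide +kernel, by decide +kernel,
    by decide +kernel, by decide +kernel⟩
theorem g1 : goalsChk D S (rels.map (·.s)) 1 6 = true := by decide +kernel
theorem checks : Checks D S rels :=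
  ⟨by decide +kernel, allL_app r0_ok (allL_end), cover_step g1 (cover_end (by decide)), by decide +kernel⟩
def PT : ℕ := 0x5cef1b0aa07950c55086704e9836433adc58c2c6a5c229bd2c50ea4401b2a4d57b21707b82c8d492388a9199a0aae8a89acc7b8909dda23a0a104923ac68a59a7073d2cb5c222a0ed1c88055a959896c73db08dc863a0a91c820b5173bb6b03950c544c1791c21a640bcd54b222329da05d492719e98082c000000000000000000000000000000
def tbl (l : ℕ) : ℕ := tget 120 0xffffffffffffffffffffffffffffff PT l
abbrev A : ℕ → ℕ → ℕ := fun l => pf (tbl l)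
theorem w1 : rowsChk D (eqB A (D.n + D.NF) 6 [23, 0, 1, 2, 3, 4, 5]) 1 6 = true := by decide +kernel
theorem rows : ∀ j, 1 ≤ j → j ≤ D.n → ∃ lo len, lo ≤ j ∧ j < lo + len ∧
    rowsChk D (eqB A (D.n + D.NF) 6 [23, 0, 1, 2, 3, 4, 5]) lo len = true := cover_step w1 (cover_end (by decide))
theorem f0 : fusChk D (eqB A (D.n + D.NF) 6 [23, 0, 1, 2, 3, 4, 5]) 0 = true := by decide +kernel
theorem f1 : fusChk D (eqB A (D.n + D.NF) 6 [23, 0, 1, 2, 3, 4, 5]) 1 = true := by decide +kernel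
theorem fus : ∀ k < D.NF, fusChk D (eqB A (D.n + D.NF) 6 [23, 0, 1, 2, 3, 4, 5]) k = true :=
  show ∀ k < 2, _ from below_step f1 (below_step f0 (below_end))
theorem bound (hG : ¬ 2 ^ 7 ∣ Nat.card Spor.M12) : PBound Spor.M12 2 1 := by
  obtain ⟨a, ha⟩ := m24_alph t12 t12_ok tbl (D.n + D.NF) (by decide +kernel)
  exact ha.pbound gPt_inj (m24_isBase M12_le) params checks (by decide) rows fus (e := 1)
    (L := [(0, 24, [5, 1]), (0xc, 24, [3]), (5, 24, [4, 2]), (1, 24, [6])]) (by decide) (by decide +kernel) hG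
end M12p2

namespace M12p3
def relT : ℕ := 0x3000c00000030c200000000000000
def dT : ℕ := 0xe4e4
def eT : ℕ := 0x3c30820304100000000c3030c2c304100000
def D : Data :=
  ⟨3, 3, 4096, 65, 3, 11, 18, 24, 1, fun i j => tget 14 0x3fff relT (tri i j), 10, 4, 2,
    fun k l => tget 2 3 dT (Nat.add (Nat.mul 4 k) l), fun k l => tget 20 0xfffff eT (Nat.add (Nat.mul 4 k) l)⟩
def S : Fin2 :=
  ⟨23, 3, [0, 0x201, 0x501, 0x403],
    [0, 0, 0, 0, 0, 0, 0, 0x20000, 0x200, 2],
    []⟩
def r0 : List RelC := [⟨0, 2, 0x1041, 0x901⟩, ⟨1, 0x83, 0xc2, 0x801⟩, ⟨2, 0x43, 0xc1, 0x701⟩]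
theorem r0_ok : allL (chkRel D) r0 = true := by decide +kernel
def rels : List RelC := (r0 ++ [])
theorem params : Params D S rels 0 :=
  ⟨(by norm_num : Nat.Prime 3), by decide +kernel, by decide +kernel, by decide +kernel, by decide +kernel,
    by decide +kernel, by decide +kernel, by decide +kernel, by decide +kernel, by decide +kernel,
    by decide +kernel, by decide +kernel⟩
theorem g1 : goalsChk D S (rels.map (·.s)) 1 3 = true := by decide +kernel
theorem checks : Checks D S rels :=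
  ⟨by decide +kernel, allL_app r0_ok (allL_end), cover_step g1 (cover_end (by decide)), by decide +kernel⟩
def PT : ℕ := 0x9acf4bca302b98db2868a81e448446ac6e7a3661715905d920549e3220c2acd713c1487b806bd132b08a41b1a15daf19894c2be40ad126385c41b510b2a75a21727b9a63dc70888a923020000000000000000000000000000000
def tbl (l : ℕ) : ℕ := tget 120 0xffffffffffffffffffffffffffffff PT l
abbrev A : ℕ → ℕ → ℕ := fun l => pf (tbl l)
theorem w1 : rowsChk D (eqB A (D.n + D.NF) 6 [23, 0, 1, 2, 3, 4, 5]) 1 3 = true := by decide +kernel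
theorem rows : ∀ j, 1 ≤ j → j ≤ D.n → ∃ lo len, lo ≤ j ∧ j < lo + len ∧
    rowsChk D (eqB A (D.n + D.NF) 6 [23, 0, 1, 2, 3, 4, 5]) lo len = true := cover_step w1 (cover_end (by decide))
theorem f0 : fusChk D (eqB A (D.n + D.NF) 6 [23, 0, 1, 2, 3, 4, 5]) 0 = true := by decide +kernel
theorem f1 : fusChk D (eqB A (D.n + D.NF) 6 [23, 0, 1, 2, 3, 4, 5]) 1 = true := by decide +kernel
theorem fus : ∀ k < D.NF, fusChk D (eqB A (D.n + D.NF) 6 [23, 0, 1, 2, 3, 4, 5]) k = true :=
  show ∀ k < 2, _ from below_step f1 (below_step f0 (below_end))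
theorem bound (hG : ¬ 3 ^ 4 ∣ Nat.card Spor.M12) : PBound Spor.M12 3 0 := by
  obtain ⟨a, ha⟩ := m24_alph t12 t12_ok tbl (D.n + D.NF) (by decide +kernel)
  exact ha.pbound gPt_inj (m24_isBase M12_le) params checks (by decide) rows fus (e := 2)
    (L := [(3, 24, [1]), (5, 24, [2]), (0, 24, [3])]) (by decide) (by decide +kernel) hG
end M12p3

end CL.Pc
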