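/-
Central extensions without `p`-torsion in the kernel: canonical lifts of `p`-subgroups; a closure lemma for three double
cosets.
-/
import Cfsg.Agent.Known.TwSFilt
import Cfsg.Agent.Chev.SL2Pres

set_option autoImplicit false

namespace CL.Pq

open CL.TwS CL.Chev.SL2
open scoped commutatorElement

variable {G E : Type*} [Group G] [Group E]

theorem inv_mem_of_finite [Finite G] (M : Submonoid G) {g : G} (h : g ∈ M) : g⁻¹ ∈ M := by
  have := (isOfFinOrder_of_finite g).mem_powers_iff_mem_zpowers.2 (inv_mem (Subgroup.mem_zpowers g))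
  exact Submonoid.powers_le.2 h this

theorem exists_mul_of_mem_sup {A B : Subgroup G} (h : ∀ a ∈ A, ∀ b ∈ B, a * b * a⁻¹ ∈ B) {g : G} (hg : g ∈ A ⊔ B) :
    ∃ a ∈ A, ∃ b ∈ B, g = a * b := by
  let C : Subgroup G :=
    { carrier := {g | ∃ a ∈ A, ∃ b ∈ B, g = a * b}
      one_mem' := ⟨1, one_mem _, 1, one_mem _, by simp⟩
      mul_mem' := by
        rintro _ _ ⟨a, ha, b, hb, rfl⟩ ⟨a', ha', b', hb', rfl⟩
        exact ⟨_, mul_mem ha ha', _, mul_mem (h _ (inv_mem ha') _ hb) hb', by group⟩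
      inv_mem' := by
        rintro _ ⟨a, ha, b, hb, rfl⟩
        exact ⟨_, inv_mem ha, _, h _ ha _ (inv_mem hb), by group⟩ }
  exact (sup_le (fun a ha => ⟨a, ha, 1, one_mem _, by simp⟩) fun b hb => ⟨1, one_mem _, b, hb, by simp⟩ : _ ≤ C) hg

theorem conj_mem_sup {A B C : Subgroup G} {g : G} (hA : ∀ a ∈ A, g * a * g⁻¹ ∈ C) (hB : ∀ a ∈ B, g * a * g⁻¹ ∈ C)
    {a : G} (ha : a ∈ A ⊔ B) : g * a * g⁻¹ ∈ C :=
  (sup_le hA hB : A ⊔ B ≤ C.comap (MulAut.conj g).toMonoidHom) ha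

theorem conj_mem_iSup {I : Sort*} {A : I → Subgroup G} {C : Subgroup G} {g : G} (hA : ∀ i, ∀ a ∈ A i, g * a * g⁻¹ ∈ C)
    {a : G} (ha : a ∈ ⨆ i, A i) : g * a * g⁻¹ ∈ C :=
  (iSup_le hA : _ ≤ C.comap (MulAut.conj g).toMonoidHom) ha

theorem conj_mem_closure {s : Set G} {C : Subgroup G} {g : G} (hA : ∀ a ∈ s, g * a * g⁻¹ ∈ C)
    {a : G} (ha : a ∈ Subgroup.closure s) : g * a * g⁻¹ ∈ C :=
  ((Subgroup.closure_le _).2 hA : _ ≤ C.comap (MulAut.conj g).toMonoidHom) ha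

theorem card_sup_of_norm {A B : Subgroup G} (h : ∀ a ∈ A, ∀ b ∈ B, a * b * a⁻¹ ∈ B) (h' : ∀ a ∈ A, a ∈ B → a = 1) :
    Nat.card (A ⊔ B : Subgroup G) = Nat.card A * Nat.card B := by
  rw [← Nat.card_prod]
  refine (Nat.card_congr (Equiv.ofBijective (fun x : A × B => (⟨x.1 * x.2, Subgroup.mul_mem_sup x.1.2 x.2.2⟩ :
    (A ⊔ B : Subgroup G))) ⟨fun x y e => ?_, fun g => ?_⟩)).symm
  · have e1 : (x.1 : G) * x.2 = y.1 * y.2 := congrArg Subtype.val e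
    have e2 := h' _ (mul_mem (inv_mem y.1.2) x.1.2) (by
      rw [show (y.1 : G)⁻¹ * x.1 = y.2 * (x.2 : G)⁻¹ by rw [inv_mul_eq_iff_eq_mul, ← mul_assoc, ← e1]; group]
      exact mul_mem y.2.2 (inv_mem x.2.2))
    rw [inv_mul_eq_one] at e2
    exact Prod.ext (Subtype.ext e2.symm) (Subtype.ext (mul_left_cancel (e1.trans (by rw [e2]))))
  · obtain ⟨a, ha, b, hb, e⟩ := exists_mul_of_mem_sup h g.2
    exact ⟨(⟨a, ha⟩, ⟨b, hb⟩), Subtype.ext e.symm⟩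

theorem kAt_sup {π : E →* G} {K K' : Subgroup E} {X X' : Subgroup G} (h : KAt π K X) (h' : KAt π K' X')
    (hn : Nrm π X K') (hd : ∀ a ∈ X, a ∈ X' → a = 1) : KAt π (K ⊔ K') (X ⊔ X') := by
  have key := fun {g} (hg : g ∈ K ⊔ K') => exists_mul_of_mem_sup (fun a ha => hn a (h.map_mem a ha)) hg
  refine ⟨fun a ha => ?_, fun x hx => ?_, fun g hg e => ?_⟩
  · obtain ⟨c, hc, b, hb, rfl⟩ := key ha
    rw [map_mul]; exact Subgroup.mul_mem_sup (h.map_mem c hc) (h'.map_mem b hb)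
  · rw [← h.map_eq, ← h'.map_eq, ← Subgroup.map_sup] at hx
    exact hx
  · obtain ⟨a, ha, b, hb, rfl⟩ := key hg
    have h1 := h.inj a ha (hd _ (h.map_mem a ha) (by
      rw [map_mul, mul_eq_one_iff_eq_inv] at e
      exact e ▸ inv_mem (h'.map_mem b hb)))
    rw [h1, one_mul] at e ⊢
    exact h'.inj b hb e

theorem nrm_closure [Finite G] {π : E →* G} (hs : Function.Surjective π) (hc : π.ker ≤ Subgroup.center E) {s : Set G}
    {K : Subgroup E} (h : ∀ g, π g ∈ s → ∀ a ∈ K, g * a * g⁻¹ ∈ K) : Nrm π (Subgroup.closure s) K := by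
  let M : Submonoid G :=
    { carrier := {x | ∀ g, π g = x → ∀ a ∈ K, g * a * g⁻¹ ∈ K}
      one_mem' := fun g hg a ha => by rwa [comm_of_ker hc hg a |>.symm, mul_inv_cancel_right]
      mul_mem' := fun {x y} hx hy g hg a ha => by
        obtain ⟨b, rfl⟩ := hs x
        have := hx b rfl _ (hy (b⁻¹ * g) (by simp [hg]) a ha)
        simpa [mul_assoc] using this }
  intro g hg
  refine (show π g ∈ M from ?_) g rfl
  generalize π g = x at hg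
  induction hg using Subgroup.closure_induction with
  | mem x hx => exact fun g e => h g (e ▸ hx)
  | one => exact one_mem _
  | mul _ _ _ _ h1 h2 => exact mul_mem h1 h2
  | inv _ _ h1 => exact inv_mem_of_finite M h1

/-- Three double cosets. -/
theorem closure3 {P L P₂ Q X : Subgroup G} {n w₂ : G} {R : G → Prop}
    (h1 : ∀ g ∈ P, ∃ t q l, n * t * n⁻¹ ∈ P ∧ q ∈ Q ∧ l ∈ L ∧ g = t * q * l)
    (h2 : ∀ l ∈ L, ∃ r ∈ P₂, ∃ r' ∈ P₂, ∃ y, (y = 1 ∨ y = w₂ ∨ R y) ∧ l = r * y * r')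
    (h3 : ∀ r ∈ P₂, n * r * n⁻¹ ∈ P ∧ ∀ q ∈ Q, r⁻¹ * q * r ∈ Q)
    (h4 : ∀ q ∈ Q, ∃ a x, n * a * n⁻¹ ∈ P ∧ x ∈ X ∧ q = a * x)
    (h5 : ∀ x ∈ X, n * x * n ∈ P ∨ ∃ a ∈ P, ∃ x' ∈ X, n * x * n = a * n * x') (h6 : n * n ∈ P)
    (h7 : ∀ x ∈ X, n * (w₂⁻¹ * x * w₂) * n⁻¹ ∈ P)
    (h8 : ∀ y, R y → (∀ x ∈ X, (y * n)⁻¹ * x * (y * n) ∈ P) ∧ ∃ a ∈ P, ∃ b ∈ P, n * y * n = a * n * b)
    (h9 : ∀ l ∈ L, (n * w₂ * n⁻¹)⁻¹ * l * (n * w₂ * n⁻¹) ∈ P) (hX : X ≤ P) (hw : w₂ ∈ P) {g : G}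
    (hg : g ∈ Subgroup.closure (insert n (P : Set G))) :
    ∃ a ∈ P, ∃ b ∈ P, ∃ y, (y = 1 ∨ y = n * w₂ * n⁻¹ ∨ y = n) ∧ g = a * y * b := by
  let C : Set G := {g | ∃ a ∈ P, ∃ b ∈ P, ∃ y, (y = 1 ∨ y = n * w₂ * n⁻¹ ∨ y = n) ∧ g = a * y * b}
  have hL : ∀ a ∈ P, ∀ c ∈ C, a * c ∈ C := by
    rintro a ha _ ⟨b, hb, c, hc, y, hy, rfl⟩
    exact ⟨_, mul_mem ha hb, c, hc, y, hy, by group⟩
  have hR : ∀ a ∈ P, ∀ c ∈ C, c * a ∈ C := by
    rintro a ha _ ⟨b, hb, c, hc, y, hy, rfl⟩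
    exact ⟨b, hb, _, mul_mem hc ha, y, hy, by group⟩
  have c1 : ∀ a ∈ P, a ∈ C := fun a ha => ⟨a, ha, 1, one_mem _, 1, .inl rfl, by simp⟩
  have cn : n ∈ C := ⟨1, one_mem _, 1, one_mem _, n, .inr (.inr rfl), by simp⟩
  have cw : n * w₂ * n⁻¹ ∈ C := ⟨1, one_mem _, 1, one_mem _, _, .inr (.inl rfl), by simp⟩
  have h3' : ∀ z, n * z * n⁻¹ ∈ P → n⁻¹ * z * n ∈ P := fun z hz => by
    simpa [mul_assoc] using mul_mem (mul_mem (inv_mem h6) hz) h6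
  have hn : ∀ c ∈ C, n * c ∈ C := by
    rintro _ ⟨a, ha, b, hb, y, hy, rfl⟩
    rw [← mul_assoc]
    refine hR b hb _ ?_
    rcases hy with rfl | hy
    · simpa [mul_assoc] using hR a ha _ cn
    obtain ⟨t, q, l, ht, hq, hl, rfl⟩ := h1 a ha
    rw [show n * (t * q * l * y) = n * t * n⁻¹ * (n * q * l * y) by group]
    refine hL _ ht _ ?_
    rcases hy with rfl | rfl
    · obtain ⟨a, x, h, hx, rfl⟩ := h4 q hq
      rw [show n * (a * x) * l * (n * w₂ * n⁻¹) = n * a * n⁻¹ * (n * x * n * (w₂ * n⁻¹) *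
        ((n * w₂ * n⁻¹)⁻¹ * l * (n * w₂ * n⁻¹))) by group]
      refine hL _ h _ (hR _ (h9 l hl) _ ?_)
      rcases h5 x hx with h | ⟨a, ha, x', hx', h⟩
      · simpa [mul_assoc] using hL _ (mul_mem h hw) _ (hL _ (inv_mem h6) _ cn)
      · simpa [h, mul_assoc] using hL _ ha _ (hR _ (h7 x' hx') _ cw)
    obtain ⟨r, hr, r', hr', z, hz, rfl⟩ := h2 l hl
    obtain ⟨a, x, h, hx, e⟩ := h4 _ ((h3 r hr).2 q hq)
    rw [show y * q * (r * z * r') * y = y * r * y⁻¹ * (y * (r⁻¹ * q * r) * z * y * (y⁻¹ * r' * y)) by group, e,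
      show y * (a * x) * z * y = y * a * y⁻¹ * (y * x * z * y) by group]
    refine hL _ (h3 r hr).1 _ (hR _ (h3' _ (h3 r' hr').1) _ (hL _ h _ ?_))
    rcases hz with rfl | rfl | hz
    · rcases h5 x hx with h | ⟨a, ha, x', hx', h⟩
      · simpa using c1 _ h
      · simpa [h, mul_assoc] using hL _ ha _ (hR _ (hX hx') _ cn)
    · simpa [mul_assoc] using hR _ (mul_mem (h7 x hx) h6) _ cw
    · obtain ⟨h, a, ha, b, hb, e⟩ := h8 z hz
      have := hR _ (h x hx) _ (hL _ ha _ (hR _ hb _ cn))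
      rw [← mul_assoc a, ← e] at this
      simpa [mul_assoc] using this
  refine Subgroup.closure_induction_left (p := fun g _ => g ∈ C) (c1 1 (one_mem _)) ?_ ?_ hg
  · rintro x (rfl | hx) c _ hc
    exacts [hn c hc, hL x hx c hc]
  · rintro x (rfl | hx) c _ hc
    · simpa [mul_assoc] using hL _ (inv_mem h6) _ (hn c hc)
    · exact hL _ (inv_mem hx) c hc

section SL2

variable {K : Type*} [Field K] {x y : K → G} (R : Rel x y)
include R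

theorem rel_cases [Finite K] {g : G} (hg : g ∈ Subgroup.closure (Set.range x ∪ Set.range y)) :
    (∃ t ≠ 0, ∃ a, g = hh x y t * x a) ∨ ∃ a b, ∃ c ≠ 0, g = x a * y c * x b := by
  obtain ⟨φ, h1, h2⟩ := R.exists_hom_of_finite
  obtain ⟨g, rfl⟩ : g ∈ φ.range := (Subgroup.closure_le φ.range).2
    (by rintro _ (⟨t, rfl⟩ | ⟨t, rfl⟩); exacts [⟨_, h1 t⟩, ⟨_, h2 t⟩]) hg
  by_cases hc : g 1 0 = 0
  · have hd := det_eq g
    rw [hc, mul_zero, sub_zero] at hd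
    have h0 : g 0 0 ≠ 0 := left_ne_zero_of_mul_eq_one hd
    refine .inl ⟨g 0 0, h0, g 0 1 / g 0 0, ?_⟩
    simp only [hh, nn, ← h1, ← h2, ← map_mul]
    congr 1
    apply ext2 <;> simp only [mul_apply2, up_00, up_01, up_10, up_11, lo_00, lo_01, lo_10, lo_11, hc] <;> field_simp
    · ring
    · ring
    · ring
    · linear_combination (g 0 0 : K) * hd
  · exact .inr ⟨_, _, _, hc, (congrArg φ (eq_up_lo_up g hc)).trans (by rw [map_mul, map_mul, h1, h1, h2])⟩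

theorem rel_y_eq {c : K} (hc : c ≠ 0) : y c = x c⁻¹ * hh x y (-c⁻¹) * nn x y 1 * x c⁻¹ := by
  have := R.y_eq (s := -c⁻¹)
  rwa [inv_neg, inv_inv, neg_neg, neg_neg, R.n_eq_h, ← mul_assoc] at this

theorem rel_n_sq : nn x y 1 * nn x y 1 = (hh x y (-1))⁻¹ := by rw [hh, R.n_neg, mul_inv_rev, inv_inv]

/-- The torus of a rank one group. -/
def torus [Finite K] : Subgroup G where
  carrier := {g | ∃ t ≠ 0, g = hh x y t}
  one_mem' := ⟨1, one_ne_zero, R.h_one.symm⟩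
  mul_mem' := by rintro _ _ ⟨t, ht, rfl⟩ ⟨u, hu, rfl⟩; exact ⟨_, mul_ne_zero ht hu, R.h_mul ht hu⟩
  inv_mem' := by
    rintro _ ⟨t, ht, rfl⟩
    exact ⟨_, inv_ne_zero ht, inv_eq_of_mul_eq_one_right (by rw [R.h_mul ht (inv_ne_zero ht), mul_inv_cancel₀ ht, R.h_one])⟩

theorem rel_nxn (t : K) : nn x y 1 * x t * nn x y 1 = (hh x y (-1))⁻¹ ∨ ∃ a, ∃ s ≠ 0, ∃ b,
    nn x y 1 * x t * nn x y 1 = x a * hh x y s * (hh x y (-1))⁻¹ * nn x y 1 * x b := by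
  by_cases ht : t = 0
  · exact .inl (by rw [ht, R.x_zero, mul_one, rel_n_sq R])
  have h1 := R.conj 1 one_ne_zero t
  have h2 := R.h_conj_x (t := -1) (by simp) (-t)⁻¹
  rw [inv_one, one_pow, one_mul, rel_y_eq R (neg_ne_zero.2 ht)] at h1
  rw [neg_one_sq, one_mul] at h2
  refine .inr ⟨(-t)⁻¹, -(-t)⁻¹, by simpa using ht, (-t)⁻¹, ?_⟩
  have h3 : x (-t)⁻¹ * (nn x y 1 * nn x y 1) = nn x y 1 * nn x y 1 * x (-t)⁻¹ := by
    rw [rel_n_sq R, mul_inv_eq_iff_eq_mul, mul_assoc, eq_inv_mul_iff_mul_eq, ← mul_inv_eq_iff_eq_mul, h2]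
  rw [← rel_n_sq R, mul_inv_eq_iff_eq_mul.1 h1, mul_assoc _ _ (nn x y 1), mul_assoc _ (x _) (_ * _), h3]
  simp only [mul_assoc]

end SL2

section Lift

variable (p : ℕ) (π : E →* G)

/-- `p`-elements. -/
def PE (a : G) : Prop := ∃ k, a ^ p ^ k = 1

/-- A central extension without `p`-torsion in the kernel. -/
structure Cop : Prop where
  prime : p.Prime
  surj : Function.Surjective π
  cent : π.ker ≤ Subgroup.center E
  tors : ∀ z, π z = 1 → PE p z → z = 1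

/-- The lift of a subgroup. -/
def Lf (X : Subgroup G) : Subgroup E := Subgroup.closure {a | PE p a ∧ π a ∈ X}

variable {p π}

theorem PE.conj {a : G} (h : PE p a) (g : G) : PE p (g * a * g⁻¹) := h.imp fun k hk => by rw [conj_pow, hk]; group

theorem PE.inv {a : G} (h : PE p a) : PE p a⁻¹ := h.imp fun k hk => by rw [inv_pow, hk, inv_one]

theorem PE.of_mem {X : Subgroup G} (h : IsPGroup p X) {a : G} (ha : a ∈ X) : PE p a :=
  (h ⟨a, ha⟩).imp fun _ hk => congrArg Subtype.val hk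

theorem mem_Lf_of {X : Subgroup G} {a : E} (h : PE p a) (h' : π a ∈ X) : a ∈ Lf p π X := Subgroup.subset_closure ⟨h, h'⟩

theorem Lf_le_comap (X : Subgroup G) : Lf p π X ≤ X.comap π := (Subgroup.closure_le _).2 fun _ h => h.2

theorem Lf_mono {X Y : Subgroup G} (h : X ≤ Y) : Lf p π X ≤ Lf p π Y := Subgroup.closure_mono fun _ ha => ⟨ha.1, h ha.2⟩

theorem conj_Lf {X Y : Subgroup G} {g : E} (h : ∀ x ∈ X, π g * x * (π g)⁻¹ ∈ Y) {a : E} (ha : a ∈ Lf p π X) :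
    g * a * g⁻¹ ∈ Lf p π Y :=
  conj_mem_closure (fun a ha => mem_Lf_of (ha.1.conj g) (by simpa using h _ ha.2)) ha

namespace Cop

variable (C : Cop p π)
include C

theorem eq_of_pe {a b : E} (ha : PE p a) (hb : PE p b) (h : π a = π b) : a = b := by
  obtain ⟨k, hk⟩ := ha
  obtain ⟨l, hl⟩ := hb
  have h1 : π (b⁻¹ * a) = 1 := by simp [h]
  have h2 : Commute b (b⁻¹ * a) := comm_of_ker C.cent h1 b
  refine (inv_mul_eq_one.1 (C.tors _ h1 ⟨k + l, ?_⟩)).symm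
  have h3 := h2.mul_pow (p ^ (k + l))
  rwa [mul_inv_cancel_left, pow_add, pow_mul, hk, one_pow, mul_comm (p ^ k), pow_mul b, hl, one_pow, one_mul, eq_comm,
    mul_comm, ← pow_add] at h3

variable [Finite E]

theorem exists_pgroup {X : Subgroup G} (hX : IsPGroup p X) : ∃ P : Subgroup E, IsPGroup p P ∧ P.map π = X := by
  have := Fact.mk C.prime
  obtain ⟨P⟩ : Nonempty (Sylow p (X.comap π)) := inferInstance
  have hs := π.subgroupComap_surjective_of_surjective X C.surj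
  have h1 : ((P.mapSurjective hs : Sylow p X) : Subgroup X) = ⊤ :=
    ((P.mapSurjective hs).is_maximal' (hX.to_subgroup ⊤) le_top).symm
  refine ⟨(P : Subgroup (X.comap π)).map (X.comap π).subtype, P.isPGroup'.map _, le_antisymm ?_ fun x hx => ?_⟩
  · rintro _ ⟨_, ⟨a, -, rfl⟩, rfl⟩; exact a.2
  · obtain ⟨a, ha, e⟩ : (⟨x, hx⟩ : X) ∈ ((P.mapSurjective hs : Sylow p X) : Subgroup X) := h1 ▸ Subgroup.mem_top _
    exact ⟨a, ⟨a, ha, rfl⟩, congrArg Subtype.val e⟩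

theorem mem_Lf {X : Subgroup G} (hX : IsPGroup p X) {a : E} : a ∈ Lf p π X ↔ PE p a ∧ π a ∈ X := by
  refine ⟨fun h => ⟨?_, Lf_le_comap X h⟩, fun h => mem_Lf_of h.1 h.2⟩
  obtain ⟨P, hP, rfl⟩ := C.exists_pgroup hX
  refine PE.of_mem hP ((Subgroup.closure_le P).2 ?_ h)
  rintro a ⟨ha, b, hb, e⟩
  exact C.eq_of_pe (PE.of_mem hP hb) ha e ▸ hb

theorem kAt_Lf {X : Subgroup G} (hX : IsPGroup p X) : KAt π (Lf p π X) X := by
  refine ⟨fun a ha => Lf_le_comap X ha, fun x hx => ?_, fun a ha e => C.tors a e ((C.mem_Lf hX).1 ha).1⟩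
  obtain ⟨P, hP, rfl⟩ := C.exists_pgroup hX
  obtain ⟨a, ha, rfl⟩ := hx
  exact ⟨a, mem_Lf_of (PE.of_mem hP ha) ⟨a, ha, rfl⟩, rfl⟩

/-- Lifting the rank one relations. -/
theorem exists_rel {K : Type*} [Field K] {x y : K → G} (R : Rel x y) {X Y : Subgroup G} (hX : IsPGroup p X)
    (hY : IsPGroup p Y) (hx : ∀ t, x t ∈ X) (hy : ∀ t, y t ∈ Y) : ∃ x' y' : K → E, Rel x' y' ∧
      (∀ t, PE p (x' t) ∧ π (x' t) = x t) ∧ ∀ t, PE p (y' t) ∧ π (y' t) = y t := by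
  choose x' h1 h2 using fun t => (C.kAt_Lf hX).surj _ (hx t)
  choose y' h3 h4 using fun t => (C.kAt_Lf hY).surj _ (hy t)
  have h5 := fun t => ((C.mem_Lf hX).1 (h1 t)).1
  have h6 := fun t => ((C.mem_Lf hY).1 (h3 t)).1
  refine ⟨x', y', ⟨fun s t => (C.kAt_Lf hX).eq_of_map_eq (h1 _) (mul_mem (h1 _) (h1 _)) ?_,
    fun s t => (C.kAt_Lf hY).eq_of_map_eq (h3 _) (mul_mem (h3 _) (h3 _)) ?_, fun t ht u =>
      C.eq_of_pe ((h5 _).conj _) (h6 _) ?_⟩, fun t => ⟨h5 t, h2 t⟩, fun t => ⟨h6 t, h4 t⟩⟩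
  · rw [map_mul, h2, h2, h2, R.x_add]
  · rw [map_mul, h4, h4, h4, R.y_add]
  · rw [h4, ← R.conj t ht]; simp [nn, h2, h4]

omit [Finite E] in
theorem eq_top_of_map (hp : π.ker ≤ commutator E) {M : Subgroup E} (h : M.map π = ⊤) : M = ⊤ := by
  have h1 : ∀ g, ∃ a ∈ M, π a = π g := fun g => h.ge (Subgroup.mem_top (π g))
  have h2 : commutator E ≤ M := Subgroup.commutator_le.2 fun a _ b _ => by
    obtain ⟨a', ha, e⟩ := h1 a
    obtain ⟨b', hb, e'⟩ := h1 b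
    rw [CL.Schur.commElt_eq_of_map_eq C.cent e.symm e'.symm]
    exact mul_mem (mul_mem (mul_mem ha hb) (inv_mem ha)) (inv_mem hb)
  refine eq_top_iff.2 fun g _ => ?_
  obtain ⟨a, ha, e⟩ := h1 g
  simpa using mul_mem ha (h2 (hp (show a⁻¹ * g ∈ π.ker by simp [e])))

end Cop

end Lift

end CL.Pq
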