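/-
Groups of isometries of pseudo-quadratic spaces containing the Eichler maps; frames of hyperbolic pairs.
-/
import Cfsg.Agent.Known.PqLift
import Cfsg.Agent.Cls.UniTv

set_option autoImplicit false

namespace CL.Pq

open CL.TwS CL.Chev.SL2 CL.Uni

variable {K V G : Type*} [Field K] [AddCommGroup V] [Module K V] [Group G] {σ : K →+* K}

/-- A group acting on a pseudo-quadratic space, with a frame of `m` hyperbolic pairs. -/
structure Sp (σ : K →+* K) (V : Type*) [AddCommGroup V] [Module K V] (G : Type*) [Group G] where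
  B : V →ₛₗ[σ] V →ₗ[K] K
  adm : V → K → Prop
  ρ : G →* (V ≃ₗ[K] V)
  inj : Function.Injective ρ
  σσ : ∀ x, σ (σ x) = x
  symm : ∀ x y, σ (B x y) = B y x
  adm_zero : adm 0 0
  adm_add : ∀ {v c w d}, adm v c → adm w d → adm (v + w) (c + d + B v w)
  adm_smul : ∀ {v c} (a), adm v c → adm (a • v) (c * (a * σ a))
  adm_σ : ∀ {v c}, adm v c → adm v (σ c)
  adm_tr : ∀ {v c}, adm v c → c + σ c = B v v
  mem_UG : ∀ g, ρ g ∈ UG B
  adm_map : ∀ g {v c}, adm v c → adm (ρ g v) c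
  ex : ∀ {e v c}, adm e 0 → B e v = 0 → adm v c → ∃ g, IsEich B e v c (ρ g)
  m : ℕ
  e : ℕ → V
  f : ℕ → V
  adm_e : ∀ i, adm (e i) 0
  adm_f : ∀ i, adm (f i) 0
  ee : ∀ i j, B (e i) (e j) = 0
  ff : ∀ i j, B (f i) (f j) = 0
  ef_ne : ∀ {i j}, i ≠ j → B (e i) (f j) = 0
  ef : ∀ {i}, i < m → B (e i) (f i) = 1

namespace Sp

variable (S : Sp σ V G)

theorem flip {x y : V} (h : S.B x y = 0) : S.B y x = 0 := by rw [← S.symm, h, map_zero]

theorem fe_ne {i j : ℕ} (h : i ≠ j) : S.B (S.f i) (S.e j) = 0 := S.flip (S.ef_ne h.symm)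

theorem fe {i : ℕ} (h : i < S.m) : S.B (S.f i) (S.e i) = 1 := by rw [← S.symm, S.ef h, map_one]

theorem B_map (g : G) (x y : V) : S.B (S.ρ g x) (S.ρ g y) = S.B x y := S.mem_UG g x y

theorem B_left (g : G) (x y : V) : S.B (S.ρ g x) y = S.B x (S.ρ g⁻¹ y) := by rw [UG_apply_left (S.mem_UG g), map_inv]

theorem mul_app (g h : G) (x : V) : S.ρ (g * h) x = S.ρ g (S.ρ h x) := by rw [map_mul]; rfl

theorem inv_app {g : G} {x y : V} (h : S.ρ g x = y) : S.ρ g⁻¹ y = x := by rw [← h, ← mul_app, inv_mul_cancel, map_one]; rfl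

theorem self_of_adm {v : V} (h : S.adm v 0) : S.B v v = 0 := by rw [← S.adm_tr h, map_zero, add_zero]

theorem adm_smul_zero {v : V} (h : S.adm v 0) (a : K) : S.adm (a • v) 0 := by simpa using S.adm_smul a h

/-- `g` is an Eichler map. -/
def Ei (e v : V) (c : K) (g : G) : Prop := IsEich S.B e v c (S.ρ g)

variable {S}

theorem Ei.unique {e v : V} {c : K} {g g' : G} (h : S.Ei e v c g) (h' : S.Ei e v c g') : g = g' :=
  S.inj (IsEich.unique h h')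

theorem ei_one (e : V) : S.Ei e 0 0 1 := fun x => by simp

theorem Ei.mul {e v w : V} {c d : K} {g g' : G} (h : S.Ei e v c g) (h' : S.Ei e w d g') (he : S.B e e = 0)
    (hv : S.B e v = 0) (hw : S.B e w = 0) : S.Ei e (v + w) (c + d + S.B v w) (g * g') := by
  rw [Ei, map_mul]; exact IsEich.mul h h' he (S.flip hv) hw

theorem Ei.inv {e v : V} {c : K} {g : G} (h : S.Ei e v c g) (he : S.B e e = 0) (hv : S.B e v = 0) :
    S.Ei e (-v) (S.B v v - c) g⁻¹ := by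
  rw [Ei, map_inv]; exact IsEich.inv h he (S.flip hv) hv

theorem Ei.conj {e v : V} {c : K} {x : G} (h : S.Ei e v c x) (g : G) : S.Ei (S.ρ g e) (S.ρ g v) c (g * x * g⁻¹) := by
  rw [Ei, map_mul, map_mul, map_inv]; exact IsEich.conj h (S.mem_UG g)

theorem ei_smul {e v : V} {a c : K} {x : G} : S.Ei (a • e) v c x ↔ S.Ei e (σ a • v) (c * (a * σ a)) x := isEich_smul S.σσ

theorem Ei.swap {e v : V} {a : K} {x : G} (h : S.Ei e (a • v) 0 x) : S.Ei v (-σ a • e) 0 x := fun y => by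
  rw [h y]
  simp only [LinearMap.map_smulₛₗ, LinearMap.smul_apply, smul_eq_mul, map_neg, S.σσ]
  module

theorem Ei.fix {e v : V} {c : K} {x : G} (h : S.Ei e v c x) {y : V} (h1 : S.B e y = 0) (h2 : S.B v y = 0) :
    S.ρ x y = y := IsEich.fix h h1 h2

theorem Ei.commute {e v : V} {c : K} {x g : G} (h : S.Ei e v c x) (h1 : S.ρ g e = e) (h2 : S.ρ g v = v) :
    Commute g x := by
  have := h.conj g
  rw [h1, h2] at this
  exact mul_inv_eq_iff_eq_mul.1 (this.unique h)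

variable (S) in
/-- `g` is an Eichler map with centre `e` and vector `v`. -/
def EQ (e v : V) (g : G) : Prop := S.B e v = 0 ∧ ∃ c, S.adm v c ∧ S.Ei e v c g

theorem eq_one (e : V) : S.EQ e 0 1 := ⟨map_zero _, 0, S.adm_zero, ei_one e⟩

theorem EQ.mul {e v w : V} {g g' : G} (h : S.EQ e v g) (h' : S.EQ e w g') (he : S.adm e 0) : S.EQ e (v + w) (g * g') :=
  let ⟨h1, _, h2, h3⟩ := h
  let ⟨h4, _, h5, h6⟩ := h'
  ⟨by simp [h1, h4], _, S.adm_add h2 h5, h3.mul h6 (S.self_of_adm he) h1 h4⟩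

theorem EQ.inv {e v : V} {g : G} (h : S.EQ e v g) (he : S.adm e 0) : S.EQ e (-v) g⁻¹ := by
  obtain ⟨h1, c, h2, h3⟩ := h
  refine ⟨by simp [h1], _, ?_, h3.inv (S.self_of_adm he) h1⟩
  simpa [← S.adm_tr h2] using S.adm_smul (-1) (S.adm_σ h2)

theorem EQ.conj {e v : V} {x : G} (h : S.EQ e v x) (g : G) : S.EQ (S.ρ g e) (S.ρ g v) (g * x * g⁻¹) :=
  let ⟨h1, _, h2, h3⟩ := h
  ⟨(S.B_map g e v).trans h1, _, S.adm_map g h2, h3.conj g⟩

theorem EQ.smul {e v : V} {a : K} {x : G} (h : S.EQ (a • e) v x) : S.EQ e (σ a • v) x := by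
  obtain ⟨h1, c, h2, h3⟩ := h
  refine ⟨by simpa [LinearMap.map_smulₛₗ] using h1, _, ?_, ei_smul.1 h3⟩
  simpa [S.σσ, mul_comm a] using S.adm_smul (σ a) h2

theorem Ei.eq {e v : V} {a : K} {x : G} (h : S.Ei e (a • v) 0 x) (h1 : S.B e v = 0) (h2 : S.adm v 0) : S.EQ e (a • v) x :=
  ⟨by simp [h1], 0, S.adm_smul_zero h2 a, h⟩

variable (S)

/-- The Eichler maps with centre `e` and vector in `W`. -/
def Qg (e : V) (he : S.adm e 0) (W : Submodule K V) : Subgroup G where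
  carrier := {g | ∃ v ∈ W, S.EQ e v g}
  one_mem' := ⟨0, zero_mem _, eq_one e⟩
  mul_mem' := fun ⟨_, hv, h⟩ ⟨_, hw, h'⟩ => ⟨_, add_mem hv hw, h.mul h' he⟩
  inv_mem' := fun ⟨_, hv, h⟩ => ⟨_, neg_mem hv, h.inv he⟩

variable {S}

theorem Qg_mono {e : V} (he : S.adm e 0) {W W' : Submodule K V} (h : W ≤ W') : S.Qg e he W ≤ S.Qg e he W' :=
  fun _ ⟨v, hv, h1⟩ => ⟨v, h hv, h1⟩

theorem Ei.pow {e v : V} {c : K} {g : G} (h : S.Ei e v c g) (he : S.B e e = 0) (hv : S.B e v = 0) (k : ℕ) :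
    ∃ d, S.Ei e ((k : K) • v) (k * c + d * S.B v v) (g ^ k) := by
  induction k with
  | zero => exact ⟨0, by simpa using ei_one e⟩
  | succ k ih =>
    obtain ⟨d, ih⟩ := ih
    have := ih.mul h he (by simp [hv]) hv
    refine ⟨d + k, ?_⟩
    rw [pow_succ]
    convert this using 1
    · rw [Nat.cast_succ, add_smul, one_smul]
    · simp [LinearMap.map_smulₛₗ]; ring

theorem isPGroup_Qg {p : ℕ} (hp : (p : K) = 0) {e : V} (he : S.adm e 0) (W : Submodule K V) :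
    IsPGroup p (S.Qg e he W) := by
  rintro ⟨g, v, -, h1, c, -, h2⟩
  obtain ⟨d, h3⟩ := h2.pow (S.self_of_adm he) h1 p
  rw [hp, zero_smul] at h3
  obtain ⟨d', h4⟩ := h3.pow (S.self_of_adm he) (by simp) p
  refine ⟨2, Subtype.ext (Ei.unique (S := S) ?_ (ei_one e))⟩
  simpa [hp, sq, pow_mul] using h4

variable (S)

/-- `g` maps the line of `u` to the line of `v`. -/
def Sc (g : G) (u v : V) : Prop := ∃ c : K, c ≠ 0 ∧ S.ρ g u = c • v

/-- The orthogonal complement of the first `k` hyperbolic pairs. -/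
def W (k : ℕ) : Submodule K V where
  carrier := {x | ∀ l < k, S.B (S.e l) x = 0 ∧ S.B (S.f l) x = 0}
  zero_mem' := by simp
  add_mem' hx hy l hl := by simp [hx l hl, hy l hl]
  smul_mem' c x hx l hl := by simp [hx l hl]

/-- The stabiliser of `W k`. -/
def Pres [Finite G] (k : ℕ) : Subgroup G :=
  let M : Submonoid G :=
    { carrier := {g | ∀ x ∈ S.W k, S.ρ g x ∈ S.W k}
      one_mem' := by simp
      mul_mem' := fun ha hb x hx => by rw [mul_app]; exact ha _ (hb x hx) }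
  { M with inv_mem' := inv_mem_of_finite M }

/-- The stabiliser of a line. -/
def St (u : V) : Subgroup G where
  carrier := {g | S.Sc g u u}
  one_mem' := ⟨1, one_ne_zero, by simp⟩
  mul_mem' := by
    rintro a b ⟨c, hc, h⟩ ⟨d, hd, h'⟩
    exact ⟨d * c, mul_ne_zero hd hc, by rw [mul_app, h', map_smul, h, smul_smul]⟩
  inv_mem' := by
    rintro a ⟨c, hc, h⟩
    exact ⟨c⁻¹, inv_ne_zero hc, S.inv_app (by rw [map_smul, h, smul_smul, inv_mul_cancel₀ hc, one_smul])⟩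

/-- The stabiliser of a vector. -/
def Fx (u : V) : Subgroup G where
  carrier := {g | S.ρ g u = u}
  one_mem' := by simp
  mul_mem' {a b} ha hb := by rw [Set.mem_ofPred, mul_app, hb, ha]
  inv_mem' := S.inv_app

/-- The stabiliser of the lines of the first `k` hyperbolic pairs. -/
def Dg (k : ℕ) : Subgroup G := ⨅ l < k, S.St (S.e l) ⊓ S.St (S.f l)

/-- The stabiliser of the first `k` hyperbolic pairs. -/
def Fix (k : ℕ) : Subgroup G := ⨅ l < k, S.Fx (S.e l) ⊓ S.Fx (S.f l)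

/-- The unipotent radicals. -/
def Q (k : ℕ) : Subgroup G := S.Qg (S.e k) (S.adm_e k) (S.W (k + 1))

/-- The opposite unipotent radicals. -/
def Q' (k : ℕ) : Subgroup G := S.Qg (S.f k) (S.adm_f k) (S.W (k + 1))

variable {S}

theorem mem_Dg {k : ℕ} {g : G} : g ∈ S.Dg k ↔ ∀ l < k, S.Sc g (S.e l) (S.e l) ∧ S.Sc g (S.f l) (S.f l) := by
  simp only [Dg, Subgroup.mem_iInf, Subgroup.mem_inf]; rfl

theorem mem_Fix {k : ℕ} {g : G} : g ∈ S.Fix k ↔ ∀ l < k, S.ρ g (S.e l) = S.e l ∧ S.ρ g (S.f l) = S.f l := by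
  simp only [Fix, Subgroup.mem_iInf, Subgroup.mem_inf]; rfl

theorem sc_of_eq {g : G} {u v : V} (h : S.ρ g u = v) : S.Sc g u v := ⟨1, one_ne_zero, by rw [h, one_smul]⟩

theorem Sc.inv {g : G} {u v : V} (h : S.Sc g u v) : S.Sc g⁻¹ v u := by
  obtain ⟨c, hc, h⟩ := h
  exact ⟨c⁻¹, inv_ne_zero hc, S.inv_app (by rw [map_smul, h, smul_smul, inv_mul_cancel₀ hc, one_smul])⟩

theorem Sc.mul {g g' : G} {u v w : V} (h : S.Sc g v w) (h' : S.Sc g' u v) : S.Sc (g * g') u w := by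
  obtain ⟨c, hc, h⟩ := h
  obtain ⟨d, hd, h'⟩ := h'
  exact ⟨d * c, mul_ne_zero hd hc, by rw [mul_app, h', map_smul, h, smul_smul]⟩

theorem Fix_le_Dg (k : ℕ) : S.Fix k ≤ S.Dg k := fun _ h =>
  mem_Dg.2 fun l hl => ⟨sc_of_eq (mem_Fix.1 h l hl).1, sc_of_eq (mem_Fix.1 h l hl).2⟩

theorem Dg_anti {k l : ℕ} (h : k ≤ l) : S.Dg l ≤ S.Dg k := fun _ hg => mem_Dg.2 fun i hi => mem_Dg.1 hg i (hi.trans_le h)

theorem Fix_anti {k l : ℕ} (h : k ≤ l) : S.Fix l ≤ S.Fix k := fun _ hg =>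
  mem_Fix.2 fun i hi => mem_Fix.1 hg i (hi.trans_le h)

theorem W_anti {k l : ℕ} (h : k ≤ l) : S.W l ≤ S.W k := fun _ hx i hi => hx i (hi.trans_le h)

theorem e_mem_W {k l : ℕ} (h : k ≤ l) : S.e l ∈ S.W k := fun i hi => ⟨S.ee _ _, S.fe_ne (hi.trans_le h).ne⟩

theorem f_mem_W {k l : ℕ} (h : k ≤ l) : S.f l ∈ S.W k := fun i hi => ⟨S.ef_ne (hi.trans_le h).ne, S.ff _ _⟩

theorem proj_mem_W {k : ℕ} (hk : k < S.m) {x : V} (hx : x ∈ S.W k) :
    x - S.B (S.f k) x • S.e k - S.B (S.e k) x • S.f k ∈ S.W (k + 1) := fun l hl => by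
  rcases (Nat.lt_succ_iff_lt_or_eq.1 hl) with h | rfl
  · exact sub_mem (sub_mem hx (Submodule.smul_mem _ _ (e_mem_W le_rfl))) (Submodule.smul_mem _ _ (f_mem_W le_rfl)) l h
  · simp [S.ee, S.ff, S.ef hk, S.fe hk]

theorem mem_Pres [Finite G] {k : ℕ} {g : G}
    (h : ∀ l < k, ∃ i < k, S.Sc g (S.e l) (S.e i) ∧ S.Sc g (S.f l) (S.f i) ∨
      S.Sc g (S.e l) (S.f i) ∧ S.Sc g (S.f l) (S.e i)) : g ∈ S.Pres k := by
  refine inv_mem_iff.1 fun x hx l hl => ?_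
  rw [← B_left, ← B_left]
  obtain ⟨i, hi, ⟨⟨c, -, h1⟩, d, -, h2⟩ | ⟨⟨c, -, h1⟩, d, -, h2⟩⟩ := h l hl <;>
    simp [h1, h2, LinearMap.map_smulₛₗ, hx i hi]

theorem Dg_le_Pres [Finite G] (k : ℕ) : S.Dg k ≤ S.Pres k := fun _ hg =>
  mem_Pres fun l hl => ⟨l, hl, .inl (mem_Dg.1 hg l hl)⟩

theorem conj_Qg [Finite G] {k : ℕ} {g : G} (hg : g ∈ S.Pres k) {e e' : V} {he : S.adm e 0} (he' : S.adm e' 0)
    (h : S.Sc g e e') {x : G} (hx : x ∈ S.Qg e he (S.W k)) : g * x * g⁻¹ ∈ S.Qg e' he' (S.W k) := by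
  obtain ⟨v, hv, h1⟩ := hx
  obtain ⟨a, ha, h⟩ := h
  exact ⟨_, Submodule.smul_mem _ _ (hg v hv), (h ▸ h1.conj g).smul⟩

theorem conj_Q [Finite G] {k : ℕ} {g : G} (hg : g ∈ S.Dg (k + 1)) {x : G} (hx : x ∈ S.Q k) : g * x * g⁻¹ ∈ S.Q k :=
  conj_Qg (Dg_le_Pres _ hg) _ (mem_Dg.1 hg k k.lt_succ_self).1 hx

theorem conj_Q' [Finite G] {k : ℕ} {g : G} (hg : g ∈ S.Dg (k + 1)) {x : G} (hx : x ∈ S.Q' k) : g * x * g⁻¹ ∈ S.Q' k :=
  conj_Qg (Dg_le_Pres _ hg) _ (mem_Dg.1 hg k k.lt_succ_self).2 hx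

theorem Qg_le_Fix {k : ℕ} {e : V} (he : S.adm e 0) (h : e ∈ S.W k) : S.Qg e he (S.W k) ≤ S.Fix k := by
  rintro g ⟨v, hv, -, c, -, h1⟩
  exact mem_Fix.2 fun l hl =>
    ⟨h1.fix (S.flip (h l hl).1) (S.flip (hv l hl).1), h1.fix (S.flip (h l hl).2) (S.flip (hv l hl).2)⟩

theorem Q_le_Fix (k : ℕ) : S.Q k ≤ S.Fix k := (Qg_mono _ (W_anti k.le_succ)).trans (Qg_le_Fix _ (e_mem_W le_rfl))

theorem Q'_le_Fix (k : ℕ) : S.Q' k ≤ S.Fix k := (Qg_mono _ (W_anti k.le_succ)).trans (Qg_le_Fix _ (f_mem_W le_rfl))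

theorem Q_le_Fx (k : ℕ) : S.Q k ≤ S.Fx (S.e k) := by
  rintro g ⟨v, -, h, c, -, h1⟩
  exact h1.fix (S.ee _ _) (S.flip h)

theorem eq_one_of_mem_Q {k : ℕ} (hk : k < S.m) {g : G} (hg : g ∈ S.Q k) (h : g ∈ S.St (S.f k)) : g = 1 := by
  obtain ⟨v, hv, h1, c, -, h2⟩ := hg
  obtain ⟨d, -, h3⟩ := h
  have h4 := (hv k k.lt_succ_self).2
  rw [h2, S.ef hk, S.flip h4] at h3
  have h5 := congrArg (S.B (S.e k)) h3
  have h6 := congrArg (S.B (S.f k)) h3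
  simp only [map_add, map_sub, map_smul, S.ee, S.ff, S.ef hk, S.fe hk, h1, h4, smul_eq_mul] at h5 h6
  obtain rfl : c = 0 := by linear_combination -h6
  obtain rfl : d = 1 := by linear_combination -h5
  obtain rfl : v = 0 := by simpa using h3
  exact h2.unique (ei_one _)

/-- The unitriangular groups. -/
def U (S : Sp σ V G) (j : ℕ) : Subgroup G := ⨆ k, ⨆ _ : j ≤ k ∧ k < S.m, S.Q k

theorem iSup_ge_eq {α : Type*} [CompleteLattice α] (A : ℕ → α) {j m : ℕ} (h : j < m) :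
    ⨆ k, ⨆ _ : j ≤ k ∧ k < m, A k = (⨆ k, ⨆ _ : j + 1 ≤ k ∧ k < m, A k) ⊔ A j := by
  refine le_antisymm (iSup₂_le fun k hk => ?_) (sup_le (iSup₂_le fun k hk => le_iSup₂_of_le k ⟨by omega, hk.2⟩ le_rfl)
    (le_iSup₂_of_le j ⟨le_rfl, h⟩ le_rfl))
  rcases hk.1.eq_or_lt with rfl | h'
  exacts [le_sup_right, le_sup_of_le_left (le_iSup₂_of_le k ⟨h', hk.2⟩ le_rfl)]

theorem iSup_ge_bot {α : Type*} [CompleteLattice α] (A : ℕ → α) (m : ℕ) : ⨆ k, ⨆ _ : m ≤ k ∧ k < m, A k = ⊥ :=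
  eq_bot_iff.2 (iSup₂_le fun k hk => by omega)

theorem U_le_Fix (j : ℕ) : S.U j ≤ S.Fix j := iSup₂_le fun k hk => (Q_le_Fix k).trans (Fix_anti hk.1)

theorem card_W [Finite V] {k : ℕ} (hk : k ≤ S.m) : Nat.card (S.W k) * Nat.card K ^ (2 * k) = Nat.card V := by
  induction k with
  | zero => simpa using Nat.card_congr (Equiv.subtypeUnivEquiv (p := (· ∈ S.W 0)) fun x l hl => by omega)
  | succ k ih =>
    rw [← ih (by omega), Nat.mul_succ, pow_add, ← mul_assoc, mul_right_comm, sq, ← Nat.card_prod, ← Nat.card_prod]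
    congr 1
    refine Nat.card_congr (Equiv.ofBijective (fun x => ⟨x.1 + x.2.1 • S.e k + x.2.2 • S.f k, add_mem (add_mem
      (W_anti k.le_succ x.1.2) (Submodule.smul_mem _ _ (e_mem_W le_rfl))) (Submodule.smul_mem _ _ (f_mem_W le_rfl))⟩)
      ⟨fun x y h => ?_, fun x => ⟨⟨⟨_, proj_mem_W hk x.2⟩, S.B (S.f k) x, S.B (S.e k) x⟩, Subtype.ext (by dsimp only; abel)⟩⟩)
    have h0 := congrArg Subtype.val h
    have h1 := congrArg (S.B (S.e k)) h0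
    have h2 := congrArg (S.B (S.f k)) h0
    simp [S.ee, S.ff, S.ef hk, S.fe hk, x.1.2 k k.lt_succ_self, y.1.2 k k.lt_succ_self] at h1 h2
    exact Prod.ext (Subtype.ext (by simpa [h1, h2] using h0)) (Prod.ext h2 h1)

theorem card_Q {k r : ℕ} (hk : k < S.m) (h : ∀ v, Nat.card {c // S.adm v c} = r) [Finite V] [Finite K] :
    Nat.card (S.Q k) = Nat.card (S.W (k + 1)) * r := by
  have := Fintype.ofFinite (S.W (k + 1))
  choose g hg using fun x : Σ v : S.W (k + 1), {c // S.adm v c} => S.ex (S.adm_e k) (x.1.2 k k.lt_succ_self).1 x.2.2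
  rw [← Nat.card_congr (Equiv.ofBijective (fun x => (⟨g x, _, x.1.2, (x.1.2 k k.lt_succ_self).1, _, x.2.2, hg x⟩ : S.Q k))
    ⟨?_, fun ⟨y, v, hv, _, c, hc, h1⟩ => ⟨⟨⟨v, hv⟩, c, hc⟩, Subtype.ext (Ei.unique (hg _) h1)⟩⟩), Nat.card_sigma]
  · simp [h]
  rintro ⟨⟨v, hv⟩, c, hc⟩ ⟨⟨w, hw⟩, d, hd⟩ e
  have h1 := (hg ⟨⟨v, hv⟩, c, hc⟩ (S.f k)).symm.trans ((congrArg (S.ρ · (S.f k)) (congrArg Subtype.val e)).trans (hg _ _))
  have h2 := congrArg (S.B (S.f k)) h1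
  simp [S.ff, S.ef hk, S.fe hk, hv k k.lt_succ_self, hw k k.lt_succ_self, S.flip (hv k k.lt_succ_self).2,
    S.flip (hw k k.lt_succ_self).2] at h1 h2
  subst h2
  obtain rfl : v = w := by simpa using h1
  rfl

/-- The splitting over the unitriangular group. -/
theorem exists_kAt_U [Finite G] {E : Type*} [Group E] {π : E →* G} {L : ℕ → Subgroup E}
    (h1 : ∀ k < S.m, KAt π (L k) (S.Q k)) (h2 : ∀ k < S.m, Nrm π (S.U (k + 1)) (L k)) {j : ℕ} (hj : j ≤ S.m) :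
    (∃ M, KAt π M (S.U j)) ∧ Nat.card (S.U j) = ∏ k ∈ Finset.Ico j S.m, Nat.card (S.Q k) := by
  induction hj using Nat.decreasingInduction with
  | self => rw [U, iSup_ge_bot]; exact ⟨⟨_, kAt_bot⟩, by simp⟩
  | of_succ k hk ih =>
    obtain ⟨⟨M, hM⟩, ih⟩ := ih
    have h3 : ∀ a ∈ S.U (k + 1), a ∈ S.Q k → a = 1 := fun a ha ha' =>
      eq_one_of_mem_Q hk ha' (sc_of_eq (mem_Fix.1 (U_le_Fix _ ha) k k.lt_succ_self).2)
    rw [U, iSup_ge_eq _ hk, Finset.prod_eq_prod_Ico_succ_bot hk, ← ih, mul_comm]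
    exact ⟨⟨_, kAt_sup hM (h1 k hk) (h2 k hk) h3⟩,
      card_sup_of_norm (fun a ha b => conj_Q (Fix_le_Dg _ (U_le_Fix _ ha))) h3⟩

/-- No `p`-torsion in the kernel of a stem extension which splits over the unipotent radicals. -/
theorem cop_of_kAt {E : Type*} [Group E] [Finite E] {π : E →* G} (hπ : Cfsg.IsStemExtension π) {p : ℕ} (hp : p.Prime)
    {L : ℕ → Subgroup E} (h1 : ∀ k < S.m, KAt π (L k) (S.Q k)) (h2 : ∀ k < S.m, Nrm π (S.U (k + 1)) (L k)) {r : ℕ}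
    (hr : ¬ p ∣ r) (h : Nat.card G ∣ (∏ k ∈ Finset.range S.m, Nat.card (S.Q k)) * r) : Cop p π := by
  have := Finite.of_surjective π hπ.1
  obtain ⟨⟨M, hM⟩, h3⟩ := exists_kAt_U h1 h2 (Nat.zero_le _)
  refine ⟨hp, hπ.1, hπ.2.1, fun z hz ⟨k, hk⟩ => ?_⟩
  have h4 := pow_index_eq_one hπ.2.1 hM hz (hπ.2.2 hz)
  rw [Subgroup.index_comap_of_surjective _ hπ.1] at h4
  rw [Finset.range_eq_Ico, ← h3, ← (S.U 0).card_mul_index] at h
  exact (pow_eq_one_iff_of_coprime (((Nat.Prime.coprime_iff_not_dvd hp).2 fun h' =>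
    hr (h'.trans (Nat.dvd_of_mul_dvd_mul_left Nat.card_pos h))).pow_left k)).1 ⟨hk, h4⟩

end Sp

end CL.Pq
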