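/-
Central extensions without `p`-torsion of groups of isometries of pseudo-quadratic spaces: reduction to rank one.
-/
import Cfsg.Agent.Known.PqGeom

set_option autoImplicit false

namespace CL.Pq

open CL.TwS CL.Chev.SL2 CL.Uni

/-- The root subgroup of a rank one group. -/
def rng {G K : Type*} [Group G] [Field K] {x y : K → G} (R : Rel x y) : Subgroup G where
  carrier := Set.range x
  one_mem' := ⟨0, R.x_zero⟩
  mul_mem' := by rintro _ _ ⟨s, rfl⟩ ⟨t, rfl⟩; exact ⟨_, R.x_add s t⟩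
  inv_mem' := by rintro _ ⟨s, rfl⟩; exact ⟨_, R.x_neg s⟩

namespace Sp

variable {K V G : Type*} [Field K] [AddCommGroup V] [Module K V] [Group G] {σ : K →+* K} (S : Sp σ V G)

/-- The root elements of the roots `e i - e j`. -/
noncomputable def xr {i j : ℕ} (h : i ≠ j) (t : K) : G :=
  (S.ex (S.adm_e i) (v := (-σ t) • S.f j) (by simp [S.ef_ne h]) (S.adm_smul_zero (S.adm_f j) _)).choose

/-- The Weyl elements of the roots `e i - e j`. -/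
noncomputable def nr {i j : ℕ} (h : i ≠ j) (t : K) : G := nn (S.xr h) (S.xr h.symm) t

/-- `g` interchanges the lines of the `j`-th hyperbolic pair and fixes the other pairs. -/
def Sw (j : ℕ) (g : G) : Prop := S.Sc g (S.e j) (S.f j) ∧ S.Sc g (S.f j) (S.e j) ∧
  ∀ l < S.m, l ≠ j → S.ρ g (S.e l) = S.e l ∧ S.ρ g (S.f l) = S.f l

variable {S} {i j k l : ℕ}

theorem ei_xr (h : i ≠ j) (t : K) : S.Ei (S.e i) ((-σ t) • S.f j) 0 (S.xr h t) := Exists.choose_spec (p := fun g =>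
  IsEich S.B (S.e i) ((-σ t) • S.f j) 0 (S.ρ g)) _

theorem xr_app (h : i ≠ j) (t : K) (z : V) :
    S.ρ (S.xr h t) z = z - (σ t * S.B (S.e i) z) • S.f j + (t * S.B (S.f j) z) • S.e i := by
  rw [ei_xr h t z]
  simp only [LinearMap.map_smulₛₗ, LinearMap.smul_apply, smul_eq_mul, map_neg, S.σσ]
  module

theorem conj_xr (h : i ≠ j) (h' : k ≠ l) {g : G} {c d : K} (h1 : S.ρ g (S.e i) = c • S.e k)
    (h2 : S.ρ g (S.f j) = d • S.f l) (t : K) : g * S.xr h t * g⁻¹ = S.xr h' (c * t * σ d) := by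
  have := (ei_xr (S := S) h t).conj g
  rw [h1, map_smul, h2, ei_smul, zero_mul, smul_smul, smul_smul] at this
  refine this.unique ?_
  convert ei_xr h' _ using 2
  simp only [map_mul, S.σσ]; ring

theorem xr_mem_Q (h : i < j) (t : K) : S.xr h.ne t ∈ S.Q i :=
  ⟨_, Submodule.smul_mem _ _ (f_mem_W h), by simp [S.ef_ne h.ne], _, S.adm_smul_zero (S.adm_f j) _, ei_xr _ t⟩

theorem xr_mem_Q' (h : i < j) (t : K) : S.xr h.ne' t ∈ S.Q' i :=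
  ⟨_, Submodule.smul_mem _ _ (e_mem_W h), by simp [S.fe_ne h.ne], _, S.adm_smul_zero (S.adm_e j) _, (ei_xr _ t).swap⟩

theorem nr_fix (h : i ≠ j) (t : K) {z : V} (h1 : S.B (S.e i) z = 0) (h2 : S.B (S.f i) z = 0) (h3 : S.B (S.e j) z = 0)
    (h4 : S.B (S.f j) z = 0) : S.ρ (S.nr h t) z = z := by simp [nr, nn, xr_app, h1, h2, h3, h4]

theorem nr_fix_e (h : i ≠ j) (t : K) (h1 : k ≠ i) (h2 : k ≠ j) : S.ρ (S.nr h t) (S.e k) = S.e k :=
  nr_fix h t (S.ee _ _) (S.fe_ne h1.symm) (S.ee _ _) (S.fe_ne h2.symm)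

theorem nr_fix_f (h : i ≠ j) (t : K) (h1 : k ≠ i) (h2 : k ≠ j) : S.ρ (S.nr h t) (S.f k) = S.f k :=
  nr_fix h t (S.ef_ne h1.symm) (S.ff _ _) (S.ef_ne h2.symm) (S.ff _ _)

section

variable (h : i ≠ j) (hi : i < S.m) (hj : j < S.m) {t : K} (ht : t ≠ 0)
include hi hj ht

theorem nr_e : S.ρ (S.nr h t) (S.e i) = (-t⁻¹) • S.e j := by
  simp [nr, nn, xr_app, S.ee, S.fe hi, S.fe hj, S.fe_ne h.symm, ht, smul_smul]

theorem nr_e' : S.ρ (S.nr h t) (S.e j) = t • S.e i := by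
  simp [nr, nn, xr_app, S.ee, S.fe hi, S.fe hj, S.fe_ne h.symm, S.fe_ne h, ht, smul_smul]

theorem nr_f : S.ρ (S.nr h t) (S.f i) = (-σ t) • S.f j := by
  simp [nr, nn, xr_app, S.ff, S.ef hi, S.ef hj, S.ef_ne h.symm, S.ef_ne h, ht, smul_smul]

theorem nr_f' : S.ρ (S.nr h t) (S.f j) = (σ t)⁻¹ • S.f i := by
  simp [nr, nn, xr_app, S.ff, S.ef hi, S.ef hj, S.ef_ne h.symm, S.ef_ne h, ht, smul_smul]

omit ht in
theorem rel_xr : Rel (S.xr h) (S.xr h.symm) := by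
  have key : ∀ {i j} (h : i ≠ j) s t, S.xr h (s + t) = S.xr h s * S.xr h t := fun h s t => by
    have := (ei_xr (S := S) h s).mul (ei_xr h t) (S.ee _ _) (by simp [S.ef_ne h]) (by simp [S.ef_ne h])
    refine (ei_xr h _).unique ?_
    simpa [LinearMap.map_smulₛₗ, S.ff, add_smul, add_comm] using this
  refine ⟨key h, key h.symm, fun t ht u => (conj_xr h h.symm (nr_e h hi hj ht) (nr_f' h hi hj ht) u).trans ?_⟩
  congr 1
  simp only [map_inv₀, S.σσ]; ring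

theorem nr_mem_Pres [Finite G] (hk : i < k ↔ j < k) : S.nr h t ∈ S.Pres k := mem_Pres fun l hl => by
  have h0 : σ t ≠ 0 := (map_ne_zero σ).2 ht
  by_cases h1 : l = i
  · subst h1
    exact ⟨j, hk.1 hl, .inl ⟨⟨_, by simpa, nr_e h hi hj ht⟩, _, by simpa, nr_f h hi hj ht⟩⟩
  by_cases h2 : l = j
  · subst h2
    exact ⟨i, hk.2 hl, .inl ⟨⟨_, ht, nr_e' h hi hj ht⟩, _, by simpa, nr_f' h hi hj ht⟩⟩
  exact ⟨l, hl, .inl ⟨sc_of_eq (nr_fix_e h t h1 h2), sc_of_eq (nr_fix_f h t h1 h2)⟩⟩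

theorem hh_mem_Dg : hh (S.xr h) (S.xr h.symm) t ∈ S.Dg k := mem_Dg.2 fun l _ => by
  have h0 : σ t ≠ 0 := (map_ne_zero σ).2 ht
  have h3 : (-1 : K) ≠ 0 := by simp
  change S.Sc (S.nr h t * S.nr h (-1)) _ _ ∧ S.Sc (S.nr h t * S.nr h (-1)) _ _
  by_cases h1 : l = i
  · subst h1
    exact ⟨.mul ⟨_, ht, nr_e' h hi hj ht⟩ ⟨_, by simp, nr_e h hi hj h3⟩,
      .mul ⟨_, by simpa, nr_f' h hi hj ht⟩ ⟨_, by simp, nr_f h hi hj h3⟩⟩
  by_cases h2 : l = j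
  · subst h2
    exact ⟨.mul ⟨_, by simpa, nr_e h hi hj ht⟩ ⟨_, by simp, nr_e' h hi hj h3⟩,
      .mul ⟨_, by simpa, nr_f h hi hj ht⟩ ⟨_, by simp, nr_f' h hi hj h3⟩⟩
  exact ⟨(sc_of_eq (nr_fix_e h _ h1 h2)).mul (sc_of_eq (nr_fix_e h _ h1 h2)),
    (sc_of_eq (nr_fix_f h _ h1 h2)).mul (sc_of_eq (nr_fix_f h _ h1 h2))⟩

theorem hh_e : S.ρ (hh (S.xr h) (S.xr h.symm) t) (S.e i) = t • S.e i := by
  change S.ρ (S.nr h t * S.nr h (-1)) _ = _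
  simp [mul_app, nr_e h hi hj (t := -1) (by simp), nr_e' h hi hj ht]

end

theorem Sw.mem_Pres [Finite G] {g : G} (h : S.Sw j g) (hk : k ≤ S.m) : g ∈ S.Pres k := Sp.mem_Pres fun l hl => by
  by_cases h1 : l = j
  · exact ⟨l, hl, .inr (h1 ▸ ⟨h.1, h.2.1⟩)⟩
  · exact ⟨l, hl, .inl ⟨sc_of_eq (h.2.2 l (hl.trans_le hk) h1).1, sc_of_eq (h.2.2 l (hl.trans_le hk) h1).2⟩⟩

theorem Sw.inv {g : G} (h : S.Sw j g) : S.Sw j g⁻¹ :=
  ⟨h.2.1.inv, h.1.inv, fun l hl h1 => ⟨S.inv_app (h.2.2 l hl h1).1, S.inv_app (h.2.2 l hl h1).2⟩⟩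

theorem conj_fix {g h : G} {u v : V} (h1 : S.ρ g u = v) (h2 : S.ρ h u = u) : S.ρ (g * h * g⁻¹) v = v := by
  rw [mul_app, mul_app, S.inv_app h1, h2, h1]

theorem not_sc {g : G} {u v z : V} (h : S.Sc g u v) (h' : g ∈ S.St u) (h1 : S.B z u = 0) : S.B z v = 0 := by
  obtain ⟨c, hc, h⟩ := h
  obtain ⟨d, -, h'⟩ := h'
  simpa [h1, hc] using congrArg (S.B z) (h.symm.trans h')

variable {E : Type*} [Group E] (p : ℕ) (π : E →* G) (S)

/-- The lifted groups of the complements. -/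
def EE (j : ℕ) : Subgroup E := ⨆ k, ⨆ _ : j ≤ k ∧ k < S.m, Lf p π (S.Q k) ⊔ Lf p π (S.Q' k)

/-- The lifted parabolic subgroups. -/
def PP (T : Subgroup E) (j : ℕ) : Subgroup E := T ⊔ (S.EE p π (j + 1) ⊔ Lf p π (S.Q j))

/-- The lifted Weyl elements. -/
def IsN (j : ℕ) (n : E) : Prop := ∃ x y : K → E, (∀ t, PE p (x t) ∧ π (x t) = S.xr j.lt_succ_self.ne t) ∧
  (∀ t, PE p (y t) ∧ π (y t) = S.xr j.lt_succ_self.ne' t) ∧ n = nn x y 1

/-- The double coset decomposition at level `j`. -/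
structure Dec (j : ℕ) (T : Subgroup E) (w : E) : Prop where
  dg : T ≤ (S.Dg S.m).comap π
  le : T ≤ S.EE p π j
  mem : w ∈ S.EE p π j
  sw : S.Sw j (π w)
  dec : ∀ g ∈ S.EE p π j, ∃ a ∈ S.PP p π T j, ∃ b ∈ S.PP p π T j, ∃ y,
    (y = 1 ∨ y = w ∨ j + 1 < S.m ∧ S.IsN p π j y) ∧ g = a * y * b

variable {S p π} {T : Subgroup E}

theorem IsN.map {n : E} (h : S.IsN p π j n) : π n = S.nr j.lt_succ_self.ne 1 := by
  obtain ⟨x, y, h1, h2, rfl⟩ := h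
  simp [nr, nn, h1, h2]

theorem Q_le_EE (h : j ≤ k) (hk : k < S.m) : Lf p π (S.Q k) ≤ S.EE p π j := le_iSup₂_of_le k ⟨h, hk⟩ le_sup_left

theorem Q'_le_EE (h : j ≤ k) (hk : k < S.m) : Lf p π (S.Q' k) ≤ S.EE p π j := le_iSup₂_of_le k ⟨h, hk⟩ le_sup_right

theorem EE_anti (h : j ≤ k) : S.EE p π k ≤ S.EE p π j :=
  iSup₂_le fun l hl => le_iSup₂_of_le l ⟨h.trans hl.1, hl.2⟩ le_rfl

theorem EE_le_Fix (j : ℕ) : S.EE p π j ≤ (S.Fix j).comap π := iSup₂_le fun k hk => sup_le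
  ((Lf_le_comap _).trans (Subgroup.comap_mono ((Q_le_Fix k).trans (Fix_anti hk.1))))
  ((Lf_le_comap _).trans (Subgroup.comap_mono ((Q'_le_Fix k).trans (Fix_anti hk.1))))

theorem IsN.mem {n : E} (h : S.IsN p π j n) (hj : j < S.m) : n ∈ S.EE p π j := by
  obtain ⟨x, y, h1, h2, rfl⟩ := h
  have h3 := fun t => Q_le_EE le_rfl hj (mem_Lf_of (h1 t).1 ((h1 t).2 ▸ xr_mem_Q j.lt_succ_self t))
  exact mul_mem (mul_mem (h3 _) (Q'_le_EE le_rfl hj (mem_Lf_of (h2 _).1 ((h2 _).2 ▸ xr_mem_Q' j.lt_succ_self _)))) (h3 _)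

theorem T_le_PP : T ≤ S.PP p π T j := le_sup_left

theorem EE_le_PP : S.EE p π (j + 1) ≤ S.PP p π T j := le_sup_of_le_right le_sup_left

theorem Q_le_PP : Lf p π (S.Q j) ≤ S.PP p π T j := le_sup_of_le_right le_sup_right

theorem PP_le_St (hj : j < S.m) (hT : T ≤ (S.Dg S.m).comap π) : S.PP p π T j ≤ (S.St (S.e j)).comap π :=
  sup_le (fun _ h => (mem_Dg.1 (hT h) j hj).1) (sup_le
    (fun _ h => sc_of_eq (mem_Fix.1 (EE_le_Fix _ h) j j.lt_succ_self).1) fun _ h => sc_of_eq (Q_le_Fx j (Lf_le_comap _ h)))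

variable [Finite G]

theorem conj_EE {g : E} (h : ∀ k, j ≤ k → k < S.m → π g ∈ S.Pres (k + 1) ∧ S.Sc (π g) (S.e k) (S.e k) ∧
    S.Sc (π g) (S.f k) (S.f k)) {a : E} (ha : a ∈ S.EE p π j) : g * a * g⁻¹ ∈ S.EE p π j :=
  conj_mem_iSup (fun k _ => conj_mem_iSup fun hk _ => conj_mem_sup
    (fun _ ha => Q_le_EE hk.1 hk.2 (conj_Lf (fun _ => conj_Qg (h k hk.1 hk.2).1 _ (h k hk.1 hk.2).2.1) ha))
    fun _ ha => Q'_le_EE hk.1 hk.2 (conj_Lf (fun _ => conj_Qg (h k hk.1 hk.2).1 _ (h k hk.1 hk.2).2.2) ha)) ha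

theorem exists_of_mem_PP (hj : j < S.m) (hT : T ≤ (S.Dg S.m).comap π) {g : E} (hg : g ∈ S.PP p π T j) :
    ∃ t ∈ T, ∃ q ∈ Lf p π (S.Q j), ∃ l ∈ S.EE p π (j + 1), g = t * q * l := by
  have h1 : ∀ l ∈ S.EE p π (j + 1), ∀ q ∈ Lf p π (S.Q j), l * q * l⁻¹ ∈ Lf p π (S.Q j) := fun l hl q =>
    conj_Lf fun _ => conj_Q (Fix_le_Dg _ (EE_le_Fix _ hl))
  obtain ⟨t, ht, a, ha, rfl⟩ := exists_mul_of_mem_sup (fun t ht _ => conj_mem_sup
    (fun _ ha => Subgroup.mem_sup_left (conj_EE (fun k _ hk => ⟨Dg_le_Pres _ (Dg_anti hk (hT ht)), mem_Dg.1 (hT ht) k hk⟩) ha))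
    fun _ ha => Subgroup.mem_sup_right (conj_Lf (fun _ => conj_Q (Dg_anti hj (hT ht))) ha)) hg
  obtain ⟨l, hl, q, hq, rfl⟩ := exists_mul_of_mem_sup h1 ha
  exact ⟨t, ht, _, h1 l hl q hq, l, hl, by group⟩

theorem Dec.exists_of_ker [Finite E] (C : Cop p π) (hp : (p : K) = 0) {w : E} (D : S.Dec p π j T w) (hj : j < S.m) {z : E}
    (hz : z ∈ S.EE p π j) (h : π z = 1) : ∃ t ∈ T, ∃ l ∈ S.EE p π (j + 1), z = t * l := by
  obtain ⟨a, ha, b, hb, y, hy, rfl⟩ := D.dec z hz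
  have h1 : π y ∈ S.St (S.e j) := by
    have := mul_mem (mul_mem (inv_mem (PP_le_St hj D.dg ha)) (show _ ∈ (S.St (S.e j)).comap π from
      Subgroup.ker_le_comap _ _ h)) (inv_mem (PP_le_St hj D.dg hb))
    simpa [mul_assoc] using this
  rcases hy with rfl | rfl | ⟨h2, hy⟩
  · obtain ⟨t, ht, q, hq, l, hl, e⟩ := exists_of_mem_PP hj D.dg (mul_mem ha hb)
    rw [mul_one, e] at h ⊢
    have h3 := (C.kAt_Lf (isPGroup_Qg hp _ _)).inj q hq (eq_one_of_mem_Q hj (Lf_le_comap _ hq) (by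
      rw [show π q = (π t)⁻¹ * π (t * q * l) * (π l)⁻¹ by simp [mul_assoc], h, mul_one]
      exact mul_mem (inv_mem (mem_Dg.1 (D.dg ht) j hj).2)
        (inv_mem (sc_of_eq (mem_Fix.1 (EE_le_Fix _ hl) j j.lt_succ_self).2))))
    exact ⟨t, ht, l, hl, by rw [h3, mul_one]⟩
  · simpa [S.ef hj] using not_sc D.sw.1 h1 (S.ee j j)
  · rw [hy.map] at h1
    simpa [S.fe h2] using not_sc ⟨_, by simp, nr_e _ hj h2 one_ne_zero⟩ h1 (S.fe_ne j.succ_ne_self)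

omit [Finite G] in
theorem split_Lf [Finite E] (C : Cop p π) {X : Subgroup G} (hX : IsPGroup p X) {a : E} (ha : PE p a) (ha' : π a ∈ X) {u : G}
    (hu : u ∈ X) : ∃ b, PE p b ∧ π b = u ∧ PE p (b⁻¹ * a) := by
  obtain ⟨b, hb, rfl⟩ := (C.kAt_Lf hX).surj u hu
  exact ⟨b, ((C.mem_Lf hX).1 hb).1, rfl, ((C.mem_Lf hX).1 (mul_mem (inv_mem hb) (mem_Lf_of ha ha'))).1⟩

theorem Dec.step [Finite E] [Finite K] (C : Cop p π) (hp : (p : K) = 0) {w : E} (D : S.Dec p π (i + 1) T w)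
    (hj : i + 1 < S.m) : ∃ T' w', S.Dec p π i T' w' ∧ ∀ t ∈ T', S.ρ (π t) (S.e i) = S.e i → t = 1 := by
  have hi : i < S.m := by omega
  have hij := i.lt_succ_self
  have hQ : ∀ k, IsPGroup p (S.Q k) := fun k => isPGroup_Qg hp _ _
  obtain ⟨x, y, R, hx, hy⟩ := C.exists_rel (rel_xr hij.ne hi hj) (hQ i) (isPGroup_Qg hp _ _) (xr_mem_Q hij) (xr_mem_Q' hij)
  set n := nn x y 1
  have hN : S.IsN p π i n := ⟨x, y, hx, hy, rfl⟩
  have hn := hN.map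
  have hh' : ∀ t, π (hh x y t) = hh (S.xr hij.ne) (S.xr hij.ne') t := fun t => by simp [hh, nn, hx, hy]
  have n1 : S.ρ (π n) (S.e i) = -S.e (i + 1) := by rw [hn, nr_e _ hi hj one_ne_zero]; simp
  have n2 : S.ρ (π n) (S.e (i + 1)) = S.e i := by rw [hn, nr_e' _ hi hj one_ne_zero]; simp
  have n3 : S.ρ (π n) (S.f i) = -S.f (i + 1) := by rw [hn, nr_f _ hi hj one_ne_zero]; simp
  have n4 : S.ρ (π n) (S.f (i + 1)) = S.f i := by rw [hn, nr_f' _ hi hj one_ne_zero]; simp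
  have n5 : ∀ k, k ≠ i → k ≠ i + 1 → S.ρ (π n) (S.e k) = S.e k ∧ S.ρ (π n) (S.f k) = S.f k := fun k h1 h2 =>
    hn ▸ ⟨nr_fix_e _ _ h1 h2, nr_fix_f _ _ h1 h2⟩
  have n6 : ∀ k, i + 1 < k → π n ∈ S.Pres k := fun k hk => hn ▸ nr_mem_Pres _ hi hj one_ne_zero (by omega)
  have hT : torus R ≤ (S.Dg S.m).comap π := by
    rintro _ ⟨t, ht, rfl⟩
    rw [Subgroup.mem_comap, hh']
    exact hh_mem_Dg _ hi hj ht
  have hxQ : ∀ t, x t ∈ Lf p π (S.Q i) := fun t => mem_Lf_of (hx t).1 ((hx t).2 ▸ xr_mem_Q hij t)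
  have hxP : ∀ t, x t ∈ S.PP p π (torus R) i := fun t => Q_le_PP (hxQ t)
  have hhP : ∀ t ≠ 0, hh x y t ∈ S.PP p π (torus R) i := fun t ht => T_le_PP ⟨t, ht, rfl⟩
  have hw : S.Sw i (π (n * w * n⁻¹)) := by
    simp only [map_mul, map_inv]
    refine ⟨((sc_of_eq n4).mul D.sw.1).mul (sc_of_eq n2).inv, ((sc_of_eq n2).mul D.sw.2.1).mul (sc_of_eq n4).inv,
      fun l hl h => ?_⟩
    by_cases h' : l = i + 1
    · have := D.sw.2.2 i hi hij.ne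
      exact h' ▸ ⟨conj_fix (u := -S.e i) (by simp [n1]) (by simp [this]), conj_fix (u := -S.f i) (by simp [n3]) (by simp [this])⟩
    · exact ⟨conj_fix (n5 l h h').1 (D.sw.2.2 l hl h').1, conj_fix (n5 l h h').2 (D.sw.2.2 l hl h').2⟩
  have key : ∀ t ∈ S.PP p π (torus R) i, π t ∈ S.Dg S.m → n * t * n⁻¹ ∈ S.PP p π (torus R) i := fun t ht ht' => by
    obtain ⟨⟨a, -, a1⟩, b, -, a2⟩ := mem_Dg.1 ht' i hi
    obtain ⟨⟨c, hc, a3⟩, d, -, a4⟩ := mem_Dg.1 ht' _ hj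
    have h1 : n⁻¹ ∈ Subgroup.closure (Set.range x ∪ Set.range y) := inv_mem (mul_mem (mul_mem
      (Subgroup.subset_closure (.inl ⟨_, rfl⟩)) (Subgroup.subset_closure (.inr ⟨_, rfl⟩))) (Subgroup.subset_closure (.inl ⟨_, rfl⟩)))
    have h2 := mul_mem (inv_mem_iff.1 h1) (conj_mem_closure (g := t) (C := Subgroup.closure (Set.range x ∪ Set.range y)) (by
      rintro _ (⟨u, rfl⟩ | ⟨u, rfl⟩)
      · exact Subgroup.subset_closure (.inl ⟨a * u * σ d, C.eq_of_pe (hx _).1 ((hx _).1.conj _) (by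
          simp [hx, conj_xr hij.ne hij.ne a1 a4])⟩)
      · exact Subgroup.subset_closure (.inr ⟨c * u * σ b, C.eq_of_pe (hy _).1 ((hy _).1.conj _) (by
          simp [hy, conj_xr hij.ne' hij.ne' a3 a2])⟩)) h1)
    rcases rel_cases R h2 with ⟨s, hs, u, e⟩ | ⟨u, u', s, hs, e⟩
    · simpa [← e, mul_assoc] using mul_mem (mul_mem (hhP s hs) (hxP u)) ht
    have h3 : S.Sc (π (n * (t * n⁻¹ * t⁻¹))) (S.e i) (S.e i) := by
      simpa [mul_assoc] using (((sc_of_eq n2).mul ⟨c, hc, a3⟩).mul (sc_of_eq n2).inv).mul (mem_Dg.1 ht' i hi).1.inv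
    simpa [e, mul_app, hx, hy, xr_app, S.ee, S.fe hi, S.fe hj, S.fe_ne hij.ne', hs] using
      not_sc (sc_of_eq rfl) h3 (S.fe_ne hij.ne')
  have hPE : S.PP p π T (i + 1) ≤ S.EE p π (i + 1) := sup_le D.le (sup_le (EE_anti (by omega)) (Q_le_EE le_rfl hj))
  have hXE : ∀ t, x t ∈ S.EE p π i := fun t => Q_le_EE le_rfl hi (hxQ t)
  have hYE : ∀ t, y t ∈ S.EE p π i := fun t => Q'_le_EE le_rfl hi (mem_Lf_of (hy t).1 ((hy t).2 ▸ xr_mem_Q' hij t))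
  have hwP : w ∈ S.PP p π (torus R) i := EE_le_PP D.mem
  refine ⟨torus R, n * w * n⁻¹, ⟨hT, ?_, mul_mem (mul_mem (hN.mem hi) (EE_anti hij.le D.mem)) (inv_mem (hN.mem hi)), hw,
    fun g hg => ?_⟩, ?_⟩
  · rintro _ ⟨t, -, rfl⟩
    exact mul_mem (mul_mem (mul_mem (hXE _) (hYE _)) (hXE _)) (mul_mem (mul_mem (hXE _) (hYE _)) (hXE _))
  swap
  · rintro _ ⟨t, ht, rfl⟩ h
    rw [hh', hh_e _ hi hj ht] at h
    obtain rfl : t = 1 := by simpa [S.fe hi] using congrArg (S.B (S.f i)) h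
    exact R.h_one
  refine (fun ⟨a, ha, b, hb, z, hz, e⟩ => ⟨a, ha, b, hb, z, hz.imp_right (Or.imp_right fun h : z = n => ⟨hj, h ▸ hN⟩), e⟩)
    (closure3 (P := S.PP p π (torus R) i) (L := S.EE p π (i + 1))
    (P₂ := S.PP p π T (i + 1)) (Q := Lf p π (S.Q i)) (X := rng R) (n := n) (w₂ := w)
    (R := fun y => i + 1 + 1 < S.m ∧ S.IsN p π (i + 1) y) (g := g) (fun g hg => ?_) D.dec (fun r hr => ⟨?_, fun q hq => ?_⟩)
    (fun q hq => ?_) ?_ (rel_n_sq R ▸ inv_mem (hhP _ (by simp))) ?_ ?_ (fun l hl => EE_le_PP ?_)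
    (by rintro _ ⟨t, rfl⟩; exact hxP t) hwP ?_)
  · obtain ⟨t, ht, q, hq, l, hl, rfl⟩ := exists_of_mem_PP hi hT hg
    exact ⟨t, q, l, key t (T_le_PP ht) (hT ht), hq, hl, rfl⟩
  · refine conj_mem_sup (fun t ht => key t (EE_le_PP (D.le ht)) (D.dg ht)) (fun _ => conj_mem_sup
      (fun l hl => EE_le_PP (EE_anti (Nat.le_succ _) (conj_EE (fun k h1 _ => ?_) hl))) fun q hq => Q_le_PP ?_) hr
    · exact ⟨n6 _ (by omega), sc_of_eq (n5 k (by omega) (by omega)).1, sc_of_eq (n5 k (by omega) (by omega)).2⟩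
    · exact conj_Lf (fun u hu => Qg_mono _ (W_anti (Nat.le_succ _)) (conj_Qg (n6 _ (by omega)) _ (sc_of_eq n2) hu)) hq
  · simpa using conj_Lf (g := r⁻¹) (fun _ => conj_Q (Fix_le_Dg _ (EE_le_Fix _ (inv_mem (hPE hr))))) hq
  · obtain ⟨v, hv, h1⟩ := Lf_le_comap _ hq
    refine ⟨_, _, ?_, ⟨-σ (S.B (S.e (i + 1)) v), rfl⟩, (inv_mul_cancel_right _ _).symm⟩
    have h2 := ((C.mem_Lf (hQ i)).1 (mul_mem hq (inv_mem (hxQ (-σ (S.B (S.e (i + 1)) v)))))).1.conj n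
    have h3 := (h1.mul (((ei_xr hij.ne (-σ (S.B (S.e (i + 1)) v))).eq (S.ef_ne hij.ne) (S.adm_f _)).inv (S.adm_e i))
      (S.adm_e i)).conj (π n)
    have h4 := proj_mem_W hj hv
    have h5 := nr_fix hij.ne 1 (h4 i (by omega)).1 (h4 i (by omega)).2 (h4 _ (by omega)).1 (h4 _ (by omega)).2
    rw [← hn, map_sub, map_sub, map_smul, map_smul, n2, n4, sub_sub, sub_eq_iff_eq_add] at h5
    rw [n1, ← neg_one_smul K, map_add, h5, ← (hx _).2, ← map_inv, ← map_inv, ← map_mul, ← map_mul, ← map_mul] at h3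
    obtain ⟨u, hu⟩ := S.ex (S.adm_e (i + 1)) (v := (-S.B (S.f (i + 1)) v) • S.e i) (by simp [S.ee])
      (S.adm_smul_zero (S.adm_e _) _)
    have h6 := Ei.eq hu (S.ee _ _) (S.adm_e _)
    have h7 := (h6.inv (S.adm_e _)).mul h3.smul (S.adm_e _)
    simp only [map_neg, map_one, map_smul, n4, S.σσ, neg_neg, neg_smul, one_smul, add_assoc, add_neg_cancel, add_zero,
      neg_add_rev, add_neg_cancel_left] at h7
    obtain ⟨b, h8, rfl, h9⟩ := split_Lf C (isPGroup_Qg hp (S.adm_e (i + 1)) ⊤) h2 ⟨_, trivial, h3.smul⟩ ⟨_, trivial, h6⟩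
    rw [← mul_inv_cancel_left b (n * _ * n⁻¹)]
    exact mul_mem (Q_le_PP (mem_Lf_of h8 ⟨_, Submodule.smul_mem _ _ (e_mem_W le_rfl),
      (Ei.swap hu).eq (S.ee _ _) (S.adm_e _)⟩)) (EE_le_PP (Q_le_EE le_rfl hj (mem_Lf_of h9 ⟨_, neg_mem h4, by simpa using h7⟩)))
  · rintro _ ⟨t, rfl⟩
    refine (rel_nxn R t).imp (fun e => by rw [e]; exact inv_mem (hhP _ (by simp))) fun ⟨a, s, hs, b, e⟩ => ⟨_, ?_, _, ⟨b, rfl⟩, e⟩
    exact mul_mem (mul_mem (hxP a) (hhP s hs)) (inv_mem (hhP _ (by simp)))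
  · rintro _ ⟨t, rfl⟩
    obtain ⟨c, -, h1⟩ := D.sw.inv.2.1
    have h2 := ((ei_xr (S := S) hij.ne t).conj (π w)⁻¹).conj (π n)
    rw [(D.sw.inv.2.2 i hi hij.ne).1, map_smul, h1, map_smul, map_smul, n1, n2, ← neg_one_smul K, ei_smul, zero_mul,
      smul_smul, smul_smul] at h2
    exact Q_le_PP (mem_Lf_of (by simpa using ((hx t).1.conj w⁻¹).conj n) ⟨_, Submodule.smul_mem _ _ (e_mem_W le_rfl),
      by simpa only [map_mul π, map_inv π, hx, inv_inv] using h2.swap.eq (S.ee _ _) (S.adm_e _)⟩)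
  · rintro n' ⟨hk, hN'⟩
    have hn' := hN'.map
    obtain ⟨x', y', hx', hy', e'⟩ := id hN'
    have hjk := (i + 1).lt_succ_self
    have m1 : S.ρ (π n')⁻¹ (S.e i) = (1 : K) • S.e i := by rw [one_smul, hn']; exact S.inv_app (nr_fix_e _ _ hij.ne (by omega))
    have m2 : S.ρ (π n')⁻¹ (S.f i) = (1 : K) • S.f i := by rw [one_smul, hn']; exact S.inv_app (nr_fix_f _ _ hij.ne (by omega))
    have m3 : S.ρ (π n')⁻¹ (S.e (i + 1)) = (1 : K) • S.e (i + 1 + 1) := by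
      rw [one_smul, hn']; exact S.inv_app (by simpa using nr_e' _ hj hk one_ne_zero)
    have m4 : S.ρ (π n')⁻¹ (S.f (i + 1)) = (1 : K) • S.f (i + 1 + 1) := by
      rw [one_smul, hn']; exact S.inv_app (by simpa using nr_f' _ hj hk one_ne_zero)
    have m5 := n5 (i + 1 + 1) (by omega) (by omega)
    have hik : i ≠ i + 1 + 1 := by omega
    have hP := EE_le_PP (T := torus R) (hN'.mem hj)
    refine ⟨?_, _, inv_mem hP, _, mul_mem hP (rel_n_sq R ▸ inv_mem (hhP _ (by simp))), ?_⟩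
    · rintro _ ⟨t, rfl⟩
      refine EE_le_PP (Q_le_EE le_rfl hj (mem_Lf_of (by simpa using (hx t).1.conj (n' * n)⁻¹) ?_))
      have h1 := conj_xr hij.ne hik m1 m4 t
      have h2 := conj_xr hik hjk.ne (g := (π n)⁻¹) (c := 1) (d := 1) (by simpa using S.inv_app n2)
        (by simpa using S.inv_app m5.2) (1 * t * σ 1)
      have h3 := xr_mem_Q (S := S) hjk (1 * (1 * t * σ 1) * σ 1)
      rw [← h2, ← h1] at h3
      simpa [hx, mul_assoc] using h3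
    · have h1 : ∀ t, n * x' t * n⁻¹ = n'⁻¹ * x t * n'⁻¹⁻¹ := fun t => C.eq_of_pe ((hx' t).1.conj _) ((hx t).1.conj _) (by
        simp only [map_mul, map_inv, hx, hx', conj_xr hij.ne hik m1 m4,
          conj_xr hjk.ne hik (n2.trans (one_smul _ _).symm) (m5.2.trans (one_smul _ _).symm)])
      have h2 : ∀ t, n * y' t * n⁻¹ = n'⁻¹ * y t * n'⁻¹⁻¹ := fun t => C.eq_of_pe ((hy' t).1.conj _) ((hy t).1.conj _) (by
        simp only [map_mul, map_inv, hy, hy', conj_xr hij.ne' hik.symm m3 m2,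
          conj_xr hjk.ne' hik.symm (m5.1.trans (one_smul _ _).symm) (n4.trans (one_smul _ _).symm)])
      calc n * n' * n = n * x' 1 * n⁻¹ * (n * y' (-1⁻¹) * n⁻¹) * (n * x' 1 * n⁻¹) * (n * n) := by
            nth_rw 1 [e', nn]; group
        _ = n'⁻¹ * (x 1 * y (-1⁻¹) * x 1) * (n' * (n * n)) := by rw [h1, h2]; group
  · simpa using conj_EE (g := (n * w * n⁻¹)⁻¹) (fun k h1 h2 => by
      have := hw.inv
      rw [← map_inv] at this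
      exact ⟨this.mem_Pres h2, sc_of_eq (this.2.2 k h2 (by omega)).1, sc_of_eq (this.2.2 k h2 (by omega)).2⟩) hl
  · have h1 : S.PP p π (torus R) i ≤ Subgroup.closure (insert n (S.PP p π (torus R) i : Set E)) := fun _ h =>
      Subgroup.subset_closure (.inr h)
    have h2 : n ∈ Subgroup.closure (insert n (S.PP p π (torus R) i : Set E)) := Subgroup.subset_closure (.inl rfl)
    have h3 := mul_mem (mul_mem h2 (h1 hwP)) (inv_mem h2)
    rw [EE, iSup_ge_eq _ hi] at hg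
    refine (sup_le (EE_le_PP.trans h1) (sup_le (Q_le_PP.trans h1) fun q hq => ?_) : _ ≤ Subgroup.closure _) hg
    have h4 := conj_Lf (g := (n * w * n⁻¹)⁻¹) (Y := S.Q i)
      (fun u => conj_Qg (map_inv π _ ▸ hw.inv.mem_Pres hi) _ (map_inv π _ ▸ hw.inv.2.1)) hq
    simpa [mul_assoc] using mul_mem (mul_mem h3 (h1 (Q_le_PP h4))) (inv_mem h3)

/-- The kernel lies in the rank one torus. -/
theorem Dec.ker_le [Finite E] [Finite K] (C : Cop p π) (hp : (p : K) = 0) {w : E} (D : S.Dec p π j T w)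
    (hj : j + 1 = S.m) (h : S.EE p π 0 = ⊤) : π.ker ≤ T := by
  have key : ∀ i ≤ j, ∃ T' w', S.Dec p π i T' w' ∧ ∀ z ∈ S.EE p π i, π z = 1 → z ∈ T := fun i hi => by
    induction hi using Nat.decreasingInduction with
    | self =>
      refine ⟨T, w, D, fun z hz h => ?_⟩
      obtain ⟨t, ht, l, hl, rfl⟩ := D.exists_of_ker C hp (by omega) hz h
      rw [EE, hj, iSup_ge_bot, Subgroup.mem_bot] at hl
      rwa [hl, mul_one]
    | of_succ k hk ih =>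
      obtain ⟨T', w', D', ih⟩ := ih
      obtain ⟨T'', w'', D'', h1⟩ := D'.step C hp (by omega)
      refine ⟨T'', w'', D'', fun z hz h => ?_⟩
      obtain ⟨t, ht, l, hl, rfl⟩ := D''.exists_of_ker C hp (by omega) hz h
      have h2 := congrArg (S.ρ · (S.e k)) h
      simp only [map_mul π, mul_app, (mem_Fix.1 (EE_le_Fix _ hl) k k.lt_succ_self).1, map_one] at h2
      rw [h1 t ht h2, one_mul] at h ⊢
      exact ih l hl h
  obtain ⟨_, _, -, h1⟩ := key 0 j.zero_le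
  exact fun z hz => h1 z (h ▸ trivial) hz

omit [Finite G] in
/-- Rank one groups of type `SL₂`. -/
theorem exists_dec_of_rel [Finite E] (C : Cop p π) (hp : (p : K) = 0) (hj : j + 1 = S.m) {F : Type*} [Field F] [Finite F]
    {x y : F → G} (R : Rel x y) (hx : ∀ g, g ∈ S.Q j ↔ ∃ t, x t = g) (hy : ∀ g, g ∈ S.Q' j ↔ ∃ t, y t = g)
    (hw : ∀ t ≠ 0, S.Sw j (nn x y t)) : ∃ T w, S.Dec p π j T w ∧
      Nat.card (T ⊓ π.ker : Subgroup E) ≤ Nat.card {t : F // t ≠ 0 ∧ hh x y t = 1} := by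
  have hQ : IsPGroup p (S.Q j) := isPGroup_Qg hp _ _
  have hQ' : IsPGroup p (S.Q' j) := isPGroup_Qg hp _ _
  obtain ⟨x', y', R', h1, h2⟩ := C.exists_rel R hQ hQ' (fun t => (hx _).2 ⟨t, rfl⟩) fun t => (hy _).2 ⟨t, rfl⟩
  have h3 : ∀ t, x' t ∈ Lf p π (S.Q j) := fun t => mem_Lf_of (h1 t).1 ((hx _).2 ⟨t, (h1 t).2.symm⟩)
  have h4 : ∀ t, x' t ∈ S.EE p π j := fun t => Q_le_EE le_rfl (by omega) (h3 t)
  have h5 : ∀ t, nn x' y' t ∈ S.EE p π j := fun t => mul_mem (mul_mem (h4 _)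
    (Q'_le_EE le_rfl (by omega) (mem_Lf_of (h2 _).1 ((hy _).2 ⟨_, (h2 _).2.symm⟩)))) (h4 _)
  have h6 : ∀ t, π (nn x' y' t) = nn x y t := fun t => by simp [nn, h1, h2]
  have h7 : ∀ t, π (hh x' y' t) = hh x y t := fun t => by simp [hh, h6]
  refine ⟨torus R', nn x' y' 1, ⟨?_, ?_, h5 1, h6 1 ▸ hw 1 one_ne_zero, fun g hg => ?_⟩, ?_⟩
  · rintro _ ⟨t, ht, rfl⟩
    rw [Subgroup.mem_comap, h7, hh]
    have a1 := hw t ht
    have a2 := hw (-1) (by simp)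
    refine mem_Dg.2 fun l hl => ?_
    by_cases e : l = j
    · exact e ▸ ⟨a1.2.1.mul a2.1, a1.1.mul a2.2.1⟩
    · exact ⟨(sc_of_eq (a1.2.2 l hl e).1).mul (sc_of_eq (a2.2.2 l hl e).1),
        (sc_of_eq (a1.2.2 l hl e).2).mul (sc_of_eq (a2.2.2 l hl e).2)⟩
  · rintro _ ⟨t, -, rfl⟩; exact mul_mem (h5 _) (h5 _)
  · rw [EE, iSup_ge_eq _ (by omega), hj, iSup_ge_bot, bot_sup_eq] at hg
    refine (rel_cases R' ((sup_le (fun a ha => ?_) fun a ha => ?_ : _ ≤ Subgroup.closure _) hg)).elim ?_ ?_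
    rotate_left 2
    · rintro ⟨t, ht, a, rfl⟩
      exact ⟨_, T_le_PP ⟨t, ht, rfl⟩, _, Q_le_PP (h3 a), 1, .inl rfl, by rw [mul_one]⟩
    · rintro ⟨a, b, c, hc, rfl⟩
      exact ⟨_, mul_mem (mul_mem (Q_le_PP (h3 a)) (Q_le_PP (h3 c⁻¹))) (T_le_PP ⟨-c⁻¹, by simpa, rfl⟩), _,
        mul_mem (Q_le_PP (h3 c⁻¹)) (Q_le_PP (h3 b)), _, .inr (.inl rfl), by rw [rel_y_eq R' hc]; simp only [mul_assoc]⟩
    · obtain ⟨t, e⟩ := (hx _).1 (Lf_le_comap _ ha)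
      exact Subgroup.subset_closure (.inl ⟨t, C.eq_of_pe (h1 t).1 ((C.mem_Lf hQ).1 ha).1 ((h1 t).2.trans e)⟩)
    · obtain ⟨t, e⟩ := (hy _).1 (Lf_le_comap _ ha)
      exact Subgroup.subset_closure (.inr ⟨t, C.eq_of_pe (h2 t).1 ((C.mem_Lf hQ').1 ha).1 ((h2 t).2.trans e)⟩)
  · refine Nat.card_le_card_of_surjective (fun t => ⟨hh x' y' t, ⟨t, t.2.1, rfl⟩, (h7 t).trans t.2.2⟩) ?_
    rintro ⟨_, ⟨t, ht, rfl⟩, h⟩
    exact ⟨⟨t, ht, (h7 t).symm.trans h⟩, rfl⟩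

omit [Finite G] in
theorem EE_eq_top [Finite E] (C : Cop p π) (hp : (p : K) = 0) (hπ : π.ker ≤ commutator E) (hm : 0 < S.m)
    (h : S.Q 0 ⊔ S.Q' 0 = ⊤) : S.EE p π 0 = ⊤ :=
  C.eq_top_of_map hπ (eq_top_iff.2 (h.ge.trans (sup_le
    ((C.kAt_Lf (isPGroup_Qg hp _ _)).map_eq.ge.trans (Subgroup.map_mono (Q_le_EE le_rfl hm)))
    ((C.kAt_Lf (isPGroup_Qg hp _ _)).map_eq.ge.trans (Subgroup.map_mono (Q'_le_EE le_rfl hm))))))

end Sp

end CL.Pq
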