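/-
Central extensions of orthogonal groups of minus type split over the unipotent radicals.
-/
import Cfsg.Agent.Known.PqGeom

set_option autoImplicit false

namespace CL.Pq

open CL.TwS CL.Uni
open scoped commutatorElement

theorem comm_mul_right {G : Type*} [Group G] {x y z : G} (h : Commute y ⁅x, z⁆) : ⁅x, y * z⁆ = ⁅x, y⁆ * ⁅x, z⁆ := by
  rw [← mul_inv_cancel_right ⁅x, z⁆ y, ← h.eq]; simp only [commutatorElement_def]; group

theorem comm_mul_left {G : Type*} [Group G] {x y z : G} (h : Commute x ⁅y, z⁆) : ⁅x * y, z⁆ = ⁅y, z⁆ * ⁅x, z⁆ := by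
  rw [← mul_inv_cancel_right ⁅y, z⁆ x, ← h.eq]; simp only [commutatorElement_def]; group

/-- A biadditive map which vanishes on orthogonal pairs depends on the form only. -/
theorem dep {K V M : Type*} [Field K] [AddCommGroup V] [Module K V] [Group M] {B : V →ₗ[K] V →ₗ[K] K} {P : Submodule K V}
    {γ : V → V → M} (hl : ∀ a ∈ P, ∀ a' ∈ P, ∀ b ∈ P, γ (a + a') b = γ a b * γ a' b)
    (hr : ∀ a ∈ P, ∀ b ∈ P, ∀ b' ∈ P, γ a (b + b') = γ a b * γ a b') (h0 : ∀ a ∈ P, ∀ b ∈ P, B a b = 0 → γ a b = 1)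
    {a₀ a₁ b₀ b₁ : V} (m0 : a₀ ∈ P) (m1 : a₁ ∈ P) (m2 : b₀ ∈ P) (m3 : b₁ ∈ P) (d0 : B a₀ b₀ = 1) (d1 : B a₁ b₁ = 1)
    (d2 : B a₀ b₁ = 0) (d3 : B a₁ b₀ = 0) {a b : V} (ha : a ∈ P) (hb : b ∈ P) : γ a b = γ a₁ (B a b • b₁) := by
  have key : ∀ u ∈ P, ∀ v ∈ P, B u v = 1 → ∀ a ∈ P, ∀ b ∈ P, B a v = 0 → B u b = 0 → γ a b = γ u (B a b • v) :=
    fun u hu v hv d a ha b hb h1 h2 => by
      have h3 := P.smul_mem (-B a b) hv
      have h4 := h0 _ (add_mem ha hu) _ (add_mem hb h3) (by simp [d, h1, h2])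
      have h5 := hr u hu _ (P.smul_mem (B a b) hv) _ h3
      rw [hl a ha u hu _ (add_mem hb h3), hr a ha b hb _ h3, hr u hu b hb _ h3, h0 a ha _ h3 (by simp [h1]),
        h0 u hu b hb h2, mul_one, one_mul] at h4
      rw [h0 u hu _ (add_mem (P.smul_mem _ hv) h3) (by simp)] at h5
      exact mul_right_cancel (h4.trans h5)
  have h1 := P.smul_mem (B a b₁) m1
  have h2 := P.smul_mem (B a₁ b) m3
  have h3 := sub_mem ha h1
  have h4 := sub_mem hb h2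
  have h5 := hl _ h3 _ h1 _ hb
  have h6 := hr _ h3 _ h4 _ h2
  have h7 := hr _ h1 _ h4 _ h2
  rw [sub_add_cancel] at h5 h6 h7
  rw [h5, h6, h7, h0 _ h3 _ h2 (by simp [d1]), h0 _ h1 _ h4 (by simp [d1]), mul_one, one_mul,
    key _ m1 _ m3 d1 _ h3 _ h4 (by simp [d1]) (by simp [d1]), key _ m0 _ m2 d0 _ h1 _ h2 (by simp [d3]) (by simp [d2]),
    key _ m1 _ m3 d1 _ m0 _ (P.smul_mem _ m2) d2 (by simp [d3]), ← hr _ m1 _ (P.smul_mem _ m3) _ (P.smul_mem _ m3),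
    ← add_smul]
  congr 2
  simp [d0, d1]

namespace Sp

section

variable {K V G : Type*} [Field K] [AddCommGroup V] [Module K V] [Group G] {σ : K →+* K} {S : Sp σ V G}

theorem W_ind {P : V → Prop} {j : ℕ} (hj : j ≤ S.m) (h0 : ∀ a ∈ S.W S.m, P a)
    (h1 : ∀ l, j ≤ l → l < S.m → ∀ t : K, P (t • S.e l) ∧ P (t • S.f l))
    (h2 : ∀ v ∈ S.W j, ∀ w ∈ S.W j, P v → P w → P (v + w)) {v : V} (hv : v ∈ S.W j) : P v := by
  have key : ∀ i ≤ S.m, j ≤ i → ∀ v ∈ S.W i, P v := fun i hi => by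
    induction hi using Nat.decreasingInduction with
    | self => exact fun _ => h0
    | of_succ k hk ih =>
      intro h v hv
      have h3 := proj_mem_W hk hv
      have h4 := (S.W j).smul_mem (S.B (S.f k) v) (e_mem_W h)
      have h5 := W_anti (h.trans k.le_succ) h3
      simpa using h2 _ (add_mem h5 (Submodule.smul_mem _ _ (f_mem_W h))) _ h4
        (h2 _ h5 _ (Submodule.smul_mem _ _ (f_mem_W h)) (ih (by omega) _ h3) (h1 k h hk (S.B (S.e k) v)).2) (h1 k h hk _).1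
  exact key j hj le_rfl v hv

theorem W_eq_sup {j : ℕ} (hj : j < S.m) : S.W j = (S.W (j + 1) ⊔ K ∙ S.e j) ⊔ K ∙ S.f j := by
  refine le_antisymm (fun x hx => ?_) (sup_le (sup_le (W_anti j.le_succ) ((Submodule.span_singleton_le_iff_mem _ _).2
    (e_mem_W le_rfl))) ((Submodule.span_singleton_le_iff_mem _ _).2 (f_mem_W le_rfl)))
  convert Submodule.add_mem_sup (Submodule.add_mem_sup (proj_mem_W hj hx)
    (Submodule.mem_span_singleton.2 ⟨S.B (S.f j) x, rfl⟩)) (Submodule.mem_span_singleton.2 ⟨S.B (S.e j) x, rfl⟩) using 1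
  abel

theorem EQ.fix {e v y : V} {x : G} (h : S.EQ e v x) (h1 : S.B e y = 0) (h2 : S.B v y = 0) : S.ρ x y = y :=
  let ⟨_, _, _, h3⟩ := h
  h3.fix h1 h2

theorem EQ.commute {e v : V} {x g : G} (h : S.EQ e v x) (h1 : S.ρ g e = e) (h2 : S.ρ g v = v) : Commute g x :=
  let ⟨_, _, _, h3⟩ := h
  h3.commute h1 h2

theorem EQ.inj {k : ℕ} (hk : k < S.m) {v w : V} {x : G} (h : S.EQ (S.e k) v x) (h' : S.EQ (S.e k) w x)
    (hv : v ∈ S.W (k + 1)) (hw : w ∈ S.W (k + 1)) : v = w := by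
  obtain ⟨-, c, -, h1⟩ := h
  obtain ⟨-, d, -, h2⟩ := h'
  have h3 := (h1 (S.f k)).symm.trans (h2 _)
  have h4 := congrArg (S.B (S.f k)) h3
  simp [S.ff, S.ef hk, S.fe hk, hv k k.lt_succ_self, hw k k.lt_succ_self, S.flip (hv k k.lt_succ_self).2,
    S.flip (hw k k.lt_succ_self).2] at h3 h4
  simpa [h4] using h3

end

variable {K V G E : Type*} [Field K] [AddCommGroup V] [Module K V] [Group G] [Group E] (S : Sp (RingHom.id K) V G)
  (π : E →* G) (h : E) (a₀ a₁ b₀ b₁ : V)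

/-- The orthogonal case. -/
structure Or : Prop where
  surj : Function.Surjective π
  cent : π.ker ≤ Subgroup.center E
  uniq : ∀ {v c d}, S.adm v c → S.adm v d → c = d
  tot : ∀ v, ∃ c, S.adm v c
  fix : π h ∈ S.Fix S.m
  pres : ∀ a ∈ S.W S.m, S.ρ (π h) a ∈ S.W S.m
  fpf : ∀ a ∈ S.W S.m, S.ρ (π h) a = a → a = 0
  fpf' : ∀ a ∈ S.W S.m, ∃ b ∈ S.W S.m, S.ρ (π h) b - b = a
  m0 : a₀ ∈ S.W S.m
  m1 : a₁ ∈ S.W S.m
  m2 : b₀ ∈ S.W S.m
  m3 : b₁ ∈ S.W S.m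
  d0 : S.B a₀ b₀ = 1
  d1 : S.B a₁ b₁ = 1
  d2 : S.B a₀ b₁ = 0
  d3 : S.B a₁ b₀ = 0
  three : 3 ≤ S.m

/-- Singular vectors of the split part. -/
structure Sg (x : V) : Prop where
  adm : S.adm x 0
  perp : ∀ a ∈ S.W S.m, S.B x a = 0
  fix : S.ρ (π h) x = x

open Classical in
/-- A lift of an Eichler map. -/
noncomputable def Yl (e v : V) : E := if h : ∃ x, S.EQ e v (π x) then h.choose else 1

/-- Commutators of lifts. -/
noncomputable def γ (e u a b : V) : E := ⁅S.Yl π e a, S.Yl π u b⁆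

variable {S π h a₀ a₁ b₀ b₁} {e e' u u' v w w' a a' b b' : V} {x y g : E}

theorem symm' (x y : V) : S.B x y = S.B y x := S.symm x y

theorem Sg.self (hu : S.Sg π h u) : S.B u u = 0 := S.self_of_adm hu.adm

theorem Sg.perp' (hu : S.Sg π h u) (ha : a ∈ S.W S.m) : S.B a u = 0 := S.flip (hu.perp a ha)

theorem Sg.smul (hu : S.Sg π h u) (t : K) : S.Sg π h (t • u) :=
  ⟨S.adm_smul_zero hu.adm t, fun a ha => by simp [hu.perp a ha], by rw [map_smul, hu.fix]⟩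

theorem Sg.add (hu : S.Sg π h u) (hv : S.Sg π h v) (h1 : S.B u v = 0) : S.Sg π h (u + v) :=
  ⟨by simpa [h1] using S.adm_add hu.adm hv.adm, fun a ha => by simp [hu.perp a ha, hv.perp a ha],
    by rw [map_add, hu.fix, hv.fix]⟩

theorem EQ.yl (hx : S.EQ e v (π x)) : S.EQ e v (π (S.Yl π e v)) := by
  have : ∃ x, S.EQ e v (π x) := ⟨x, hx⟩
  rw [Yl, dif_pos this]; exact this.choose_spec

theorem EQ.app {x : G} (hx : S.EQ e v x) (hv : S.adm v 0) (huniq : ∀ {v c d}, S.adm v c → S.adm v d → c = d) (z : V) :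
    S.ρ x z = z + S.B e z • v - S.B v z • e := by
  obtain ⟨-, c, h1, h2⟩ := hx
  rw [h2 z, huniq h1 hv, zero_mul, add_zero]

theorem zadd {c : K} {x y r : G} (hx : S.Ei u b c x) (hy : S.Ei v b c y) (hr : S.Ei u (-c • v) 0 r) (h1 : S.B u u = 0)
    (h2 : S.B u v = 0) (h3 : S.B v v = 0) (h4 : S.B u b = 0) (h5 : S.B v b = 0) (h6 : c + c = S.B b b) :
    S.Ei (u + v) b c (r * x * y) := fun z => by
  rw [mul_app, mul_app, hy z, hx, hr]
  simp [h1, h2, h3, h4, h5, ← h6, S.flip h2, S.flip h5]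
  module

namespace Or

variable (O : S.Or π h a₀ a₁ b₀ b₁)
include O

theorem eq {x y : G} (hx : S.EQ e v x) (hy : S.EQ e v y) : x = y := by
  obtain ⟨-, c, h1, h2⟩ := hx
  obtain ⟨-, d, h3, h4⟩ := hy
  exact h2.unique (O.uniq h3 h1 ▸ h4)

theorem yl (he : S.adm e 0) (hv : S.B e v = 0) : S.EQ e v (π (S.Yl π e v)) := by
  obtain ⟨c, hc⟩ := O.tot v
  obtain ⟨g, hg⟩ := S.ex he hv hc
  obtain ⟨x, rfl⟩ := O.surj g
  exact EQ.yl ⟨hv, c, hc, hg⟩

theorem sg_e {l : ℕ} (hl : l < S.m) : S.Sg π h (S.e l) := ⟨S.adm_e l, fun _ ha => (ha l hl).1, (mem_Fix.1 O.fix l hl).1⟩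

theorem sg_f {l : ℕ} (hl : l < S.m) : S.Sg π h (S.f l) := ⟨S.adm_f l, fun _ ha => (ha l hl).2, (mem_Fix.1 O.fix l hl).2⟩

theorem γ_eq (hx : S.EQ e a (π x)) (hy : S.EQ u b (π y)) : ⁅x, y⁆ = S.γ π e u a b :=
  CL.Schur.commElt_eq_of_map_eq O.cent (O.eq hx hx.yl) (O.eq hy hy.yl)

theorem conj_γ (hx : S.EQ e a (π x)) (hy : S.EQ u b (π y)) (g : E) :
    g * S.γ π e u a b * g⁻¹ = S.γ π (S.ρ (π g) e) (S.ρ (π g) u) (S.ρ (π g) a) (S.ρ (π g) b) := by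
  rw [← O.γ_eq hx hy, conjugate_commutatorElement]
  exact O.γ_eq (by simpa using hx.conj (π g)) (by simpa using hy.conj (π g))

/-- The fixed point free element kills the commutators. -/
theorem o1 (he : S.Sg π h e) (ha : a ∈ S.W S.m) (hx : S.EQ e a (π x)) (hg : S.EQ u v (π g)) (hu : S.Sg π h u)
    (hv : S.Sg π h v) (h1 : S.B u e = 0) (h2 : S.B v e = 0) : Commute g x := by
  obtain ⟨b, hb, rfl⟩ := O.fpf' a ha
  have h3 := O.yl he.adm (he.perp b hb)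
  have h4 := (h3.conj (π h)).mul (he.fix.symm ▸ h3.inv he.adm) (he.fix.symm ▸ he.adm)
  rw [he.fix, ← sub_eq_add_neg] at h4
  refine commute_of_map_eq O.cent (a := ⁅h, S.Yl π e b⁆) (by simpa [commutatorElement_def] using O.eq h4 hx)
    (commute_commutator O.cent (hg.commute hu.fix hv.fix).symm
      (h3.commute (hg.fix h1 h2) (hg.fix (hu.perp b hb) (hv.perp b hb))))

theorem map_γ (he : S.Sg π h e) (hu : S.Sg π h u) (h1 : S.B u e = 0) (ha : a ∈ S.W S.m) (hb : b ∈ S.W S.m) :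
    S.EQ e (S.B a b • u) (π (S.γ π e u a b)) := by
  have hx := O.yl he.adm (he.perp a ha)
  have hy := O.yl hu.adm (hu.perp b hb)
  have h2 := hy.fix h1 (he.perp' hb)
  have h3 := hx.mul (h2 ▸ (hx.inv he.adm).conj (π (S.Yl π u b))) he.adm
  obtain ⟨-, c, -, h4⟩ := hy
  rw [h4] at h3
  simpa [γ, commutatorElement_def, mul_assoc, hu.perp a ha, symm' b a] using h3

theorem γ_add_left (he : S.Sg π h e) (hu : S.Sg π h u) (h1 : S.B u e = 0) (ha : a ∈ S.W S.m) (ha' : a' ∈ S.W S.m)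
    (hb : b ∈ S.W S.m) : S.γ π e u (a + a') b = S.γ π e u a b * S.γ π e u a' b := by
  have hx := O.yl he.adm (he.perp a ha)
  have hx' := O.yl he.adm (he.perp a' ha')
  have h2 := O.o1 he ha' hx' (O.map_γ he hu h1 ha hb) he (hu.smul _) he.self (by simp [h1])
  rw [add_comm, ← O.γ_eq (x := _ * _) (map_mul π _ _ ▸ hx'.mul hx he.adm) (O.yl hu.adm (hu.perp b hb))]
  exact comm_mul_left h2.symm

theorem γ_add_right (he : S.Sg π h e) (hu : S.Sg π h u) (h1 : S.B u e = 0) (ha : a ∈ S.W S.m) (hb : b ∈ S.W S.m)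
    (hb' : b' ∈ S.W S.m) : S.γ π e u a (b + b') = S.γ π e u a b * S.γ π e u a b' := by
  have hy := O.yl hu.adm (hu.perp b hb)
  have hy' := O.yl hu.adm (hu.perp b' hb')
  have h2 := O.o1 hu hb hy (O.map_γ he hu h1 ha hb') he (hu.smul _) (S.flip h1) (by simp [hu.self])
  rw [← O.γ_eq (y := _ * _) (O.yl he.adm (he.perp a ha)) (map_mul π _ _ ▸ hy.mul hy' hu.adm)]
  exact comm_mul_right h2.symm

theorem commute_γ (hx : S.EQ e a (π x)) (hy : S.EQ u b (π y)) (h1 : S.ρ (π g) e = e) (h2 : S.ρ (π g) u = u)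
    (h3 : S.ρ (π g) a = a) (h4 : S.ρ (π g) b = b) : Commute g (S.γ π e u a b) := by
  have := O.conj_γ hx hy g
  rwa [h1, h2, h3, h4, mul_inv_eq_iff_eq_mul] at this

theorem γ_add (he : S.Sg π h e) (hu : S.Sg π h u) (hv : S.Sg π h v) (h1 : S.B u e = 0) (h2 : S.B v e = 0)
    (h3 : S.B u v = 0) (ha : a ∈ S.W S.m) (hb : b ∈ S.W S.m) : S.γ π e (u + v) a b = S.γ π e u a b * S.γ π e v a b := by
  have hx := O.yl he.adm (he.perp a ha)
  have hy := O.yl hu.adm (hu.perp b hb)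
  have hz := O.yl hv.adm (hv.perp b hb)
  obtain ⟨-, c, hc, h4⟩ := id hy
  obtain ⟨-, d, hd, h5⟩ := id hz
  obtain rfl := O.uniq hc hd
  have hr := O.yl hu.adm (v := -c • v) (by simp [h3])
  obtain ⟨-, d, hd, h6⟩ := id hr
  obtain rfl := O.uniq (hv.smul _).adm hd
  have h7 := zadd h4 h5 h6 hu.self h3 hv.self (hu.perp b hb) (hv.perp b hb) (S.adm_tr hc)
  have f : ∀ z, S.B u z = 0 → S.B v z = 0 → S.ρ (π (S.Yl π u (-c • v))) z = z := fun z a1 a2 => hr.fix a1 (by simp [a2])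
  have c1 := O.o1 he ha hx hr hu (hv.smul _) h1 (by simp [h2])
  have c2 := O.o1 hu hb hy (O.map_γ he hv h2 ha hb) he (hv.smul _) (S.flip h1) (by simp [S.flip h3])
  have f1 := f e h1 h2
  have f2 := f a (hu.perp a ha) (hv.perp a ha)
  have f3 := f b (hu.perp b hb) (hv.perp b hb)
  have c3 := (O.commute_γ hx hy f1 (f u hu.self (S.flip h3)) f2 f3).mul_right (O.commute_γ hx hz f1 (f v h3 hv.self) f2 f3)
  have h8 := comm_mul_right c2.symm
  rw [← O.γ_eq (y := _ * (_ * _)) hx ⟨by simp [hu.perp b hb, hv.perp b hb], c, hc, by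
    simpa only [← map_mul π, mul_assoc] using h7⟩, comm_mul_right (h8 ▸ c3), c1.symm.commutator_eq, one_mul, h8]
  rfl

theorem γ_smul (he : S.Sg π h e) (hu : S.Sg π h u) (ha : a ∈ S.W S.m) (hb : b ∈ S.W S.m) (t : K) :
    S.γ π e (t • u) a b = S.γ π e u a (t • b) :=
  O.γ_eq (O.yl he.adm (he.perp a ha)) (O.yl (hu.smul t).adm ((hu.smul t).perp b hb)).smul

variable (S π h) in
omit O in
/-- A hyperbolic pair orthogonal to `e` and `u`. -/
def Th (e u : V) : Prop := ∃ t t', S.Sg π h t ∧ S.Sg π h t' ∧ S.B t' t = 1 ∧ S.B t e = 0 ∧ S.B t' e = 0 ∧ S.B t u = 0 ∧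
  S.B t' u = 0

theorem γ_dep (he : S.Sg π h e) (hu : S.Sg π h u) (h1 : S.B u e = 0) (ht : Th S π h e u) (ha : a ∈ S.W S.m)
    (hb : b ∈ S.W S.m) : S.γ π e u a b = S.γ π e u a₁ (S.B a b • b₁) := by
  obtain ⟨t, t', h2, h3, h4, h5, h6, h7, h8⟩ := ht
  refine dep (fun _ ha _ ha' _ => O.γ_add_left he hu h1 ha ha') (fun _ ha _ hb _ => O.γ_add_right he hu h1 ha hb)
    (fun a ha b hb h0 => ?_) O.m0 O.m1 O.m2 O.m3 O.d0 O.d1 O.d2 O.d3 ha hb
  have hg := O.yl hu.adm (v := -t') (by simp [S.flip h8])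
  have h9 := O.conj_γ (O.yl he.adm (he.perp a ha)) (O.yl h2.adm (h2.perp b hb)) (S.Yl π u (-t'))
  have h10 := O.map_γ he h2 h5 ha hb
  rw [h0, zero_smul] at h10
  rw [comm_of_ker O.cent (O.eq h10 (eq_one e)), mul_inv_cancel_right, hg.fix h1 (by simp [h6]),
    hg.fix (hu.perp a ha) (by simp [h3.perp a ha]), hg.fix (hu.perp b hb) (by simp [h3.perp b hb]),
    hg.app (by simpa using (h3.smul (-1)).adm) O.uniq] at h9
  simpa [S.flip h7, h4, O.γ_add he h2 hu h5 h1 h7 ha hb] using h9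

theorem β_perp (he : S.Sg π h e) (hu : S.Sg π h u) (h1 : S.B u e = 0) (hv : ∀ a ∈ S.W S.m, S.B v a = 0) (h2 : S.B v e = 0)
    (h3 : S.B v u = 0) : S.γ π e e v u = 1 := by
  have hx := O.yl he.adm (S.flip h2)
  have h4 := O.map_γ he hu h1 O.m1 O.m3
  rw [O.d1, one_smul] at h4
  exact (commute_of_map_eq O.cent (O.eq h4 h4.yl) (O.commute_γ (O.yl he.adm (he.perp _ O.m1)) (O.yl hu.adm (hu.perp _ O.m3))
    (hx.fix he.self h2) (hx.fix (S.flip h1) h3) (hx.fix (he.perp _ O.m1) (hv _ O.m1))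
    (hx.fix (he.perp _ O.m3) (hv _ O.m3)))).commutator_eq

theorem β_ker (he : S.adm e 0) (hv : S.B e v = 0) (hw : S.B e w = 0) : π (S.γ π e e v w) = 1 := by
  have h1 := (O.yl he hw).mul (O.yl he hv) he
  rw [add_comm] at h1
  rw [γ, map_commutatorElement, commutatorElement_eq_one_iff_mul_comm, O.eq ((O.yl he hv).mul (O.yl he hw) he) h1]

theorem β_add_left (he : S.adm e 0) (hu : S.B e u = 0) (hv : S.B e v = 0) (hw : S.B e w = 0) :
    S.γ π e e (u + v) w = S.γ π e e u w * S.γ π e e v w := by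
  rw [add_comm, ← O.γ_eq (x := _ * _) (map_mul π _ _ ▸ (O.yl he hv).mul (O.yl he hu) he) (O.yl he hw)]
  exact comm_mul_left (comm_of_ker O.cent (O.β_ker he hu hw) _)

theorem β_add_right (he : S.adm e 0) (hu : S.B e u = 0) (hv : S.B e v = 0) (hw : S.B e w = 0) :
    S.γ π e e u (v + w) = S.γ π e e u v * S.γ π e e u w := by
  rw [← O.γ_eq (y := _ * _) (O.yl he hu) (map_mul π _ _ ▸ (O.yl he hv).mul (O.yl he hw) he)]
  exact comm_mul_right (comm_of_ker O.cent (O.β_ker he hu hw) _)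

theorem β_sq (he : S.Sg π h e) (hu : S.Sg π h u) (hv : S.Sg π h v) (h1 : S.B u e = 0) (h2 : S.B v e = 0)
    (hw : S.Sg π h w) (hw' : S.Sg π h w') (h3 : S.B w' w = 1) (h4 : S.B w e = 0) (h5 : S.B w' e = 0) (h6 : S.B w u = 0)
    (h7 : S.B w' u = 0) (h8 : S.B w v = 0) (h9 : S.B w' v = 0) : S.γ π e e u v * S.γ π e e u v = 1 := by
  have key : ∀ {u v}, S.Sg π h u → S.Sg π h v → S.B u e = 0 → S.B v e = 0 → S.B w u = 0 → S.B w v = 0 → S.B w' v = 0 →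
      S.γ π e e u v * S.γ π e e w' (-S.B u v • w) = 1 := fun {u v} hu hv h1 h2 h6 h8 h9 => by
    have a1 := hw.smul (-S.B u v)
    have a2 : S.B (-S.B u v • w) e = 0 := by simp [h4]
    have := O.β_perp he (hv.add a1 (by simp [S.flip h8])) (by simp [h2, h4]) (v := u + w')
      (fun a ha => by simp [hu.perp a ha, hw'.perp a ha]) (by simp [h1, h5]) (by simp [h3, h9, S.flip h6])
    rwa [O.β_add_left he.adm (S.flip h1) (S.flip h5) (by simp [S.flip h2, S.flip h4]),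
      O.β_add_right he.adm (S.flip h1) (S.flip h2) (S.flip a2), O.β_add_right he.adm (S.flip h5) (S.flip h2) (S.flip a2),
      O.β_perp he a1 a2 hu.perp h1 (by simp [S.flip h6]), O.β_perp he hv h2 hw'.perp h5 h9, mul_one, one_mul] at this
  have := key hv hu h2 h1 h8 h6 h7
  rw [symm' v u, ← key hu hv h1 h2 h6 h8 h9, mul_left_inj] at this
  nth_rw 1 [← this]
  rw [γ, γ, ← commutatorElement_inv, inv_mul_cancel]

theorem β_cube (he : S.Sg π h e) (he' : S.Sg π h e') (hu : S.Sg π h u) (hu' : S.Sg π h u') (h1 : S.B u e = 0)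
    (h2 : S.B u' e = 0) (h3 : S.B u e' = 0) (h4 : S.B u' e' = 0) (h5 : S.B e e' = 1) (h6 : S.B u u' = 1) (ht : Th S π h e u)
    (t : K) : S.γ π e e u' (t • u) ^ 3 = 1 := by
  have hx := O.yl he.adm (S.flip h2)
  have hy := O.yl hu.adm (v := -e') (by simp [h3])
  have hb := (S.W S.m).smul_mem t O.m3
  have hk := O.map_γ he hu h1 O.m1 hb
  rw [map_smul, O.d1, smul_eq_mul, mul_one] at hk
  rw [← O.γ_eq hx hk]
  have ax := hx.app hu'.adm O.uniq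
  have ay := hy.app (by simpa using (he'.smul (-1)).adm) O.uniq
  generalize S.Yl π e u' = x at *
  generalize S.Yl π u (-e') = y at *
  have n0 : ∀ z, S.ρ (π (x * y * x)) z = S.ρ (π x) (S.ρ (π y) (S.ρ (π x) z)) := fun z => by simp only [map_mul π, mul_app]
  have n1 : S.ρ (π (x * y * x)) e = u := by
    simp [n0, ax, ay, he.self, h1, h2, symm' e' e, h5, S.flip h1, symm' u' u, h6]
  have n2 : S.ρ (π (x * y * x)) u = (-1 : K) • e := by
    simp [n0, ax, ay, he.self, hu.self, h1, h2, symm' e' e, h5, S.flip h1, symm' u' u, h6, S.flip h3]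
  have n3 : S.ρ (π (x * y * x)) (-e') = -u' := by
    simp [n0, ax, ay, he'.self, hu'.self, h3, h4, h5, S.flip h2, S.flip h4, h6]
  have n4 : ∀ a ∈ S.W S.m, S.ρ (π (x * y * x)) a = a := fun a ha => by
    simp [n0, ax, ay, he.perp a ha, he'.perp a ha, hu.perp a ha, hu'.perp a ha]
  have k1 := O.conj_γ (O.yl he.adm (he.perp _ O.m1)) (O.yl hu.adm (hu.perp _ hb)) (x * y * x)
  have k2 := O.γ_add_right he hu h1 O.m1 hb (neg_mem hb)
  rw [add_neg_cancel, ← O.γ_eq (O.yl he.adm (he.perp _ O.m1)) (y := 1) (by simpa using eq_one u),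
    commutatorElement_one_right, eq_comm, mul_eq_one_iff_eq_inv] at k2
  rw [n1, n2, n4 _ O.m1, n4 _ hb, O.γ_smul hu he O.m1 hb, γ.eq_1 S π u, ← commutatorElement_inv, ← γ,
    O.γ_dep he hu h1 ht ((S.W S.m).smul_mem _ hb) O.m1] at k1
  simp only [map_smul, LinearMap.smul_apply, symm' b₁ a₁, O.d1, smul_eq_mul, mul_one, neg_mul, one_mul, neg_smul,
    one_smul, map_neg, LinearMap.neg_apply, ← k2] at k1
  have k3 := hy.conj (π (x * y * x))
  rw [n2, n3] at k3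
  have k4 : π (x * y * x * y * (x * y * x)⁻¹) = π x := O.eq (by simpa using k3.smul) hx
  generalize S.γ π e u a₁ (t • b₁) = k at *
  have k5 : π ⁅x, k⁆ = 1 := O.γ_eq hx hk ▸ O.β_ker he.adm hx.1 hk.1
  have k6 := CL.Schur.commElt_eq_of_map_eq O.cent k4 (congrArg π k1)
  rw [← conjugate_commutatorElement, mul_inv_eq_iff_eq_mul, ← comm_of_ker O.cent k5, mul_right_inj] at k6
  have k7 : x * k = ⁅x, k⁆ * (k * x) := by simp only [commutatorElement_def]; group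
  have k8 : y * k = ⁅x, k⁆ * (k * y) := by rw [← k6]; simp only [commutatorElement_def]; group
  generalize ⁅x, k⁆ = z at *
  have c := comm_of_ker O.cent k5
  rw [mul_inv_eq_iff_eq_mul, mul_assoc, k7, ← mul_assoc, c, mul_assoc, ← mul_assoc (x * y), mul_assoc x y k, k8,
    ← mul_assoc x, c, mul_assoc z x, ← mul_assoc x, k7] at k1
  apply mul_right_cancel (b := k * (x * y * x))
  rw [one_mul, pow_three]
  simpa only [mul_assoc] using k1

theorem exists_third (i j : ℕ) : ∃ l < S.m, l ≠ i ∧ l ≠ j := by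
  have := O.three
  by_cases h0 : i ≠ 0 ∧ j ≠ 0
  · exact ⟨0, by omega, by omega, by omega⟩
  by_cases h1 : i ≠ 1 ∧ j ≠ 1
  · exact ⟨1, by omega, by omega, by omega⟩
  · exact ⟨2, by omega, by omega, by omega⟩

variable (S) in
omit O in
/-- Multiples of the vectors of the `l`-th pair. -/
def Bs (l : ℕ) (u : V) : Prop := l < S.m ∧ ∃ t : K, u = t • S.e l ∨ u = t • S.f l

omit O in
theorem Bs.perp {l i : ℕ} (hu : Bs S l u) (h : i ≠ l) : S.B (S.e i) u = 0 ∧ S.B (S.f i) u = 0 := by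
  obtain ⟨-, t, rfl | rfl⟩ := hu <;> simp [S.ee, S.ff, S.ef_ne h, S.fe_ne h]

theorem Bs.sg {l : ℕ} (hu : Bs S l u) : S.Sg π h u := by
  obtain ⟨hl, t, rfl | rfl⟩ := hu
  exacts [(O.sg_e hl).smul t, (O.sg_f hl).smul t]

theorem th {k l : ℕ} (hk : k < S.m) (hu : Bs S l u) : Th S π h (S.e k) u := by
  obtain ⟨i, hi, h1, h2⟩ := O.exists_third k l
  exact ⟨_, _, O.sg_e hi, O.sg_f hi, S.fe hi, S.ee _ _, S.fe_ne h1, (hu.perp h2).1, (hu.perp h2).2⟩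

theorem β_bs {k l i : ℕ} (hk : k < S.m) (hu : Bs S l u) (hv : Bs S i v) (h1 : k ≠ l) (h2 : k ≠ i) :
    S.γ π (S.e k) (S.e k) u v = 1 := by
  have he := O.sg_e hk
  have h3 := S.flip (hu.perp h1).1
  have h4 := S.flip (hv.perp h2).1
  by_cases h0 : S.B u v = 0
  · exact O.β_perp he (hv.sg O) h4 (hu.sg O).perp h3 h0
  obtain rfl : l = i := by_contra fun e => h0 (by
    obtain ⟨-, t, rfl | rfl⟩ := hu <;> simp [hv.perp e])
  obtain ⟨i, hi, h5, h6⟩ := O.exists_third k l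
  have h7 := O.β_sq he (hu.sg O) (hv.sg O) h3 h4 (O.sg_e hi) (O.sg_f hi) (S.fe hi) (S.ee _ _) (S.fe_ne h5) (hu.perp h6).1
    (hu.perp h6).2 (hv.perp h6).1 (hv.perp h6).2
  have hv' : Bs S l ((S.B u v)⁻¹ • v) := by
    obtain ⟨hl, t, e | e⟩ := hv
    exacts [⟨hl, _, .inl (by rw [e, smul_smul])⟩, ⟨hl, _, .inr (by rw [e, smul_smul])⟩]
  have h8 := O.β_cube he (O.sg_f hk) (hv'.sg O) (hu.sg O) (S.flip (hv'.perp h1).1) h3 (S.flip (hv'.perp h1).2)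
    (S.flip (hu.perp h1).2) (S.ef hk) (by simp [symm' v u, h0]) (O.th hk hv') (S.B u v)
  rwa [smul_inv_smul₀ h0, pow_three, h7, mul_one] at h8

theorem β_W {k l : ℕ} (hk : k < S.m) (hu : Bs S l u) (h1 : k ≠ l) (ha : a ∈ S.W S.m) : S.γ π (S.e k) (S.e k) u a = 1 :=
  have he := O.sg_e hk
  (O.o1 he ha (O.yl he.adm (he.perp a ha)) (O.yl he.adm (hu.perp h1).1) he (hu.sg O) he.self
    (S.flip (hu.perp h1).1)).commutator_eq

omit O in
theorem β_symm (h : S.γ π e e u v = 1) : S.γ π e e v u = 1 := by rw [γ, ← commutatorElement_inv, ← γ, h, inv_one]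

theorem β_WW {k : ℕ} (hk : k < S.m) (ha : a ∈ S.W S.m) (hb : b ∈ S.W S.m) : S.γ π (S.e k) (S.e k) a b = 1 := by
  obtain ⟨l, hl, h1, -⟩ := O.exists_third k k
  have he := O.sg_e hk
  have hu : Bs S l (S.f l) := ⟨hl, 1, .inr (one_smul _ _).symm⟩
  have hu' : ∀ t : K, Bs S l (t • S.e l) := fun t => ⟨hl, t, .inl rfl⟩
  have hg := O.yl (S.adm_e l) (ha l hl).1
  have h2 := O.conj_γ (O.yl he.adm (hu.perp h1.symm).1) (O.yl he.adm (hb k hk).1) (S.Yl π (S.e l) a)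
  rw [O.β_W hk hu h1.symm hb, hg.fix (S.ee _ _) (he.perp' ha)] at h2
  obtain ⟨-, c, -, h3⟩ := hg
  have h4 := fun t => ((hu' t).perp h1.symm).1
  have h5 := (hu.perp h1.symm).1
  have h6 := (ha k hk).1
  have h7 := (hb k hk).1
  rw [h3, h3, (hb l hl).1, zero_smul, add_zero, S.ef hl, one_smul, sub_eq_add_neg, sub_eq_add_neg, ← neg_smul, ← neg_smul,
    O.β_add_left he.adm (by simp [h5, h6]) (h4 _) (by simp [h7, S.ee]), O.β_add_left he.adm h5 h6 (by simp [h7, S.ee]),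
    O.β_add_right he.adm h5 h7 (h4 _), O.β_add_right he.adm h6 h7 (h4 _), O.β_add_right he.adm (h4 _) h7 (h4 _),
    O.β_W hk hu h1.symm hb, O.β_W hk (hu' _) h1.symm hb, β_symm (O.β_W hk (hu' _) h1.symm ha),
    O.β_bs hk hu (hu' _) h1.symm h1.symm, O.β_bs hk (hu' _) (hu' _) h1.symm h1.symm] at h2
  simpa using h2.symm

/-- The preimage of the unipotent radical is abelian. -/
theorem ok_Q {k : ℕ} (hk : k < S.m) : OK π ⊥ (S.Q k) (S.Q k) := by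
  rintro x y ⟨v, hv, hx⟩ ⟨w, hw, hy⟩
  rw [O.γ_eq hx hy, Subgroup.mem_bot]
  have h1 : ∀ v ∈ S.W (k + 1), S.B (S.e k) v = 0 := fun v hv => (hv k k.lt_succ_self).1
  have h2 : ∀ v ∈ S.W (k + 1), (∀ a ∈ S.W S.m, S.γ π (S.e k) (S.e k) v a = 1) →
      (∀ l u, Bs S l u → k ≠ l → S.γ π (S.e k) (S.e k) v u = 1) → S.γ π (S.e k) (S.e k) v w = 1 := fun v hv h2 h3 =>
    W_ind hk h2 (fun l h4 hl t => ⟨h3 l _ ⟨hl, t, .inl rfl⟩ (by omega), h3 l _ ⟨hl, t, .inr rfl⟩ (by omega)⟩)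
      (fun a ha b hb h4 h5 => by rw [O.β_add_right (S.adm_e k) (h1 v hv) (h1 a ha) (h1 b hb), h4, h5, mul_one]) hw
  have h3 : ∀ l u, Bs S l u → u ∈ S.W (k + 1) → k ≠ l → S.γ π (S.e k) (S.e k) u w = 1 := fun l u hu hu' e =>
    h2 u hu' (fun a => O.β_W hk hu e) fun i v hv => O.β_bs hk hu hv e
  exact W_ind (P := fun v => S.γ π (S.e k) (S.e k) v w = 1) hk
    (fun a ha => h2 a (W_anti hk ha) (fun b => O.β_WW hk ha) fun l u hu e => β_symm (O.β_W hk hu e ha))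
    (fun l h4 hl t => ⟨h3 l _ ⟨hl, t, .inl rfl⟩ (Submodule.smul_mem _ _ (e_mem_W h4)) (by omega),
      h3 l _ ⟨hl, t, .inr rfl⟩ (Submodule.smul_mem _ _ (f_mem_W h4)) (by omega)⟩)
    (fun a ha b hb h4 h5 => by rw [O.β_add_left (S.adm_e k) (h1 a ha) (h1 b hb) (h1 w hw), h4, h5, mul_one]) hv

theorem kAt_sup_Qg {k : ℕ} (hk : k < S.m) {P P' : Submodule K V} {L L' : Subgroup E} (h1 : P ≤ S.W (k + 1))
    (h2 : P' ≤ S.W (k + 1)) (hd : Disjoint P P') (hL : KAt π L (S.Qg _ (S.adm_e k) P))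
    (hL' : KAt π L' (S.Qg _ (S.adm_e k) P')) : KAt π (L ⊔ L') (S.Qg _ (S.adm_e k) (P ⊔ P')) := by
  have := kAt_sup hL hL' (fun g hg a ha => by
    rwa [((O.ok_Q hk).commute (Qg_mono _ h1 hg) (Qg_mono _ h2 (hL'.map_mem a ha))).eq, mul_inv_cancel_right])
    fun g ⟨v, hv, h3⟩ ⟨w, hw, h4⟩ => O.eq (Submodule.disjoint_def.1 hd v hv (h3.inj hk h4 (h1 hv) (h2 hw) ▸ hw) ▸ h3) (eq_one _)
  convert this using 1
  refine le_antisymm (fun g ⟨v, hv, h3⟩ => ?_) (sup_le (Qg_mono _ le_sup_left) (Qg_mono _ le_sup_right))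
  obtain ⟨a, ha, b, hb, rfl⟩ := Submodule.mem_sup.1 hv
  have h4 := O.yl (S.adm_e k) (h1 ha k k.lt_succ_self).1
  have h5 := O.yl (S.adm_e k) (h2 hb k k.lt_succ_self).1
  rw [O.eq h3 (h4.mul h5 (S.adm_e k))]
  exact Subgroup.mul_mem_sup ⟨_, ha, h4⟩ ⟨_, hb, h5⟩

/-- The lift of a long root group. -/
def Γ (S : Sp (RingHom.id K) V G) (π : E →* G) (e u : V) : Subgroup E :=
  Subgroup.closure {x | ∃ a ∈ S.W S.m, ∃ b ∈ S.W S.m, x = S.γ π e u a b}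

omit O in
theorem γ_mem (ha : a ∈ S.W S.m) (hb : b ∈ S.W S.m) : S.γ π e u a b ∈ Γ S π e u := Subgroup.subset_closure ⟨a, ha, b, hb, rfl⟩

theorem kAt_Γ {k l : ℕ} (hk : k < S.m) (hu : Bs S l u) (h1 : u ∈ S.W (k + 1)) (h0 : u ≠ 0) :
    KAt π (Γ S π (S.e k) u) (S.Qg _ (S.adm_e k) (K ∙ u)) := by
  have he := O.sg_e hk
  have h2 := S.flip (h1 k k.lt_succ_self).1
  have h3 := fun t => (S.W S.m).smul_mem t O.m3
  have h4 := fun t => O.map_γ he (hu.sg O) h2 O.m1 (h3 t)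
  simp only [map_smul, O.d1, smul_eq_mul, mul_one] at h4
  have h5 : S.γ π (S.e k) u a₁ ((0 : K) • b₁) = 1 := by
    rw [zero_smul, ← O.γ_eq (O.yl he.adm (he.perp _ O.m1)) (y := 1) (by simpa using eq_one u), commutatorElement_one_right]
  have h6 := fun s t => O.γ_add_right he (hu.sg O) h2 O.m1 (h3 s) (h3 t)
  have key : ∀ x ∈ Γ S π (S.e k) u, ∃ t : K, x = S.γ π (S.e k) u a₁ (t • b₁) := fun x hx => by
    induction hx using Subgroup.closure_induction with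
    | mem x hx =>
      obtain ⟨a, ha, b, hb, rfl⟩ := hx
      exact ⟨_, O.γ_dep he (hu.sg O) h2 (O.th hk hu) ha hb⟩
    | one => exact ⟨0, h5.symm⟩
    | mul _ _ _ _ h7 h8 =>
      obtain ⟨s, rfl⟩ := h7
      obtain ⟨t, rfl⟩ := h8
      exact ⟨s + t, by rw [add_smul, h6]⟩
    | inv _ _ h7 =>
      obtain ⟨s, rfl⟩ := h7
      exact ⟨-s, inv_eq_of_mul_eq_one_right (by rw [← h6, ← add_smul, add_neg_cancel, h5])⟩
  refine ⟨fun x hx => ?_, fun x ⟨v, hv, hx⟩ => ?_, fun x hx e => ?_⟩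
  · obtain ⟨t, rfl⟩ := key x hx
    exact ⟨_, Submodule.smul_mem _ _ (Submodule.mem_span_singleton_self u), h4 t⟩
  · obtain ⟨t, rfl⟩ := Submodule.mem_span_singleton.1 hv
    exact ⟨_, γ_mem O.m1 (h3 t), O.eq (h4 t) hx⟩
  · obtain ⟨t, rfl⟩ := key x hx
    have h7 := h4 t
    rw [e] at h7
    rwa [(smul_eq_zero_iff_left h0).1 (h7.inj hk (eq_one _) (Submodule.smul_mem _ _ h1) (zero_mem _))]

omit O in
theorem bs_e {l : ℕ} (hl : l < S.m) : Bs S l (S.e l) := ⟨hl, 1, .inl (one_smul _ _).symm⟩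

omit O in
theorem bs_f {l : ℕ} (hl : l < S.m) : Bs S l (S.f l) := ⟨hl, 1, .inr (one_smul _ _).symm⟩

omit O in
theorem disj {P : Submodule K V} {z : V} (h1 : ∀ x ∈ P, S.B z x = 0) (h2 : S.B z u = 1) : Disjoint P (K ∙ u) ∧ u ≠ 0 := by
  refine ⟨Submodule.disjoint_def.2 fun x hx hx' => ?_, by rintro rfl; simp at h2⟩
  obtain ⟨t, rfl⟩ := Submodule.mem_span_singleton.1 hx'
  simpa [h2] using Or.inl (by simpa [h2] using h1 _ hx)

theorem conj_h (he : S.Sg π h e) : ∀ x ∈ S.Qg e he.adm (S.W S.m), π h * x * (π h)⁻¹ ∈ S.Qg e he.adm (S.W S.m) :=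
  fun x ⟨v, hv, hx⟩ => ⟨_, O.pres v hv, by simpa [he.fix] using hx.conj (π h)⟩

theorem exists_kAt_W [Finite G] {k : ℕ} (hk : k < S.m) :
    ∃ L, KAt π L (S.Qg _ (S.adm_e k) (S.W S.m)) ∧ ∀ a ∈ L, h * a * h⁻¹ ∈ L := by
  have he := O.sg_e hk
  have hW := W_anti (S := S) hk
  have hQ := Qg_mono (S.adm_e k) hW
  have hh : π h ∈ Subgroup.normalizer (S.Qg _ (S.adm_e k) (S.W S.m) : Set G) ⊓ Subgroup.centralizer {π h} :=
    ⟨Subgroup.mem_normalizer_fintype (O.conj_h he), Subgroup.mem_centralizer_singleton_iff.2 rfl⟩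
  obtain ⟨L₀, h1, h2, -⟩ := exists_kAt (H := _ ⊓ _) O.cent kAt_bot bot_le (fun x _ => O.surj x) (fun x _ => O.surj x)
    ((O.ok_Q hk).mono le_rfl hQ hQ) nrm_bot nrm_bot (fun g hg x => (Subgroup.mem_normalizer_iff.1 hg.1 x).1) hh
    (fun g hg => Subgroup.mem_centralizer_singleton_iff.1 hg.2) fun x ⟨v, hv, hx⟩ e => by
      have h1 := hx.conj (π h)
      rw [he.fix, e] at h1
      exact O.eq (O.fpf v hv (h1.inj hk hx (hW (O.pres v hv)) (hW hv)) ▸ hx) (eq_one _)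
  exact ⟨L₀, h1, h2 h hh⟩

variable (S π) in
omit O in
/-- The lift of the unipotent radical. -/
def LL (L₀ : Subgroup E) (k j : ℕ) : Subgroup E :=
  L₀ ⊔ ⨆ l, ⨆ _ : j ≤ l ∧ l < S.m, Γ S π (S.e k) (S.e l) ⊔ Γ S π (S.e k) (S.f l)

variable {L₀ : Subgroup E} {k : ℕ}

theorem kAt_LL (hk : k < S.m) (h1 : KAt π L₀ (S.Qg _ (S.adm_e k) (S.W S.m))) {j : ℕ} (hj : j ≤ S.m) (h4 : k < j) :
    KAt π (LL S π L₀ k j) (S.Qg _ (S.adm_e k) (S.W j)) := by
  induction hj using Nat.decreasingInduction with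
  | self => rwa [LL, iSup_ge_bot, sup_bot_eq]
  | of_succ j hj ih =>
    have h5 := (Submodule.span_singleton_le_iff_mem _ _).2 (e_mem_W (S := S) h4)
    have h6 := (Submodule.span_singleton_le_iff_mem _ _).2 (f_mem_W (S := S) h4)
    have h7 := W_anti (S := S) (Nat.succ_le_succ h4.le)
    have h8 := disj (P := S.W (j + 1)) (fun x hx => (hx j j.lt_succ_self).2) (S.fe hj)
    have h9 := disj (P := S.W (j + 1) ⊔ K ∙ S.e j) (fun x hx => (sup_le (fun x hx => (hx j j.lt_succ_self).1)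
      ((Submodule.span_singleton_le_iff_mem _ _).2 (S.ee j j)) : _ ≤ LinearMap.ker (S.B (S.e j))) hx) (S.ef hj)
    rw [W_eq_sup hj, LL, iSup_ge_eq _ hj, ← sup_assoc, ← sup_assoc]
    exact O.kAt_sup_Qg hk (sup_le h7 h5) h6 h9.1 (O.kAt_sup_Qg hk h7 h5 h8.1 (ih (by omega))
      (O.kAt_Γ hk (bs_e hj) (e_mem_W h4) h8.2)) (O.kAt_Γ hk (bs_f hj) (f_mem_W h4) h9.2)

omit O in
theorem Γ_le_LL {l : ℕ} (h1 : k < l) (hl : l < S.m) : Γ S π (S.e k) (S.e l) ⊔ Γ S π (S.e k) (S.f l) ≤ LL S π L₀ k (k + 1) :=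
  le_sup_of_le_right (le_iSup₂_of_le l ⟨h1, hl⟩ le_rfl)

theorem γ_mem_LL (hk : k < S.m) {l : ℕ} (h1 : k < l) (hu : Bs S l u) (ha : a ∈ S.W S.m) (hb : b ∈ S.W S.m) :
    S.γ π (S.e k) u a b ∈ LL S π L₀ k (k + 1) := by
  obtain ⟨hl, t, rfl | rfl⟩ := hu
  · rw [O.γ_smul (O.sg_e hk) (O.sg_e hl) ha hb]
    exact Γ_le_LL h1 hl (Subgroup.mem_sup_left (γ_mem ha (Submodule.smul_mem _ _ hb)))
  · rw [O.γ_smul (O.sg_e hk) (O.sg_f hl) ha hb]
    exact Γ_le_LL h1 hl (Subgroup.mem_sup_right (γ_mem ha (Submodule.smul_mem _ _ hb)))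

omit O in
theorem conj_LL (h5 : ∀ x ∈ L₀, g * x * g⁻¹ ∈ LL S π L₀ k (k + 1)) (h6 : ∀ l u, k < l → l < S.m → u = S.e l ∨ u = S.f l →
    ∀ a ∈ S.W S.m, ∀ b ∈ S.W S.m, g * S.γ π (S.e k) u a b * g⁻¹ ∈ LL S π L₀ k (k + 1)) :
    ∀ x ∈ LL S π L₀ k (k + 1), g * x * g⁻¹ ∈ LL S π L₀ k (k + 1) := fun _ =>
  conj_mem_sup h5 fun _ => conj_mem_iSup fun l _ => conj_mem_iSup fun hl _ => conj_mem_sup
    (fun _ => conj_mem_closure (by rintro _ ⟨a, ha, b, hb, rfl⟩; exact h6 l _ hl.1 hl.2 (.inl rfl) a ha b hb))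
    fun _ => conj_mem_closure (by rintro _ ⟨a, ha, b, hb, rfl⟩; exact h6 l _ hl.1 hl.2 (.inr rfl) a ha b hb)

theorem conj_long (hk : k < S.m) (h1 : KAt π L₀ (S.Qg _ (S.adm_e k) (S.W S.m))) {i j : ℕ} (h2 : k < j) (h3 : j < i)
    (hv : Bs S i v) (hg : S.EQ (S.e j) v (π g)) : ∀ x ∈ LL S π L₀ k (k + 1), g * x * g⁻¹ ∈ LL S π L₀ k (k + 1) := by
  have he := O.sg_e hk
  have hj : j < S.m := h3.trans hv.1
  have h4 := S.flip (hv.perp (h2.trans h3).ne).1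
  refine conj_LL (fun x hx => ?_) fun l u h5 hl hu a ha b hb => ?_
  · obtain ⟨a, ha, h5⟩ := h1.map_mem x hx
    rw [(O.o1 he ha h5 hg (O.sg_e hj) (hv.sg O) (S.ee _ _) h4).eq, mul_inv_cancel_right]
    exact Subgroup.mem_sup_left hx
  have h6 : Bs S l u := by rcases hu with rfl | rfl; exacts [bs_e hl, bs_f hl]
  have h7 : S.B (S.e j) u = 0 ∨ S.B v u = 0 := by
    by_cases e : j = l
    · exact .inr (by rcases hu with rfl | rfl <;> simp [S.flip, ← e, hv.perp h3.ne])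
    · exact .inl (h6.perp e).1
  have h8 : Bs S i (S.B (S.e j) u • v) := by
    obtain ⟨hi, t, rfl | rfl⟩ := hv
    exacts [⟨hi, _, .inl (smul_smul _ _ _)⟩, ⟨hi, _, .inr (smul_smul _ _ _)⟩]
  have h9 : Bs S j (-S.B v u • S.e j) := ⟨hj, _, .inl rfl⟩
  have a1 := S.flip (h6.perp h5.ne).1
  have a2 := S.flip (h8.perp (h2.trans h3).ne).1
  have a3 : S.B u (S.B (S.e j) u • v) = 0 := by simpa [symm' u v] using h7
  rw [O.conj_γ (O.yl he.adm (he.perp a ha)) (O.yl (h6.sg O).adm ((h6.sg O).perp b hb)), hg.fix (S.ee _ _) h4,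
    hg.fix (ha j hj).1 ((hv.sg O).perp a ha), hg.fix (hb j hj).1 ((hv.sg O).perp b hb), hg.app (hv.sg O).adm O.uniq,
    sub_eq_add_neg, ← neg_smul, O.γ_add he ((h6.sg O).add (h8.sg O) a3) (h9.sg O) (by rw [LinearMap.map_add₂, a1, a2, add_zero])
      (by simp [S.ee]) (by simpa [symm' u, S.flip hg.1, or_comm] using h7) ha hb,
    O.γ_add he (h6.sg O) (h8.sg O) a1 a2 a3 ha hb]
  exact mul_mem (mul_mem (O.γ_mem_LL hk h5 h6 ha hb) (O.γ_mem_LL hk (h2.trans h3) h8 ha hb)) (O.γ_mem_LL hk h2 h9 ha hb)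

theorem conj_short [Finite G] (hk : k < S.m) (h1 : KAt π L₀ (S.Qg _ (S.adm_e k) (S.W S.m))) (h0 : ∀ a ∈ L₀, h * a * h⁻¹ ∈ L₀)
    {j : ℕ} (h2 : k < j) (hj : j < S.m) (hv : v ∈ S.W S.m) (hg : S.EQ (S.e j) v (π g)) :
    ∀ x ∈ LL S π L₀ k (k + 1), g * x * g⁻¹ ∈ LL S π L₀ k (k + 1) := by
  have he := O.sg_e hk
  have h3 : ∀ g, π g ∈ S.Qg _ (S.adm_e j) (S.W S.m) → ∀ x ∈ L₀, g * x * g⁻¹ ∈ L₀ ⊔ Γ S π (S.e k) (S.e j) :=
    fun g ⟨v, hv, hg⟩ x hx => by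
      obtain ⟨a, ha, h5⟩ := h1.map_mem x hx
      have := Subgroup.mem_sup_right (S := L₀) (inv_mem (O.γ_eq h5 hg ▸ γ_mem ha hv))
      simpa [commutatorElement_def, mul_assoc] using mul_mem this (Subgroup.mem_sup_left hx)
  have h4 : ∀ g, π g ∈ S.Qg _ (S.adm_e j) (S.W S.m) → ∀ l u, k < l → Bs S l u → S.B (S.e j) u = 0 → ∀ a ∈ S.W S.m,
      ∀ b ∈ S.W S.m, g * S.γ π (S.e k) u a b * g⁻¹ = S.γ π (S.e k) u a b := fun g ⟨v, hv, hg⟩ l u h5 hu h6 a ha b hb => by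
    rw [← (O.o1 (O.sg_e hj) hv hg (O.map_γ he (hu.sg O) (S.flip (hu.perp h5.ne).1) ha hb) he ((hu.sg O).smul _) (S.ee _ _)
      (by simp [S.flip h6])).eq, mul_inv_cancel_right]
  have h5 : L₀ ⊔ Γ S π (S.e k) (S.e j) ≤ LL S π L₀ k (k + 1) := sup_le le_sup_left (le_sup_left.trans (Γ_le_LL h2 hj))
  refine conj_LL (fun x hx => h5 (h3 g ⟨v, hv, hg⟩ x hx)) fun l u h6 hl hu a ha b hb => ?_
  have h7 : Bs S l u := by rcases hu with rfl | rfl; exacts [bs_e hl, bs_f hl]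
  by_cases h8 : S.B (S.e j) u = 0
  · rw [h4 g ⟨v, hv, hg⟩ l u h6 h7 h8 a ha b hb]; exact O.γ_mem_LL hk h6 h7 ha hb
  have hW := W_anti (S := S) hk
  have a1 := (Submodule.span_singleton_le_iff_mem _ _).2 (e_mem_W (S := S) h2)
  have a2 := disj (P := S.W S.m) (fun x hx => (hx j hj).2) (S.fe hj)
  have a3 := O.kAt_sup_Qg hk hW a1 a2.1 h1 (O.kAt_Γ hk (bs_e hj) (e_mem_W h2) a2.2)
  have a4 : u ∈ S.W (k + 1) := by rcases hu with rfl | rfl; exacts [e_mem_W h6, f_mem_W h6]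
  have a5 := Qg_mono (S.adm_e k) ((Submodule.span_singleton_le_iff_mem _ _).2 a4)
  have hr : ∀ X : Subgroup G, X ≤ π.range := fun X x _ => O.surj x
  have a6 := ok_of_kill O.cent a3 (hr (S.Qg _ (S.adm_e j) (S.W S.m))) (hr (S.Qg _ (S.adm_e k) (K ∙ u)))
    (hr (Subgroup.closure {π h})) (fun g hg _ => conj_mem_sup (h3 g hg) fun _ => conj_mem_closure (by
      rintro _ ⟨a, ha, b, hb, rfl⟩
      exact (h4 g hg j _ h2 (bs_e hj) (S.ee _ _) a ha b hb).symm ▸ Subgroup.mem_sup_right (γ_mem ha hb)))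
    (fun g hg x hx => by
      rwa [((O.ok_Q hk).commute (a5 hg) (Qg_mono _ (sup_le hW a1) (a3.map_mem x hx))).eq, mul_inv_cancel_right])
    (nrm_closure O.surj O.cent fun g hg x hx => by
      rw [conj_eq_of_map_eq O.cent (show π g = π h from hg)]
      refine conj_mem_sup (fun x hx => Subgroup.mem_sup_left (h0 x hx)) (fun _ => conj_mem_closure ?_) hx
      rintro _ ⟨a, ha, b, hb, rfl⟩
      rw [O.conj_γ (O.yl he.adm (ha k hk).1) (O.yl (S.adm_e j) (hb j hj).1), he.fix, (O.sg_e hj).fix]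
      exact Subgroup.mem_sup_right (γ_mem (O.pres a ha) (O.pres b hb)))
    (fun x ⟨v, hv, hx⟩ y ⟨w, _, hy⟩ => by
      have := (hx.fix (S.ee _ _) (he.perp' hv) ▸ hy.conj x).mul (hy.inv he.adm) he.adm
      obtain ⟨-, c, -, h9⟩ := hx
      exact ⟨_, by
        rw [h9, ← sub_eq_add_neg, sub_right_comm, add_sub_cancel_left, sub_eq_add_neg, ← neg_smul]
        exact Submodule.add_mem_sup (Submodule.smul_mem _ _ hv) (Submodule.mem_span_singleton.2 ⟨_, rfl⟩), this⟩)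
    (kill_of_comm (X := S.Qg _ (S.adm_e k) (K ∙ u)) (Subgroup.mem_closure_singleton_self _) (fun y ⟨w, hw, hy⟩ => by
      obtain ⟨t, rfl⟩ := Submodule.mem_span_singleton.1 hw
      rw [(hy.commute he.fix ((h7.sg O).smul t).fix).eq, mul_inv_cancel_right]) (O.conj_h (O.sg_e hj))
      fun x ⟨v, hv, hx⟩ => by
        obtain ⟨b, hb, rfl⟩ := O.fpf' v hv
        have h3 := O.yl (S.adm_e j) (hb j hj).1
        have h4 := ((O.sg_e hj).fix ▸ h3.conj (π h)).mul (h3.inv (S.adm_e j)) (S.adm_e j)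
        exact ⟨_, ⟨b, hb, h3⟩, O.eq hx (sub_eq_add_neg _ b ▸ h4)⟩).symm
  have a7 := a6 g _ ⟨v, hv, hg⟩ ⟨_, Submodule.mem_span_singleton.2 ⟨_, rfl⟩,
    O.map_γ he (h7.sg O) (S.flip (h7.perp h6.ne).1) ha hb⟩
  simpa [commutatorElement_def] using mul_mem (h5 a7) (O.γ_mem_LL hk h6 h7 ha hb)

/-- The splitting over the unipotent radicals. -/
theorem exists_kAt_Q [Finite G] (hk : k < S.m) : ∃ L, KAt π L (S.Q k) ∧ Nrm π (S.U (k + 1)) L := by
  obtain ⟨L₀, h1, h2⟩ := O.exists_kAt_W hk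
  let s : Set G := {x | ∃ j v, k < j ∧ j < S.m ∧ (v ∈ S.W S.m ∨ ∃ i, j < i ∧ Bs S i v) ∧ S.EQ (S.e j) v x}
  refine ⟨_, O.kAt_LL hk h1 hk k.lt_succ_self, (nrm_closure O.surj O.cent (s := s) ?_).mono
    (iSup₂_le fun j hj x ⟨v, hv, hx⟩ => ?_)⟩
  · rintro g ⟨j, v, h3, hj, hv | ⟨i, h4, hv⟩, hg⟩
    exacts [O.conj_short hk h1 h2 h3 hj hv hg, O.conj_long hk h1 h3 h4 hv hg]
  have h3 : ∀ v ∈ S.W (j + 1), _ := fun v hv => O.yl (S.adm_e j) (hv j j.lt_succ_self).1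
  refine W_ind (P := fun v => ∀ x, S.EQ (S.e j) v x → x ∈ Subgroup.closure s) hj.2
    (fun a ha x hx => Subgroup.subset_closure ⟨j, a, hj.1, hj.2, .inl ha, hx⟩)
    (fun l h4 hl t => ⟨fun x hx => Subgroup.subset_closure ⟨j, _, hj.1, hj.2, .inr ⟨l, h4, hl, t, .inl rfl⟩, hx⟩,
      fun x hx => Subgroup.subset_closure ⟨j, _, hj.1, hj.2, .inr ⟨l, h4, hl, t, .inr rfl⟩, hx⟩⟩)
    (fun a ha b hb h4 h5 x hx => ?_) hv x hx
  rw [O.eq hx ((h3 a ha).mul (h3 b hb) (S.adm_e j))]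
  exact mul_mem (h4 _ (h3 a ha)) (h5 _ (h3 b hb))

end Or

end Sp

end CL.Pq
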