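/-
Central extensions of unitary groups split over the unipotent radicals.
-/
import Cfsg.Agent.Known.PqOrth
import Cfsg.Agent.Cls.UniSimple

set_option autoImplicit false

namespace CL.Pq

open CL.TwS CL.Uni
open scoped commutatorElement

section Lift

variable {G E : Type*} [Group G] [Group E] {π : E →* G} {H X D : Subgroup G} {N : Subgroup E}

/-- Extending a splitting from `D` to `X` by an element without fixed points on `X / D`. -/
theorem exists_kAt' (hc : π.ker ≤ Subgroup.center E) (hs : Function.Surjective π) (hN : KAt π N D) (hD : D ≤ X)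
    (ok : OK π N X X) (nX : Nrm π X N) (nH : Nrm π H N) (hHX : ∀ g ∈ H, ∀ x ∈ X, g * x * g⁻¹ ∈ X) {h : G} (hh : h ∈ H)
    (hH' : ∀ g ∈ H, Commute g h) (h1 : ∀ x ∈ X, ⁅h, x⁆ ∈ D → x ∈ D) (h2 : ∀ x ∈ X, ∃ d ∈ D, ∃ y ∈ X, x = d * ⁅h, y⁆) :
    ∃ K, KAt π K X ∧ Nrm π H K ∧ N ≤ K := by
  obtain ⟨h, rfl⟩ := hs h
  have m : ∀ a, π a ∈ X → π ⁅h, a⁆ ∈ X := fun a ha => by
    rw [map_commutatorElement]; exact mul_mem (hHX _ hh _ ha) (inv_mem ha)
  have mul : ∀ a b, π a ∈ X → π b ∈ X → ∃ n ∈ N, ⁅h, a⁆ * ⁅h, b⁆ = n * ⁅h, a * b⁆ := fun a b ha hb =>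
    ⟨_, inv_mem (nX _ (m a ha) _ (ok a _ ha (m b hb))), by simp only [commutatorElement_def]; group⟩
  let K : Subgroup E :=
    { carrier := {e | ∃ a, π a ∈ X ∧ ∃ n ∈ N, e = n * ⁅h, a⁆}
      one_mem' := ⟨1, by simp, 1, one_mem _, by simp⟩
      mul_mem' := by
        rintro _ _ ⟨a, ha, n, hn, rfl⟩ ⟨b, hb, n', hn', rfl⟩
        obtain ⟨k, hk, e⟩ := mul a b ha hb
        refine ⟨a * b, by simpa using mul_mem ha hb, _, mul_mem (mul_mem hn (nX _ (m a ha) _ hn')) hk, ?_⟩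
        rw [mul_assoc _ k, ← e]; group
      inv_mem' := by
        rintro _ ⟨a, ha, n, hn, rfl⟩
        have ha' : π a⁻¹ ∈ X := by simpa using ha
        obtain ⟨k, hk, e⟩ := mul a⁻¹ a ha' ha
        rw [inv_mul_cancel, commutatorElement_one_right, mul_one] at e
        refine ⟨a⁻¹, ha', _, mul_mem (nX.inv (m a ha) (inv_mem hn)) (inv_mem hk), ?_⟩
        rw [← e]; group }
  refine ⟨K, ⟨?_, fun x hx => ?_, ?_⟩, ?_, fun n hn => ⟨1, by simp, n, hn, by simp⟩⟩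
  · rintro _ ⟨a, ha, n, hn, rfl⟩
    rw [map_mul]; exact mul_mem (hD (hN.map_mem n hn)) (m a ha)
  · obtain ⟨d, hd, y, hy, rfl⟩ := h2 x hx
    obtain ⟨a, rfl⟩ := hs y
    obtain ⟨n, hn, rfl⟩ := hN.surj d hd
    exact ⟨_, ⟨a, hy, n, hn, rfl⟩, by rw [map_mul, map_commutatorElement]⟩
  · rintro _ ⟨a, ha, n, hn, rfl⟩ e
    refine hN.inj _ (mul_mem hn ?_) e
    obtain ⟨k, hk, e1⟩ := hN.surj _ (h1 _ ha (by
      rw [map_mul, mul_eq_one_iff_inv_eq, map_commutatorElement] at e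
      exact e ▸ inv_mem (hN.map_mem n hn)))
    rw [CL.Schur.commElt_eq_of_map_eq hc rfl e1.symm]
    exact mul_mem (nH h hh k hk) (inv_mem hk)
  · rintro g hg _ ⟨a, ha, n, hn, rfl⟩
    refine ⟨g * a * g⁻¹, by simpa using hHX _ hg _ ha, _, nH g hg n hn, ?_⟩
    rw [CL.Schur.commElt_eq_of_map_eq hc (x := h) (x' := g * h * g⁻¹) (y := g * a * g⁻¹)
      (by simp [(hH' _ hg).eq]) rfl]
    simp only [commutatorElement_def]; group

theorem kAt_le (hc : π.ker ≤ Subgroup.center E) (hN : KAt π N D) {K K' : Subgroup E} (hK : KAt π K X)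
    (hK' : KAt π K' X) (h1 : N ≤ K) (h2 : N ≤ K') {h : E} (h3 : ∀ a ∈ K, h * a * h⁻¹ ∈ K) (h4 : ∀ a ∈ K', h * a * h⁻¹ ∈ K')
    (h5 : ∀ x ∈ X, ∃ d ∈ D, ∃ y ∈ X, x = d * ⁅π h, y⁆) : K ≤ K' := fun a ha => by
  obtain ⟨d, hd, y, hy, e⟩ := h5 _ (hK.map_mem a ha)
  obtain ⟨n, hn, rfl⟩ := hN.surj d hd
  obtain ⟨k, hk, rfl⟩ := hK.surj y hy
  obtain ⟨k', hk', e'⟩ := hK'.surj _ hy
  rw [hK.eq_of_map_eq ha (mul_mem (h1 hn) (mul_mem (h3 k hk) (inv_mem hk))) (by simpa [commutatorElement_def] using e),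
    ← commutatorElement_def, CL.Schur.commElt_eq_of_map_eq hc rfl e'.symm]
  exact mul_mem (h2 hn) (mul_mem (h4 k' hk') (inv_mem hk'))

end Lift

theorem two_trick {K M : Type*} [Field K] [Group M] {b : K → K → M} (hl : ∀ s s' t, b (s + s') t = b s t * b s' t)
    (hr : ∀ s t t', b s (t + t') = b s t * b s t') {a : K} (h0 : a ≠ 0)
    (h1 : 1 - a ≠ 0) (h2 : a ^ 2 - a + 1 ≠ 0) (h3 : ∀ s t, b (a * s) (a * t) = b s t)
    (h4 : ∀ s t, b ((1 - a) * s) ((1 - a) * t) = b s t) (s t : K) : b s t = 1 := by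
  have key : ∀ t, b s ((a ^ 2 - a + 1) / (a * (1 - a)) * t) = 1 := fun t => by
    have e := hl (a * s) ((1 - a) * s) (a * t + (1 - a) * t)
    have e1 := h3 s ((1 - a) / a * t)
    have e2 := h4 s (a / (1 - a) * t)
    rw [show a * ((1 - a) / a * t) = (1 - a) * t by field_simp] at e1
    rw [show (1 - a) * (a / (1 - a) * t) = a * t by field_simp] at e2
    rw [hr (a * s), hr (_ * s), h3, h4, e1, e2, show a * s + (1 - a) * s = s by ring, show a * t + (1 - a) * t = t by ring,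
      mul_assoc, left_eq_mul, ← mul_assoc, ← hr, ← hr] at e
    rw [← e]; congr 1; field_simp; ring
  rw [← key (((a ^ 2 - a + 1) / (a * (1 - a)))⁻¹ * t), mul_inv_cancel_left₀ (div_ne_zero h2 (mul_ne_zero h0 h1))]

theorem span_ind {K V I : Type*} [Field K] [AddCommGroup V] [Module K V] {w : I → V} {P : V → Prop} (h0 : P 0)
    (h1 : ∀ i (t : K), P (t • w i))
    (h2 : ∀ u ∈ Submodule.span K (Set.range w), ∀ v ∈ Submodule.span K (Set.range w), P u → P v → P (u + v)) {v : V}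
    (hv : v ∈ Submodule.span K (Set.range w)) : P v := by
  have : ∀ t : K, P (t • v) := by
    induction hv using Submodule.span_induction with
    | mem _ h => obtain ⟨i, rfl⟩ := h; exact h1 i
    | zero => simpa using h0
    | add u v hu hv h3 h4 =>
      exact fun t => smul_add t u v ▸ h2 _ (Submodule.smul_mem _ _ hu) _ (Submodule.smul_mem _ _ hv) (h3 t) (h4 t)
    | smul a u _ h3 => exact fun t => smul_smul t a u ▸ h3 _
  simpa using this 1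

theorem exists_par {K : Type*} [Field K] {σ : K →+* K} {q : ℕ} (h : IsBar σ q) (hq : 3 ≤ q) : ∃ a b c : K, b ≠ 0 ∧ c ≠ 0 ∧
    σ b * (σ b / b) = a ∧ σ c * (σ c / c) = 1 - a ∧ a ^ 2 - a + 1 ≠ 0 := by
  open Polynomial in
  have key : ∀ P : K → Prop, 4 < Nat.card {x // P x} → ∃ a, P a ∧ a ≠ 0 ∧ 1 - a ≠ 0 ∧ a ^ 2 - a + 1 ≠ 0 := fun P hP => by
    have := h.finite
    have := Fintype.ofFinite {x // P x}
    by_contra! h1
    refine (show (X * (X - 1) * (X ^ 2 - X + 1) : K[X]).Monic by monicity!).ne_zero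
      (eq_zero_of_natDegree_lt_card_of_eval_eq_zero _ (Subtype.val_injective (p := P)) (fun a => ?_)
        (lt_of_le_of_lt (by compute_degree) (hP.trans_eq Nat.card_eq_fintype_card)))
    simpa [or_iff_not_imp_left, sub_eq_zero, eq_comm (b := a.1)] using h1 a a.2
  by_cases h5 : 4 < q
  · obtain ⟨a, h1, h2, h3, h4⟩ := key (fun x => σ x = x) (h.card_fixed.symm ▸ h5)
    exact ⟨a, a, 1 - a, h2, h3, by simp [h1, h2], by simp [h1, h3], h4⟩
  have h6 : ∀ a : K, a ≠ 0 → ∃ b ≠ 0, σ b * (σ b / b) = a := fun a ha => by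
    have h7 := h.bar_bar a
    simp only [h.apply] at h7 ⊢
    obtain rfl | rfl : q = 3 ∨ q = 4 := by omega
    · exact ⟨a ^ 5, by simpa, by field_simp; grind⟩
    · exact ⟨a ^ 13, by simpa, by field_simp; grind⟩
  obtain ⟨a, -, h2, h3, h4⟩ := key (fun _ => True) (by rw [Nat.card_subtype_true, h.card]; nlinarith)
  obtain ⟨b, hb, e⟩ := h6 a h2
  obtain ⟨c, hc, e'⟩ := h6 _ h3
  exact ⟨a, b, c, hb, hc, e, e', h4⟩

theorem exists_norm_pow {K : Type*} [Field K] {σ : K →+* K} {q : ℕ} (h : IsBar σ q) :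
    ∃ a : K, a * σ a = 1 ∧ ∀ k ≠ 0, k ≤ q → a ^ k ≠ 1 := by
  obtain ⟨a, ha⟩ := h.exists_primitiveRoot
  exact ⟨a, by rw [h.norm_eq_pow, ha.pow_eq_one], fun k h0 h1 => ha.pow_ne_one_of_pos_of_lt h0 (by omega)⟩

theorem exists_two {K : Type*} [Field K] {σ : K →+* K} (h : IsBar σ 2) : (2 : K) = 0 ∧ ∃ a : K, σ a = a + 1 ∧
    ∀ t : K, t = 0 ∨ t = 1 ∨ t = a ∨ t = a + 1 := by
  have h2 : (2 : K) = 0 := by simpa using h.cast_q
  obtain ⟨a, ha⟩ := h.exists_trace_one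
  refine ⟨h2, a, by grind, fun t => ?_⟩
  have := h.bar_bar t
  simp only [h.apply] at this ha
  grind

namespace Sp

variable {K V G E I : Type*} [Field K] [AddCommGroup V] [Module K V] [Group G] [Group E] {σ : K →+* K} (S : Sp σ V G)
  (q : ℕ) (π : E →* G)

/-- The unitary case. -/
structure Un : Prop where
  herm : IsHerm S.B q
  adm_iff : ∀ {v c}, S.adm v c ↔ c + σ c = S.B v v
  sur : ∀ g ∈ SUG S.B, ∃ g', S.ρ g' = g

/-- A hyperbolic pair and an orthonormal basis of its complement. -/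
structure Fr (e f : V) (w : I → V) : Prop extends S.Un q where
  surj : Function.Surjective π
  cent : π.ker ≤ Subgroup.center E
  he : S.adm e 0
  hf : S.adm f 0
  ef : S.B e f = 1
  ew : ∀ i, S.B e (w i) = 0
  fw : ∀ i, S.B f (w i) = 0
  ww : ∀ i, S.B (w i) (w i) = 1
  ww' : ∀ {i j}, i ≠ j → S.B (w i) (w j) = 0
  span : ∀ v, S.B e v = 0 → S.B f v = 0 → v ∈ Submodule.span K (Set.range w)

open Classical in
/-- Commutators of lifts. -/
noncomputable def δ (e v w : V) : E :=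
  ⁅if h : ∃ x, S.EQ e v (π x) then h.choose else 1, if h : ∃ x, S.EQ e w (π x) then h.choose else 1⁆

variable {S q π} {e f u u' v v' : V} {w : I → V} {x y : E}

theorem Ei.act {c a : K} {x g : G} (hx : S.Ei e v c x) (hg : S.ρ g e = a • e) :
    S.Ei e (σ a • S.ρ g v) (c * (a * σ a)) (g * x * g⁻¹) := ei_smul.1 (hg ▸ hx.conj g)

theorem EQ.act {a : K} {x g : G} (hx : S.EQ e v x) (hg : S.ρ g e = a • e) : S.EQ e (σ a • S.ρ g v) (g * x * g⁻¹) :=
  (hg ▸ hx.conj g).smul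

theorem Un.exists_EQ (U : S.Un q) (he : S.adm e 0) (hv : S.B e v = 0) : ∃ x, S.EQ e v x := by
  obtain ⟨c, hc⟩ := U.herm.bar.exists_trace_eq (U.herm.self_fixed v)
  obtain ⟨x, hx⟩ := S.ex he hv (U.adm_iff.2 hc)
  exact ⟨x, hv, c, U.adm_iff.2 hc, hx⟩

variable [FiniteDimensional K V]

theorem Un.exists_D (U : S.Un q) (he : S.adm e 0) (hf : S.adm f 0) (ef : S.B e f = 1) (h1 : S.B u e = 0) (h2 : S.B u f = 0)
    (h3 : S.B u u ≠ 0) (h4 : S.B v e = 0) (h5 : S.B v f = 0) (h6 : S.B v v ≠ 0) {a b c : K} (ha : a ≠ 0) (hb : b * σ b = 1)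
    (hc : c * σ c = 1) (h : a * b * c = σ a) (h7 : S.B u v = 0 ∨ c = 1) : ∃ g, S.ρ g e = a • e ∧ S.ρ g f = (σ a)⁻¹ • f ∧
      S.ρ g u = b • u ∧ (S.B u v = 0 → S.ρ g v = c • v) ∧
      ∀ x, S.B e x = 0 → S.B f x = 0 → S.B u x = 0 → S.B v x = 0 ∨ c = 1 → S.ρ g x = x := by
  obtain ⟨g₁, a1, a2, a3, a4, a5⟩ := U.herm.exists_diag (S.self_of_adm he) (S.self_of_adm hf) ef ha
  obtain ⟨g₂, b1, b2, b3, b4⟩ := U.herm.exists_reflection h3 hb
  obtain ⟨g₃, c1, c2, c3, c4⟩ : ∃ g ∈ UG S.B, g v = c • v ∧ (∀ x, S.B v x = 0 ∨ c = 1 → g x = x) ∧ dt g = c := by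
    by_cases e : c = 1
    · exact ⟨1, one_mem _, by simp [e], fun _ _ => rfl, by simp [e]⟩
    · simpa [e] using U.herm.exists_reflection h6 hc
  obtain ⟨g, hg⟩ := U.sur (g₁ * g₂ * g₃) (mem_SUG.2 ⟨mul_mem (mul_mem a1 b1) c1, by
    rw [map_mul, map_mul, a5, b4, c4, mul_right_comm a, mul_right_comm, h, mul_inv_cancel₀ ((map_ne_zero σ).2 ha)]⟩)
  refine ⟨g, by simp [hg, c3 e, b3 e, h1, h4, a2], by simp [hg, c3 f, b3 f, h2, h5, a3], ?_, fun h => ?_,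
    fun x d1 d2 d3 d4 => by simp [hg, c3 x d4, b3 x d3, a4 x d1 d2]⟩
  · simp [hg, c3 u (h7.imp_left S.flip), b2, a4 u (S.flip h1) (S.flip h2)]
  · simp [hg, c2, b3 v h, a4 v (S.flip h4) (S.flip h5)]

theorem Un.exists_fr (U : S.Un q) (hs : Function.Surjective π) (hc : π.ker ≤ Subgroup.center E) (he : S.adm e 0)
    (hf : S.adm f 0) (ef : S.B e f = 1) : ∃ w : Fin (Module.finrank K V - 2) → V, S.Fr q π e f w := by
  have h1 := S.self_of_adm he
  have h2 := S.self_of_adm hf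
  have h3 := U.herm.flip_one ef
  have h4 : ∀ {x}, x ∈ perp S.B (Submodule.span K (Set.range ![e, f])) ↔ S.B e x = 0 ∧ S.B f x = 0 := by
    intro x; rw [mem_perp_span]; simp [and_comm]
  obtain ⟨b, hb⟩ := (U.herm.restrict (U.herm.disjoint_perp_perp (W := Submodule.span K (Set.range ![e, f]))
    (Submodule.disjoint_def.2 fun x hx hx' => by
      obtain ⟨c, rfl⟩ := (Submodule.mem_span_range_iff_exists_fun K).1 hx
      have := h4.1 hx'
      simp_all))).exists_orthonormal_basis (by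
        rw [U.herm.finrank_perp, finrank_span_eq_card (linearIndependent_hyperbolic h1 h2 (by simp [ef]) (by simp [h3])),
          Fintype.card_fin])
  refine ⟨fun i => b i, U, hs, hc, he, hf, ef, fun i => (h4.1 (b i).2).1, fun i => (h4.1 (b i).2).2,
    fun i => (hb i i).trans (if_pos rfl), fun {i j} h => (hb i j).trans (if_neg h), fun v h h' => ?_⟩
  have := congrArg Subtype.val (b.sum_repr ⟨v, h4.2 ⟨h, h'⟩⟩)
  exact (Submodule.mem_span_range_iff_exists_fun K).2 ⟨_, by simpa only [Submodule.coe_sum, Submodule.coe_smul] using this⟩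

namespace Fr

variable (F : S.Fr q π e f w)
include F

omit [FiniteDimensional K V] in
theorem perp (hv : v ∈ Submodule.span K (Set.range w)) : S.B e v = 0 ∧ S.B f v = 0 :=
  span_ind (P := fun v => S.B e v = 0 ∧ S.B f v = 0) (by simp) (by simp [F.ew, F.fw]) (fun _ _ _ _ h h' => by simp [h, h']) hv

omit [FiniteDimensional K V] in
theorem exists_lift (hv : S.B e v = 0) : ∃ x, S.EQ e v (π x) := by
  obtain ⟨x, hx⟩ := F.toUn.exists_EQ F.he hv
  obtain ⟨x, rfl⟩ := F.surj x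
  exact ⟨x, hx⟩

omit [FiniteDimensional K V] in
theorem act_mem {g : G} {a : K} (h1 : S.ρ g e = a • e) (h2 : S.Sc g f f) (hu : u ∈ Submodule.span K (Set.range w)) :
    σ a • S.ρ g u ∈ Submodule.span K (Set.range w) := by
  obtain ⟨b, -, h2⟩ := h2.inv
  obtain ⟨x, hx⟩ := F.exists_lift (F.perp hu).1
  refine F.span _ (hx.act h1).1 ?_
  rw [map_smul, ← S.symm, B_left, h2]; simp [S.flip (F.perp hu).2]

omit [FiniteDimensional K V] in
theorem eq_zero {x : G} (hx : S.EQ e u x) (hx' : S.EQ e 0 x) (hu : u ∈ Submodule.span K (Set.range w)) : u = 0 := by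
  obtain ⟨-, c, -, h1⟩ := hx
  obtain ⟨-, d, -, h2⟩ := hx'
  have h3 := (h1 f).symm.trans (h2 f)
  have h4 := congrArg (S.B f) h3
  simp [F.ef, F.herm.flip_one F.ef, F.perp hu, S.flip (F.perp hu).2] at h3 h4
  simpa [h4] using h3

omit [FiniteDimensional K V] in
theorem mem_R {x : G} : x ∈ S.Qg e F.he ⊥ ↔ S.EQ e 0 x :=
  ⟨fun ⟨_, h, h'⟩ => (Submodule.mem_bot K).1 h ▸ h', fun h => ⟨0, rfl, h⟩⟩

theorem exists_D1 (i : I) {a : K} (ha : a ≠ 0) : ∃ g, S.ρ g e = a • e ∧ S.ρ g f = (σ a)⁻¹ • f ∧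
    S.ρ g (w i) = (σ a / a) • w i ∧ ∀ j, j ≠ i → S.ρ g (w j) = w j := by
  have := (map_ne_zero σ).2 ha
  obtain ⟨g, h1, h2, h3, -, h4⟩ := F.toUn.exists_D F.he F.hf F.ef (S.flip (F.ew i)) (S.flip (F.fw i)) (by simp [F.ww])
    (S.flip (F.ew i)) (S.flip (F.fw i)) (by simp [F.ww]) ha (b := σ a / a) (c := 1) (by simp [S.σσ, ha, this]) (by simp)
    (by field_simp) (.inr rfl)
  exact ⟨g, h1, h2, h3, fun j h => h4 _ (F.ew j) (F.fw j) (F.ww' h.symm) (.inr rfl)⟩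

omit [FiniteDimensional K V] in
theorem ei_comm {x y : G} (hx : S.EQ e u x) (hy : S.EQ e v y) : S.Ei e 0 (S.B u v - S.B v u) ⁅x, y⁆ := by
  obtain ⟨h1, c, -, h2⟩ := hx
  obtain ⟨h3, d, -, h4⟩ := hy
  have h5 := S.self_of_adm F.he
  have := ((h2.mul h4 h5 h1 h3).mul (h2.inv h5 h1) h5 (by simp [h1, h3]) (by simp [h1])).mul (h4.inv h5 h3) h5
    (by simp [h3]) (by simp [h3])
  rw [commutatorElement_def]
  convert this using 1
  · simp
  · simp; ring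

omit [FiniteDimensional K V] in
theorem exists_comm (i : I) {r : G} (hr : S.EQ e 0 r) : ∃ t : K, ∀ x y, S.EQ e (w i) x → S.EQ e (t • w i) y → r = ⁅x, y⁆ := by
  obtain ⟨-, c, h1, h2⟩ := hr
  obtain ⟨t, rfl⟩ := F.herm.bar.exists_sub_bar_eq (c := c) (eq_neg_of_add_eq_zero_right (by simpa using F.adm_iff.1 h1))
  exact ⟨t, fun x y hx hy => h2.unique (by simpa [LinearMap.map_smulₛₗ, F.ww] using F.ei_comm hx hy)⟩

omit [FiniteDimensional K V] in
/-- The centre of the unipotent radical lifts to a central subgroup. -/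
theorem commute_R (i₀ : I) (h : ∀ i, ∃ (d : G) (a s : K), a * σ a = 1 ∧ s ≠ 1 ∧ S.ρ d e = a • e ∧ σ a • S.ρ d (w i) = s • w i)
    (hv : v ∈ Submodule.span K (Set.range w)) (hx : S.EQ e v (π x)) (hy : S.EQ e 0 (π y)) : Commute x y := by
  let M := (Subgroup.centralizer {y}).map π
  have h1 : ∀ a b, Commute a (π y) → Commute b (π y) → ⁅a, b⁆ ∈ M := fun a b ha hb => by
    obtain ⟨a, rfl⟩ := F.surj a
    obtain ⟨b, rfl⟩ := F.surj b
    exact ⟨_, Subgroup.mem_centralizer_singleton_iff.2 (commute_commutator F.cent ha.symm hb.symm).symm,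
      map_commutatorElement π a b⟩
  have h2 : ∀ {v a}, S.EQ e v a → Commute a (π y) := fun h =>
    hy.commute (h.fix (S.self_of_adm F.he) (S.flip h.1)) (map_zero _)
  have h3 : ∀ r, S.EQ e 0 r → r ∈ M := fun r hr => by
    obtain ⟨t, ht⟩ := F.exists_comm i₀ hr
    obtain ⟨a, ha⟩ := F.exists_lift (F.ew i₀)
    obtain ⟨b, hb⟩ := F.exists_lift (v := t • w i₀) (by simp [F.ew])
    exact ht _ _ ha hb ▸ h1 _ _ (h2 ha) (h2 hb)
  have h4 : ∀ {v a b}, S.EQ e v a → S.EQ e v b → a ∈ M → b ∈ M := fun {_ a b} ha hb h =>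
    mul_inv_cancel_left a b ▸ mul_mem h (h3 _ (by simpa using (ha.inv F.he).mul hb F.he))
  obtain ⟨x', h5, h6⟩ : π x ∈ M := span_ind (P := fun v => ∀ a, S.EQ e v a → a ∈ M) h3 (fun i t a ha => by
    obtain ⟨d, b, s, h5, h6, h7, h8⟩ := h i
    obtain ⟨c, hc⟩ := F.exists_lift (v := ((s - 1)⁻¹ * t) • w i) (by simp [F.ew])
    have h9 := (hc.act h7).mul (hc.inv F.he) F.he
    rw [map_smul, smul_comm, h8, smul_smul, ← neg_smul, ← add_smul,
      show (s - 1)⁻¹ * t * s + -((s - 1)⁻¹ * t) = t by field_simp [sub_ne_zero.2 h6]; ring] at h9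
    obtain ⟨-, r, -, h10⟩ := hy
    have := h10.act h7
    rw [h5, map_zero, smul_zero, mul_one] at this
    exact h4 h9 ha (h1 _ _ (mul_inv_eq_iff_eq_mul.1 (this.unique h10)) (h2 hc))) (fun u hu v hv h5 h6 a ha => by
    obtain ⟨b, hb⟩ := F.exists_lift (F.perp hu).1
    obtain ⟨c, hc⟩ := F.exists_lift (F.perp hv).1
    exact h4 (hb.mul hc F.he) ha (mul_mem (h5 _ hb) (h6 _ hc))) hv _ hx
  exact (commute_of_map_eq F.cent h6 (Subgroup.mem_centralizer_singleton_iff.1 h5).symm).symm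

variable (hR : ∀ {v x y}, v ∈ Submodule.span K (Set.range w) → S.EQ e v (π x) → S.EQ e 0 (π y) → Commute x y)
  (hu : u ∈ Submodule.span K (Set.range w)) (hv : v ∈ Submodule.span K (Set.range w))
include hR

section

omit [FiniteDimensional K V]

include hu hv

theorem δ_eq (hx : S.EQ e u (π x)) (hy : S.EQ e v (π y)) : ⁅x, y⁆ = S.δ π e u v := by
  have key : ∀ {u v x x' y}, u ∈ Submodule.span K (Set.range w) → v ∈ Submodule.span K (Set.range w) → S.EQ e u (π x) →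
      S.EQ e u (π x') → S.EQ e v (π y) → ⁅x, y⁆ = ⁅x', y⁆ := fun {u v x x' y} hu hv hx hx' hy => by
    have h1 : S.EQ e 0 (π (x'⁻¹ * x)) := by simpa using (hx'.inv F.he).mul hx F.he
    rw [← mul_inv_cancel_left x' x, comm_mul_left, (hR hv hy h1).symm.commutator_eq, one_mul]
    rw [(hR hv hy h1).symm.commutator_eq]; exact Commute.one_right _
  have h1 : ∃ x, S.EQ e u (π x) := ⟨x, hx⟩
  have h2 : ∃ x, S.EQ e v (π x) := ⟨y, hy⟩
  rw [δ, dif_pos h1, dif_pos h2, key hu hv hx h1.choose_spec hy, ← commutatorElement_inv, key hv hu hy h2.choose_spec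
    h1.choose_spec, commutatorElement_inv]

theorem ei_δ : S.Ei e 0 (S.B u v - S.B v u) (π (S.δ π e u v)) := by
  obtain ⟨x, hx⟩ := F.exists_lift (F.perp hu).1
  obtain ⟨y, hy⟩ := F.exists_lift (F.perp hv).1
  rw [← F.δ_eq hR hu hv hx hy, map_commutatorElement]; exact F.ei_comm hx hy

theorem eq_δ : S.EQ e 0 (π (S.δ π e u v)) :=
  ⟨map_zero _, _, F.adm_iff.2 (by simp [S.symm]), F.ei_δ hR hu hv⟩

theorem δ_add_left (hu' : u' ∈ Submodule.span K (Set.range w)) : S.δ π e (u + u') v = S.δ π e u v * S.δ π e u' v := by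
  obtain ⟨x, hx⟩ := F.exists_lift (F.perp hu).1
  obtain ⟨x', hx'⟩ := F.exists_lift (F.perp hu').1
  obtain ⟨y, hy⟩ := F.exists_lift (F.perp hv).1
  rw [add_comm, ← F.δ_eq hR (add_mem hu' hu) hv (x := _ * _) (map_mul π _ _ ▸ hx'.mul hx F.he) hy, comm_mul_left,
    F.δ_eq hR hu hv hx hy, F.δ_eq hR hu' hv hx' hy]
  rw [F.δ_eq hR hu hv hx hy]; exact hR hu' hx' (F.eq_δ hR hu hv)

omit F hR hu hv in
theorem δ_inv : S.δ π e v u = (S.δ π e u v)⁻¹ := by rw [δ, δ, commutatorElement_inv]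

theorem δ_add_right (hv' : v' ∈ Submodule.span K (Set.range w)) : S.δ π e u (v + v') = S.δ π e u v * S.δ π e u v' := by
  rw [add_comm, δ_inv, F.δ_add_left hR hv' hu hv, mul_inv_rev, ← δ_inv, ← δ_inv]

theorem δ_conj {g : E} {a : K} (h1 : S.ρ (π g) e = a • e) (h2 : S.Sc (π g) f f) :
    g * S.δ π e u v * g⁻¹ = S.δ π e (σ a • S.ρ (π g) u) (σ a • S.ρ (π g) v) := by
  obtain ⟨x, hx⟩ := F.exists_lift (F.perp hu).1
  obtain ⟨y, hy⟩ := F.exists_lift (F.perp hv).1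
  rw [← F.δ_eq hR hu hv hx hy, conjugate_commutatorElement]
  exact F.δ_eq hR (F.act_mem h1 h2 hu) (F.act_mem h1 h2 hv) (by simpa using hx.act h1) (by simpa using hy.act h1)

theorem δ_cross (h0 : S.B u v = 0) {d : G} {a s : K} (h1 : S.ρ d e = a • e) (h2 : S.Sc d f f) (h3 : σ a • S.ρ d u = u)
    (h4 : σ a • S.ρ d v = s • v) (hs : s ≠ 1) : S.δ π e u v = 1 := by
  obtain ⟨d, rfl⟩ := F.surj d
  have h5 := Submodule.smul_mem _ (s - 1)⁻¹ hv
  have h6 := F.δ_conj hR hu h5 h1 h2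
  have h7 := F.ei_δ hR hu h5
  simp only [map_smul, h0, S.flip h0, LinearMap.map_smulₛₗ, LinearMap.smul_apply, smul_zero, sub_zero] at h7
  rw [comm_of_ker F.cent (h7.unique (ei_one e)), mul_inv_cancel_right, h3, map_smul, smul_comm, h4, smul_smul,
    show (s - 1)⁻¹ * s = (s - 1)⁻¹ + 1 by field_simp [sub_ne_zero.2 hs]; ring, add_smul, one_smul, F.δ_add_right hR hu h5 hv] at h6
  exact left_eq_mul.1 h6

end

omit [FiniteDimensional K V] in
theorem δ_mem {M : Subgroup E} (h : ∀ i j (s t : K), S.δ π e (s • w i) (t • w j) ∈ M)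
    (hu : u ∈ Submodule.span K (Set.range w)) (hv : v ∈ Submodule.span K (Set.range w)) : S.δ π e u v ∈ M := by
  have h0 : ∀ u ∈ Submodule.span K (Set.range w), S.δ π e u 0 = 1 := fun u hu =>
    by simpa using F.δ_add_right hR hu (zero_mem _) (zero_mem _)
  refine span_ind (P := fun u => S.δ π e u v ∈ M) (by rw [δ_inv, h0 v hv]; simp) (fun i s => ?_)
    (fun _ h1 _ h2 h3 h4 => F.δ_add_left hR h1 hv h2 ▸ mul_mem h3 h4) hu
  have h1 := Submodule.smul_mem _ s (Submodule.subset_span (R := K) (Set.mem_range_self (f := w) i))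
  exact span_ind (P := fun v => S.δ π e (s • w i) v ∈ M) (h0 _ h1 ▸ one_mem _) (h i · s)
    (fun _ h2 _ h3 h4 h5 => F.δ_add_right hR h1 h2 h3 ▸ mul_mem h4 h5) hv

theorem δ_cross3 (hu : u ∈ Submodule.span K (Set.range w)) (hv : v ∈ Submodule.span K (Set.range w))
    (hv' : v' ∈ Submodule.span K (Set.range w)) (h1 : S.B u v = 0) (h2 : S.B v' u = 0) (h3 : S.B v v' = 0) (h4 : S.B v v ≠ 0)
    (h5 : S.B v' v' ≠ 0) {a : K} (ha : a * σ a = 1) (ha' : a ≠ 1) (s t : K) : S.δ π e (s • u) (t • v) = 1 := by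
  obtain ⟨d, a1, a2, a3, -, a4⟩ := F.toUn.exists_D F.he F.hf F.ef (S.flip (F.perp hv).1) (S.flip (F.perp hv).2) h4
    (S.flip (F.perp hv').1) (S.flip (F.perp hv').2) h5 one_ne_zero ha (c := σ a) (by rw [S.σσ, mul_comm, ha]) (by simp [ha])
    (.inl h3)
  exact F.δ_cross hR (Submodule.smul_mem _ _ hu) (Submodule.smul_mem _ _ hv) (by simp [LinearMap.map_smulₛₗ, h1]) a1
    (sc_of_eq (by simpa using a2)) (by simp [a4 u (F.perp hu).1 (F.perp hu).2 (S.flip h1) (.inl h2)])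
    (by simp [a3, smul_comm t]) ha'

theorem δ_cross2 {i j : I} (h : i ≠ j) {a : K} (ha : a * σ a = 1) (ha' : a ^ 4 ≠ 1) (s t : K) :
    S.δ π e (s • w i) (t • w j) = 1 := by
  have h0 := left_ne_zero_of_mul_eq_one ha
  obtain ⟨d, a1, a2, a3, a4, -⟩ := F.toUn.exists_D F.he F.hf F.ef (S.flip (F.ew i)) (S.flip (F.fw i)) (by simp [F.ww])
    (S.flip (F.ew j)) (S.flip (F.fw j)) (by simp [F.ww]) h0 ha (c := σ a ^ 3) (by rw [map_pow, S.σσ, ← mul_pow, mul_comm, ha]; simp)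
    (by linear_combination (σ a + a * σ a ^ 2) * ha) (.inl (F.ww' h))
  have h1 := fun i t => Submodule.smul_mem _ t (Submodule.subset_span (R := K) (Set.mem_range_self (f := w) i))
  refine F.δ_cross hR (h1 i s) (h1 j t) (by simp [LinearMap.map_smulₛₗ, F.ww' h]) a1 ⟨_, by simpa, a2⟩ ?_ (s := σ a ^ 4) ?_
    fun e => ha' (by simpa [S.σσ] using congrArg σ e)
  · rw [map_smul, a3, smul_comm, smul_smul (σ a), mul_comm, ha, one_smul]
  · rw [map_smul, a4 (F.ww' h), smul_smul, smul_smul, smul_smul]; congr 1; ring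

theorem exists_R3 [Finite G] (i₀ : I) (h1 : ∀ i j, i ≠ j → ∀ s t : K, S.δ π e (s • w i) (t • w j) = 1) {l a b c : K}
    (hl : l ≠ 0) (hl' : l * σ l ≠ 1) (hb : b ≠ 0) (hc : c ≠ 0) (h2 : σ b * (σ b / b) = a) (h3 : σ c * (σ c / c) = 1 - a)
    (h4 : a ^ 2 - a + 1 ≠ 0) : ∃ M : Subgroup E, (∀ y ∈ M, π y = 1 → y = 1) ∧ ∀ i j (s t : K), S.δ π e (s • w i) (t • w j) ∈ M := by
  have hr : ∀ X : Subgroup G, X ≤ π.range := fun X x _ => F.surj x
  let H := S.St e ⊓ S.St f ⊓ ⨅ i, S.St (w i)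
  have hH : ∀ i a, a ≠ 0 → ∃ g ∈ H, S.ρ g e = a • e ∧ S.ρ g (w i) = (σ a / a) • w i := fun i a ha => by
    obtain ⟨g, a1, a2, a3, a4⟩ := F.exists_D1 i ha
    refine ⟨g, ⟨⟨⟨a, ha, a1⟩, _, by simpa, a2⟩, Subgroup.mem_iInf.2 fun j => ?_⟩, a1, a3⟩
    by_cases e : j = i
    exacts [⟨_, by simpa, e ▸ a3⟩, sc_of_eq (a4 j e)]
  have hH' : ∀ g ∈ H, ∀ g' ∈ H, Commute g g' := fun g hg g' hg' => S.inj (LinearEquiv.ext fun x => by
    have key : ∀ {u}, g ∈ S.St u → g' ∈ S.St u → ∀ t : K, S.ρ (g * g') (t • u) = S.ρ (g' * g) (t • u) := by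
      rintro u ⟨c, -, h⟩ ⟨d, -, h'⟩ t
      simp [h, h', smul_comm c]
    have := span_ind (P := fun x => S.ρ (g * g') x = S.ρ (g' * g) x) (by simp)
      (fun i => key (Subgroup.mem_iInf.1 hg.2 i) (Subgroup.mem_iInf.1 hg'.2 i)) (fun _ _ _ _ h h' => by rw [map_add, map_add, h, h'])
      (F.span (x - S.B f x • e - S.B e x • f) (by simp [S.self_of_adm F.he, F.ef])
        (by simp [S.self_of_adm F.hf, F.herm.flip_one F.ef]))
    simpa only [map_sub, key hg.1.1 hg'.1.1, key hg.1.2 hg'.1.2, sub_left_inj] using this)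
  obtain ⟨h, hh, a1, -⟩ := hH i₀ l hl
  obtain ⟨M, b1, b2, -⟩ := exists_kAt (H := H) F.cent kAt_bot bot_le (hr (S.Qg e F.he ⊥)) (hr _)
    (ok_bot_iff.2 fun x y hx hy => hR (zero_mem _) (F.mem_R.1 hx) (F.mem_R.1 hy)) nrm_bot nrm_bot
    (fun g hg x hx => by obtain ⟨_, -, h⟩ := hg.1.1; exact F.mem_R.2 (by simpa using (F.mem_R.1 hx).act h)) hh (fun g hg => hH' g hg h hh)
    fun x hx e => by
      obtain ⟨-, c, -, h5⟩ := F.mem_R.1 hx
      have h6 := h5.act a1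
      rw [e] at h6
      have h7 := congrArg (S.B f) ((h5 f).symm.trans (h6 f))
      simp [F.ef, F.herm.flip_one F.ef] at h7
      obtain rfl : c = 0 := by_contra fun h => hl' (mul_left_cancel₀ h (h7.symm.trans (mul_one c).symm))
      exact h5.unique (ei_one _)
  refine ⟨M, b1.inj, fun i j s t => ?_⟩
  by_cases e' : i ≠ j
  · rw [h1 i j e']; exact one_mem _
  obtain rfl := not_not.1 e'
  have h5 := (Submodule.span_singleton_le_iff_mem _ _).2 (Submodule.subset_span (R := K) (Set.mem_range_self (f := w) i))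
  have h6 : Nrm π (S.Qg e F.he (K ∙ w i)) M := fun g ⟨v, hv, hg⟩ x hx => by
    rwa [(hR (h5 hv) hg (F.mem_R.1 (b1.map_mem x hx))).eq, mul_inv_cancel_right]
  obtain ⟨β, hβ, h7⟩ := exists_bi F.cent b1 (hr _) (hr _) (hr H) h6 h6 b2 fun x ⟨u, hu, hx⟩ y ⟨v, hv, hy⟩ =>
    F.mem_R.2 ⟨map_zero _, _, F.adm_iff.2 (by simp [S.symm]), F.ei_comm hx hy⟩
  choose x hx using fun t : K => F.exists_lift (v := t • w i) (by simp [F.ew])
  have hx' : ∀ {t g}, S.EQ e (t • w i) g → g ∈ S.Qg e F.he (K ∙ w i) := fun h => ⟨_, Submodule.mem_span_singleton.2 ⟨_, rfl⟩, h⟩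
  have h8 : ∀ {s g}, S.EQ e (s • w i) g → ∀ y ∈ S.Qg e F.he (K ∙ w i), β g y = β (π (x s)) y ∧ β y g = β y (π (x s)) :=
    fun {s g} hg y hy => by
      have c1 : S.EQ e 0 ((π (x s))⁻¹ * g) := by simpa using ((hx s).inv F.he).mul hg F.he
      have c2 := hx' (zero_smul K (w i) ▸ c1)
      obtain ⟨r, hr⟩ := F.surj ((π (x s))⁻¹ * g)
      obtain ⟨y, rfl⟩ := F.surj y
      obtain ⟨v, hv, hy'⟩ := id hy
      have c3 := hR (h5 hv) hy' (hr ▸ c1)
      rw [← mul_inv_cancel_left (π (x s)) g, hβ.mul_left _ (hx' (hx s)) _ c2 _ hy, hβ.mul_right _ hy _ (hx' (hx s)) _ c2, ← hr,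
        (h7 r y (hr ▸ c2) hy).1 (c3.symm.commutator_eq ▸ one_mem _), (h7 y r hy (hr ▸ c2)).1 (c3.commutator_eq ▸ one_mem _)]
      simp
  have h9 : ∀ b ≠ 0, ∀ s t, β (π (x (σ b * (σ b / b) * s))) (π (x (σ b * (σ b / b) * t))) = β (π (x s)) (π (x t)) :=
    fun b hb s t => by
      obtain ⟨g, hg, c1, c2⟩ := hH i b hb
      have c3 : ∀ s, S.EQ e ((σ b * (σ b / b) * s) • w i) (g * π (x s) * g⁻¹) := fun s => by
        have := (hx s).act c1
        rwa [map_smul, c2, smul_comm s, smul_smul, smul_smul] at this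
      rw [← hβ.conj g hg _ (hx' (hx s)) _ (hx' (hx t)), (h8 (c3 s) _ (hx' (c3 t))).1, (h8 (c3 t) _ (hx' (hx _))).2]
  rw [← F.δ_eq hR (h5 (Submodule.mem_span_singleton.2 ⟨_, rfl⟩)) (h5 (Submodule.mem_span_singleton.2 ⟨_, rfl⟩)) (hx s) (hx t),
    h7 _ _ (hx' (hx s)) (hx' (hx t))]
  refine two_trick (b := fun s t => β (π (x s)) (π (x t))) (fun s s' t => ?_) (fun s t t' => ?_) (h2 ▸ by simpa)
    (h3 ▸ by simpa) h4 (h2 ▸ h9 b hb) (h3 ▸ h9 c hc) s t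
  · rw [← hβ.mul_left _ (hx' (hx s)) _ (hx' (hx s')) _ (hx' (hx t))]
    exact (h8 (add_smul s s' (w i) ▸ (hx s).mul (hx s') F.he) _ (hx' (hx t))).1.symm
  · rw [← hβ.mul_right _ (hx' (hx s)) _ (hx' (hx t)) _ (hx' (hx t'))]
    exact (h8 (add_smul t t' (w i) ▸ (hx t).mul (hx t') F.he) _ (hx' (hx s))).2.symm

theorem exists_R2 (i₀ : I) (h3 : ∀ i j, ∃ l : I, l ≠ i ∧ l ≠ j) {a : K} (ha : σ a = a + 1) (h2 : (2 : K) = 0)
    (hK : ∀ t : K, t = 0 ∨ t = 1 ∨ t = a ∨ t = a + 1) :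
    ∃ M : Subgroup E, (∀ y ∈ M, π y = 1 → y = 1) ∧ ∀ i j (s t : K), S.δ π e (s • w i) (t • w j) ∈ M := by
  have a0 : a ≠ 0 := by rintro rfl; simp at ha
  have a1 : a ≠ 1 := by rintro rfl; simp at ha
  have a2 : a * σ a = 1 := by
    rcases hK (a * σ a) with h | h | h | h
    · simp [a0] at h
    · exact h
    · simp [ha, a0] at h
    · rw [← ha] at h; simp [a0, a1] at h
  have a3 : a * a = a + 1 := by rw [ha] at a2; linear_combination a2 - a * h2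
  have m := fun i => Submodule.subset_span (R := K) (Set.mem_range_self (f := w) i)
  have m' := fun i (t : K) => Submodule.smul_mem _ t (m i)
  have h4 : ∀ i j, i ≠ j → ∀ s t : K, S.δ π e (s • w i) (t • w j) = 1 := fun i j h => by
    obtain ⟨l, h4, h5⟩ := h3 i j
    exact F.δ_cross3 hR (m i) (m j) (m l) (F.ww' h) (F.ww' h4) (F.ww' h5.symm) (by simp [F.ww]) (by simp [F.ww]) a2 a1
  have h0 : ∀ u, S.δ π e u u = 1 := fun u => commutatorElement_self _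
  have h5 : ∀ i, S.δ π e (w i) ((a + 1) • w i) = S.δ π e (w i) (a • w i) := fun i => by
    rw [add_smul, one_smul, F.δ_add_right hR (m i) (m' i a) (m i), h0, mul_one]
  have h6 : ∀ i, S.δ π e (w i) (a • w i) ∈ Subgroup.zpowers (S.δ π e (w i₀) (a • w i₀)) := fun i => by
    by_cases e' : i = i₀
    · exact e' ▸ Subgroup.mem_zpowers _
    obtain ⟨l, h6, h7⟩ := h3 i i₀
    have b1 := F.ww' h6
    have b2 := F.ww' h7
    have b3 := F.ww' e'
    have := F.δ_cross3 hR (u := w l + w i + w i₀) (v := w l + a • w i + (a + 1) • w i₀) (v' := w l + (a + 1) • w i + a • w i₀)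
      (add_mem (add_mem (m _) (m _)) (m _)) (add_mem (add_mem (m _) (m' _ _)) (m' _ _)) (add_mem (add_mem (m _) (m' _ _)) (m' _ _))
      ?_ ?_ ?_ ?_ ?_ a2 a1 1 1
    rotate_left
    iterate 5 simp only [map_add, LinearMap.add_apply, LinearMap.map_smulₛₗ, LinearMap.smul_apply, RingHom.id_apply, F.ww,
      b1, b2, b3, S.flip b1, S.flip b2, S.flip b3, smul_eq_mul, ha, map_one]; grind
    have c := fun i j h t => one_smul K (w i) ▸ h4 i j h 1 t
    have c' := fun i j h => one_smul K (w j) ▸ c i j h 1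
    have d := fun u hu => F.δ_add_right hR (u := u) hu (add_mem (m l) (m' i a)) (m' i₀ (a + 1))
    have d' := fun u hu => F.δ_add_right hR (u := u) hu (m l) (m' i a)
    have hv := add_mem (add_mem (m l) (m' i a)) (m' i₀ (a + 1))
    rw [one_smul, one_smul, F.δ_add_left hR (add_mem (m l) (m i)) hv (m i₀), F.δ_add_left hR (m l) hv (m i), d _ (m _), d _ (m _),
      d _ (m _), d' _ (m _), d' _ (m _), d' _ (m _), h0, c _ _ h6, c _ _ h7, c' _ _ h6.symm, c' _ _ h7.symm, c _ _ e',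
      c _ _ (Ne.symm e'), h5] at this
    simp only [one_mul, mul_one] at this
    exact eq_inv_of_mul_eq_one_left this ▸ inv_mem (Subgroup.mem_zpowers _)
  have h7 : S.δ π e (w i₀) (a • w i₀) * S.δ π e (w i₀) (a • w i₀) = 1 := by
    rw [← F.δ_add_right hR (m _) (m' _ _) (m' _ _), ← two_smul K, h2, zero_smul]
    simpa using F.δ_add_right hR (m i₀) (zero_mem _) (zero_mem _)
  refine ⟨Subgroup.zpowers (S.δ π e (w i₀) (a • w i₀)), fun y hy e' => ?_, fun i j s t => ?_⟩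
  · obtain ⟨k, rfl⟩ := hy
    rcases k.even_or_odd' with ⟨k, rfl | rfl⟩
    · simp [zpow_mul, zpow_ofNat, sq, h7]
    have := congrArg (S.B f) (F.ei_δ hR (m i₀) (m' i₀ a) f)
    simp only [zpow_add, zpow_mul, zpow_ofNat, sq, h7, one_zpow, one_mul, pow_one] at e'
    simp [e', LinearMap.map_smulₛₗ, F.ww, ha, F.ef, F.herm.flip_one F.ef] at this
  by_cases e' : i ≠ j
  · rw [h4 i j e']; exact one_mem _
  obtain rfl := not_not.1 e'
  have key : ∀ P : K → Prop, P 1 → P a → (∀ s t, P s → P t → P (s + t)) → ∀ t, P t := fun P b1 b2 b3 t => by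
    rcases hK t with rfl | rfl | rfl | rfl
    exacts [h2 ▸ one_add_one_eq_two (R := K) ▸ b3 _ _ b1 b1, b1, b2, b3 _ _ b2 b1]
  have add : ∀ (s t t' : K), _ → _ → S.δ π e (s • w i) ((t + t') • w i) ∈ Subgroup.zpowers (S.δ π e (w i₀) (a • w i₀)) :=
    fun s t t' h h' => by rw [add_smul, F.δ_add_right hR (m' _ _) (m' _ _) (m' _ _)]; exact mul_mem h h'
  refine key (fun s => S.δ π e (s • w i) (t • w i) ∈ _) (key (fun t => S.δ π e (1 • w i) (t • w i) ∈ _) (h0 _ ▸ one_mem _)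
    (by simpa using h6 i) (add 1) t) (key (fun t => S.δ π e (a • w i) (t • w i) ∈ _) (by rw [δ_inv (v := a • w i)]; simpa using h6 i)
    (h0 _ ▸ one_mem _) (add a) t) (fun s s' h h' => ?_) s
  rw [add_smul, F.δ_add_left hR (m' _ _) (m' _ _) (m' _ _)]; exact mul_mem h h'

omit [FiniteDimensional K V] in
/-- The splitting over the unipotent radical. -/
theorem exists_K [Finite V] (i₀ : I) {M : Subgroup E} (h1 : ∀ y ∈ M, π y = 1 → y = 1)
    (h2 : ∀ i j (s t : K), S.δ π e (s • w i) (t • w j) ∈ M) {J : Type*} (j₀ : J) {c : J → G} (h3 : ∀ i j, Commute (c i) (c j))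
    (h4 : ∀ j, ∃ a ≠ 0, S.ρ (c j) e = a • e ∧ S.Sc (c j) f f ∧ ∀ v, S.B e v = 0 → S.B f v = 0 → σ a • S.ρ (c j) v = v → v = 0) :
    ∃ L, KAt π L (S.Qg e F.he (Submodule.span K (Set.range w))) ∧
      ∀ j g, π g ∈ S.St e ⊓ S.St f → Commute (π g) (c j) → ∀ a ∈ L, g * a * g⁻¹ ∈ L := by
  set P := Submodule.span K (Set.range w)
  let N := Subgroup.closure {x | ∃ u ∈ P, ∃ v ∈ P, x = S.δ π e u v}
  have m : ∀ {u v}, u ∈ P → v ∈ P → S.δ π e u v ∈ N := fun hu hv => Subgroup.subset_closure ⟨_, hu, _, hv, rfl⟩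
  have m' := fun i (t : K) => P.smul_mem t (Submodule.subset_span (Set.mem_range_self i))
  have hN : KAt π N (S.Qg e F.he ⊥) := by
    refine ⟨fun _ h => (Subgroup.closure_le ((S.Qg e F.he ⊥).comap π)).2 ?_ h, fun r hr => ?_, fun y hy => h1 y ((Subgroup.closure_le M).2 ?_ hy)⟩
    · rintro _ ⟨u, hu, v, hv, rfl⟩; exact F.mem_R.2 (F.eq_δ hR hu hv)
    · obtain ⟨t, ht⟩ := F.exists_comm i₀ (F.mem_R.1 hr)
      obtain ⟨a, ha⟩ := F.exists_lift (F.ew i₀)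
      obtain ⟨b, hb⟩ := F.exists_lift (F.perp (m' i₀ t)).1
      have := one_smul K (w i₀) ▸ m' i₀ 1
      exact ⟨_, m this (m' i₀ t), by rw [← F.δ_eq hR this (m' i₀ t) ha hb, ht _ _ ha hb, map_commutatorElement]⟩
    · rintro _ ⟨u, hu, v, hv, rfl⟩; exact F.δ_mem hR h2 hu hv
  have key : ∀ j, ∀ x ∈ S.Qg e F.he P, ∃ d ∈ S.Qg e F.he ⊥, ∃ y ∈ S.Qg e F.he P, x = d * ⁅c j, y⁆ := fun j x ⟨v, hv, hx⟩ => by
    obtain ⟨a, -, a1, a2, a3⟩ := h4 j
    obtain ⟨⟨u, hu⟩, e'⟩ := Finite.injective_iff_surjective (f := fun u : P =>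
      (⟨σ a • S.ρ (c j) u + -u, add_mem (F.act_mem a1 a2 u.2) (neg_mem u.2)⟩ : P)).1 (fun u u' e' => Subtype.ext (sub_eq_zero.1
        (a3 _ (F.perp (sub_mem u.2 u'.2)).1 (F.perp (sub_mem u.2 u'.2)).2 (by
          rw [map_sub, smul_sub]; linear_combination (norm := module) congrArg Subtype.val e')))) ⟨v, hv⟩
    obtain ⟨y, hy⟩ := F.toUn.exists_EQ F.he (F.perp hu).1
    have := hx.mul (((hy.act a1).mul (hy.inv F.he) F.he).inv F.he) F.he
    rw [show σ a • S.ρ (c j) u + -u = v from congrArg Subtype.val e', add_neg_cancel] at this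
    exact ⟨_, F.mem_R.2 this, y, ⟨u, hu, hy⟩, (inv_mul_cancel_right _ _).symm⟩
  have hc : ∀ i j, c i ∈ S.St e ⊓ S.St f ⊓ Subgroup.centralizer {c j} := fun i j =>
    let ⟨a, a0, a1, a2, _⟩ := h4 i
    ⟨⟨⟨a, a0, a1⟩, a2⟩, Subgroup.mem_centralizer_singleton_iff.2 (h3 i j)⟩
  choose L b1 b2 b3 using fun j => exists_kAt' (H := S.St e ⊓ S.St f ⊓ Subgroup.centralizer {c j}) F.cent F.surj hN
    (Qg_mono _ bot_le) (fun x y ⟨u, hu, hx⟩ ⟨v, hv, hy⟩ => F.δ_eq hR hu hv hx hy ▸ m hu hv)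
    (fun g ⟨v, hv, hg⟩ x hx => by rwa [(hR hv hg (F.mem_R.1 (hN.map_mem x hx))).eq, mul_inv_cancel_right])
    (fun g ⟨⟨⟨a, _, a1⟩, a2⟩, _⟩ _ => conj_mem_closure (by
      rintro _ ⟨u, hu, v, hv, rfl⟩
      exact F.δ_conj hR hu hv a1 a2 ▸ m (F.act_mem a1 a2 hu) (F.act_mem a1 a2 hv)))
    (fun g ⟨⟨⟨a, _, a1⟩, a2⟩, _⟩ x ⟨v, hv, hx⟩ => ⟨_, F.act_mem a1 a2 hv, hx.act a1⟩) (hc j j)
    (fun g hg => Subgroup.mem_centralizer_singleton_iff.1 hg.2) (fun x ⟨v, hv, hx⟩ h => by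
      obtain ⟨a, -, a1, a2, a3⟩ := h4 j
      have := F.eq_zero ((hx.act a1).mul (hx.inv F.he) F.he) (F.mem_R.1 h) (add_mem (F.act_mem a1 a2 hv) (neg_mem hv))
      exact F.mem_R.2 (a3 v (F.perp hv).1 (F.perp hv).2 (add_neg_eq_zero.1 this) ▸ hx)) (key j)
  have h5 : ∀ i j, L i ≤ L j := fun i j => by
    obtain ⟨h, e'⟩ := F.surj (c j)
    exact kAt_le F.cent hN (b1 i) (b1 j) (b3 i) (b3 j) (b2 i h (e' ▸ hc j i)) (b2 j h (e' ▸ hc j j))
      (e' ▸ key j)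
  exact ⟨L j₀, b1 j₀, fun j g h h' a ha => h5 _ _ (b2 j g ⟨h, Subgroup.mem_centralizer_singleton_iff.2 h'⟩ a (h5 _ _ ha))⟩

omit hR in
theorem exists_K' [Finite G] [Finite V] (i₀ : I) (hI : (∀ i j, ∃ l : I, l ≠ i ∧ l ≠ j) ∨ 4 ≤ q ∨ 3 ≤ q ∧ Subsingleton I)
    {J : Type*} (j₀ : J) {c : J → G} (h3 : ∀ i j, Commute (c i) (c j))
    (h4 : ∀ j, ∃ a ≠ 0, S.ρ (c j) e = a • e ∧ S.Sc (c j) f f ∧ ∀ v, S.B e v = 0 → S.B f v = 0 → σ a • S.ρ (c j) v = v → v = 0) :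
    ∃ L, KAt π L (S.Qg e F.he (Submodule.span K (Set.range w))) ∧
      ∀ j g, π g ∈ S.St e ⊓ S.St f → Commute (π g) (c j) → ∀ a ∈ L, g * a * g⁻¹ ∈ L := by
  have hb := F.herm.bar
  have h2 := hb.two_le
  obtain ⟨a, ha, ha'⟩ := exists_norm_pow hb
  have a0 := left_ne_zero_of_mul_eq_one ha
  have a1 : a ≠ 1 := by simpa using ha' 1 one_ne_zero (by omega)
  have m := fun i => Submodule.subset_span (R := K) (Set.mem_range_self (f := w) i)
  have hR : ∀ {v x y}, v ∈ Submodule.span K (Set.range w) → S.EQ e v (π x) → S.EQ e 0 (π y) → Commute x y :=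
    F.commute_R i₀ fun i => by
      by_cases hq : 3 ≤ q
      · obtain ⟨g, b1, -, b2, -⟩ := F.exists_D1 i a0
        exact ⟨g, a, σ a * (σ a / a), ha, fun e => ha' 3 (by simp) hq (by field_simp at e; grind), b1, by rw [b2, smul_smul]⟩
      obtain ⟨j, hj, -⟩ := hI.resolve_right (by omega) i i
      obtain ⟨d, b1, -, b2, -⟩ := F.toUn.exists_D F.he F.hf F.ef (S.flip (F.ew i)) (S.flip (F.fw i)) (by simp [F.ww])
        (S.flip (F.ew j)) (S.flip (F.fw j)) (by simp [F.ww]) one_ne_zero ha (c := σ a) (by rw [S.σσ, mul_comm, ha])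
        (by simp [ha]) (.inl (F.ww' hj.symm))
      exact ⟨d, 1, a, by simp, a1, b1, by simp [b2]⟩
  obtain ⟨M, h5, h6⟩ : ∃ M : Subgroup E, (∀ y ∈ M, π y = 1 → y = 1) ∧ ∀ i j (s t : K), S.δ π e (s • w i) (t • w j) ∈ M := by
    by_cases hq : 3 ≤ q
    · obtain ⟨l, hl, hl'⟩ := hb.exists_norm_ne_one hq
      obtain ⟨a, b, c, b1, b2, b3, b4, b5⟩ := exists_par hb hq
      refine F.exists_R3 hR i₀ (fun i j h => ?_) hl hl' b1 b2 b3 b4 b5
      rcases hI with h' | h' | h'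
      · obtain ⟨l, h4, h5⟩ := h' i j
        exact F.δ_cross3 hR (m i) (m j) (m l) (F.ww' h) (F.ww' h4) (F.ww' h5.symm) (by simp [F.ww]) (by simp [F.ww]) ha a1
      · exact F.δ_cross2 hR h ha (ha' 4 (by simp) h')
      · exact absurd (h'.2.elim i j) h
    obtain rfl : q = 2 := by omega
    obtain ⟨b1, b, b2, b3⟩ := exists_two hb
    exact F.exists_R2 hR i₀ (hI.resolve_right (by omega)) b2 b1 b3
  exact F.exists_K hR i₀ h5 h6 j₀ h3 h4

end Fr

omit [FiniteDimensional K V] in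
theorem commute_of_Dg {g g' : G} (hg : g ∈ S.Dg S.m) (hg' : g' ∈ S.Dg S.m) {a : K} (h : ∀ x ∈ S.W S.m, S.ρ g x = a • x)
    (h' : ∀ x ∈ S.W S.m, S.ρ g' x = a • x) : Commute g g' := S.inj (LinearEquiv.ext fun x => by
  have key : ∀ {u}, S.Sc g u u → S.Sc g' u u → ∀ t : K, S.ρ (g * g') (t • u) = S.ρ (g' * g) (t • u) := by
    rintro u ⟨c, -, h⟩ ⟨d, -, h'⟩ t
    simp [h, h', smul_comm c]
  exact W_ind (P := fun x => S.ρ (g * g') x = S.ρ (g' * g) x) S.m.zero_le (fun x hx => by simp [h x hx, h' x hx])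
    (fun l _ hl t => ⟨key (mem_Dg.1 hg l hl).1 (mem_Dg.1 hg' l hl).1 t, key (mem_Dg.1 hg l hl).2 (mem_Dg.1 hg' l hl).2 t⟩)
    (fun _ _ _ _ h h' => by rw [map_add, map_add, h, h']) fun _ h => absurd h (Nat.not_lt_zero _))

theorem Un.exists_kAt_Q [Finite G] [Finite V] (U : S.Un q) (hs : Function.Surjective π) (hc : π.ker ≤ Subgroup.center E)
    {n : ℕ} (hn : Module.finrank K V = n) (h3 : 3 ≤ n) (h4 : 5 ≤ n ∨ 4 ≤ q ∨ 3 ≤ q ∧ n = 3) (h5 : q = 2 → 3 ∣ n → 4 ≤ S.m)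
    {k : ℕ} (hk : k < S.m) : ∃ L, KAt π L (S.Q k) ∧ Nrm π (S.U (k + 1)) L := by
  obtain ⟨w, F⟩ := U.exists_fr hs hc (S.adm_e k) (S.adm_f k) (S.ef hk)
  have hU : ∀ g ∈ S.U (k + 1), S.ρ g (S.e k) = S.e k ∧ S.ρ g (S.f k) = S.f k := fun g hg =>
    mem_Fix.1 (U_le_Fix _ hg) k k.lt_succ_self
  suffices ∃ L, KAt π L (S.Qg _ F.he (Submodule.span K (Set.range w))) ∧ Nrm π (S.U (k + 1)) L by
    obtain ⟨L, h1, h2⟩ := this
    refine ⟨L ⊓ (S.Q k).comap π, ⟨fun _ h => h.2, fun x hx => ?_, fun a ha => h1.inj a ha.1⟩, fun g hg a ha =>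
      ⟨h2 g hg a ha.1, by simpa using conj_Q (Fix_le_Dg _ (U_le_Fix _ hg)) ha.2⟩⟩
    obtain ⟨a, ha, rfl⟩ := h1.surj x (Qg_mono _ (fun v hv => F.span v (hv k k.lt_succ_self).1 (hv k k.lt_succ_self).2) hx)
    exact ⟨a, ⟨ha, hx⟩, rfl⟩
  have hI : (∀ i j, ∃ l : Fin (Module.finrank K V - 2), l ≠ i ∧ l ≠ j) ∨ 4 ≤ q ∨
      3 ≤ q ∧ Subsingleton (Fin (Module.finrank K V - 2)) := h4.imp (fun h i j => by
    by_cases h0 : i.1 ≠ 0 ∧ j.1 ≠ 0
    · exact ⟨⟨0, by omega⟩, by grind⟩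
    by_cases h1 : i.1 ≠ 1 ∧ j.1 ≠ 1
    · exact ⟨⟨1, by omega⟩, by grind⟩
    · exact ⟨⟨2, by omega⟩, by grind⟩) (Or.imp_right (And.imp_right fun h => Fin.subsingleton_iff_le_one.2 (by omega)))
  have hb := U.herm.bar
  obtain ⟨z, hz, hz'⟩ := exists_norm_pow hb
  have z0 := left_ne_zero_of_mul_eq_one hz
  by_cases h6 : q = 2 ∧ 3 ∣ n
  swap
  · obtain ⟨z, a, a1, a2, a3, a4⟩ : ∃ z a : K, z * σ z = 1 ∧ a ≠ 0 ∧ a ≠ 1 ∧ z ^ n * (a * (σ a)⁻¹) = 1 := by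
      by_cases hq : 3 ≤ q
      · obtain ⟨l, hl, hl'⟩ := hb.exists_norm_ne_one hq
        exact ⟨1, _, by simp, by simpa, hl', by rw [hb.norm_fixed, mul_inv_cancel₀ (by simpa), one_pow, one_mul]⟩
      obtain rfl : q = 2 := by have := hb.two_le; omega
      refine ⟨z, z ^ n, hz, pow_ne_zero _ z0, ?_, by rw [hb.apply]; field_simp⟩
      rw [hb.norm_eq_pow] at hz
      rw [pow_eq_pow_mod n hz]
      exact hz' _ (by omega) (by omega)
    obtain ⟨g₁, b1, b2, b3⟩ := U.herm.exists_scalar a1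
    obtain ⟨g₂, c1, c2, c3, c4, c5⟩ := U.herm.exists_diag (S.ee k k) (S.ff k k) (S.ef hk) a2
    obtain ⟨c, hc⟩ := U.sur (g₁ * g₂) (mem_SUG.2 ⟨mul_mem b1 c1, by rw [map_mul, b3, c5, hn, a4]⟩)
    have z0 := left_ne_zero_of_mul_eq_one a1
    obtain ⟨L, h1, h2⟩ := F.exists_K' ⟨0, by omega⟩ hI () (c := fun _ => c) (fun _ _ => .refl _) fun _ =>
      ⟨z * a, by simp [a2, z0], by simp [hc, b2, c2, smul_smul],
        ⟨z * (σ a)⁻¹, by simp [a2, z0], by simp [hc, b2, c3, smul_smul]⟩, fun v h h' e => by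
          rw [hc, LinearEquiv.mul_apply, c4 v h h', b2, smul_smul, map_mul, mul_right_comm, mul_comm (σ z), a1, one_mul,
            ← sub_eq_zero, ← one_smul K v, smul_smul, mul_one, ← sub_smul, smul_eq_zero, sub_eq_zero, map_eq_one_iff σ σ.injective] at e
          exact e.resolve_left a3⟩
    refine ⟨L, h1, fun g hg => h2 () g ⟨sc_of_eq (hU _ hg).1, sc_of_eq (hU _ hg).2⟩ (S.inj (LinearEquiv.toLinearMap_injective
      (U.herm.ext_hyperbolic (S.ee k k) (S.ff k k) (S.ef hk) (by simp [hc, b2, c2, hU _ hg]) (by simp [hc, b2, c3, hU _ hg])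
        fun x h h' => ?_)))⟩
    simp [hc, b2, c4 x h h', c4 _ ((hU _ hg).1 ▸ (S.B_map _ _ _).trans h) ((hU _ hg).2 ▸ (S.B_map _ _ _).trans h')]
  obtain ⟨rfl, n, rfl⟩ := h6
  have hm := h5 rfl ⟨n, rfl⟩
  have z1 : z ≠ 1 := by simpa using hz' 1 one_ne_zero one_le_two
  have z2 : σ z = z ^ 2 := hb.apply z
  have z3 : z ^ 3 = 1 := by rw [← hz, z2]; ring
  have z4 : z⁻¹ = z ^ 2 := inv_eq_of_mul_eq_one_right (z2 ▸ hz)
  have key : ∀ s : {s // s < S.m ∧ s ≠ k}, ∃ c, S.ρ c (S.e k) = S.e k ∧ S.ρ c (S.f k) = S.f k ∧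
      S.ρ c (S.e s) = z ^ 2 • S.e s ∧ S.ρ c (S.f s) = z ^ 2 • S.f s ∧
      ∀ x, S.B (S.e k) x = 0 ∧ S.B (S.f k) x = 0 → S.B (S.e s) x = 0 ∧ S.B (S.f s) x = 0 → S.ρ c x = z • x := fun ⟨s, h1, h2⟩ => by
    obtain ⟨g₁, b1, b2, b3⟩ := U.herm.exists_scalar hz
    obtain ⟨g₂, c1, c2, c3, c4, c5⟩ := U.herm.exists_diag (S.ee k k) (S.ff k k) (S.ef hk) (pow_ne_zero 2 z0)
    obtain ⟨g₃, d1, d2, d3, d4, d5⟩ := U.herm.exists_diag (S.ee s s) (S.ff s s) (S.ef h1) z0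
    obtain ⟨c, hc⟩ := U.sur (g₁ * g₂ * g₃) (mem_SUG.2 ⟨mul_mem (mul_mem b1 c1) d1, by
      rw [map_mul, map_mul, b3, c5, d5, hn, pow_mul, z3, map_pow, z2]; field_simp; simp [z3]⟩)
    refine ⟨c, ?_, ?_, ?_, ?_, fun x h h' => by simp [hc, b2, c4 x h.1 h.2, d4 x h'.1 h'.2]⟩
    · simp [hc, b2, c2, d4 _ (S.ee _ _) (S.fe_ne h2), smul_smul, ← pow_succ', z3]
    · simp [hc, b2, c3, d4 _ (S.ef_ne h2) (S.ff _ _), smul_smul, z2, z4, ← inv_pow, ← pow_mul, ← pow_succ',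
        pow_eq_pow_mod 9 z3]
    · simp [hc, b2, d2, c4 _ (S.ee _ _) (S.fe_ne h2.symm), smul_smul, sq]
    · simp [hc, b2, d3, c4 _ (S.ef_ne h2.symm) (S.ff _ _), smul_smul, z2, z4, ← inv_pow, ← pow_mul, ← pow_succ,
        pow_eq_pow_mod 5 z3]
  choose c c1 c2 c3 c4 c5 using key
  have c6 : ∀ s, c s ∈ S.Dg S.m := fun s => mem_Dg.2 fun l hl => by
    by_cases e : l = k
    · exact e ▸ ⟨sc_of_eq (c1 s), sc_of_eq (c2 s)⟩
    by_cases e' : l = s
    · exact e' ▸ ⟨⟨_, by simpa, c3 s⟩, _, by simpa, c4 s⟩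
    exact ⟨⟨_, z0, c5 s _ ⟨S.ee _ _, S.fe_ne (Ne.symm e)⟩ ⟨S.ee _ _, S.fe_ne (Ne.symm e')⟩⟩, _, z0,
      c5 s _ ⟨S.ef_ne (Ne.symm e), S.ff _ _⟩ ⟨S.ef_ne (Ne.symm e'), S.ff _ _⟩⟩
  have c7 : ∀ j l, ∃ s : {s // s < S.m ∧ s ≠ k}, s.1 ≠ j ∧ s.1 ≠ l := fun j l => by
    by_contra! h
    have a0 := fun h' => h ⟨0, by omega, h'⟩
    have a1 := fun h' => h ⟨1, by omega, h'⟩
    have a2 := fun h' => h ⟨2, by omega, h'⟩
    have a3 := fun h' => h ⟨3, by omega, h'⟩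
    grind
  obtain ⟨L, h1, h2⟩ := F.exists_K' ⟨0, by omega⟩ hI (c7 0 0).choose (c := c) (fun i j => commute_of_Dg (c6 i) (c6 j)
    (fun x hx => c5 i x (hx k hk) (hx i i.2.1)) fun x hx => c5 j x (hx k hk) (hx j j.2.1)) fun s =>
      ⟨1, one_ne_zero, by simp [c1], sc_of_eq (c2 s), fun v h h' e => by
        rw [map_one, one_smul] at e
        have a1 := S.B_map (c s) (S.e s) v
        have a2 := S.B_map (c s) (S.f s) v
        simp only [c3, c4, e, LinearMap.map_smulₛₗ, LinearMap.smul_apply, smul_eq_mul, map_pow, z2] at a1 a2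
        rw [c5 s v ⟨h, h'⟩ ⟨by grind, by grind⟩, ← sub_eq_zero, ← one_smul K v, smul_smul, mul_one, ← sub_smul, smul_eq_zero,
          sub_eq_zero] at e
        exact e.resolve_left z1⟩
  refine ⟨L, h1, (nrm_closure hs hc (s := {x | ∀ g, π g = x → ∀ a ∈ L, g * a * g⁻¹ ∈ L}) fun g hg => hg g rfl).mono
    (iSup₂_le fun j hj x ⟨v, hv, hx⟩ => ?_)⟩
  have c8 : ∀ l v x, v ∈ S.W (j + 1) → (∀ s < S.m, s ≠ l → S.B (S.e s) v = 0 ∧ S.B (S.f s) v = 0) → S.EQ (S.e j) v x →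
      x ∈ Subgroup.closure {x | ∀ g, π g = x → ∀ a ∈ L, g * a * g⁻¹ ∈ L} := fun l v x hv h hx =>
    Subgroup.subset_closure fun g e => by
      obtain ⟨s, a1, a2⟩ := c7 j l
      have a3 := hU x (le_iSup₂_of_le (f := fun k _ => S.Q k) j hj le_rfl ⟨v, hv, hx⟩)
      refine h2 s g (e ▸ ⟨sc_of_eq a3.1, sc_of_eq a3.2⟩) ?_
      obtain ⟨-, d, -, hx⟩ := hx
      have a4 := hx.act (c5 s _ ⟨S.ee _ _, S.fe_ne (by omega)⟩ ⟨S.ee _ _, S.fe_ne a1⟩)
      rw [c5 s v (hv k (by omega)) (h s s.2.1 a2), smul_smul, mul_comm (σ z), hz, one_smul, mul_one] at a4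
      exact e ▸ (mul_inv_eq_iff_eq_mul.1 (a4.unique hx)).symm
  refine W_ind (P := fun v => ∀ x, S.EQ (S.e j) v x → x ∈ Subgroup.closure _) hj.2
    (fun v hv x => c8 0 v x (W_anti hj.2 hv) fun s h _ => hv s h) (fun l h hl t => ⟨fun x => c8 l _ x
      (Submodule.smul_mem _ _ (e_mem_W h)) fun s _ h => by simp [S.ee, S.fe_ne h], fun x => c8 l _ x
      (Submodule.smul_mem _ _ (f_mem_W h)) fun s _ h => by simp [S.ff, S.ef_ne h]⟩) (fun u hu v hv a1 a2 x hx => ?_) hv x hx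
  obtain ⟨a, ha⟩ := U.exists_EQ (S.adm_e j) (hu j j.lt_succ_self).1
  obtain ⟨b, hb⟩ := U.exists_EQ (S.adm_e j) (hv j j.lt_succ_self).1
  exact mul_inv_cancel_left (a * b) x ▸ mul_mem (mul_mem (a1 a ha) (a2 b hb)) (c8 0 0 _ (zero_mem _) (by simp)
    (by simpa only [neg_add_cancel] using ((ha.mul hb (S.adm_e j)).inv (S.adm_e j)).mul hx (S.adm_e j)))

end Sp

end CL.Pq
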