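/-
The Schur multiplier of the unitary groups.
-/
import Cfsg.Agent.Known.PqUni
import Cfsg.Agent.Known.PqInd
import Cfsg.Agent.Known.StbSL

set_option autoImplicit false

namespace CL.Pq

open Cfsg CL.TwS CL.Uni CL.Chev.SL2 CL.Schur

theorem exists_gen {K : Type*} [Field K] {σ : K →+* K} {q : ℕ} (h : IsBar σ q) :
    ∃ g : K, g ≠ 0 ∧ IsPrimitiveRoot (σ g / g) (q + 1) ∧ ∀ x ≠ 0, ∃ k : ℕ, x = g ^ k := by
  have := h.finite
  have h2 := h.two_le
  obtain ⟨g, hg⟩ := IsCyclic.exists_generator (α := Kˣ)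
  have h1 : IsPrimitiveRoot g ((q - 1) * (q + 1)) := by
    rw [← h.card_units, ← orderOf_eq_card_of_forall_mem_zpowers hg]; exact .orderOf g
  refine ⟨g, g.ne_zero, ?_, fun x hx => ?_⟩
  · convert IsPrimitiveRoot.coe_units_iff.2 (h1.pow (Nat.mul_pos (by omega) (by omega)) (a := q - 1) rfl)
    rw [h.apply, Units.val_pow_eq_pow_val, pow_sub₀ _ g.ne_zero (by omega), pow_one, div_eq_mul_inv]
  · obtain ⟨k, hk⟩ := mem_powers_iff_mem_zpowers.2 (hg (Units.mk0 x hx))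
    exact ⟨k, by simpa using congrArg Units.val hk.symm⟩

/-- The torus relations of the unitary group of rank one. -/
theorem su3_core {K A : Type*} [Field K] [Group A] {σ : K →+* K} {q : ℕ} (h : IsBar σ q) {φ : K → K → A}
    (h0 : ∀ r ≠ 0, σ r = -r → φ 0 r = 1) (h1 : ∀ b c, c + σ c = σ b * b → c ≠ 0 → φ (-b) (σ c) * φ b c = 1)
    (h2 : ∀ b c, c + σ c = σ b * b → c ≠ 0 → φ (b * c / σ c) c = φ b c)
    (h3 : ∀ b c, c + σ c = σ b * b → c ≠ 0 → ∀ l ≠ 0, φ (σ l / l ^ 2 * b) (c / (l * σ l)) = φ b c)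
    (h4 : ∀ b c, c + σ c = σ b * b → c ≠ 0 → ∀ r ≠ 0, σ r = -r → c + r ≠ 0 →
      φ b (c + r) = φ b c * φ (r * b / σ c) (-r * (c + r) / c)) : ∃ (γ : A) (ζ : K), γ ^ (q + 1) = 1 ∧
      IsPrimitiveRoot ζ (q + 1) ∧ ∀ b c, c + σ c = σ b * b → c ≠ 0 → ∃ k : ℕ, -σ c = ζ ^ k * c ∧ φ b c = γ ^ k := by
  obtain ⟨g, g0, hζ, hg⟩ := exists_gen h
  obtain ⟨r, r0, hr⟩ := h.exists_trace_zero
  have hq := h.two_le
  have s0 : ∀ {x}, x ≠ 0 → σ x ≠ 0 := (map_ne_zero σ).2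
  have z0 : σ g / g ≠ 0 := div_ne_zero (s0 g0) g0
  have z1 : ∀ k, 1 ≤ k → k ≤ q → 1 - (σ g / g) ^ k ≠ 0 := fun k a1 a2 =>
    sub_ne_zero.2 (hζ.pow_ne_one_of_pos_of_lt (by omega) (by omega)).symm
  let M : Submonoid K :=
    { carrier := {β | β ≠ 0 ∧ ∀ b c, c + σ c = σ b * b → c ≠ 0 → -σ c = σ g / g * c → φ (β * b) (β * σ β * c) = φ b c}
      one_mem' := by simp
      mul_mem' := fun {x y} hx hy => ⟨mul_ne_zero hx.1 hy.1, fun b c a1 a2 a3 => by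
        rw [← hy.2 b c a1 a2 a3, ← hx.2 (y * b) (y * σ y * c) (by simp only [map_mul, h.bar_bar]; grind) (by simp [hy.1, a2])
          (by simp only [map_mul, h.bar_bar]; grind), map_mul]
        congr 1 <;> ring⟩ }
  have m1 : ∀ l ≠ 0, σ l / l ^ 2 ∈ M := fun l hl => ⟨by simpa, fun b c a1 a2 _ => by
    rw [← h3 b c a1 a2 l hl]; congr 1; simp only [map_div₀, map_pow, h.bar_bar]; field_simp [s0 hl]⟩
  have m2 : -g / σ g ∈ M := ⟨by simpa, fun b c a1 a2 a3 => by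
    rw [← h2 b c a1 a2, neg_eq_iff_eq_neg.1 a3]
    congr 1 <;> simp only [map_div₀, map_neg, h.bar_bar, neg_div] <;> field_simp [s0 g0]⟩
  have m3 : g ^ 2 ∈ M := by
    convert mul_mem m2 (m1 (-(g * σ g)⁻¹) (by simpa)) using 1
    simp only [map_neg, map_inv₀, map_mul, h.bar_bar]; field_simp [s0 g0]
  have m4 : g ∈ M := by
    convert mul_mem (mul_mem m3 m3) (m1 (σ g * g ^ 2) (by simpa)) using 1
    simp only [map_pow, map_mul, h.bar_bar]; field_simp [s0 g0]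
  obtain ⟨b₁, hb⟩ := h.exists_norm_eq (h.trace_fixed (r * g))
  have c1 : -σ (r * g) = σ g / g * (r * g) := by rw [map_mul, hr]; field_simp
  have c2 : ∀ {b c k}, c + σ c = σ b * b → -σ c = (σ g / g) ^ k * c → σ b * b = (1 - (σ g / g) ^ k) * c := fun a1 a2 => by
    grind
  replace hb := ((mul_comm _ _).trans hb).symm
  have c3 := c2 (k := 1) hb (by rw [pow_one, c1])
  have z2 := z1 1 le_rfl (by omega)
  have c4 : b₁ ≠ 0 := fun e => mul_ne_zero z2 (mul_ne_zero r0 g0) (by rw [← c3, e, mul_zero])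
  have P1 : ∀ b c, c + σ c = σ b * b → c ≠ 0 → -σ c = σ g / g * c → φ b c = φ b₁ (r * g) := fun b c a1 a2 a3 => by
    have a4 := c2 (k := 1) a1 (by rw [pow_one, a3])
    obtain ⟨k, hk⟩ := hg (b / b₁) (div_ne_zero (fun e => mul_ne_zero z2 a2 (by rw [← a4, e, mul_zero])) c4)
    rw [← (hk ▸ pow_mem m4 k : b / b₁ ∈ M).2 _ _ hb (mul_ne_zero r0 g0) c1, div_mul_cancel₀ _ c4]
    congr 1
    apply mul_left_cancel₀ z2
    rw [← a4, mul_left_comm, ← c3, map_div₀]; field_simp [s0 c4]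
  have P : ∀ k, 1 ≤ k → k ≤ q → ∀ b c, c + σ c = σ b * b → c ≠ 0 → -σ c = (σ g / g) ^ k * c → φ b c = φ b₁ (r * g) ^ k :=
    fun k hk => by
      induction k, hk using Nat.le_induction with
      | base => simpa using fun _ => P1
      | succ k hk ih =>
        intro hk' b c a1 a2 a3
        have a4 := z1 k hk (by omega)
        have a5 := c2 a1 a3
        have a6 : σ b * b ≠ 0 := a5 ▸ mul_ne_zero (z1 _ (by omega) hk') a2
        have a7 : σ ((σ g / g) ^ k) * (σ g / g) ^ k = 1 := by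
          simp only [map_pow, map_div₀, h.bar_bar, ← mul_pow]; field_simp [s0 g0]; simp
        obtain ⟨c', a8⟩ : ∃ c', σ b * b = (1 - (σ g / g) ^ k) * c' := ⟨_, (mul_inv_cancel_left₀ a4 _).symm⟩
        have a9 := congrArg σ a8
        simp only [map_mul σ, map_sub, map_one, h.bar_bar] at a9
        have b1 : -σ c' = (σ g / g) ^ k * c' := mul_left_cancel₀ a4 (by grind)
        have b2 : c' ≠ 0 := by rintro rfl; simp [a8] at a6
        have b3 : c - c' ≠ 0 := fun e => z2 (mul_left_cancel₀ (mul_ne_zero (pow_ne_zero k z0) a2) (by grind))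
        have b4 : σ (c - c') = -(c - c') := by rw [map_sub]; grind
        have b5 := h4 b c' (by grind) b2 _ b3 b4 (by simpa)
        rw [add_sub_cancel] at b5
        rw [b5, ih (by omega) b c' (by grind) b2 b1, P1 (_ / _), pow_succ]
        · simp only [map_mul, map_div₀, map_neg, b4, h.bar_bar]; field_simp [s0 b2]; grind
        · exact div_ne_zero (mul_ne_zero (neg_ne_zero.2 b3) (by simpa)) b2
        · simp only [map_mul, map_div₀, map_neg, b4]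
          rw [neg_eq_iff_eq_neg.1 a3, neg_eq_iff_eq_neg.1 b1, pow_succ]; field_simp
  refine ⟨φ b₁ (r * g), _, ?_, hζ, fun b c a1 a2 => ?_⟩
  · rw [pow_succ, ← P q (by omega) le_rfl (-b₁) (σ (r * g)) (by rw [h.bar_bar, add_comm, hb]; simp) (by simp [r0, g0])
      (by rw [h.bar_bar, neg_eq_iff_eq_neg.1 c1, mul_neg, ← mul_assoc, ← pow_succ, hζ.pow_eq_one, one_mul])]
    exact h1 _ _ hb (mul_ne_zero r0 g0)
  obtain ⟨k, hk⟩ := hg (c / r) (div_ne_zero a2 r0)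
  have a3 : -σ c = (σ g / g) ^ (k % (q + 1)) * c := by
    rw [← pow_eq_pow_mod k hζ.pow_eq_one, ← div_mul_cancel₀ c r0, hk, map_mul, map_pow, hr, div_pow]; field_simp
  refine ⟨_, a3, ?_⟩
  by_cases e : k % (q + 1) = 0
  · rw [e, pow_zero, one_mul] at a3
    obtain rfl : b = 0 := by simpa [← a3.symm, neg_eq_iff_eq_neg.1 a3] using a1
    rw [e, pow_zero, h0 c a2 (neg_eq_iff_eq_neg.1 a3)]
  exact P _ (Nat.pos_of_ne_zero e) (Nat.lt_succ_iff.1 (Nat.mod_lt _ q.succ_pos)) b c a1 a2 a3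

/-- Two double cosets. -/
theorem closure2 {G : Type*} [Group G] {P : Subgroup G} {w : G} (h1 : w * w ∈ P)
    (h2 : ∀ g ∈ P, w * g * w ∈ P ∨ ∃ a ∈ P, ∃ b ∈ P, w * g * w = a * w * b) {g : G}
    (hg : g ∈ Subgroup.closure (insert w (P : Set G))) : ∃ a ∈ P, ∃ b ∈ P, ∃ y, (y = 1 ∨ y = w) ∧ g = a * y * b := by
  have hL : ∀ c ∈ P, ∀ g, (∃ a ∈ P, ∃ b ∈ P, ∃ y, (y = 1 ∨ y = w) ∧ g = a * y * b) →
      ∃ a ∈ P, ∃ b ∈ P, ∃ y, (y = 1 ∨ y = w) ∧ c * g = a * y * b := by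
    rintro c hc _ ⟨a, ha, b, hb, y, hy, rfl⟩
    exact ⟨_, mul_mem hc ha, b, hb, y, hy, by group⟩
  have hw : ∀ g, (∃ a ∈ P, ∃ b ∈ P, ∃ y, (y = 1 ∨ y = w) ∧ g = a * y * b) →
      ∃ a ∈ P, ∃ b ∈ P, ∃ y, (y = 1 ∨ y = w) ∧ w * g = a * y * b := by
    rintro _ ⟨a, ha, b, hb, y, rfl | rfl, rfl⟩
    · exact ⟨1, one_mem _, _, mul_mem ha hb, w, .inr rfl, by group⟩
    rcases h2 a ha with h | ⟨c, hc, d, hd, h⟩
    · exact ⟨_, h, b, hb, 1, .inl rfl, by group⟩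
    · exact ⟨c, hc, _, mul_mem hd hb, y, .inr rfl, by rw [← mul_assoc, ← mul_assoc, h, mul_assoc]⟩
  refine Subgroup.closure_induction_left (p := fun g _ => ∃ a ∈ P, ∃ b ∈ P, ∃ y, (y = 1 ∨ y = w) ∧ g = a * y * b)
    ⟨1, one_mem _, 1, one_mem _, 1, .inl rfl, by simp⟩ ?_ ?_ hg
  · rintro x (rfl | hx) c _ hc
    exacts [hw c hc, hL x hx c hc]
  · rintro x (rfl | hx) c _ hc
    · simpa [mul_assoc] using hL _ (inv_mem h1) _ (hw c hc)
    · exact hL _ (inv_mem hx) c hc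

namespace Sp

variable {K V G E : Type*} [Field K] [AddCommGroup V] [Module K V] [Group G] [Group E] {σ : K →+* K} {S : Sp σ V G}
  {q p j : ℕ} {π : E →* G}

theorem wy {e f v : V} {c : K} {x y x' : G} (he : S.B e e = 0) (hf : S.B f f = 0) (ef : S.B e f = 1) (hv : S.B e v = 0)
    (hv' : S.B f v = 0) (hc : c + σ c = S.B v v) (c0 : c ≠ 0) (hx : S.Ei e (c⁻¹ • v) (σ c)⁻¹ x) (hy : S.Ei f v c y)
    (hx' : S.Ei e ((σ c)⁻¹ • v) (σ c)⁻¹ x') : S.ρ (x * y * x') e = -c • f ∧ S.ρ (x * y * x') f = -(σ c)⁻¹ • e ∧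
      ∀ z, S.B e z = 0 → S.B f z = 0 → S.ρ (x * y * x') z = z - (S.B v z / c) • v := by
  have fe : S.B f e = 1 := by rw [← S.symm, ef, map_one]
  have c1 := (map_ne_zero σ).2 c0
  have key : ∀ z, S.ρ (x * y * x') z = z - (S.B v (z - S.B f z • e - S.B e z • f) / c) • v -
      (S.B f z + (σ c)⁻¹ * S.B e z) • e - (S.B e z + c * S.B f z) • f := fun z => by
    rw [mul_app, mul_app, hx', hy, hx]
    simp [he, ef, fe, hv, hv', LinearMap.map_smulₛₗ, S.flip hv, S.flip hv', S.σσ, ← hc]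
    match_scalars <;> field_simp <;> ring
  refine ⟨?_, ?_, fun z h h' => ?_⟩ <;> rw [key] <;> simp [*]

theorem Sw.mul {g g' : G} (h : S.Sw j g) (h' : S.Sw j g') : g * g' ∈ S.Dg S.m := mem_Dg.2 fun l hl => by
  by_cases e : l = j
  · exact e ▸ ⟨h.2.1.mul h'.1, h.1.mul h'.2.1⟩
  · exact ⟨(sc_of_eq (h.2.2 l hl e).1).mul (sc_of_eq (h'.2.2 l hl e).1),
      (sc_of_eq (h.2.2 l hl e).2).mul (sc_of_eq (h'.2.2 l hl e).2)⟩

theorem dec_of_set [Finite G] (hj : j + 1 = S.m) {w : E} {s : Set E} (hw : w ∈ s)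
    (h1 : ∀ n ∈ s, S.Sw j (π n) ∧ n ∈ S.EE p π j ∧ n⁻¹ ∈ s) (h2 : ∀ y ∈ Lf p π (S.Q' j), y = 1 ∨
      ∃ n ∈ s, ∃ a ∈ Lf p π (S.Q j), ∃ b ∈ Lf p π (S.Q j), y = a * n * b) :
    S.Dec p π j (Subgroup.closure {t | ∃ n ∈ s, ∃ n' ∈ s, t = n * n'}) w := by
  set T := Subgroup.closure {t | ∃ n ∈ s, ∃ n' ∈ s, t = n * n'}
  have hj' : j < S.m := by omega
  have m : ∀ {n n'}, n ∈ s → n' ∈ s → n * n' ∈ T := fun h h' => Subgroup.subset_closure ⟨_, h, _, h', rfl⟩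
  have hT : T ≤ (S.Dg S.m).comap π := (Subgroup.closure_le _).2 (by
    rintro _ ⟨n, h, n', h', rfl⟩; simpa using (h1 n h).1.mul (h1 n' h').1)
  obtain ⟨a1, a2, a3⟩ := h1 w hw
  refine ⟨hT, (Subgroup.closure_le _).2 (by rintro _ ⟨n, h, n', h', rfl⟩; exact mul_mem (h1 n h).2.1 (h1 n' h').2.1), a2, a1,
    fun g hg => (fun ⟨a, ha, b, hb, y, hy, e⟩ => ⟨a, ha, b, hb, y, hy.imp_right .inl, e⟩)
      (closure2 (T_le_PP (m hw hw)) (fun g hg => ?_) ?_)⟩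
  · obtain ⟨t, ht, x, hx, l, hl, rfl⟩ := exists_of_mem_PP hj' hT hg
    rw [EE, hj, iSup_ge_bot, Subgroup.mem_bot] at hl
    have b1 : w * t * w⁻¹ ∈ S.PP p π T j := T_le_PP (conj_mem_closure (by
      rintro _ ⟨n, h, n', h', rfl⟩; simpa [mul_assoc] using mul_mem (m hw h) (m h' a3)) ht)
    have b2 := T_le_PP (S := S) (p := p) (π := π) (j := j) (m hw hw)
    rw [hl, show w * (t * x * 1) * w = w * t * w⁻¹ * (w * x * w⁻¹) * (w * w) by group]
    rcases h2 _ (conj_Lf (fun u => conj_Qg (a1.mem_Pres hj') _ a1.1) hx) with h | ⟨n, hn, a, ha, b, hb, h⟩ <;> rw [h]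
    · exact .inl (mul_mem (mul_mem b1 (one_mem _)) b2)
    · exact .inr ⟨_, mul_mem b1 (mul_mem (Q_le_PP ha) (T_le_PP (m hn a3))), _, mul_mem (Q_le_PP hb) b2, by group⟩
  have b1 : S.PP p π T j ≤ Subgroup.closure (insert w (S.PP p π T j : Set E)) := fun _ h => Subgroup.subset_closure (.inr h)
  have b2 : w ∈ Subgroup.closure (insert w (S.PP p π T j : Set E)) := Subgroup.subset_closure (.inl rfl)
  rw [EE, iSup_ge_eq _ hj'] at hg
  refine (sup_le (EE_le_PP.trans b1) (sup_le (Q_le_PP.trans b1) fun x hx => ?_) : _ ≤ Subgroup.closure _) hg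
  have h4 := conj_Lf (g := w⁻¹) (Y := S.Q j) (fun u => conj_Qg (map_inv π _ ▸ a1.inv.mem_Pres hj') _ (map_inv π _ ▸ a1.inv.2.1)) hx
  simpa [mul_assoc] using mul_mem (mul_mem b2 (b1 (Q_le_PP h4))) (inv_mem b2)

theorem sw_of {g : G} {v : V} {c : K} (hv : v ∈ S.W S.m) (c0 : c ≠ 0) (h : S.ρ g (S.e j) = -c • S.f j ∧
    S.ρ g (S.f j) = -(σ c)⁻¹ • S.e j ∧ ∀ z, S.B (S.e j) z = 0 → S.B (S.f j) z = 0 → S.ρ g z = z - (S.B v z / c) • v) :
    S.Sw j g :=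
  ⟨⟨_, by simpa, h.1⟩, ⟨_, by simpa, h.2.1⟩, fun l hl e => ⟨by simp [h.2.2 _ (S.ee _ _) (S.fe_ne e.symm), S.flip (hv l hl).1],
    by simp [h.2.2 _ (S.ef_ne e.symm) (S.ff _ _), S.flip (hv l hl).2]⟩⟩

variable (S j) in
/-- Torus elements of the unitary group of rank one. -/
def Tor (w : V) (a : K) (g : G) : Prop := S.ρ g (S.e j) = a • S.e j ∧ S.ρ g (S.f j) = (σ a)⁻¹ • S.f j ∧
  S.ρ g w = (σ a / a) • w ∧ ∀ l < S.m, l ≠ j → S.ρ g (S.e l) = S.e l ∧ S.ρ g (S.f l) = S.f l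

theorem Tor.pow {w : V} {a : K} {g : G} (h : S.Tor j w a g) (k : ℕ) : S.Tor j w (a ^ k) (g ^ k) := by
  induction k with
  | zero => simp [Tor]
  | succ k ih =>
    refine ⟨?_, ?_, ?_, fun l hl e => ?_⟩ <;> simp only [pow_succ, mul_app]
    · rw [h.1, map_smul, ih.1, smul_smul, mul_comm]
    · rw [h.2.1, map_smul, ih.2.1, smul_smul, map_mul, mul_inv_rev]
    · rw [h.2.2.1, map_smul, ih.2.2.1, smul_smul, map_mul, mul_comm, div_mul_div_comm]
    · simp only [h.2.2.2 l hl e, ih.2.2.2 l hl e, and_self]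

theorem Tor.unique {w : V} {a : K} {g g' : G} (h : S.Tor j w a g) (h' : S.Tor j w a g') (hw : S.W S.m = K ∙ w) : g = g' :=
  S.inj (LinearEquiv.ext fun x => W_ind (P := fun x => S.ρ g x = S.ρ g' x) S.m.zero_le (fun x hx => by
    obtain ⟨t, rfl⟩ := Submodule.mem_span_singleton.1 (hw ▸ hx)
    simp [h.2.2.1, h'.2.2.1]) (fun l _ hl t => by
    by_cases e : l = j
    · simp [e, h.1, h'.1, h.2.1, h'.2.1]
    · simp [h.2.2.2 l hl e, h'.2.2.2 l hl e]) (fun _ _ _ _ h h' => by rw [map_add, map_add, h, h'])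
    fun _ h => absurd h (Nat.not_lt_zero _))

namespace Un

variable (U : S.Un q)
include U

theorem exists_rel (hj : j < S.m) : ∃ r ≠ 0, σ r = -r ∧ ∃ x y : IsBar.fixedField σ → G, Rel x y ∧
    (∀ t, S.Ei (S.e j) 0 (t.1 / r) (x t)) ∧ (∀ t, S.Ei (S.f j) 0 (t.1 * r) (y t)) ∧ (∀ t ≠ 0, S.Sw j (nn x y t)) ∧
    ∀ t ≠ 0, hh x y t = 1 → t = 1 := by
  obtain ⟨r, r0, hr⟩ := U.herm.bar.exists_trace_zero
  have ht : ∀ t : IsBar.fixedField σ, σ t = t := fun t => t.2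
  choose x hx using fun t : IsBar.fixedField σ => S.ex (S.adm_e j) (map_zero _) (c := t / r) (U.adm_iff.2 (by simp [ht, hr, div_neg]))
  choose y hy using fun t : IsBar.fixedField σ => S.ex (S.adm_f j) (map_zero _) (c := t * r) (U.adm_iff.2 (by simp [ht, hr]))
  have h0 : ∀ t : IsBar.fixedField σ, t ≠ 0 → (-t⁻¹ : IsBar.fixedField σ) * r ≠ 0 := fun t h => by simp [h, r0]
  have h1 := fun t h => wy (S.ee j j) (S.ff j j) (S.ef hj) (map_zero _) (map_zero _) (by simp [ht, hr]) (h0 t h)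
    (x := x t) (x' := x t) (by simpa [Ei, ht, hr, div_eq_inv_mul] using hx t) (hy (-t⁻¹))
    (by simpa [Ei, ht, hr, div_eq_inv_mul] using hx t)
  refine ⟨r, r0, hr, x, y, ⟨fun s t => ?_, fun s t => ?_, fun t h u => ?_⟩, hx, hy,
    fun t h => sw_of (zero_mem _) (h0 t h) (h1 t h), fun t h e => ?_⟩
  · exact Ei.unique (hx _) (by simpa [add_div] using Ei.mul (hx s) (hx t) (S.ee _ _) (map_zero _) (map_zero _))
  · exact Ei.unique (hy _) (by simpa [add_mul] using Ei.mul (hy s) (hy t) (S.ff _ _) (map_zero _) (map_zero _))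
  · have := Ei.conj (hx u) (nn x y t)
    rw [nn, (h1 t h).1, ei_smul, map_zero, smul_zero] at this
    refine this.unique ?_
    have h2 : S.Ei _ _ _ _ := hy (-(t⁻¹ ^ 2 * u))
    convert h2 using 1
    simp [ht, hr]; field_simp
  · have := congrArg (fun g => S.B (S.f j) (S.ρ g (S.e j))) e
    simp only [hh, nn, S.mul_app (_ * _ * _), (h1 _ h).2.1, (h1 (-1) (by simp)).1, map_smul] at this
    exact Subtype.ext (by simpa [ht, hr, S.fe hj, r0] using this)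

theorem dec_even [Finite G] [Finite K] [Finite E] (C : Cop p π) (hp : (p : K) = 0) (hj : j + 1 = S.m)
    (hW : S.W S.m = ⊥) : ∃ T w, S.Dec p π j T w ∧ T ⊓ π.ker = ⊥ := by
  obtain ⟨r, r0, hr, x, y, R, hx, hy, h1, h2⟩ := U.exists_rel (j := j) (by omega)
  have ht : ∀ t : IsBar.fixedField σ, σ t = t := fun t => t.2
  refine (exists_dec_of_rel C hp hj R (fun g => ⟨fun ⟨v, hv, _, c, h3, h4⟩ => ?_, by
    rintro ⟨t, rfl⟩; exact ⟨0, zero_mem _, map_zero _, _, U.adm_iff.2 (by simp [ht, hr, div_neg]), hx t⟩⟩)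
    (fun g => ⟨fun ⟨v, hv, _, c, h3, h4⟩ => ?_, by
      rintro ⟨t, rfl⟩; exact ⟨0, zero_mem _, map_zero _, _, U.adm_iff.2 (by simp [ht, hr]), hy t⟩⟩) h1).imp fun T ⟨w, D, hT⟩ =>
    ⟨w, D, (Subgroup.card_le_one_iff_eq_bot _).1 (hT.trans (Finite.card_le_one_iff_subsingleton.2 ⟨fun s t =>
      Subtype.ext ((h2 _ s.2.1 s.2.2).trans (h2 _ t.2.1 t.2.2).symm)⟩))⟩
  all_goals
    rw [hj, hW, Submodule.mem_bot] at hv
    subst hv
    have h5 : σ c = -c := eq_neg_of_add_eq_zero_right (by simpa using U.adm_iff.1 h3)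
  · exact ⟨⟨c * r, by simp [IsBar.mem_fixedField, h5, hr]⟩, (hx _).unique (by simpa [r0] using h4)⟩
  · exact ⟨⟨c / r, by simp [IsBar.mem_fixedField, h5, hr]⟩, (hy _).unique (by simpa [r0] using h4)⟩

theorem dec_odd [Finite G] [Finite K] [Finite E] (C : Cop p π) (hp : (p : K) = 0) (hj : j + 1 = S.m) {w : V}
    (hw : S.W S.m = K ∙ w) (ww : S.B w w = 1) : ∃ T w', S.Dec p π j T w' ∧ T ⊓ π.ker = ⊥ := by
  have hj' : j < S.m := by omega
  have hb := U.herm.bar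
  have s0 : ∀ {x}, x ≠ 0 → σ x ≠ 0 := (map_ne_zero σ).2
  have wW : ∀ b : K, b • w ∈ S.W S.m := fun b => hw ▸ Submodule.mem_span_singleton.2 ⟨b, rfl⟩
  have hQ : IsPGroup p (S.Q j) := isPGroup_Qg hp _ _
  have hQ' : IsPGroup p (S.Q' j) := isPGroup_Qg hp _ _
  have kQ := C.kAt_Lf hQ
  have kQ' := C.kAt_Lf hQ'
  have ad : ∀ {b c}, S.adm (b • w) c ↔ c + σ c = σ b * b := by simp [U.adm_iff, LinearMap.map_smulₛₗ, ww, mul_comm]
  have ex : ∀ {e} (he : S.adm e 0), (∀ b : K, S.B e (b • w) = 0) → ∀ b c, ∃ x ∈ Lf p π (S.Qg e he (S.W (j + 1))),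
      c + σ c = σ b * b → S.Ei e (b • w) c (π x) := fun he h b c => by
    by_cases h1 : c + σ c = σ b * b
    · obtain ⟨x, hx⟩ := S.ex he (h b) (ad.2 h1)
      obtain ⟨y, hy, rfl⟩ := (C.kAt_Lf (isPGroup_Qg hp he _)).surj x ⟨_, hj ▸ wW b, h b, c, ad.2 h1, hx⟩
      exact ⟨y, hy, fun _ => hx⟩
    · exact ⟨1, one_mem _, fun h => absurd h h1⟩
  choose X hX hX' using ex (S.adm_e j) fun b => (wW b j hj').1
  choose Y hY hY' using ex (S.adm_f j) fun b => (wW b j hj').2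
  let n := fun b c => X (b / c) (σ c)⁻¹ * Y b c * X (b / σ c) (σ c)⁻¹
  have x1 : ∀ {b c}, c + σ c = σ b * b → c ≠ 0 → S.Ei (S.e j) ((b / c) • w) (σ c)⁻¹ (π (X (b / c) (σ c)⁻¹)) ∧
      S.Ei (S.e j) ((b / σ c) • w) (σ c)⁻¹ (π (X (b / σ c) (σ c)⁻¹)) := fun h c0 => by
    constructor <;> refine hX' _ _ ?_ <;> simp only [map_inv₀, map_div₀, S.σσ] <;> field_simp [s0 c0] <;> grind
  have n1 := fun {b c} h c0 => wy (S.ee j j) (S.ff j j) (S.ef hj') (wW b j hj').1 (wW b j hj').2 (U.adm_iff.1 (ad.2 h)) c0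
    (by simpa only [smul_smul, ← div_eq_inv_mul] using (x1 h c0).1) (hY' b c h)
    (by simpa only [smul_smul, ← div_eq_inv_mul] using (x1 h c0).2)
  simp only [← map_mul π] at n1
  have n2 : ∀ {b c}, c + σ c = σ b * b → c ≠ 0 → S.Sw j (π (n b c)) := fun h c0 => sw_of (wW _) c0 (n1 h c0)
  have n3 : ∀ {b c}, c + σ c = σ b * b → c ≠ 0 → S.ρ (π (n b c)) w = (-σ c / c) • w := fun {b c} h c0 => by
    rw [(n1 h c0).2.2 w (by simpa using (wW 1 j hj').1) (by simpa using (wW 1 j hj').2)]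
    simp only [LinearMap.map_smulₛₗ, LinearMap.smul_apply, ww, smul_eq_mul]
    match_scalars; field_simp; linear_combination h
  have uq : ∀ {b c}, c + σ c = σ b * b → c ≠ 0 → ∀ {a a' y}, a ∈ Lf p π (S.Q j) → y ∈ Lf p π (S.Q' j) → a' ∈ Lf p π (S.Q j) →
      S.Ei (S.f j) (b • w) c (π y) → S.Sc (π (a * y * a')) (S.e j) (S.f j) → S.Sc (π (a * y * a')) (S.f j) (S.e j) →
      a * y * a' = n b c := fun {b c} h c0 a a' y ha hy ha' h1 h2 h3 => by
    obtain rfl := kQ'.eq_of_map_eq hy (hY b c) (h1.unique (hY' b c h))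
    have b1 := mul_mem ha (inv_mem (hX (b / c) (σ c)⁻¹))
    have b2 := mul_mem (inv_mem (hX (b / σ c) (σ c)⁻¹)) ha'
    have b3 := kQ.inj _ b1 (eq_one_of_mem_Q hj' (kQ.map_mem _ b1) (show S.Sc _ _ _ by
      simpa [n, mul_assoc] using (h2.mul (sc_of_eq (Q_le_Fx j (kQ.map_mem _ b2))).inv).mul (n2 h c0).1.inv))
    obtain rfl := mul_inv_eq_one.1 b3
    have b4 := kQ.inj _ b2 (eq_one_of_mem_Q hj' (kQ.map_mem _ b2) (show S.Sc _ _ _ by
      simpa [n, mul_assoc] using (n2 h c0).2.1.inv.mul h3))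
    rw [← inv_mul_eq_one.1 b4]
  have cQ : ∀ {g x}, S.Sw j (π g) → x ∈ Lf p π (S.Q j) → g⁻¹ * x * g ∈ Lf p π (S.Q' j) := fun {g x} h hx => by
    simpa using conj_Lf (g := g⁻¹) (Y := S.Q' j) (fun u => conj_Qg (map_inv π _ ▸ h.inv.mem_Pres hj') _ (map_inv π _ ▸ h.inv.1)) hx
  have cQ' : ∀ {g x}, S.Sw j (π g) → x ∈ Lf p π (S.Q' j) → g⁻¹ * x * g ∈ Lf p π (S.Q j) := fun {g x} h hx => by
    simpa using conj_Lf (g := g⁻¹) (Y := S.Q j) (fun u => conj_Qg (map_inv π _ ▸ h.inv.mem_Pres hj') _ (map_inv π _ ▸ h.inv.2.1)) hx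
  have cE : ∀ {b c}, c + σ c = σ b * b → c ≠ 0 → ∀ {b' c' x}, S.Ei (S.e j) (b' • w) c' (π x) →
      S.Ei (S.f j) ((c * c * b' / σ c) • w) (c' * (c * σ c)) (π ((n b c)⁻¹ * x * n b c)) := fun {b c} h c0 b' c' x hx => by
    have := hx.conj (π (n b c))⁻¹
    rw [S.inv_app (x := -σ c • S.f j) (by rw [map_smul, (n1 h c0).2.1, smul_smul]; simp [s0 c0]), map_smul,
      S.inv_app (x := (-c / σ c) • w) (by rw [map_smul, n3 h c0, smul_smul, ← one_smul K w, smul_smul]; congr 1; field_simp [s0 c0]),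
      ei_smul, smul_smul, smul_smul] at this
    convert this using 1
    · congr 1; simp [S.σσ]; ring
    · simp [S.σσ, mul_comm]
    · simp
  have r1 : ∀ {b c}, c + σ c = σ b * b → c ≠ 0 → (n b c)⁻¹ = n (-b) (σ c) := fun {b c} h c0 => by
    have e : (n b c)⁻¹ = (X (b / σ c) (σ c)⁻¹)⁻¹ * (Y b c)⁻¹ * (X (b / c) (σ c)⁻¹)⁻¹ := by simp [n, mul_assoc]
    refine e.trans (uq (by simpa [S.σσ, add_comm] using h) (s0 c0) (inv_mem (hX _ _)) (inv_mem (hY _ _)) (inv_mem (hX _ _)) ?_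
      (e ▸ map_inv π _ ▸ (n2 h c0).inv.1) (e ▸ map_inv π _ ▸ (n2 h c0).inv.2.1))
    simpa only [← U.adm_iff.1 (ad.2 h), map_inv, neg_smul, add_sub_cancel_left] using (hY' b c h).inv (S.ff _ _) (wW b j hj').2
  have r2 : ∀ {b c}, c + σ c = σ b * b → c ≠ 0 → n (b * c / σ c) c = n b c := fun {b c} h c0 => by
    have e : n b c = X (b / σ c) (σ c)⁻¹ * ((n b c)⁻¹ * X (b / c) (σ c)⁻¹ * n b c) * ((n b c)⁻¹ * Y b c * n b c) := by
      simp [n, mul_assoc]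
    refine (e.trans (uq ?_ c0 (hX _ _) (cQ (n2 h c0) (hX _ _)) (cQ' (n2 h c0) (hY _ _)) ?_ (e ▸ (n2 h c0).1)
      (e ▸ (n2 h c0).2.1))).symm
    · simp only [map_div₀, map_mul, S.σσ, h]; field_simp [s0 c0]
    · convert cE h c0 (x1 h c0).1 using 2 <;> field_simp [s0 c0]
  have dQ : ∀ {t x}, π t ∈ S.Dg S.m → x ∈ Lf p π (S.Q j) → t * x * t⁻¹ ∈ Lf p π (S.Q j) := fun h =>
    conj_Lf fun _ => conj_Q (hj ▸ h)
  have r3 : ∀ {b c}, c + σ c = σ b * b → c ≠ 0 → ∀ {a t}, a ≠ 0 → π t ∈ S.Dg S.m → S.Tor j w a (π t) →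
      t * n b c * t⁻¹ = n (σ a / a ^ 2 * b) (c / (a * σ a)) := fun {b c} h c0 a t a0 h1 h2 => by
    have e : t * n b c * t⁻¹ = t * X (b / c) (σ c)⁻¹ * t⁻¹ * (t * Y b c * t⁻¹) * (t * X (b / σ c) (σ c)⁻¹ * t⁻¹) := by
      simp [n, mul_assoc]
    obtain ⟨h3, h4⟩ := mem_Dg.1 h1 j hj'
    refine e.trans (uq ?_ (by simp [c0, a0]) (dQ h1 (hX _ _)) (conj_Lf (fun _ => conj_Q' (hj ▸ h1)) (hY _ _)) (dQ h1 (hX _ _)) ?_
      (by simpa only [← e, map_mul, map_inv] using (h4.mul (n2 h c0).1).mul h3.inv)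
      (by simpa only [← e, map_mul, map_inv] using (h3.mul (n2 h c0).2.1).mul h4.inv))
    · simp only [map_div₀, map_mul, map_pow, S.σσ]; field_simp [s0 a0]; linear_combination h
    · have := (hY' b c h).act h2.2.1
      rw [map_smul, h2.2.2.1, smul_smul, smul_smul] at this
      convert this using 2 <;> simp [S.σσ] <;> field_simp
  have r4 : ∀ {b c}, c + σ c = σ b * b → c ≠ 0 → ∀ r ≠ 0, σ r = -r → c + r ≠ 0 →
      n b (c + r) = n b c * n 0 r * n (r * b / σ c) (-r * (c + r) / c) := fun {b c} h c0 r r0 hr h1 => by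
    have h2 : r + σ r = σ 0 * 0 := by simp [hr]
    have h3 : -r * (c + r) / c + σ (-r * (c + r) / c) = σ (r * b / σ c) * (r * b / σ c) := by
      simp only [map_div₀, map_mul, map_neg, map_add, hr, S.σσ]; field_simp [s0 c0]; linear_combination -r * h
    have h4 : -r * (c + r) / c ≠ 0 := by simp [r0, h1, c0]
    have h5 := (((x1 h2 r0).1.mul (x1 h c0).2 (S.ee _ _) (wW _ j hj').1 (wW _ j hj').1).inv (S.ee _ _)
      (by simp [(wW _ j hj').1]))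
    rw [← map_mul π, ← map_inv π, ← add_smul, ← neg_smul] at h5
    have h6 := kQ'.eq_of_map_eq (cQ (n2 h2 r0) (inv_mem (mul_mem (hX _ _) (hX _ _)))) (hY _ _) ((cE h2 r0 h5).unique (by
      convert hY' _ _ h3 using 2
      · rw [hr]; field_simp; ring
      · simp [LinearMap.map_smulₛₗ, ww, hr, S.σσ]; field_simp [s0 c0]; linear_combination r * h))
    obtain ⟨a, ha, a', ha', e'⟩ : ∃ a ∈ Lf p π (S.Q j), ∃ a' ∈ Lf p π (S.Q j), n (r * b / σ c) (-r * (c + r) / c) =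
      a * Y (r * b / σ c) (-r * (c + r) / c) * a' := ⟨_, hX _ _, _, hX _ _, rfl⟩
    have e : n b c * n 0 r * n (r * b / σ c) (-r * (c + r) / c) = n b c * n 0 r * a * (n b c * n 0 r)⁻¹ * X (b / c) (σ c)⁻¹ *
        (Y b c * Y 0 r) * (X (0 / σ r) (σ r)⁻¹ * a') := by rw [e', ← h6]; simp [n, mul_assoc]
    have h7 := (n2 h c0).mul (n2 h2 r0)
    obtain ⟨h8, h9⟩ := mem_Dg.1 h7 j hj'
    refine (e.trans (uq (by rw [map_add, hr, ← h]; ring) h1 (mul_mem (dQ (map_mul π _ _ ▸ h7) ha) (hX _ _)) (mul_mem (hY _ _) (hY _ _))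
      (mul_mem (hX _ _) ha') ?_ (by simpa only [← e, map_mul] using h9.mul (n2 h3 h4).1)
      (by simpa only [← e, map_mul] using h8.mul (n2 h3 h4).2.1))).symm
    simpa using (hY' _ _ h).mul (hY' _ _ h2) (S.ff _ _) (wW _ j hj').2 (wW _ j hj').2
  obtain ⟨r, r0, hr, x, y, R, hx, hy, hxy, hh1⟩ := U.exists_rel hj'
  have ht : ∀ t : IsBar.fixedField σ, σ t = t := fun t => t.2
  obtain ⟨x', y', R', hx', hy'⟩ := C.exists_rel R hQ hQ'
    (fun t => ⟨0, zero_mem _, map_zero _, _, U.adm_iff.2 (by simp [ht, hr, div_neg]), hx t⟩)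
    fun t => ⟨0, zero_mem _, map_zero _, _, U.adm_iff.2 (by simp [ht, hr]), hy t⟩
  have a0 : ∀ {c}, σ c = -c → c + σ c = σ 0 * 0 := fun h => by simp [h]
  have t0 : ∀ {c c'}, σ c = -c → c ≠ 0 → σ c' = -c' → c' ≠ 0 → n 0 c * n 0 c' ∈ torus R' := by
    have : ∀ {c}, σ c = -c → c ≠ 0 → ∃ t ≠ 0, nn x' y' t = n 0 c := fun {c} h c0 => by
      let t : IsBar.fixedField σ := ⟨-r / c, by simp [IsBar.mem_fixedField, h, hr, div_neg, neg_div]⟩
      have t0 : t ≠ 0 := fun e => by simpa [t, r0, c0] using congrArg Subtype.val e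
      have e : π (x' t * y' (-t⁻¹) * x' t) = nn x y t := by simp [nn, hx', hy']
      have hX : x' t ∈ Lf p π (S.Q j) := mem_Lf_of (hx' t).1 ((hx' t).2 ▸
        ⟨0, zero_mem _, map_zero _, _, U.adm_iff.2 (by simp [ht, hr, div_neg]), hx t⟩)
      exact ⟨t, t0, uq (a0 h) c0 hX (mem_Lf_of (hy' _).1 ((hy' _).2 ▸ ⟨0, zero_mem _, map_zero _, _,
        U.adm_iff.2 (by simp [ht, hr]), hy _⟩)) hX (by simpa [hy', t, neg_div, div_neg, r0] using hy (-t⁻¹)) (e ▸ (hxy t t0).1)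
        (e ▸ (hxy t t0).2.1)⟩
    intro c c' h c0 h' c0'
    obtain ⟨t, t0, e⟩ := this h c0
    obtain ⟨s, s0, e'⟩ := this h' c0'
    simpa [R'.h_eq, R'.n_neg, e, e'] using mul_mem (show _ ∈ torus R' from ⟨t, t0, rfl⟩)
      (inv_mem (show _ ∈ torus R' from ⟨-s, neg_ne_zero.2 s0, rfl⟩))
  have t1 : ∀ {b c}, c + σ c = σ b * b → c ≠ 0 → S.Tor j w (r / σ c) (π (n b c * n 0 r)) ∧ π (n b c * n 0 r) ∈ S.Dg S.m :=
    fun {b c} h c0 => by
      refine ⟨⟨?_, ?_, ?_, fun l hl e => ?_⟩, map_mul π _ _ ▸ (n2 h c0).mul (n2 (a0 hr) r0)⟩ <;> simp only [map_mul π, mul_app]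
      · rw [(n1 (a0 hr) r0).1, map_smul, (n1 h c0).2.1, smul_smul]; simp [div_eq_mul_inv]
      · rw [(n1 (a0 hr) r0).2.1, map_smul, (n1 h c0).1, smul_smul]; simp [hr, S.σσ, div_eq_inv_mul]
      · rw [n3 (a0 hr) r0, map_smul, n3 h c0, smul_smul]; congr 1; simp [hr, S.σσ]; field_simp
      · simp only [(n2 h c0).2.2 l hl e, (n2 (a0 hr) r0).2.2 l hl e, and_self]
  have t2 : ∀ a ≠ 0, ∃ t, S.Tor j w a (π t) ∧ π t ∈ S.Dg S.m := fun a a0 => by
    obtain ⟨b, h⟩ := hb.exists_norm_eq (hb.trace_fixed (σ (r / a)))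
    have := t1 ((mul_comm _ _).trans h).symm (by simp [r0, a0])
    rw [S.σσ, div_div_cancel₀ r0] at this
    exact ⟨_, this⟩
  obtain ⟨g, g0, -, hg⟩ := exists_gen hb
  obtain ⟨t₀, ht₀, -⟩ := t2 g g0
  let H := (Subgroup.zpowers (π t₀)).comap π
  have t3 : ∀ {a t}, a ≠ 0 → S.Tor j w a (π t) → t ∈ H := fun {a t} a0 h => by
    obtain ⟨k, rfl⟩ := hg a a0
    exact Subgroup.mem_comap.2 (h.unique (ht₀.pow k) hw ▸ Subgroup.npow_mem_zpowers _ k)
  have t4 : ∀ s ∈ H, ∀ t ∈ H, Commute s t := by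
    rintro s ⟨k, hk⟩ t ⟨l, hl⟩
    exact commute_of_map_eq C.cent ((map_zpow π _ _).trans hl)
      (commute_of_map_eq C.cent ((map_zpow π _ _).trans hk) (Commute.zpow_zpow_self t₀ l k)).symm
  have : ((torus R').subgroupOf H).Normal := ⟨fun a ha b => by
    rwa [show b * a = a * b from Subtype.ext (t4 _ b.2 _ a.2), mul_inv_cancel_right]⟩
  choose ν hν using fun b c => show ∃ t : H, c + σ c = σ b * b → c ≠ 0 → t = n b c * n 0 r by
    by_cases h : c + σ c = σ b * b ∧ c ≠ 0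
    exacts [⟨⟨_, t3 (by simp [r0, h.2]) (t1 h.1 h.2).1⟩, fun _ _ => rfl⟩, ⟨1, fun a b => absurd ⟨a, b⟩ h⟩]
  have t5 : ∀ {t : H}, t.1 ∈ torus R' → (t : H ⧸ (torus R').subgroupOf H) = 1 := fun h => (QuotientGroup.eq_one_iff _).2 h
  have t6 : ∀ a ≠ 0, σ (r / (a * σ a)) = -(r / (a * σ a)) ∧ r / (a * σ a) ≠ 0 := fun a a0 =>
    ⟨by simp [hr, S.σσ, mul_comm, neg_div], by simp [r0, a0]⟩
  obtain ⟨γ, ζ, c1, c2, c3⟩ := su3_core hb (φ := fun b c => (ν b c : H ⧸ (torus R').subgroupOf H))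
    (fun c c0 h => t5 (hν 0 c (a0 h) c0 ▸ t0 h c0 hr r0)) (fun b c h c0 => t5 (by
      have h' : σ c + σ (σ c) = σ (-b) * -b := by simpa [S.σσ, add_comm] using h
      have := r3 (a0 hr) r0 (by simp [r0, c0]) (t1 h' (s0 c0)).2 (t1 h' (s0 c0)).1
      rw [mul_zero] at this
      have h4 := t0 (t6 (r / σ (σ c)) (by simp [r0, c0])).1 (t6 _ (by simp [r0, c0])).2 hr r0
      rw [← this, ← r1 h c0] at h4
      simpa [hν _ _ h c0, hν _ _ h' (s0 c0), ← r1 h c0, mul_assoc] using h4))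
    (fun b c h c0 => congrArg _ (Subtype.ext (by
      rw [hν _ _ h c0, hν _ _ (by simp only [map_div₀, map_mul, S.σσ, h]; field_simp [s0 c0]) c0, r2 h c0])))
    (fun b c h c0 a a1 => QuotientGroup.eq.2 (Subgroup.mem_subgroupOf.2 (by
      obtain ⟨t, h1, h2⟩ := t2 a a1
      have h3 := r3 (a0 hr) r0 a1 h2 h1
      rw [mul_zero] at h3
      have h4 := t0 (congrArg σ hr ▸ map_neg σ r ▸ hr ▸ rfl) (s0 r0) (t6 a a1).1 (t6 a a1).2
      rw [← h3, ← neg_zero, ← r1 (a0 hr) r0, neg_zero] at h4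
      rw [Subgroup.coe_mul, Subgroup.coe_inv, hν _ _ (by
        simp only [map_div₀, map_mul, map_pow, S.σσ]; field_simp [s0 a1]; linear_combination h) (by simp [c0, a1]),
        ← r3 h c0 a1 h2 h1, mul_inv_rev (_ * _), mul_inv_rev (t * _), mul_inv_rev t, mul_assoc, mul_assoc, mul_assoc,
        ← (t4 _ (ν b c).2 _ (t3 a1 h1)).inv_right.eq, hν _ _ h c0]
      simpa [mul_assoc] using h4)))
    fun b c h c0 r' r0' hr' h1 => by
      have h4 := t0 (congrArg σ hr ▸ map_neg σ r ▸ hr ▸ rfl) (s0 r0) hr' r0'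
      rw [← neg_zero, ← r1 (a0 hr) r0, neg_zero] at h4
      have := t5 (t := (ν b c)⁻¹ * ν b (c + r') * (ν (r' * b / σ c) (-r' * (c + r') / c))⁻¹) (by
        rw [Subgroup.coe_mul, Subgroup.coe_mul, Subgroup.coe_inv, Subgroup.coe_inv, hν _ _ h c0,
          hν _ _ (by rw [map_add, hr', ← h]; ring) h1, hν _ _ (by
            simp only [map_div₀, map_mul, map_neg, map_add, hr', S.σσ]; field_simp [s0 c0]; linear_combination -r' * h)
            (by simp [r0', h1, c0]), r4 h c0 r' r0' hr' h1]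
        simpa [mul_assoc] using h4)
      simpa [mul_inv_eq_one, inv_mul_eq_iff_eq_mul] using this
  refine ⟨_, n 0 r, dec_of_set hj (s := {a | ∃ b c, c + σ c = σ b * b ∧ c ≠ 0 ∧ a = n b c}) ⟨0, r, a0 hr, r0, rfl⟩ ?_
    fun y hy => ?_, eq_bot_iff.2 fun z ⟨hz, hz'⟩ => ?_⟩
  · rintro _ ⟨b, c, h, c0, rfl⟩
    exact ⟨n2 h c0, mul_mem (mul_mem (Q_le_EE le_rfl hj' (hX _ _)) (Q'_le_EE le_rfl hj' (hY _ _))) (Q_le_EE le_rfl hj' (hX _ _)),
      _, _, by simpa [S.σσ, add_comm] using h, s0 c0, r1 h c0⟩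
  · obtain ⟨v, hv, -, c, h1, h2⟩ := kQ'.map_mem y hy
    obtain ⟨b, rfl⟩ := Submodule.mem_span_singleton.1 (hw ▸ hj ▸ hv)
    have h := ad.1 h1
    by_cases c0 : c = 0
    · obtain rfl : b = 0 := by simpa [c0] using h
      exact .inl (kQ'.inj y hy (h2.unique (by simpa [c0] using ei_one _)))
    · exact .inr ⟨_, ⟨b, c, h, c0, rfl⟩, _, inv_mem (hX (b / c) (σ c)⁻¹), _, inv_mem (hX (b / σ c) (σ c)⁻¹), by
        rw [kQ'.eq_of_map_eq hy (hY b c) (h2.unique (hY' b c h))]; simp [n, mul_assoc]⟩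
  let M₀ : Submonoid H :=
    { carrier := {t | ∃ k : ℕ, (t : H ⧸ (torus R').subgroupOf H) = γ ^ k ∧ S.ρ (π t) w = ζ ^ k • w}
      one_mem' := ⟨0, by simp⟩
      mul_mem' := fun ⟨k, h1, h2⟩ ⟨l, h3, h4⟩ => ⟨k + l, by simp [h1, h3, pow_add], by
        simp [h2, h4, pow_add, smul_smul, mul_comm]⟩ }
  let M : Subgroup H := { M₀ with inv_mem' := inv_mem_of_finite M₀ }
  have m1 : ∀ {b c}, c + σ c = σ b * b → c ≠ 0 → n b c * n 0 r ∈ M.map H.subtype := fun {b c} h c0 => by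
    obtain ⟨k, h1, h2⟩ := c3 b c h c0
    refine ⟨_, ⟨k, h2, ?_⟩, hν b c h c0⟩
    rw [hν b c h c0, (t1 h c0).1.2.2.1, ← mul_div_cancel_right₀ (ζ ^ k) c0, ← h1]
    congr 1; simp [hr, S.σσ]; field_simp
  obtain ⟨z, ⟨k, h1, h2⟩, rfl⟩ : z ∈ M.map H.subtype := (Subgroup.closure_le _).2 (by
    rintro _ ⟨_, ⟨b, c, h, c0, rfl⟩, _, ⟨b', c', h', c0', rfl⟩, rfl⟩
    have := mul_mem (m1 h c0) (inv_mem (m1 (b := -b') (by simpa [S.σσ, add_comm] using h') (s0 c0')))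
    simpa [← r1 h' c0', mul_assoc] using this) hz
  have h3 : π z = 1 := hz'
  obtain ⟨k, rfl⟩ := (c2.pow_eq_one_iff_dvd k).1 (by simpa [h3, ww] using congrArg (S.B w) h2.symm)
  rw [pow_mul, c1, one_pow, QuotientGroup.eq_one_iff] at h1
  obtain ⟨t, t0, e⟩ := Subgroup.mem_subgroupOf.1 h1
  obtain rfl := hh1 t t0 (by rw [← h3, e]; simp [hh, nn, hx', hy'])
  exact e.trans R'.h_one

theorem sup_eq_top (hm : 0 < S.m) (h : Subgroup.closure {g | ∃ v, S.adm v 0 ∧ S.EQ v 0 g} = ⊤) : S.Q 0 ⊔ S.Q' 0 = ⊤ := by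
  have key : ∀ {e f} (he : S.adm e 0) (hf : S.adm f 0) {H : Subgroup G}, S.B e f = 1 →
      (∀ v, S.B e v = 0 → S.B f v = 0 → v ∈ S.W 1) → S.Qg e he (S.W 1) ≤ H → S.Qg f hf (S.W 1) ≤ H → ∀ v, S.adm v 0 → S.B e v ≠ 0 →
      ∀ g, S.EQ v 0 g → g ∈ H := fun {e f} he hf H ef h1 h2 h3 v hv h4 g hg => by
    have fe := U.herm.flip_one ef
    have a1 := S.self_of_adm he
    have a2 := S.self_of_adm hf
    have a3 := S.self_of_adm hv
    have a4 : S.B e ((S.B e v)⁻¹ • v - f - ((S.B e v)⁻¹ * S.B f v) • e) = 0 := by simp [a1, ef, h4]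
    have a5 : S.adm ((S.B e v)⁻¹ • v - f - ((S.B e v)⁻¹ * S.B f v) • e) (-((S.B e v)⁻¹ * S.B f v)) := U.adm_iff.2 (by
      simp [LinearMap.map_smulₛₗ, a1, a2, a3, ef, fe, h4, ← S.symm e v, ← S.symm f v]
      field_simp [(map_ne_zero σ).2 h4]; ring)
    obtain ⟨u, hu⟩ := S.ex he a4 a5
    have a6 := h2 ⟨_, h1 _ a4 (by simp [a2, fe]), a4, _, a5, hu⟩
    have a7 := hg.conj u⁻¹
    rw [S.inv_app (x := S.B e v • f) (by
      rw [map_smul, hu]; simp [LinearMap.map_smulₛₗ, ef, a2, smul_sub, smul_smul, h4, ← S.symm f v]; abel), map_zero] at a7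
    simpa [mul_assoc] using mul_mem (mul_mem a6 (h3 ⟨_, by simp, a7.smul⟩)) (inv_mem a6)
  have k1 := key (H := S.Q 0 ⊔ S.Q' 0) (S.adm_e 0) (S.adm_f 0) (S.ef hm) (fun v h h' l hl => Nat.lt_one_iff.1 hl ▸ ⟨h, h'⟩)
    le_sup_left le_sup_right
  refine eq_top_iff.2 (h.ge.trans ((Subgroup.closure_le _).2 fun g ⟨v, hv, hg⟩ => ?_))
  by_cases h1 : S.B (S.e 0) v = 0
  swap
  · exact k1 v hv h1 g hg
  by_cases h2 : S.B (S.f 0) v = 0
  swap
  · exact key (S.adm_f 0) (S.adm_e 0) (S.fe hm) (fun v h h' l hl => Nat.lt_one_iff.1 hl ▸ ⟨h', h⟩) le_sup_right le_sup_left v hv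
      h2 g hg
  by_cases h0 : v = 0
  · obtain ⟨-, c, -, hg⟩ := hg
    exact S.inj (a₂ := 1) (LinearEquiv.ext fun x => by rw [hg]; simp [h0]) ▸ one_mem _
  obtain ⟨z, hz⟩ := U.herm.exists_ne_zero h0
  have h3 := proj_mem_W hm (x := z) fun _ h => absurd h (Nat.not_lt_zero _)
  obtain ⟨u, hu⟩ := U.exists_EQ (S.adm_f 0) (h3 0 one_pos).2
  have h4 : u ∈ S.Q 0 ⊔ S.Q' 0 := Subgroup.mem_sup_right ⟨_, h3, hu⟩
  obtain ⟨-, c, -, hu⟩ := hu
  have h5 := k1 _ (S.adm_map u hv) (by rw [hu]; simp [h1, h2, S.ef hm, LinearMap.map_smulₛₗ, U.herm.flip_ne hz]) _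
    (map_zero (S.ρ u) ▸ hg.conj u)
  exact (show u⁻¹ * (u * g * u⁻¹) * u = g by group) ▸ mul_mem (mul_mem (inv_mem h4) h5) h4

theorem ker_eq_bot [FiniteDimensional K V] [Finite E] (hπ : IsStemExtension π) {n : ℕ} (hn : Module.finrank K V = n)
    (h3 : 3 ≤ n) (h4 : 5 ≤ n ∨ 4 ≤ q ∨ 3 ≤ q ∧ n = 3) (h5 : ¬(n = 6 ∧ q = 2)) (hm : S.m = n / 2)
    (hW : S.W S.m = ⊥ ∨ ∃ w, S.W S.m = K ∙ w ∧ S.B w w = 1) (h : Subgroup.closure {g | ∃ v, S.adm v 0 ∧ S.EQ v 0 g} = ⊤)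
    (hG : Nat.card G ∣ guOrder q n) : π.ker = ⊥ := by
  have hb := U.herm.bar
  have := Finite.of_surjective π hπ.1
  have := hb.finite
  have := U.herm.finite
  obtain ⟨p, f, hp, _, hf, rfl⟩ := hb.exists_prime_pow
  choose! L hL using fun k (hk : k < S.m) => U.exists_kAt_Q hπ.1 hπ.2.1 hn h3 h4 (by omega) hk
  have key : ∀ j ≤ S.m, (∏ k ∈ Finset.range j, Nat.card (S.Q k)) * (p ^ f) ^ (2 * j * (j + 1)) = (p ^ f) ^ ((2 * n + 1) * j) :=
    fun j hj => by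
      induction j with
      | zero => simp
      | succ j ih =>
        have h1 := card_W (S := S) hj
        rw [hb.card, Module.natCard_eq_pow_finrank (K := K) (V := V), hb.card, hn] at h1
        rw [Finset.prod_range_succ, card_Q hj fun v => by
          simpa only [U.adm_iff] using hb.card_trace_eq (U.herm.self_fixed v), Nat.mul_succ (2 * n + 1), pow_add _ (_ * j),
          ← ih (by omega), pow_succ _ (2 * n), pow_mul _ 2 n, ← h1]
        ring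
  have C := cop_of_kAt hπ hp (fun k hk => (hL k hk).1) (fun k hk => (hL k hk).2)
    (r := ∏ i ∈ Finset.range n, if Even i then (p ^ f) ^ (i + 1) + 1 else (p ^ f) ^ (i + 1) - 1) (by
      have h1 : ∀ k, p ∣ (p ^ f) ^ (k + 1) := fun k => dvd_pow (dvd_pow_self p hf.ne') k.succ_ne_zero
      rw [hp.prime.dvd_finsetProd_iff, not_exists]
      rintro i ⟨-, h⟩
      split_ifs at h
      exacts [hp.not_dvd_one ((Nat.dvd_add_right (h1 i)).1 h),
        hp.not_dvd_one ((Nat.dvd_sub_iff_right (Nat.one_le_pow _ _ (Nat.pow_pos hp.pos)) (h1 i)).1 h)]) (by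
      convert hG using 1
      congr 1
      refine Nat.eq_of_mul_eq_mul_right (Nat.pow_pos (Nat.pow_pos hp.pos)) ((key _ le_rfl).trans ?_)
      rw [← pow_add, hm]
      congr 1
      obtain ⟨k, rfl | rfl⟩ := (n - 1).even_or_odd' |>.imp fun k (h : _ ∨ _) => show n = 2 * k + 1 ∨ n = 2 * (k + 1) by omega
      · rw [Nat.add_sub_cancel, mul_comm _ (2 * k), mul_assoc 2, Nat.mul_div_cancel_left _ two_pos,
          show (2 * k + 1) / 2 = k by omega]; ring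
      · rw [mul_assoc 2, Nat.mul_div_cancel_left _ two_pos, Nat.mul_div_cancel_left _ two_pos,
          show 2 * (k + 1) - 1 = 2 * k + 1 by omega]; ring)
  have hp' := CharP.cast_eq_zero K p
  have hj : S.m - 1 + 1 = S.m := by omega
  obtain ⟨T, w, D, hT⟩ := hW.elim (U.dec_even C hp' hj) fun ⟨w, h1, h2⟩ => U.dec_odd C hp' hj h1 h2
  rwa [inf_eq_right.2 (D.ker_le C hp' hj (EE_eq_top C hp' hπ.2.2 (by omega) (U.sup_eq_top (by omega) h)))] at hT

end Un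

end Sp

section Inst

universe u

variable {F : Type u} [Field F] {σ : F →+* F} {q n : ℕ} {a u : F}

/-- The vectors of the standard frame. -/
def fu (n : ℕ) (c a : F) (l : ℕ) : Fin n → F := fun i =>
  if l < n / 2 then if i.1 = 2 * l then c else if i.1 = 2 * l + 1 then c * a else 0 else 0

theorem stdB_fu (c a : F) (l : ℕ) (v : Fin n → F) : stdB σ (Fin n) (fu n c a l) v =
    if h : l < n / 2 then σ c * (v ⟨2 * l, by omega⟩ + σ a * v ⟨2 * l + 1, by omega⟩) else 0 := by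
  rw [stdB_apply]
  split_ifs with h
  · rw [Finset.sum_eq_add_of_mem (⟨2 * l, by omega⟩ : Fin n) ⟨2 * l + 1, by omega⟩ (by simp) (by simp) (by simp) fun i _ hi => by
      simp [fu, show i.1 ≠ 2 * l from Fin.val_ne_of_ne hi.1, show i.1 ≠ 2 * l + 1 from Fin.val_ne_of_ne hi.2]]
    simp [fu, h]; ring
  · simp [fu, h]

/-- The special unitary group as a group of isometries. -/
noncomputable def spU (h : IsBar σ q) (ha : a * σ a = -1) (hu : u * σ u = 1) (hu' : u ≠ 1) :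
    Sp σ (Fin n → F) (SUG (stdB σ (Fin n))) where
  B := stdB σ (Fin n)
  adm v c := c + σ c = stdB σ (Fin n) v v
  ρ := Subgroup.subtype _
  inj := Subgroup.subtype_injective _
  σσ := h.bar_bar
  symm := (isHerm_stdB h _).symm
  adm_zero := by simp
  adm_add {v _ w _} h1 h2 := by simp [(isHerm_stdB h _).symm, ← h1, ← h2]; ring
  adm_smul _ h1 := by simp [LinearMap.map_smulₛₗ, h.bar_bar, ← h1]; ring
  adm_σ h1 := by rw [h.bar_bar, add_comm, h1]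
  adm_tr h1 := h1
  mem_UG g := SUG_le_UG g.2
  adm_map g _ _ h1 := h1.trans (SUG_le_UG g.2 _ _).symm
  ex h1 h2 h3 := let ⟨g, hg, h4⟩ := (isHerm_stdB h _).exists_eich (by simpa using h1.symm) h2 h3; ⟨⟨g, hg⟩, h4⟩
  m := n / 2
  e := fu n 1 a
  f := fu n (1 - u)⁻¹ (a * u)
  adm_e i := by rw [stdB_fu]; split_ifs with h1 <;> simp [fu, h1]; grind
  adm_f i := by rw [stdB_fu]; split_ifs with h1 <;> simp [fu, h1, -mul_eq_zero]; grind
  ee i j := by rw [stdB_fu]; simp only [fu]; split_ifs <;> grind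
  ff i j := by rw [stdB_fu]; simp only [fu, map_mul]; split_ifs <;> grind
  ef_ne h1 := by rw [stdB_fu]; simp only [fu]; split_ifs <;> grind
  ef h1 := by rw [stdB_fu]; simp only [fu]; split_ifs <;> grind

theorem hasSM_psu [Fintype F] (hF : Fintype.card F = q ^ 2) (hn : 3 ≤ n) (h4 : 5 ≤ n ∨ 4 ≤ q ∨ 3 ≤ q ∧ n = 3)
    (h5 : ¬(n = 6 ∧ q = 2)) : HasCyclicSchurMultiplier (PSU n F q) (Nat.gcd n (q + 1)) := by
  have h := isBar_bar hF
  have H := isHerm_stdB h (Fin n)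
  have h0 : Module.finrank F (Fin n → F) = n := by simp
  have h32 : ¬(Module.finrank F (Fin n → F) = 3 ∧ q = 2) := by omega
  obtain ⟨a, ha⟩ := h.exists_norm_eq (a := -1) (by simp)
  obtain ⟨u, hu, hu'⟩ := exists_norm_pow h
  have h1 : u ≠ 1 := by simpa using hu' 1 one_ne_zero (by have := h.two_le; omega)
  let S := spU (n := n) h ha hu h1
  have := H.finite_equiv
  have : Nontrivial (Fin n → F) := Module.nontrivial_of_finrank_pos (R := F) (by omega)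
  have h2 : ∀ x ∈ S.W S.m, ∀ i : Fin n, i.1 / 2 < n / 2 → x i = 0 := fun x hx i hi => by
    have h2 := hx _ hi
    simp only [S, spU, stdB_fu, dif_pos hi, map_one, one_mul, map_mul, mul_eq_zero, map_eq_zero, inv_eq_zero,
      sub_ne_zero.2 h1.symm, false_or] at h2
    have h3 : bar hF u ≠ 1 := fun e => h1 (by simpa [e] using hu)
    have h4 : x ⟨2 * (i / 2) + 1, by omega⟩ = 0 := by grind
    obtain e | e : i = ⟨2 * (i / 2), by omega⟩ ∨ i = ⟨2 * (i / 2) + 1, by omega⟩ := by simp only [Fin.ext_iff]; omega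
    · exact e ▸ by simpa [h4] using h2.1
    · exact e ▸ h4
  refine HasSM.congr_left (CL.Chev.hasSM_quotient_of_trivial (trivial_of_forall_stem fun Δ _ _ τ hτ =>
    Sp.Un.ker_eq_bot (S := S) ⟨H, Iff.rfl, fun g hg => ⟨⟨g, hg⟩, rfl⟩⟩ hτ h0 hn h4 h5 rfl ?_ ?_
      (Dvd.intro_left _ (H.card_SUG.trans (by rw [h0])))) ⟨H.commutator_SUG (by omega) h32⟩ ?_
    ((H.card_center_SUG (by omega)).trans (by rw [h0]))) (centerQuotCongr (suEquiv h n)).symm
  · rcases n.even_or_odd' with ⟨k, rfl | rfl⟩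
    · exact .inl (eq_bot_iff.2 fun x hx => funext fun i => h2 x hx i (by omega))
    refine .inr ⟨Pi.single (Fin.last _) 1, le_antisymm (fun x hx => Submodule.mem_span_singleton.2 ⟨x (Fin.last _),
      funext fun i => ?_⟩) ((Submodule.span_singleton_le_iff_mem _ _).2 fun l hl => ?_), by simp [S, spU, stdB_single_left]⟩
    · by_cases e : i = Fin.last _
      · simp [e]
      · simp [e, h2 x hx i (by have := Fin.val_lt_last e; omega)]
    · have : l < (2 * k + 1) / 2 := hl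
      simp [S, spU, stdB_fu, Fin.ext_iff, show l ≠ k by omega, show 2 * l + 1 ≠ 2 * k by omega]
  · refine eq_top_iff.2 ((H.closure_tv_eq_top h32).ge.trans (Subgroup.closure_mono fun g ⟨v, c, h1, h2, h3⟩ => ?_))
    exact ⟨v, by simp [S, spU, h1], map_zero _, -c, by simp [S, spU, h2], isEich_zero.2 (by rwa [neg_neg])⟩
  · obtain ⟨v, hv⟩ := H.exists_self_eq (a := 1) (map_one _)
    have key := fun g : Subgroup.center (SUG (stdB (bar hF) (Fin n))) => (H.mem_center_SUG (by omega) _).1 g.2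
    refine isCyclic_of_injective_ringHom (R := F) ⟨⟨fun g => stdB (bar hF) _ v (g.1.1 v), hv⟩, fun g g' => ?_⟩ fun g g' e => ?_
    all_goals
      obtain ⟨a, ha⟩ := key g
      obtain ⟨b, hb⟩ := key g'
    · simp [ha, hb, hv]
    · obtain rfl : a = b := by simpa [ha, hb, hv] using show stdB _ _ v (g.1.1 v) = stdB _ _ v (g'.1.1 v) from e
      ext x; rw [ha, hb]

end Inst

end CL.Pq
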