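/-
Bounded presentations of the orthogonal groups of plus type.
-/
import Cfsg.Agent.Known.PresD
import Cfsg.Agent.Known.StbSpin
import Cfsg.Agent.Known.ClsLaw
import Cfsg.Agent.Cls.OrthIsoGlue
import Cfsg.Agent.Cls.OrthNeg

set_option autoImplicit false

universe u

namespace CL.Known

open Matrix CL.Chev CL.Cls QuadraticMap

variable {F : Type u} [Field F]

/-- the Levi subgroup `SL_m` of `O⁺_{2m}` -/
noncomputable def levO (m : ℕ) (F : Type u) [Field F] : SpecialLinearGroup (Fin m) F →* OG (qfPlus m F) :=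
  OG.ofRep _ (toLinAlgEquiv'.toMonoidHom.comp hypM) hypM_quad

theorem levO_elt {m : ℕ} {i j : Fin m} (h : i ≠ j) (t : F) :
    levO m F (elt i j t) = eich _ (Pi.single (.inl i) 1) (t • Pi.single (.inr j) 1) := OG.ext' fun v => by
  change fromBlocks (elt i j t).1 0 0 ((elt i j t)⁻¹).1ᵀ *ᵥ v = _
  rw [← addHom_neg (stRel_elt.add i j h), elt_val h, elt_val h, fromBlocks_mulVec, eich_app (qfPlus_single _)
    (by simp [polar_qfPlus_single, h]), polar_smul_left, polar_qfPlus_single, polar_qfPlus_single, Cls.map_smul', qfPlus_single]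
  ext (k | k) <;> simp [add_mulVec, single_mulVec, Pi.single_apply, Function.update_apply]
  all_goals split_ifs <;> simp [*, sub_eq_add_neg, mul_comm]

variable [Finite F]

theorem bp_OPlus {k d r : ℕ} (hB : BP (SpecialLinearGroup (Fin (k + 4)) F) d r) :
    BP (commutator (OG (qfPlus (k + 4) F))) (d + 1) (r + if k = 0 then 7 else 6) := by
  set Q := qfPlus (k + 4) F
  have h5 : 5 ≤ Module.finrank F (Fin (k + 4) ⊕ Fin (k + 4) → F) := by simp; omega
  let O : OFrame 0 (k + 2 + 2) Q := frameD _ F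
  let C := O.cover (.inl rfl)
  let π : SpG Q →* OG Q := (MonoidHom.snd _ _).comp (SpG Q).subtype
  have m : ∀ u v, eich Q u v ∈ commutator (OG Q) := eich_mem_commutator nondeg_qfPlus h5
  have πy : ∀ x t, π (C.y x t) = eich Q (Pi.single x.1.1 1) ((((x.1.2.2 : ℤ) : F) * t) • Pi.single x.1.2.1 1) :=
    fun x t => Y_snd _ _
  let S := (C.sys.map π).restrict (commutator (OG Q)) fun r t => by rw [StSys.map_x, C.sys_x, πy]; exact m _ _
  have Sx : ∀ r t, (S.x r t).1 = π (C.y (C.sec r) t) := fun _ _ => rfl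
  have m1 : ∀ g, levO _ F g ∈ commutator (OG Q) := fun g => elt_induction (fun g => levO _ F g ∈ _) (by simp)
    (fun i j h t => levO_elt h t ▸ m _ _) (fun a b ha hb => by rw [map_mul]; exact mul_mem ha hb) g
  let σ := refl Q (Pi.single (.inl 0) 1 - Pi.single (.inr 0) 1)
  have σ0 : ∀ v, σ.1 v = v + (v (.inr 0) - v (.inl 0)) • (Pi.single (.inl 0) 1 - Pi.single (.inr 0) 1) := fun v => by
    simp [σ, Q, refl_app, Cls.map_sub', qfPlus_single, polar_qfPlus_single, polar_sub_left, sub_eq_add_neg (a := v), ← neg_smul]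
  have σ1 : ∀ a, a ≠ .inl 0 → a ≠ .inr 0 → σ.1 (Pi.single a 1) = Pi.single a 1 := fun a h h' => by
    simp [σ0, h.symm, h'.symm]
  let lev := (levO _ F).codRestrict _ m1
  let lev' := ((MulAut.conj σ).toMonoidHom.comp (levO _ F)).codRestrict (commutator (OG Q)) fun g =>
    Subgroup.Normal.conj_mem inferInstance _ (m1 g) σ
  have l1 : ∀ i j, i ≠ j → ∀ t, (lev (elt i j t)).1 = eich Q (Pi.single (.inl i) 1) (t • Pi.single (.inr j) 1) :=
    fun i j h t => levO_elt h t
  have l2 : ∀ i j, i ≠ j → ∀ t, (lev' (elt i j t)).1 =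
      eich Q (σ.1 (Pi.single (.inl i) 1)) (t • σ.1 (Pi.single (.inr j) 1)) := fun i j h t => by
    rw [← map_smul, ← eich_conj, ← l1 i j h]; rfl
  have sw : ∀ a b : Fin (k + 4) ⊕ Fin (k + 4), b ≠ a.swap → ∀ t : F,
      eich Q (Pi.single a 1) (-t • Pi.single b 1) = eich Q (Pi.single b 1) (t • Pi.single a 1) := fun a b h t =>
    (congrArg π (OFrame.yv_swap (O := O) (a := b) (b := a) (SysC.swap_ne_of h) t)).symm |> fun e =>
      (Y_snd _ _).symm.trans (e.trans (Y_snd _ _))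
  have key : ∀ x : O.Idx, ∃ s : F, s * s = 1 ∧ ∀ t, (S.x (C.ρ x) t).1 = π (C.y x (s * t)) ∧
      (S.x ((rsD k).neg (C.ρ x)) t).1 = π (C.y (C.star x) (s * t)) := fun x => by
    obtain ⟨s, h1, h2, h3⟩ := C.exists_y_eq x
    exact ⟨s, h1, fun t => by rw [h2, h3, ← mul_assoc, h1, one_mul]; exact ⟨rfl, rfl⟩⟩
  choose s hs hx using key
  have sn : ∀ i : Fin (k + 3), i.succ ≠ i.castSucc := fun i => i.castSucc_lt_succ.ne'
  let x : Option (Fin (k + 3)) → O.Idx := fun i => i.elim ⟨(.inl 1, .inl 0, 1), by simp [O, frameD]⟩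
    fun i => ⟨(.inl i.succ, .inr i.castSucc, 1), by simp [O, frameD, (sn i).symm]⟩
  have ρx : ∀ i, C.ρ (x i) = (rsD k).simple i := by
    rintro (_ | i)
    exacts [Subtype.ext (add_comm _ _), Subtype.ext (sub_eq_add_neg _ _).symm]
  let θ := (CL.Sp.glEquiv _ F).symm.toMonoidHom.comp (OG Q).subtype
  have W : (euclK (.inl rfl) (k + 2)).WRep ((C.sys.map π).map θ) O.wt := O.wrep (.inl rfl)
  refine bp_D (S := S) (W.faithful.of_map.restrict _ _) ?_ (fun c hc => ?_) lev lev'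
    (fun i j h hi hj t => Subtype.ext ?_) (fun i => s (x i)) (fun i => hs _) (fun i t => ⟨Subtype.ext ?_, Subtype.ext ?_⟩)
    (fun t => ⟨Subtype.ext ?_, Subtype.ext ?_⟩) hB
  · have h2 : ∀ a v, eich Q (Pi.single a 1) v ∈ S.grp.map (Subgroup.subtype _) := fun a =>
      eich_mem_of_single (O.Q_i a) (O.polar_i a) fun z hz t => by
        by_cases e : z = a
        · rw [e, eich_smul_self]; exact one_mem _
        · refine ⟨_, S.x_mem_grp (C.ρ ⟨(a, z, 1), hz, e⟩) (s ⟨(a, z, 1), hz, e⟩ * t), (hx _ _).1.trans ?_⟩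
          rw [← mul_assoc, hs, πy]; simp
    refine eq_top_iff.2 fun g _ => ?_
    obtain ⟨y, hy, e⟩ := commutator_le_of_pair nondeg_qfPlus (by omega) (e := Pi.single (O.i (.inl 0)) 1)
      (f := Pi.single (O.i (.inr 0)) 1) ⟨O.Q_i _, O.Q_i _, by rw [O.polar_i]; simp⟩ (h2 _) (h2 _) g.2
    exact Subtype.ext e ▸ hy
  · have h := W.wch_eq_one (StSys.hMul_of_finite _) (c := c)
      ((S.hMul_of_finite.map_torus (π := θ.comp (Subgroup.subtype _)) _ c).symm.trans (by rw [hc, map_one]))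
    have h' : ∀ w, (euclK (.inl rfl) (k + 2)).wch Fˣ w c = 1 := fun w => by
      rw [Eucl.wch_eq_prod]
      exact Finset.prod_eq_one fun j _ => by rw [show Pi.single j 1 = O.wt (.inl j) from rfl, h, _root_.one_zpow]
    have h1 : c none ^ 2 = 1 := by simpa [Eucl.wch, EuclK.cvec_simple, sVec, aVec_one, zpow_ofNat] using h' 1
    have h2 : c = Pi.mulSingle none (c none) * Pi.mulSingle (some 0) (c none)⁻¹ := by
      funext i
      rcases i with _ | i
      · simp
      have := h' (tailVec i)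
      by_cases e : i = 0 <;>
        simp [Eucl.wch, EuclK.cvec_simple, sVec, aVec_tail, tailVec, e, Fin.lt_def, -zsmul_eq_mul] at this ⊢ <;>
        first | exact this | exact eq_inv_of_mul_eq_one_right this
    rcases sq_eq_one_iff.1 (congrArg Units.val h1) with e | e
    · exact .inl (by rw [h2, Units.ext (v := 1) e]; simp)
    · exact .inr (by rw [h2, Units.ext (v := -1) e]; simp)
  · rw [l1 i j h, l2 i j h, σ1 _ (by simpa) (by simp), σ1 _ (by simp) (by simpa)]
  · rw [← ρx, (hx _ t).1, πy, l1 _ _ (sn i)]; simp [x]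
  · rw [← ρx, (hx _ t).2, πy, l1 _ _ (sn i).symm, ← sw (.inr i.succ) _ (by simpa using (sn i).symm)]
    simp [x, C, OFrame.cover, OFrame.star, O, frameD]
  · rw [← ρx, (hx _ t).1, πy, l2 _ _ (by simp), σ1 _ (by simp) (by simp)]; simp [x, σ0]
  · rw [← ρx, (hx _ t).2, πy, l2 _ _ (by simp), σ1 (.inr 1) (by simp) (by simp), σ0]
    simpa [x, C, OFrame.cover, OFrame.star, O, frameD] using sw (.inr 1) (.inr 0) (by simp) _

theorem isCyclic_center_Omega {V : Type*} [AddCommGroup V] [Module F V] [FiniteDimensional F V] {Q : QuadraticForm F V}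
    (hQ : (polarBilin Q).Nondegenerate) (h5 : 5 ≤ Module.finrank F V) : IsCyclic (Subgroup.center (commutator (OG Q))) := by
  refine isCyclic_of_card_dvd_prime (p := 2) ?_
  by_cases h : (2 : F) = 0 ∨ negOG Q ∉ commutator (OG Q)
  · simp [center_commutator_eq_bot hQ h5 h]
  · push Not at h
    rw [card_center_commutator_of_mem hQ h5 h.1 h.2]

theorem bp_OPlus_fin {n : ℕ} (hn : 4 ≤ n) : ∃ r, r ≤ 31 ∧ (n ≤ 5 → r ≤ 29) ∧
    BP (Cfsg.Omega F (Cfsg.quadFormPlus n F)) 8 r ∧ BP (Cfsg.POmega F (Cfsg.quadFormPlus n F)) 8 (r + 1) := by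
  obtain ⟨k, rfl⟩ : ∃ k, n = k + 4 := ⟨n - 4, by omega⟩
  have := isCyclic_center_Omega (nondeg_qfPlus (m := k + 4) (F := F)) (by simp; omega)
  suffices ∃ r, r ≤ 31 ∧ (k + 4 ≤ 5 → r ≤ 29) ∧ BP (commutator (OG (qfPlus (k + 4) F))) 8 r from
    let ⟨r, h1, h2, h⟩ := this
    ⟨r, h1, h2, h.of_equiv (omegaEquiv (qfPlus _ F)).symm, h.quotient_center.of_equiv (pomegaEquiv (qfPlus _ F)).symm⟩
  rcases k with _ | _ | k
  · exact ⟨29, by simp, by simp, (bp_OPlus (bp_SL4 (stLift_fin (by simp)))).le (by simp) (by simp)⟩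
  · exact ⟨29, by simp, by simp, (bp_OPlus (k := 1) (bp_SL5 (stLift_fin (by simp)))).le (by simp) (by simp)⟩
  · exact ⟨31, le_rfl, by omega, (bp_OPlus (bp_SL_fin (by simp))).le (by simp) (by simp)⟩

end CL.Known
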