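/-
Element orders of `PSp_{2n}(q)`: symmetric orbits of eigenvalues.
-/
import Cfsg.Agent.Known.SpecLU2

set_option autoImplicit false
set_option linter.unusedSectionVars false

namespace CL.Spec

section Field

variable {K : Type*} [Field K] {Q : ℤ} {t : ℕ} {x y : K} {E : Multiset K}

theorem orb_add (d e : ℕ) : orb Q (d + e) x = orb Q d x + orb Q e (x ^ Q ^ d) := by
  induction e with
  | zero => simp
  | succ e ih => rw [← add_assoc, orb_succ, ih, orb_succ, Multiset.add_cons, ← zpow_mul, pow_add]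

/-- The first `t` images of `x` and of `x⁻¹` under `x ↦ x ^ Q`. -/
def sorb (Q : ℤ) (t : ℕ) (x : K) : Multiset K := orb Q t x + orb Q t x⁻¹

@[simp] theorem card_sorb : Multiset.card (sorb Q t x) = 2 * t := by simp [sorb, two_mul]

theorem self_mem_sorb (ht : 0 < t) : x ∈ sorb Q t x := Multiset.mem_add.2 (Or.inl (self_mem_orb ht))

theorem inv_mem_sorb (ht : 0 < t) : x⁻¹ ∈ sorb Q t x := Multiset.mem_add.2 (Or.inr (self_mem_orb ht))

theorem zero_not_mem_sorb (hx : x ≠ 0) : (0 : K) ∉ sorb Q t x := by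
  simp [sorb, zero_not_mem_orb hx, zero_not_mem_orb (inv_ne_zero hx)]

theorem sorb_map_inv : (sorb Q t x).map (·⁻¹) = sorb Q t x := by
  rw [sorb, Multiset.map_add, map_orb_inv, map_orb_inv, inv_inv, add_comm]

theorem prod_sorb (hx : x ≠ 0) : (sorb Q t x).prod = 1 := by
  simp [sorb, prod_orb hx, prod_orb (inv_ne_zero hx), zpow_ne_zero _ hx]

theorem sorb_map (h : x ^ Q ^ t = x ∨ x ^ Q ^ t = x⁻¹) : (sorb Q t x).map (· ^ Q) = sorb Q t x := by
  rcases h with h | h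
  · rw [sorb, Multiset.map_add, orb_map h, orb_map (by rw [inv_zpow, h])]
  · rw [sorb, ← h, ← orb_add, orb_map (by rw [pow_add, zpow_mul, h, inv_zpow, h, inv_inv])]

theorem orderOf_dvd_of_mem_sorb (hy : y ∈ sorb Q t x) : orderOf y ∣ orderOf x :=
  (Multiset.mem_add.1 hy).elim orderOf_dvd_of_mem_orb fun h => (orderOf_dvd_of_mem_orb h).trans
    (orderOf_dvd_of_pow_eq_one (by simp))

theorem zpow_pow_eq_inv_iff (hx : x ≠ 0) : x ^ Q ^ t = x⁻¹ ↔ (orderOf x : ℤ) ∣ Q ^ t + 1 := by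
  rw [← zpow_eq_one_iff, zpow_add_one₀ hx, mul_eq_one_iff_eq_inv₀ hx]

theorem exists_sorb (hφ : Function.Injective (· ^ Q : K → K)) (hE : E.map (· ^ Q) = E) (hE' : E.map (·⁻¹) = E)
    {c : ℕ} (hc : c ≠ 0) (hx : Multiset.replicate c x ≤ E) (h1 : x⁻¹ ≠ x) : ∃ (t : ℕ) (E' : Multiset K), 0 < t ∧
      (x ^ Q ^ t = x ∨ x ^ Q ^ t = x⁻¹) ∧ (∀ i, x ^ Q ^ i = x → t ∣ i) ∧ E = c • sorb Q t x + E' ∧
        E'.map (· ^ Q) = E' ∧ E'.map (·⁻¹) = E' := by
  classical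
  suffices ∃ (t : ℕ) (E' : Multiset K), 0 < t ∧ (x ^ Q ^ t = x ∨ x ^ Q ^ t = x⁻¹) ∧ (∀ i, x ^ Q ^ i = x → t ∣ i) ∧
      E = c • sorb Q t x + E' by
    obtain ⟨t, E', h1, h2, h3, rfl⟩ := this
    rw [Multiset.map_add, Multiset.map_nsmul, sorb_map h2, add_right_inj] at hE
    rw [Multiset.map_add, Multiset.map_nsmul, sorb_map_inv, add_right_inj] at hE'
    exact ⟨t, E', h1, h2, h3, rfl, hE, hE'⟩
  obtain ⟨d, E₁, d0, x1, x2, rfl, i1⟩ := exists_orb hφ hE hc hx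
  by_cases e : x⁻¹ ∈ orb Q d x
  · obtain ⟨t, t1, t2⟩ := mem_orb.1 e
    have t0 : 0 < t := Nat.pos_of_ne_zero (by rintro rfl; exact h1 (by simpa using t2.symm))
    obtain ⟨u, hu⟩ := x2 (t + t) (by rw [pow_add, zpow_mul, t2, inv_zpow, t2, inv_inv])
    obtain rfl : d = t + t := by
      rcases u with _ | _ | u
      · omega
      · omega
      · nlinarith
    exact ⟨t, E₁, t0, Or.inr t2, fun i hi => (dvd_add dvd_rfl dvd_rfl).trans (x2 i hi), by rw [orb_add, t2, sorb]⟩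
  · have h2 : Multiset.replicate c x⁻¹ ≤ E₁ := by
      have := Multiset.map_le_map (f := (·⁻¹)) hx
      rw [hE', Multiset.map_replicate, ← Multiset.le_count_iff_replicate_le, Multiset.count_add, Multiset.count_nsmul,
        Multiset.count_eq_zero_of_notMem e] at this
      exact Multiset.le_count_iff_replicate_le.1 (by simpa using this)
    obtain ⟨d', E₂, -, y1, y2, rfl, -⟩ := exists_orb hφ i1 hc h2
    obtain rfl : d = d' := Nat.dvd_antisymm (x2 _ (by simpa using y1)) (y2 _ (by simpa using x1))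
    exact ⟨d, E₂, d0, Or.inl x1, x2, by rw [sorb, nsmul_add, add_assoc]⟩

theorem IsPOrd.map_neg {p k m : ℕ} (h : IsPOrd p E k m) : IsPOrd p (E.map (-·)) k m := fun j => by
  have : ∀ x y : K, (-x) ^ j = (-y) ^ j ↔ x ^ j = y ^ j := fun x y => by
    rcases Nat.even_or_odd j with e | e <;> simp [e.neg_pow]
  rw [h j]
  simp [this]

end Field

/-- `S` is the set of element orders of `PSp_{2n}(Q)`. -/
structure SpS (K : Type*) [Field K] (p : ℕ) (Q : ℤ) (n : ℕ) (S : Set ℕ) : Prop where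
  char : IsCharPow p Q
  mem : ∀ m, m ∈ S ↔ ∃ (E : Multiset K) (k : ℕ),
    (Adm p (· ^ Q) (2 * n) E k ∧ E.map (·⁻¹) = E ∧ E.prod = 1) ∧ IsPOrd p E k m
  dvd : ∀ {a b}, b ∈ S → a ∣ b → a ∈ S
  ne : ∀ {a}, a ∈ S → a ≠ 0

theorem spS_PSp {F : Type*} [Field F] [Fintype F] (p : ℕ) [Fact p.Prime] [CharP F p] {n : ℕ} (hn : n ≠ 0) :
    SpS (AlgebraicClosure F) p (Fintype.card F) n (Set.range (orderOf : Cfsg.PSp n F → ℕ)) :=
  ⟨isCharPow_card p, fun m => by simpa only [zpow_natCast] using mem_spec_PSp_iff _ p hn m,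
    CL.Perm.mem_spec_of_dvd, fun h => (CL.Perm.pos_of_mem_spec h).ne'⟩

variable {K : Type*} [Field K] [IsAlgClosed K] {p : ℕ} [hp : Fact p.Prime] [CharP K p] {Q : ℤ} {n : ℕ} {S : Set ℕ}
  {E : Multiset K} {k m : ℕ}

theorem IsCharPow.exists_orderOf_eq_sign (h : IsCharPow p Q) {t : ℕ} (ht : t ≠ 0) {N : ℕ}
    (hN : (N : ℤ) ∣ Q ^ t - 1 ∨ (N : ℤ) ∣ Q ^ t + 1) :
    ∃ x : K, x ≠ 0 ∧ orderOf x = N ∧ (x ^ Q ^ t = x ∨ x ^ Q ^ t = x⁻¹) := by
  obtain ⟨x, x0, rfl, -⟩ := h.exists_orderOf_eq K (d := 2 * t) (by omega) (N := N)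
    (hN.elim (·.trans ⟨Q ^ t + 1, by ring⟩) (·.trans ⟨Q ^ t - 1, by ring⟩))
  exact ⟨x, x0, rfl, hN.imp (zpow_pow_eq_self_iff x0).2 (zpow_pow_eq_inv_iff x0).2⟩

theorem Adm.map_neg {n : ℕ} (hA : Adm p (· ^ Q) n E k) (hQ : IsCharPow p Q) : Adm p (· ^ Q) n (E.map (-·)) k :=
  ⟨by simpa using hA.card, by simpa using hA.ne, by
    simpa using map_mul_zpow (hQ.neg_one_zpow (K := K)) hA.inv, hA.blk.map _⟩

namespace SpS

variable (h : SpS K p Q n S)
include h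

theorem mem_of (hA : Adm p (· ^ Q) (2 * n) E k) (hi : E.map (·⁻¹) = E) (h1 : E.prod = 1)
    (H : ∀ j, (∀ x ∈ E, ∀ y ∈ E, x ^ j = y ^ j) → p ^ k ∣ j → m ∣ j) : m ∈ S := by
  obtain ⟨m', hm⟩ := exists_isPOrd p hA.ne k
  exact h.dvd ((h.mem _).2 ⟨E, k, ⟨hA, hi, h1⟩, hm⟩) (H _ hm.pow_eq hm.pow_dvd)

theorem pow_mem (hk : k = 0 ∨ p ^ (k - 1) < 2 * n) : p ^ k ∈ S :=
  h.mem_of (E := Multiset.replicate (2 * n) 1) ⟨by simp, by simp [Multiset.mem_replicate], by simp, blk_replicate hk 1⟩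
    (by simp) (by simp) fun _ _ h => h

theorem mem_of_sorb {t N : ℕ} (t0 : 0 < t) (ht : t ≤ n) (hN : (N : ℤ) ∣ Q ^ t - 1 ∨ (N : ℤ) ∣ Q ^ t + 1)
    (hk : k = 0 ∨ p ^ (k - 1) < 2 * (n - t)) (H : ∀ j, N ∣ 2 * j → (t < n → N ∣ j) → p ^ k ∣ j → m ∣ j) : m ∈ S := by
  obtain ⟨x, x0, rfl, x2⟩ := h.char.exists_orderOf_eq_sign (K := K) t0.ne' hN
  refine h.mem_of (E := sorb Q t x + Multiset.replicate (2 * (n - t)) 1) ⟨by simp; omega,
    by simp [zero_not_mem_sorb x0, Multiset.mem_replicate], by simp [sorb_map x2],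
    (blk_replicate hk 1).mono (Multiset.le_add_left _ _)⟩ (by simp [sorb_map_inv]) (by simp [prod_sorb x0])
    fun j hj hj' => H j (orderOf_dvd_of_pow_eq_one ?_) (fun e => orderOf_dvd_of_pow_eq_one ?_) hj'
  · have := hj x (by simp [self_mem_sorb t0]) x⁻¹ (by simp [inv_mem_sorb t0])
    rw [two_mul, pow_add]
    nth_rw 1 [this]
    simp [x0]
  · simpa using hj x (by simp [self_mem_sorb t0]) 1 (by simp [Multiset.mem_replicate]; omega)

theorem exists_of_odd (hm : m ∈ S) (ho : Odd m) : ∃ (E : Multiset K) (k : ℕ), Adm p (· ^ Q) (2 * n) E k ∧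
    E.map (·⁻¹) = E ∧ E.prod = 1 ∧ IsPOrd p E k m ∧ ∀ x ∈ E, x ^ m = 1 := by
  obtain ⟨E, k, ⟨hA, hi, h1⟩, hm⟩ := (h.mem m).1 hm
  by_cases e : ∀ x ∈ E, x ^ m = 1
  · exact ⟨E, k, hA, hi, h1, hm, e⟩
  push Not at e
  obtain ⟨x, hx, e⟩ := e
  have h2 := hm.pow_eq x hx x⁻¹ (hi ▸ Multiset.mem_map_of_mem _ hx)
  rw [inv_pow, ← mul_eq_one_iff_eq_inv₀ (pow_ne_zero _ fun e => hA.ne (e ▸ hx)), mul_self_eq_one_iff] at h2
  refine ⟨_, k, hA.map_neg h.char, ?_, ?_, hm.map_neg, fun y hy => ?_⟩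
  · conv_rhs => rw [← hi]
    simp [inv_neg]
  · simpa [hA.card, h1] using prod_map_mul_left (-1) E
  · obtain ⟨z, hz, rfl⟩ := Multiset.mem_map.1 hy
    rw [ho.neg_pow, hm.pow_eq z hz x hx, h2.resolve_left e, neg_neg]

theorem mul_two_mem_of_split (hp2 : p ≠ 2) {E₁ E₂ : Multiset K} (hA : Adm p (· ^ Q) (2 * n) (E₁ + E₂) k)
    (hi : (E₁ + E₂).map (·⁻¹) = E₁ + E₂) (h1 : (E₁ + E₂).prod = 1) (hm : IsPOrd p (E₁ + E₂) k m) (ho : Odd m)
    (h2 : ∀ x ∈ E₁ + E₂, x ^ m = 1) (i2 : E₂.map (· ^ Q) = E₂) (i2' : E₂.map (·⁻¹) = E₂)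
    (he : Even (Multiset.card E₂)) (n1 : E₁ ≠ 0) (n2 : E₂ ≠ 0) (hk : Blk p E₁ k ∨ Blk p E₂ k) : m * 2 ∈ S := by
  have i1 : E₁.map (· ^ Q) = E₁ := by simpa [i2] using hA.inv
  have i1' : E₁.map (·⁻¹) = E₁ := by simpa [i2'] using hi
  refine h.mem_of (E := E₁ + E₂.map (-1 * ·)) (k := k) ⟨by simpa using hA.card, by simpa using hA.ne,
    by rw [Multiset.map_add, i1, map_mul_zpow h.char.neg_one_zpow i2], hk.elim (·.mono (Multiset.le_add_right _ _))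
      (fun hk => (hk.map _).mono (Multiset.le_add_left _ _))⟩ ?_
    (by rwa [Multiset.prod_add, prod_map_mul_left, he.neg_one_pow, one_mul, ← Multiset.prod_add]) fun j hj hj' => ?_
  · rw [Multiset.map_add, i1']
    conv_rhs => rw [← i2']
    simp [inv_neg]
  obtain ⟨x, hx⟩ := Multiset.exists_mem_of_ne_zero n1
  obtain ⟨y, hy⟩ := Multiset.exists_mem_of_ne_zero n2
  have h3 : Even j := by
    have := congrArg (· ^ m) (hj x (by simp [hx]) _ (Multiset.mem_add.2 (Or.inr (Multiset.mem_map_of_mem _ hy))))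
    simp only [pow_right_comm _ j m, mul_pow, h2 x (by simp [hx]), h2 y (by simp [hy]), ho.neg_one_pow,
      one_pow, mul_one] at this
    haveI i : Fact (2 < p) := ⟨by have := hp.out.two_le; omega⟩
    exact (neg_one_pow_eq_one_iff_even (CharP.neg_one_ne_one K p)).1 this.symm
  refine (Nat.coprime_two_right.2 ho).mul_dvd_of_dvd_of_dvd (hm.dvd_of_pow_eq (c := x ^ j) (fun z hz => ?_) hj') h3.two_dvd
  rcases Multiset.mem_add.1 hz with hz | hz
  · exact hj z (by simp [hz]) x (by simp [hx])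
  · simpa [h3.neg_pow] using hj _ (Multiset.mem_add.2 (Or.inr (Multiset.mem_map_of_mem _ hz))) x (by simp [hx])

theorem exists_two_orders (hp2 : p ≠ 2) (hn : 2 ≤ n) :
    ∃ a ∈ S, ∃ b ∈ S, ((¬ ∃ j, 2 * n - 1 = p ^ j) → b = 1) ∧ ∀ m ∈ S, ¬ 2 ∣ m → m * 2 ∈ S ∨ m ∣ a ∨ m ∣ b := by
  haveI : Fact (2 < p) := ⟨by have := hp.out.two_le; omega⟩
  have hne := CharP.neg_one_ne_one K p
  have hpo := hp.out.odd_of_ne_two hp2
  have hQ : ∀ t, Odd (Q ^ t) := fun t => Odd.pow (by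
    obtain ⟨a, -, e⟩ := h.char
    rw [← Int.natAbs_odd, e]; exact hpo.pow)
  have half : ∀ N : ℕ, ((N * 2 : ℕ) : ℤ) ∣ Q ^ n - 1 ∨ ((N * 2 : ℕ) : ℤ) ∣ Q ^ n + 1 → N ∈ S := fun N hN =>
    h.mem_of_sorb (k := 0) (by omega) le_rfl hN (Or.inl rfl) fun j hj _ _ =>
      Nat.dvd_of_mul_dvd_mul_left two_pos (mul_comm N 2 ▸ hj)
  have co : ∀ {m : ℕ} {a : ℤ} (i : ℕ), Odd m → (m : ℤ) ∣ a → 2 ^ i ∣ a → ((m * 2 ^ i : ℕ) : ℤ) ∣ a := fun i ho h1 h2 => by
    rw [Nat.cast_mul]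
    exact (Nat.isCoprime_iff_coprime.2 ((Nat.coprime_two_right.2 ho).pow_right i)).mul_dvd h1 (by exact_mod_cast h2)
  obtain ⟨a, ha, ha'⟩ : ∃ a ∈ S, ∀ m : ℕ, Odd m → (m : ℤ) ∣ Q ^ n - 1 ∨ (m : ℤ) ∣ Q ^ n + 1 → m * 2 ∈ S ∨ m ∣ a := by
    obtain ⟨w, hw⟩ := hQ n
    rcases Int.even_or_odd' w with ⟨v, rfl | rfl⟩
    · refine ⟨(2 * v + 1).natAbs, half _ (Or.inr ?_), fun m ho hm => hm.imp (fun e => half _ (Or.inl ?_)) fun e => ?_⟩
      · rw [Nat.cast_mul]; exact (mul_dvd_mul_right (Int.natAbs_dvd.2 dvd_rfl) _).trans ⟨1, by rw [hw]; ring⟩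
      · rw [mul_assoc]; exact co 2 ho e ⟨v, by rw [hw]; ring⟩
      · exact Int.natCast_dvd.1 ((Nat.isCoprime_iff_coprime.2 (Nat.coprime_two_right.2 ho)).dvd_of_dvd_mul_left
          (e.trans ⟨1, by rw [hw]; ring⟩))
    · refine ⟨(2 * v + 1).natAbs, half _ (Or.inl ?_), fun m ho hm => hm.symm.imp (fun e => half _ (Or.inr ?_)) fun e => ?_⟩
      · rw [Nat.cast_mul]; exact (mul_dvd_mul_right (Int.natAbs_dvd.2 dvd_rfl) _).trans ⟨1, by rw [hw]; ring⟩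
      · rw [mul_assoc]; exact co 2 ho e ⟨v + 1, by rw [hw]; ring⟩
      · exact Int.natCast_dvd.1 ((Nat.isCoprime_iff_coprime.2 (Nat.coprime_two_right.2 ho)).dvd_of_dvd_mul_left
          (e.trans ⟨1, by rw [hw]; ring⟩))
  obtain ⟨b, hb, hb1, hb2⟩ : ∃ b ∈ S, ((¬ ∃ j, 2 * n - 1 = p ^ j) → b = 1) ∧
      ∀ j, 2 * n - 1 = p ^ j → p ^ (j + 1) ∣ b := by
    by_cases e : ∃ j, 2 * n - 1 = p ^ j
    · obtain ⟨j, hj⟩ := e
      exact ⟨p ^ (j + 1), h.pow_mem (Or.inr (by simp; omega)), fun h => absurd ⟨j, hj⟩ h,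
        fun i hi => by rw [Nat.pow_right_injective hp.out.two_le (hi.symm.trans hj)]⟩
    · exact ⟨1, by simpa using h.pow_mem (k := 0) (Or.inl rfl), fun _ => rfl, fun j hj => absurd ⟨j, hj⟩ e⟩
  refine ⟨a, ha, b, hb, hb1, fun m hm ho => ?_⟩
  rw [← even_iff_two_dvd, Nat.not_even_iff_odd] at ho
  obtain ⟨E, k, hA, hi, h1, hm, h2⟩ := h.exists_of_odd hm ho
  obtain ⟨E₀, u, v, rfl, e1, e2, e3⟩ := exists_tame_add E
  have hB := hA.blk.tame_cases e1 e2 e3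
  obtain rfl : v = 0 := by
    by_contra e
    exact hne (by simpa [ho.neg_one_pow] using h2 (-1) (by simp [Multiset.mem_replicate, e]))
  rw [Multiset.replicate_zero, add_zero] at hA hi h1 hm h2
  have e4 := (even_card_prod_of_tame (E := E₀) (by simpa using hi) (fun e => hA.ne (by simp [e])) e1 e2).1
  have hc := hA.card
  rw [Multiset.card_add, Multiset.card_replicate] at hc
  by_cases z : E₀ = 0
  · subst z
    obtain rfl : u = 2 * n := by simpa using hc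
    rw [zero_add] at hA hi h1 hm h2
    have h3 := hm.dvd_of_pow_eq (c := 1) (fun x hx => by rw [Multiset.eq_of_mem_replicate hx, one_pow]) dvd_rfl
    by_cases hk : k = 0 ∨ p ^ (k - 1) < 2 * (n - 1)
    · rw [show 2 * n = 2 + 2 * (n - 1) by omega, Multiset.replicate_add] at hi h1 hm h2
      nth_rw 2 [show 2 * n = 2 + 2 * (n - 1) by omega] at hA
      rw [Multiset.replicate_add] at hA
      exact Or.inl (h.mul_two_mem_of_split hp2 hA hi h1 hm ho h2 (by simp) (by simp) (by simp) (by simp)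
        (by rw [← Multiset.card_pos]; simp; omega) (Or.inr (blk_replicate hk 1)))
    · have h4 := hA.blk.lt_card
      obtain ⟨w, hw⟩ : Odd (p ^ (k - 1)) := hpo.pow
      rw [hA.card] at h4
      exact Or.inr (Or.inr (h3.trans (by
        simpa [Nat.sub_add_cancel (show 1 ≤ k by omega)] using hb2 (k - 1) (by omega))))
  by_cases z' : u = 0
  swap
  · exact Or.inl (h.mul_two_mem_of_split hp2 hA hi h1 hm ho h2 (by simp) (by simp)
      (by obtain ⟨w, hw⟩ := e4; exact ⟨n - w, by simp; omega⟩) z (by rw [← Multiset.card_pos]; simp; omega)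
      (hB.imp_right fun e => blk_replicate (Or.inr (e.resolve_right (by simp))) 1))
  subst z'
  clear hc
  rw [Multiset.replicate_zero, add_zero] at hA hi h1 hm h2
  obtain ⟨x, c, hx, hc⟩ : ∃ (x : K) (c : ℕ), Multiset.replicate c x ≤ E₀ ∧
      ((k = 0 ∧ c = 1) ∨ (k ≠ 0 ∧ c = p ^ (k - 1) + 1)) := by
    by_cases hk : k = 0
    · obtain ⟨x, hx⟩ := Multiset.exists_mem_of_ne_zero z
      exact ⟨x, 1, Multiset.singleton_le.2 hx, Or.inl ⟨hk, rfl⟩⟩
    · obtain ⟨x, hx⟩ := hA.blk.resolve_left hk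
      exact ⟨x, _, hx, Or.inr ⟨hk, rfl⟩⟩
  have c0 : c ≠ 0 := by omega
  have hx' : x ∈ E₀ := Multiset.mem_of_le hx (Multiset.mem_replicate.2 ⟨c0, rfl⟩)
  have x0 : x ≠ 0 := fun e => hA.ne (e ▸ hx')
  obtain ⟨t, E', t0, x1, -, rfl, i2, i2'⟩ := exists_sorb h.char.injective hA.inv hi c0 hx fun e => by
    rcases mul_self_eq_one_iff.1 (show x * x = 1 by nth_rw 1 [← e]; exact inv_mul_cancel₀ x0) with rfl | rfl
    exacts [e1 hx', e2 hx']
  have hcard := hA.card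
  rw [Multiset.card_add, Multiset.card_nsmul, card_sorb, mul_left_comm] at hcard
  by_cases z : E' = 0
  swap
  · refine Or.inl (h.mul_two_mem_of_split hp2 hA hi h1 hm ho h2 i2 i2' ⟨n - c * t, by omega⟩
      (by rw [← Multiset.card_pos]; simp; omega) z (Or.inl (hc.elim (fun hc => Or.inl hc.1) fun hc => Or.inr ⟨x, ?_⟩)))
    rw [← hc.2, ← Multiset.nsmul_singleton]
    exact nsmul_le_nsmul_right (Multiset.singleton_le.2 (self_mem_sorb t0)) c
  subst z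
  rw [Multiset.card_zero] at hcard
  have x2 := x1.imp (zpow_pow_eq_self_iff x0).1 (zpow_pow_eq_inv_iff x0).1
  have h3 : ∀ j, orderOf x ∣ j → p ^ k ∣ j → m ∣ j := fun j hj => hm.dvd_of_pow_eq (c := 1) fun y hy =>
    orderOf_dvd_iff_pow_eq_one.1 ((orderOf_dvd_of_mem_sorb (by simpa [c0] using hy)).trans hj)
  rcases hc with ⟨rfl, rfl⟩ | ⟨hk, hc⟩
  · obtain rfl : t = n := by omega
    have := Int.natCast_dvd_natCast.2 (h3 _ dvd_rfl (by simp))
    exact (ha' m ho (x2.imp this.trans this.trans)).imp_right Or.inl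
  have h4 : Odd (orderOf x) := ho.of_dvd_nat (orderOf_dvd_of_pow_eq_one (h2 x hx'))
  have h5 : t + p ^ (k - 1) ≤ n := by
    have := Nat.le_mul_of_pos_right (p ^ (k - 1)) t0
    rw [hc, add_mul] at hcard
    omega
  have h6 := pow_pos hp.out.pos (k - 1)
  exact Or.inl (h.mem_of_sorb (N := orderOf x * 2 ^ 1) t0 (by omega) (x2.imp (co 1 h4 · (by simpa using (hQ t).sub_odd odd_one |>.two_dvd))
    (co 1 h4 · (by simpa using (hQ t).add_one.two_dvd))) (Or.inr (by omega)) fun j _ hj hj' =>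
      (Nat.coprime_two_right.2 ho).mul_dvd_of_dvd_of_dvd (h3 j ((dvd_mul_right _ _).trans (hj (by omega))) hj')
        ((dvd_mul_left _ _).trans (hj (by omega))))

theorem two_mem (hp2 : p ≠ 2) (hn : 2 ≤ n) : 2 ∈ S := by
  obtain ⟨a, -, e⟩ := h.char
  exact h.mem_of_sorb (k := 0) (N := 2) (t := 1) one_pos (by omega) (Or.inr (by
    simpa using (Int.natAbs_odd.1 (e ▸ (hp.out.odd_of_ne_two hp2).pow)).add_one.two_dvd)) (Or.inl rfl)
    fun j _ hj _ => hj (by omega)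

end SpS

end CL.Spec
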