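/-
Conjugacy classes of `U_3(3)`.
Generated by tools/pg.
-/
import Cfsg.Agent.Comp.PGSpec
import Cfsg.Agent.Spor.PGCtx
import Cfsg.Agent.Spor.PGTop
import Cfsg.Agent.Spor.StdU33

set_option autoImplicit false
set_option maxRecDepth 200000
set_option Elab.async false
set_option linter.unusedVariables false

namespace CL.U33C
open CL.PG

noncomputable def xa6 : Net := (.cons 16 (nat_lit 0x8cd0)
 (.cons 8 (nat_lit 0x900061)
 (.cons 4 (nat_lit 0x50e0107)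
 (.cons 2 (nat_lit 0x2002132)
 (.cons 1 (nat_lit 0x40004004)
 (.cons 2 (nat_lit 0x2002)
 (.cons 4 (nat_lit 0x4000006)
 (.cons 8 (nat_lit 0x900014)
 (.cons 16 (nat_lit 0x8cd0)
 .nil)))))))))
noncomputable def xa7 : Net := (.cons 16 (nat_lit 0x55a6)
 (.cons 8 (nat_lit 0x300024)
 (.cons 4 (nat_lit 0x6000801)
 (.cons 2 (nat_lit 0x21120331)
 (.cons 1 (nat_lit 0x41010441)
 (.cons 2 (nat_lit 0x22020222)
 (.cons 4 (nat_lit 0xc0204)
 (.cons 8 (nat_lit 0x300082)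
 (.cons 16 (nat_lit 0x55b6)
 .nil)))))))))
noncomputable def xa8 : Net := (.cons 16 (nat_lit 0xff0)
 (.cons 8 (nat_lit 0xff0009)
 (.cons 4 (nat_lit 0xf000d0e)
 (.cons 2 (nat_lit 0x1032323)
 (.cons 1 (nat_lit 0x40045504)
 (.cons 2 (nat_lit 0x20000002)
 (.cons 4 (nat_lit 0x800)
 (.cons 8 (nat_lit 0xf000c4)
 (.cons 16 (nat_lit 0xff0)
 .nil)))))))))
noncomputable def xa9 : Net := (.cons 16 (nat_lit 0xd1c6)
 (.cons 8 (nat_lit 0x3a0066)
 (.cons 4 (nat_lit 0x70d0c00)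
 (.cons 2 (nat_lit 0x32020303)
 (.cons 1 (nat_lit 0x10044411)
 (.cons 2 (nat_lit 0x202)
 (.cons 4 (nat_lit 0xc0c02)
 (.cons 8 (nat_lit 0x780046)
 (.cons 16 (nat_lit 0xdc08)
 .nil)))))))))
noncomputable def xa10 : Net := (.cons 16 (nat_lit 0xc944)
 (.cons 8 (nat_lit 0x6e0030)
 (.cons 4 (nat_lit 0x60c0504)
 (.cons 2 (nat_lit 0x2101013)
 (.cons 1 (nat_lit 0x4040054)
 (.cons 2 (nat_lit 0x20002)
 (.cons 4 (nat_lit 0xc080406)
 (.cons 8 (nat_lit 0xa00020)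
 (.cons 16 (nat_lit 0xcc30)
 .nil)))))))))
noncomputable def xa11 : Net := (.cons 16 (nat_lit 0xff4)
 (.cons 8 (nat_lit 0xf00b4)
 (.cons 4 (nat_lit 0xf0a0b)
 (.cons 2 (nat_lit 0x3220310)
 (.cons 1 (nat_lit 0x4514044)
 (.cons 2 (nat_lit 0x2002)
 (.cons 4 (nat_lit 0x602)
 (.cons 8 (nat_lit 0x12)
 (.cons 16 (nat_lit 0xef0)
 .nil)))))))))
noncomputable def xa12 : Net := (.cons 16 (nat_lit 0x9e0e)
 (.cons 8 (nat_lit 0x4400cd)
 (.cons 4 (nat_lit 0x205020e)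
 (.cons 2 (nat_lit 0x11120323)
 (.cons 1 (nat_lit 0x14104414)
 (.cons 2 (nat_lit 0x20002022)
 (.cons 4 (nat_lit 0x206040c)
 (.cons 8 (nat_lit 0xc000a4)
 (.cons 16 (nat_lit 0x9248)
 .nil)))))))))
noncomputable def xa13 : Net := (.cons 16 (nat_lit 0x458e)
 (.cons 8 (nat_lit 0xfa0015)
 (.cons 4 (nat_lit 0x5000309)
 (.cons 2 (nat_lit 0x30013)
 (.cons 1 (nat_lit 0x40050514)
 (.cons 2 (nat_lit 0x20000022)
 (.cons 4 (nat_lit 0x40202)
 (.cons 8 (nat_lit 0xb8009c)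
 (.cons 16 (nat_lit 0x40ec)
 .nil)))))))))
noncomputable def xa14 : Net := (.cons 16 (nat_lit 0x5fea)
 (.cons 8 (nat_lit 0xef00c3)
 (.cons 4 (nat_lit 0xf000e0d)
 (.cons 2 (nat_lit 0x2002130)
 (.cons 1 (nat_lit 0x51004551)
 (.cons 4 (nat_lit 0x80c)
 (.cons 8 (nat_lit 0xa00066)
 (.cons 16 (nat_lit 0x5da0)
 .nil))))))))
noncomputable def xa15 : Net := (.cons 16 (nat_lit 0xeca)
 (.cons 8 (nat_lit 0x870007)
 (.cons 4 (nat_lit 0xe040106)
 (.cons 2 (nat_lit 0x22120233)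
 (.cons 1 (nat_lit 0x41011014)
 (.cons 2 (nat_lit 0x2000002)
 (.cons 4 (nat_lit 0x6020808)
 (.cons 8 (nat_lit 0x8400d8)
 (.cons 16 (nat_lit 0x4be)
 .nil)))))))))
noncomputable def xa16 : Net := (.cons 16 (nat_lit 0x2e36)
 (.cons 8 (nat_lit 0xea0054)
 (.cons 4 (nat_lit 0x6090500)
 (.cons 2 (nat_lit 0x23200121)
 (.cons 1 (nat_lit 0x1114140)
 (.cons 2 (nat_lit 0x2200220)
 (.cons 4 (nat_lit 0xe0a0402)
 (.cons 8 (nat_lit 0xe00058)
 (.cons 16 (nat_lit 0x2d1e)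
 .nil)))))))))
noncomputable def xa17 : Net := (.cons 16 (nat_lit 0xecf)
 (.cons 8 (nat_lit 0x8a0082)
 (.cons 4 (nat_lit 0x8050502)
 (.cons 2 (nat_lit 0x1312232)
 (.cons 1 (nat_lit 0x4450411)
 (.cons 2 (nat_lit 0x200220)
 (.cons 4 (nat_lit 0x806040c)
 (.cons 8 (nat_lit 0x8a0066)
 (.cons 16 (nat_lit 0x9b8)
 .nil)))))))))
noncomputable def xa18 : Net := (.cons 16 (nat_lit 0xb7ff)
 (.cons 8 (nat_lit 0xff0043)
 (.cons 4 (nat_lit 0xb010002)
 (.cons 2 (nat_lit 0x10010113)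
 (.cons 1 (nat_lit 0x1110544)
 (.cons 2 (nat_lit 0x2220000)
 (.cons 4 (nat_lit 0xc080400)
 (.cons 8 (nat_lit 0x5a0004)
 (.cons 16 (nat_lit 0xbe4a)
 .nil)))))))))
noncomputable def xa19 : Net := (.cons 16 (nat_lit 0x40e6)
 (.cons 8 (nat_lit 0x5e0065)
 (.cons 4 (nat_lit 0x5000401)
 (.cons 2 (nat_lit 0x220102)
 (.cons 1 (nat_lit 0x4415014)
 (.cons 2 (nat_lit 0x2020002)
 (.cons 4 (nat_lit 0x40800)
 (.cons 8 (nat_lit 0x1c00e0)
 (.cons 16 (nat_lit 0x4582)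
 .nil)))))))))
noncomputable def xa20 : Net := (.cons 16 (nat_lit 0xc944)
 (.cons 8 (nat_lit 0x6e0030)
 (.cons 4 (nat_lit 0x60c0504)
 (.cons 2 (nat_lit 0x2101013)
 (.cons 1 (nat_lit 0x4040054)
 (.cons 2 (nat_lit 0x20002)
 (.cons 4 (nat_lit 0xc080406)
 (.cons 8 (nat_lit 0xa00020)
 (.cons 16 (nat_lit 0xcc30)
 .nil)))))))))
noncomputable def xa21 : Net := (.cons 16 (nat_lit 0x8662)
 (.cons 8 (nat_lit 0x120033)
 (.cons 4 (nat_lit 0xd0e0701)
 (.cons 2 (nat_lit 0x2001313)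
 (.cons 1 (nat_lit 0x41051451)
 (.cons 2 (nat_lit 0x2000002)
 (.cons 4 (nat_lit 0xc080602)
 (.cons 8 (nat_lit 0x1a0046)
 (.cons 16 (nat_lit 0x8442)
 .nil)))))))))
noncomputable def xa22 : Net := (.cons 16 (nat_lit 0x55b6)
 (.cons 8 (nat_lit 0x300082)
 (.cons 4 (nat_lit 0xa0c0a0b)
 (.cons 2 (nat_lit 0x3120111)
 (.cons 1 (nat_lit 0x44010141)
 (.cons 2 (nat_lit 0x22020020)
 (.cons 4 (nat_lit 0xa00000e)
 (.cons 8 (nat_lit 0x300024)
 (.cons 16 (nat_lit 0x55a6)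
 .nil)))))))))
noncomputable def xa23 : Net := (.cons 16 (nat_lit 0xef4e)
 (.cons 8 (nat_lit 0x27004e)
 (.cons 4 (nat_lit 0x10c09)
 (.cons 2 (nat_lit 0x1310222)
 (.cons 1 (nat_lit 0x414404)
 (.cons 2 (nat_lit 0x202)
 (.cons 4 (nat_lit 0x40c0800)
 (.cons 8 (nat_lit 0xea0040)
 (.cons 16 (nat_lit 0xe6fe)
 .nil)))))))))
noncomputable def xa24 : Net := (.cons 16 (nat_lit 0x46a3)
 (.cons 8 (nat_lit 0x600084)
 (.cons 4 (nat_lit 0x40f07)
 (.cons 2 (nat_lit 0x21101212)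
 (.cons 1 (nat_lit 0x44405144)
 (.cons 2 (nat_lit 0x20000020)
 (.cons 4 (nat_lit 0x60c060e)
 (.cons 8 (nat_lit 0x28008c)
 (.cons 16 (nat_lit 0x43c2)
 .nil)))))))))
noncomputable def xa25 : Net := (.cons 16 (nat_lit 0x3160)
 (.cons 8 (nat_lit 0x840090)
 (.cons 4 (nat_lit 0x70f0c00)
 (.cons 2 (nat_lit 0x10022020)
 (.cons 1 (nat_lit 0x41541544)
 (.cons 2 (nat_lit 0x22000)
 (.cons 4 (nat_lit 0xe0c0000)
 (.cons 8 (nat_lit 0x880050)
 (.cons 16 (nat_lit 0x3a10)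
 .nil)))))))))
noncomputable def xa26 : Net := (.cons 16 (nat_lit 0xa29b)
 (.cons 8 (nat_lit 0x17004b)
 (.cons 4 (nat_lit 0x8000b0e)
 (.cons 2 (nat_lit 0x21230122)
 (.cons 1 (nat_lit 0x11405041)
 (.cons 2 (nat_lit 0x20200020)
 (.cons 4 (nat_lit 0x60e0a)
 (.cons 8 (nat_lit 0x3e0042)
 (.cons 16 (nat_lit 0xaf70)
 .nil)))))))))
noncomputable def xa27 : Net := (.cons 16 (nat_lit 0x1d33)
 (.cons 8 (nat_lit 0x960046)
 (.cons 4 (nat_lit 0xf0c06)
 (.cons 2 (nat_lit 0x23000300)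
 (.cons 1 (nat_lit 0x14504445)
 (.cons 2 (nat_lit 0x20000220)
 (.cons 4 (nat_lit 0x80200)
 (.cons 8 (nat_lit 0x9800e4)
 (.cons 16 (nat_lit 0x18f2)
 .nil)))))))))
noncomputable def xa28 : Net := (.cons 16 (nat_lit 0x135c)
 (.cons 8 (nat_lit 0x1b000a)
 (.cons 4 (nat_lit 0x5060c)
 (.cons 2 (nat_lit 0x32122)
 (.cons 1 (nat_lit 0x1114040)
 (.cons 2 (nat_lit 0x2200020)
 (.cons 4 (nat_lit 0x204)
 (.cons 8 (nat_lit 0x80084)
 (.cons 16 (nat_lit 0x16f8)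
 .nil)))))))))
noncomputable def xa29 : Net := (.cons 16 (nat_lit 0x124c)
 (.cons 8 (nat_lit 0x6e006a)
 (.cons 4 (nat_lit 0x5080c0e)
 (.cons 2 (nat_lit 0x13002030)
 (.cons 1 (nat_lit 0x14054104)
 (.cons 2 (nat_lit 0x2002000)
 (.cons 4 (nat_lit 0x208040e)
 (.cons 8 (nat_lit 0x66006a)
 (.cons 16 (nat_lit 0x124c)
 .nil)))))))))
noncomputable def xa30 : Net := (.cons 16 (nat_lit 0x46b5)
 (.cons 8 (nat_lit 0xae0037)
 (.cons 4 (nat_lit 0x6050009)
 (.cons 2 (nat_lit 0x2010023)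
 (.cons 1 (nat_lit 0x44040041)
 (.cons 2 (nat_lit 0x2000000)
 (.cons 4 (nat_lit 0xc00000c)
 (.cons 8 (nat_lit 0xa20036)
 (.cons 16 (nat_lit 0x4850)
 .nil)))))))))
noncomputable def xa31 : Net := (.cons 16 (nat_lit 0xd40c)
 (.cons 8 (nat_lit 0x790046)
 (.cons 4 (nat_lit 0xf050402)
 (.cons 2 (nat_lit 0x23000101)
 (.cons 1 (nat_lit 0x4440114)
 (.cons 2 (nat_lit 0x20000)
 (.cons 4 (nat_lit 0x8080400)
 (.cons 8 (nat_lit 0x2a0066)
 (.cons 16 (nat_lit 0xd9c2)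
 .nil)))))))))
noncomputable def xa32 : Net := (.cons 16 (nat_lit 0x42dc)
 (.cons 8 (nat_lit 0x3a00fe)
 (.cons 4 (nat_lit 0x1040f08)
 (.cons 2 (nat_lit 0x30001120)
 (.cons 1 (nat_lit 0x41404511)
 (.cons 2 (nat_lit 0x20002002)
 (.cons 4 (nat_lit 0x400000a)
 (.cons 8 (nat_lit 0x3200e8)
 (.cons 16 (nat_lit 0x435c)
 .nil)))))))))
noncomputable def xa33 : Net := (.cons 16 (nat_lit 0xdf1b)
 (.cons 8 (nat_lit 0xf30021)
 (.cons 4 (nat_lit 0x6050606)
 (.cons 2 (nat_lit 0x21322000)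
 (.cons 1 (nat_lit 0x1114154)
 (.cons 2 (nat_lit 0x202000)
 (.cons 4 (nat_lit 0xe000400)
 (.cons 8 (nat_lit 0xb40000)
 (.cons 16 (nat_lit 0xd88a)
 .nil)))))))))
noncomputable def xa34 : Net := (.cons 16 (nat_lit 0x23f0)
 (.cons 8 (nat_lit 0xf600c6)
 (.cons 4 (nat_lit 0xd000f04)
 (.cons 2 (nat_lit 0x1001223)
 (.cons 1 (nat_lit 0x10041154)
 (.cons 2 (nat_lit 0x20020202)
 (.cons 4 (nat_lit 0x6000600)
 (.cons 8 (nat_lit 0xd80094)
 (.cons 16 (nat_lit 0x2366)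
 .nil)))))))))
noncomputable def xa35 : Net := (.cons 16 (nat_lit 0xe18d)
 (.cons 8 (nat_lit 0x28003f)
 (.cons 4 (nat_lit 0x5020f)
 (.cons 2 (nat_lit 0x1320220)
 (.cons 1 (nat_lit 0x41411114)
 (.cons 4 (nat_lit 0x604000a)
 (.cons 8 (nat_lit 0x280028)
 (.cons 16 (nat_lit 0xe86a)
 .nil))))))))
noncomputable def xa36 : Net := (.cons 16 (nat_lit 0xa3ae)
 (.cons 8 (nat_lit 0xda009d)
 (.cons 4 (nat_lit 0x3040006)
 (.cons 2 (nat_lit 0x31020012)
 (.cons 1 (nat_lit 0x1410414)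
 (.cons 2 (nat_lit 0x220200)
 (.cons 4 (nat_lit 0x2040c00)
 (.cons 8 (nat_lit 0x5a00d8)
 (.cons 16 (nat_lit 0xa2b8)
 .nil)))))))))
noncomputable def xa37 : Net := (.cons 16 (nat_lit 0xc944)
 (.cons 8 (nat_lit 0x6e0030)
 (.cons 4 (nat_lit 0x60c0504)
 (.cons 2 (nat_lit 0x2101013)
 (.cons 1 (nat_lit 0x4040054)
 (.cons 2 (nat_lit 0x20002)
 (.cons 4 (nat_lit 0xc080406)
 (.cons 8 (nat_lit 0xa00020)
 (.cons 16 (nat_lit 0xcc30)
 .nil)))))))))
noncomputable def xa38 : Net := (.cons 16 (nat_lit 0xcc30)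
 (.cons 8 (nat_lit 0x5e0020)
 (.cons 4 (nat_lit 0x8020106)
 (.cons 2 (nat_lit 0x12000121)
 (.cons 1 (nat_lit 0x4400051)
 (.cons 2 (nat_lit 0x200000)
 (.cons 4 (nat_lit 0xc080004)
 (.cons 8 (nat_lit 0x900030)
 (.cons 16 (nat_lit 0xc944)
 .nil)))))))))
noncomputable def xa39 : Net := (.cons 16 (nat_lit 0xff0)
 (.cons 8 (nat_lit 0xf009b)
 (.cons 4 (nat_lit 0xf060f)
 (.cons 2 (nat_lit 0x12202)
 (.cons 1 (nat_lit 0x154551)
 (.cons 2 (nat_lit 0x202000)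
 (.cons 4 (nat_lit 0x4)
 (.cons 8 (nat_lit 0x7c)
 (.cons 16 (nat_lit 0xff0)
 .nil)))))))))
noncomputable def xa40 : Net := (.cons 8 (nat_lit 0xc00000)
 (.cons 4 (nat_lit 0xc000000)
 (.cons 2 (nat_lit 0x3033311)
 (.cons 1 (nat_lit 0x4011144)
 (.cons 2 (nat_lit 0x22)
 (.cons 4 (nat_lit 0xc000000)
 (.cons 8 (nat_lit 0xc00000)
 .nil)))))))
noncomputable def xa41 : Net := (.cons 16 (nat_lit 0xf341)
 (.cons 8 (nat_lit 0x53001b)
 (.cons 4 (nat_lit 0x20b0104)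
 (.cons 2 (nat_lit 0x33310023)
 (.cons 1 (nat_lit 0x41140141)
 (.cons 2 (nat_lit 0x22020200)
 (.cons 4 (nat_lit 0x4040002)
 (.cons 8 (nat_lit 0xa20012)
 (.cons 16 (nat_lit 0xfe18)
 .nil)))))))))
noncomputable def xa42 : Net := (.cons 16 (nat_lit 0x5948)
 (.cons 8 (nat_lit 0xa800a4)
 (.cons 4 (nat_lit 0xa0c0804)
 (.cons 2 (nat_lit 0x33130102)
 (.cons 1 (nat_lit 0x11440114)
 (.cons 2 (nat_lit 0x22020020)
 (.cons 4 (nat_lit 0x8020c)
 (.cons 8 (nat_lit 0xf4000c)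
 (.cons 16 (nat_lit 0x59c2)
 .nil)))))))))
noncomputable def xa43 : Net := (.cons 16 (nat_lit 0xa2f3)
 (.cons 8 (nat_lit 0xd900f7)
 (.cons 4 (nat_lit 0xe020e02)
 (.cons 2 (nat_lit 0x12220330)
 (.cons 1 (nat_lit 0x4054440)
 (.cons 2 (nat_lit 0x2020)
 (.cons 4 (nat_lit 0x20a0006)
 (.cons 8 (nat_lit 0xf800f0)
 (.cons 16 (nat_lit 0xaa26)
 .nil)))))))))
noncomputable def xa44 : Net := (.cons 16 (nat_lit 0xc944)
 (.cons 8 (nat_lit 0x6e0030)
 (.cons 4 (nat_lit 0x60c0504)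
 (.cons 2 (nat_lit 0x2101013)
 (.cons 1 (nat_lit 0x4040054)
 (.cons 2 (nat_lit 0x20002)
 (.cons 4 (nat_lit 0xc080406)
 (.cons 8 (nat_lit 0xa00020)
 (.cons 16 (nat_lit 0xcc30)
 .nil)))))))))
noncomputable def xa45 : Net := (.cons 16 (nat_lit 0x8cd0)
 (.cons 8 (nat_lit 0x900061)
 (.cons 4 (nat_lit 0x50e0107)
 (.cons 2 (nat_lit 0x2002132)
 (.cons 1 (nat_lit 0x40004004)
 (.cons 2 (nat_lit 0x2002)
 (.cons 4 (nat_lit 0x4000006)
 (.cons 8 (nat_lit 0x900014)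
 (.cons 16 (nat_lit 0x8cd0)
 .nil)))))))))
noncomputable def xa46 : Net := (.cons 16 (nat_lit 0x84c)
 (.cons 8 (nat_lit 0xc40031)
 (.cons 4 (nat_lit 0x80e0a00)
 (.cons 2 (nat_lit 0x2303001)
 (.cons 1 (nat_lit 0x41004115)
 (.cons 2 (nat_lit 0x2020)
 (.cons 4 (nat_lit 0x80c0000)
 (.cons 8 (nat_lit 0xc20048)
 (.cons 16 (nat_lit 0x796)
 .nil)))))))))
noncomputable def xa47 : Net := (.cons 16 (nat_lit 0xb844)
 (.cons 8 (nat_lit 0x92005d)
 (.cons 4 (nat_lit 0xf080508)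
 (.cons 2 (nat_lit 0x22221001)
 (.cons 1 (nat_lit 0x51140404)
 (.cons 2 (nat_lit 0x2000202)
 (.cons 4 (nat_lit 0xc020402)
 (.cons 8 (nat_lit 0x800010)
 (.cons 16 (nat_lit 0xb7da)
 .nil)))))))))
noncomputable def xa48 : Net := (.cons 16 (nat_lit 0xc944)
 (.cons 8 (nat_lit 0x6e0030)
 (.cons 4 (nat_lit 0x60c0504)
 (.cons 2 (nat_lit 0x2101013)
 (.cons 1 (nat_lit 0x4040054)
 (.cons 2 (nat_lit 0x20002)
 (.cons 4 (nat_lit 0xc080406)
 (.cons 8 (nat_lit 0xa00020)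
 (.cons 16 (nat_lit 0xcc30)
 .nil)))))))))
noncomputable def xa49 : Net := (.cons 16 (nat_lit 0xd0d4)
 (.cons 8 (nat_lit 0x80005)
 (.cons 4 (nat_lit 0xf00000a)
 (.cons 2 (nat_lit 0x13020313)
 (.cons 1 (nat_lit 0x51140115)
 (.cons 2 (nat_lit 0x2220020)
 (.cons 4 (nat_lit 0xe020202)
 (.cons 8 (nat_lit 0x98000e)
 (.cons 16 (nat_lit 0xd1b4)
 .nil)))))))))
noncomputable def xa50 : Net := (.cons 16 (nat_lit 0xff0)
 (.cons 8 (nat_lit 0xf009b)
 (.cons 4 (nat_lit 0xf060f)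
 (.cons 2 (nat_lit 0x12202)
 (.cons 1 (nat_lit 0x154551)
 (.cons 2 (nat_lit 0x202000)
 (.cons 4 (nat_lit 0x4)
 (.cons 8 (nat_lit 0x7c)
 (.cons 16 (nat_lit 0xff0)
 .nil)))))))))
noncomputable def xa51 : Net := (.cons 8 (nat_lit 0xc00000)
 (.cons 4 (nat_lit 0xc000000)
 (.cons 2 (nat_lit 0x3033311)
 (.cons 1 (nat_lit 0x4011144)
 (.cons 2 (nat_lit 0x22)
 (.cons 4 (nat_lit 0xc000000)
 (.cons 8 (nat_lit 0xc00000)
 .nil)))))))
noncomputable def xa52 : Net := (.cons 16 (nat_lit 0x104)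
 (.cons 8 (nat_lit 0xc30076)
 (.cons 4 (nat_lit 0xc00030e)
 (.cons 2 (nat_lit 0x1003230)
 (.cons 1 (nat_lit 0x1044144)
 (.cons 2 (nat_lit 0x2020022)
 (.cons 4 (nat_lit 0x60a)
 (.cons 8 (nat_lit 0xcc0034)
 (.cons 16 (nat_lit 0xcf2)
 .nil)))))))))
noncomputable def xa53 : Net := (.cons 16 (nat_lit 0x7442)
 (.cons 8 (nat_lit 0xfd00fc)
 (.cons 4 (nat_lit 0x8070008)
 (.cons 2 (nat_lit 0x11031002)
 (.cons 1 (nat_lit 0x14041104)
 (.cons 2 (nat_lit 0x20002000)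
 (.cons 4 (nat_lit 0x6020000)
 (.cons 8 (nat_lit 0x90007c)
 (.cons 16 (nat_lit 0x7b82)
 .nil)))))))))
noncomputable def xa54 : Net := (.cons 16 (nat_lit 0x1a4c)
 (.cons 8 (nat_lit 0xea004d)
 (.cons 4 (nat_lit 0xf000200)
 (.cons 2 (nat_lit 0x13032010)
 (.cons 1 (nat_lit 0x14044401)
 (.cons 2 (nat_lit 0x20002)
 (.cons 4 (nat_lit 0x404)
 (.cons 8 (nat_lit 0xe60042)
 (.cons 16 (nat_lit 0x19a8)
 .nil)))))))))
noncomputable def xa55 : Net := (.cons 16 (nat_lit 0x8c76)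
 (.cons 8 (nat_lit 0x2600f8)
 (.cons 4 (nat_lit 0xc0a03)
 (.cons 2 (nat_lit 0x23102030)
 (.cons 1 (nat_lit 0x1044044)
 (.cons 2 (nat_lit 0x2020022)
 (.cons 4 (nat_lit 0x8040402)
 (.cons 8 (nat_lit 0xa40098)
 (.cons 16 (nat_lit 0x873a)
 .nil)))))))))
noncomputable def xa56 : Net := (.cons 16 (nat_lit 0xff8f)
 (.cons 8 (nat_lit 0xf0)
 (.cons 4 (nat_lit 0xf000b00)
 (.cons 2 (nat_lit 0x30010100)
 (.cons 1 (nat_lit 0x15054104)
 (.cons 2 (nat_lit 0x2202)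
 (.cons 4 (nat_lit 0x600)
 (.cons 8 (nat_lit 0xf0)
 (.cons 16 (nat_lit 0xff40)
 .nil)))))))))
noncomputable def xa57 : Net := (.cons 16 (nat_lit 0x66cf)
 (.cons 8 (nat_lit 0xc10002)
 (.cons 4 (nat_lit 0xa040903)
 (.cons 2 (nat_lit 0x2030333)
 (.cons 1 (nat_lit 0x41010114)
 (.cons 2 (nat_lit 0x222)
 (.cons 4 (nat_lit 0x4040004)
 (.cons 8 (nat_lit 0x820002)
 (.cons 16 (nat_lit 0x6a40)
 .nil)))))))))
noncomputable def xws : List (List ℕ) :=
  [W (nat_lit 0x901c0a00408),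
  W (nat_lit 0xb02c060180800806),
  W (nat_lit 0xb02c090180b00403),
  W (nat_lit 0x30090180c00401),
  W (nat_lit 0xb00403),
  W (nat_lit 0x140b0040a),
  W (nat_lit 0x2c0601c010100a),
  W (nat_lit 0x2c0b024050200500404),
  W (nat_lit 0x90180602001),
  W (nat_lit 0x30090180900403),
  W (nat_lit 0xb00404),
  W (nat_lit 0x2108420),
  W (nat_lit 0x88200881f),
  W (nat_lit 0x2509026),
  W (nat_lit 0xa028),
  W (nat_lit 0x30060180800401),
  W (nat_lit 0x30090180600406),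
  W (nat_lit 0x8030040300802),
  W (nat_lit 0x4040040400802),
  W (nat_lit 0xc430),
  W (nat_lit 0xc0240501c0500c03),
  W (nat_lit 0x30060180800406),
  W (nat_lit 0x380d4380e0350dc36),
  W (nat_lit 0xd8380e038),
  W (nat_lit 0x180c00c03),
  W (nat_lit 0xb02c090180b00404),
  W (nat_lit 0xb01401),
  W (nat_lit 0x300901c02),
  W (nat_lit 0x4410443),
  W (nat_lit 0x4210c42),
  W (nat_lit 0x12046),
  W (nat_lit 0x1284a),
  W (nat_lit 0x12449),
  W (nat_lit 0xc024050140100406),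
  W (nat_lit 0x4f13c4f),
  W (nat_lit 0x901c0601007),
  W (nat_lit 0x2008014070140502008),
  W (nat_lit 0x9018080040c),
  W (nat_lit 0x15c57),
  W (nat_lit 0x16459),
  W (nat_lit 0xc0300404),
  W (nat_lit 0xc01004010040300401),
  W (nat_lit 0x5f1746018060),
  W (nat_lit 0x5d17c5e),
  W (nat_lit 0xc024050140100406),
  W (nat_lit 0x6519465),
  W (nat_lit 0x1c0701c06),
  W (nat_lit 0x1a86a),
  W (nat_lit 0x80300401),
  W (nat_lit 0x100c02),
  W (nat_lit 0x701b46f1b86f),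
  W (nat_lit 0x1b4701b86e1b86e)]
noncomputable def xns : List Net := [CL.Std.U33.a0, CL.Std.U33.a1, CL.Std.U33.a2, CL.Std.U33.a3, CL.Std.U33.a4, CL.Std.U33.a5, xa6, xa7, xa8, xa9, xa10, xa11, xa12, xa13, xa14, xa15, xa16, xa17, xa18, xa19, xa20, xa21, xa22, xa23, xa24, xa25, xa26, xa27, xa28, xa29, xa30, xa31, xa32, xa33, xa34, xa35, xa36, xa37, xa38, xa39, xa40, xa41, xa42, xa43, xa44, xa45, xa46, xa47, xa48, xa49, xa50, xa51, xa52, xa53, xa54, xa55, xa56, xa57]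
noncomputable def xD : List (ℕ × List ℕ) := app CL.Std.U33.D (mkDefs xws 6)
noncomputable def xchk : List (List ℕ × List ℕ) → Bool := CL.Std.U33.P.relsB xns
noncomputable def xK3_9_ps : List PcG :=
  [⟨[44], 3, [], [[42]]⟩,
  ⟨[42], 3, [], []⟩]
noncomputable def xK3_9_v0 : Lev :=
  ⟨0, 9, sg (W (nat_lit 0xb42b0b42b)), [], 21, 0⟩
noncomputable def xK3_9_vs1 : List Lev :=
  []
noncomputable def xK3_9_vs : List Lev :=
  xK3_9_v0 :: xK3_9_vs1
noncomputable def xzm7 : ℕ :=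
  (nat_lit 0x2)
noncomputable def xc3_9_F : List (List ℕ × ℕ × ℕ) :=
  [([0], xzm7, xzm7)]
noncomputable def xc3_9G_v0 : Lev :=
  ⟨1, 28, sg (W (nat_lit 0xc0100c0100c0100c01)), [[46], [48]], 21, 2⟩
noncomputable def xc3_9G_v1 : Lev :=
  ⟨0, 27, sg (W (nat_lit 0x2f0bc310bc310bc2f0c42f)), [[50]], 23, 1⟩
noncomputable def xc3_9G_v2 : Lev :=
  ⟨4, 8, sg (W (nat_lit 0x330cc330cc330cc33)), [], 24, 0⟩
noncomputable def xc3_9G_vs3 : List Lev :=
  []
noncomputable def xc3_9G_vs2 : List Lev :=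
  xc3_9G_v2 :: xc3_9G_vs3
noncomputable def xc3_9G_vs1 : List Lev :=
  xc3_9G_v1 :: xc3_9G_vs2
noncomputable def xc3_9G_vs : List Lev :=
  xc3_9G_v0 :: xc3_9G_vs1
noncomputable def xc3_9_x : List (ℕ × List ℕ) :=
  [((nat_lit 0), []),
  ((nat_lit 0x1800000), [(nat_lit 0xffffffd)]),
  ((nat_lit 0), [(nat_lit 0x4284f0),
   (nat_lit 0xcb14800)])]
noncomputable def xc3_9_G : Gl :=
  ⟨CL.Std.U33.P, xns, (app xD []), (diag [[14]]), [], [], memM (app xD []) [[42], [44]], true⟩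
noncomputable def xc3_9_s : St :=
  ⟨(mkS CL.Std.U33.P.n xc3_9G_vs xc3_9_x), [[0], [2]], [], mapL Prod.snd xc3_9_F, memM (app xD []) [[42], [44]], []⟩
noncomputable def xzt11 : ST :=
  (.br 0 [] [] [(1, [])] (.cons (.orb 0 (.br 0 [W (nat_lit 0xac2d), [44]] (W (nat_lit 0xc0100c01)) [(4, [46]), (5, W (nat_lit 0x2f0c431)), (0, [])] (.cons (.orb 0 (.img [0] 0 (.and 2 0 (.mis 0))))
 (.cons (.img [0] 0 (.orb 1 (.and 1 0 (.mis 0))))
 (.cons (.orb 0 (.img [1] 0 (.and 1 0 (.orb 1 (.img [0] 0 (.and 2 0 (.br 0 [] [] [(4, [])] (.cons .fnd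
 .nil))))))))
 .nil)))))
 .nil))
noncomputable def xK7_7_ps : List PcG :=
  [⟨[82], 7, [], []⟩]
noncomputable def xK7_7_v0 : Lev :=
  ⟨0, 7, sg (W (nat_lit 0x14c5314c5314c53)), [], 40, 0⟩
noncomputable def xK7_7_vs1 : List Lev :=
  []
noncomputable def xK7_7_vs : List Lev :=
  xK7_7_v0 :: xK7_7_vs1
noncomputable def xc7_7_F : List (List ℕ × ℕ × ℕ) :=
  []
noncomputable def xc7_7G_v0 : Lev :=
  ⟨0, 28, sg (W (nat_lit 0x4030040100c0100c01)), [[4], [6]], 0, 2⟩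
noncomputable def xc7_7G_v1 : Lev :=
  ⟨10, 27, sg (W (nat_lit 0x50140501c0501c0501c05)), [[84]], 40, 1⟩
noncomputable def xc7_7G_v2 : Lev :=
  ⟨1, 8, sg (W (nat_lit 0x55154551545515455)), [], 41, 0⟩
noncomputable def xc7_7G_vs3 : List Lev :=
  []
noncomputable def xc7_7G_vs2 : List Lev :=
  xc7_7G_v2 :: xc7_7G_vs3
noncomputable def xc7_7G_vs1 : List Lev :=
  xc7_7G_v1 :: xc7_7G_vs2
noncomputable def xc7_7G_vs : List Lev :=
  xc7_7G_v0 :: xc7_7G_vs1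
noncomputable def xc7_7_x : List (ℕ × List ℕ) :=
  [((nat_lit 0x40000000003), [(nat_lit 0xfffffff)]),
  ((nat_lit 0x4000000000c), []),
  ((nat_lit 0), [(nat_lit 0xc51142),
   (nat_lit 0x41a4888)])]
noncomputable def xc7_7_G : Gl :=
  ⟨CL.Std.U33.P, xns, (app xD []), (diag [[24]]), [], [], memM (app xD []) [[82]], true⟩
noncomputable def xc7_7_s : St :=
  ⟨(mkS CL.Std.U33.P.n xc7_7G_vs xc7_7_x), [[0], [2]], [], mapL Prod.snd xc7_7_F, memM (app xD []) [[82]], []⟩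
noncomputable def xzt31 : ST :=
  (.orb 0 (.br 0 [[83]] (W (nat_lit 0x4010040100401)) [(1, W (nat_lit 0x100c01)), (2, W (nat_lit 0x856)), (5, W (nat_lit 0x802)), (0, [])] (.cons (.img (W (nat_lit 0x100401)) 0 (.br 0 [] [] [(20, W (nat_lit 0x1408))] (.cons (.orb 1 (.img [0] 0 (.and 4 0 (.mis 0))))
 .nil)))
 (.cons (.img (W (nat_lit 0x100401)) 0 (.br 0 [] [] [(4, W (nat_lit 0x701455))] (.cons (.orb 1 (.img [0] 0 (.and 4 0 (.mis 0))))
 .nil)))
 (.cons (.img (W (nat_lit 0x100401)) 0 (.br 0 [] [] [(15, [7])] (.cons (.orb 1 (.img [0] 3 (.dif 1 0 (.mis 0))))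
 .nil)))
 (.cons (.img (W (nat_lit 0x100401)) 0 (.br 0 [] [] [(10, [])] (.cons (.orb 0 (.orb 1 (.img [1] 0 (.and 2 0 (.br 0 [] [] [(1, [])] (.cons .fnd
 .nil))))))
 .nil)))
 .nil))))))
noncomputable def xK8_8_ps : List PcG :=
  [⟨[86], 2, [88], [[88], [90]]⟩,
  ⟨[88], 2, [90], [[90]]⟩,
  ⟨[90], 2, [], []⟩]
noncomputable def xK8_8_v0 : Lev :=
  ⟨16, 2, sg [86], [[88]], 42, 1⟩
noncomputable def xK8_8_v1 : Lev :=
  ⟨0, 4, sg (W (nat_lit 0x5916459)), [], 43, 0⟩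
noncomputable def xK8_8_vs2 : List Lev :=
  []
noncomputable def xK8_8_vs1 : List Lev :=
  xK8_8_v1 :: xK8_8_vs2
noncomputable def xK8_8_vs : List Lev :=
  xK8_8_v0 :: xK8_8_vs1
noncomputable def xzm40 : ℕ :=
  (nat_lit 0x208)
noncomputable def xzm41 : ℕ :=
  (nat_lit 0x8010208)
noncomputable def xc8_8_F : List (List ℕ × ℕ × ℕ) :=
  [([0], xzm40, xzm40),
  (W (nat_lit 0x401), xzm41, xzm41)]
noncomputable def xc8_8G_v0 : Lev :=
  ⟨16, 28, sg (W (nat_lit 0x403004030040100c01)), [[92], [94]], 44, 2⟩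
noncomputable def xc8_8G_v1 : Lev :=
  ⟨27, 27, sg (W (nat_lit 0x17c5d17c5d17c5d17c5d)), [[96], [98]], 46, 2⟩
noncomputable def xc8_8G_v2 : Lev :=
  ⟨0, 8, sg (W (nat_lit 0x1846118c61)), [], 48, 0⟩
noncomputable def xc8_8G_vs3 : List Lev :=
  []
noncomputable def xc8_8G_vs2 : List Lev :=
  xc8_8G_v2 :: xc8_8G_vs3
noncomputable def xc8_8G_vs1 : List Lev :=
  xc8_8G_v1 :: xc8_8G_vs2
noncomputable def xc8_8G_vs : List Lev :=
  xc8_8G_v0 :: xc8_8G_vs1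
noncomputable def xc8_8_x : List (ℕ × List ℕ) :=
  [((nat_lit 0), []),
  ((nat_lit 0), []),
  ((nat_lit 0x3000000000000), [(nat_lit 0xd42043)]),
  ((nat_lit 0), [(nat_lit 0x1000000)])]
noncomputable def xc8_8_G : Gl :=
  ⟨CL.Std.U33.P, xns, (app xD []), (diag [[26]]), [], [], memM (app xD []) [[86]], true⟩
noncomputable def xc8_8_s : St :=
  ⟨(mkS CL.Std.U33.P.n xc8_8G_vs xc8_8_x), [[0], [2]], [], mapL Prod.snd xc8_8_F, memM (app xD []) [[86]], []⟩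
noncomputable def xzt45 : ST :=
  (.dif 1 0 (.br 0 [[86]] [0] [(16, [])] (.cons (.img [0] 0 (.br 0 [] [] [(27, [])] (.cons (.orb 0 (.br 0 [[88]] (W (nat_lit 0x100401)) [(1, W (nat_lit 0x18864)), (0, [])] (.cons (.orb 0 (.img [0] 1 (.dif 1 0 (.mis 0))))
 (.cons .fnd
 .nil))))
 .nil)))
 .nil)))
noncomputable def xn3_F : List (List ℕ × ℕ × ℕ) :=
  [([0], (nat_lit 0x2), (nat_lit 0x100000))]
noncomputable def xn3G_v0 : Lev :=
  ⟨0, 28, sg (W (nat_lit 0x4030040100c0100c01)), [[4], [6]], 0, 2⟩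
noncomputable def xn3G_v1 : Lev :=
  ⟨1, 27, sg (W (nat_lit 0x1c0501c070140501c05)), [[8], [10]], 2, 2⟩
noncomputable def xn3G_v2 : Lev :=
  ⟨2, 2, sg [8], [[10]], 4, 0⟩
noncomputable def xn3G_v3 : Lev :=
  ⟨4, 4, sg (W (nat_lit 0xb02c0b)), [], 4, 0⟩
noncomputable def xn3G_vs4 : List Lev :=
  []
noncomputable def xn3G_vs3 : List Lev :=
  xn3G_v3 :: xn3G_vs4
noncomputable def xn3G_vs2 : List Lev :=
  xn3G_v2 :: xn3G_vs3
noncomputable def xn3G_vs1 : List Lev :=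
  xn3G_v1 :: xn3G_vs2
noncomputable def xn3G_vs : List Lev :=
  xn3G_v0 :: xn3G_vs1
noncomputable def xn3_x : List (ℕ × List ℕ) :=
  [((nat_lit 0), [(nat_lit 0xfffffff)]),
  ((nat_lit 0x24), []),
  ((nat_lit 0), [(nat_lit 0xc)])]
noncomputable def xn3_G : Gl :=
  ⟨CL.Std.U33.P, xns, (app xD []), [([14], [16])], [], [], memM (app xD []) [], false⟩
noncomputable def xn3_s : St :=
  ⟨(mkS CL.Std.U33.P.n xn3G_vs xn3_x), [[0], [2]], [], mapL Prod.snd xn3_F, memM (app xD []) [[52], [54]], []⟩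
noncomputable def xzt54 : ST :=
  (.orb 0 (.dif 0 1 (.br 0 [[56], W (nat_lit 0xe8350e036)] (W (nat_lit 0x3004010040300401004030040100403)) [(0, [])] (.cons (.br 3 [] [] [(20, W (nat_lit 0x180c))] (.cons (.orb 0 (.img [0] 2 (.dif 1 0 (.mis 0))))
 .nil))
 .nil))))
noncomputable def xzm58 : ℕ :=
  (nat_lit 0x8010208)
noncomputable def xn4a_F : List (List ℕ × ℕ × ℕ) :=
  [([0], xzm58, xzm58)]
noncomputable def xn4aG_v0 : Lev :=
  ⟨0, 28, sg (W (nat_lit 0x4030040100c0100c01)), [[4], [6]], 0, 2⟩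
noncomputable def xn4aG_v1 : Lev :=
  ⟨3, 27, sg (W (nat_lit 0x501c0501c0501c0501c05)), [[104]], 50, 1⟩
noncomputable def xn4aG_v2 : Lev :=
  ⟨1, 2, sg [104], [[106]], 51, 1⟩
noncomputable def xn4aG_v3 : Lev :=
  ⟨4, 4, sg (W (nat_lit 0x6b1ac6b)), [], 52, 0⟩
noncomputable def xn4aG_vs4 : List Lev :=
  []
noncomputable def xn4aG_vs3 : List Lev :=
  xn4aG_v3 :: xn4aG_vs4
noncomputable def xn4aG_vs2 : List Lev :=
  xn4aG_v2 :: xn4aG_vs3
noncomputable def xn4aG_vs1 : List Lev :=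
  xn4aG_v1 :: xn4aG_vs2
noncomputable def xn4aG_vs : List Lev :=
  xn4aG_v0 :: xn4aG_vs1
noncomputable def xn4a_x : List (ℕ × List ℕ) :=
  [((nat_lit 0), [(nat_lit 0xfffffff)]),
  ((nat_lit 0), []),
  ((nat_lit 0), [(nat_lit 0x2856900)])]
noncomputable def xn4a_G : Gl :=
  ⟨CL.Std.U33.P, xns, (app xD []), [([20], [21])], [], [], memM (app xD []) [], false⟩
noncomputable def xn4a_s : St :=
  ⟨(mkS CL.Std.U33.P.n xn4aG_vs xn4a_x), [[0], [2]], [], mapL Prod.snd xn4a_F, memM (app xD []) [[64], [66]], []⟩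
noncomputable def xzt62 : ST :=
  (.orb 0 (.dif 0 1 (.br 0 [W (nat_lit 0x4b11443), W (nat_lit 0x1304911c44)] (W (nat_lit 0x4030040100c0100c01)) [(0, [])] (.cons (.br 3 [W (nat_lit 0x12444)] (W (nat_lit 0x100401)) [(3, [])] (.cons (.orb 0 (.img [0] 0 (.and 3 0 (.mis 0))))
 .nil))
 .nil))))
noncomputable def xn4b_F : List (List ℕ × ℕ × ℕ) :=
  [([0], (nat_lit 0), (nat_lit 0x8010208))]
noncomputable def xn4bG_v0 : Lev :=
  ⟨0, 28, sg (W (nat_lit 0x4030040100c0100c01)), [[4], [6]], 0, 2⟩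
noncomputable def xn4bG_v1 : Lev :=
  ⟨1, 27, sg (W (nat_lit 0x1c0501c070140501c05)), [[8], [10]], 2, 2⟩
noncomputable def xn4bG_v2 : Lev :=
  ⟨2, 2, sg [8], [[10]], 4, 0⟩
noncomputable def xn4bG_v3 : Lev :=
  ⟨4, 4, sg (W (nat_lit 0xb02c0b)), [], 4, 0⟩
noncomputable def xn4bG_vs4 : List Lev :=
  []
noncomputable def xn4bG_vs3 : List Lev :=
  xn4bG_v3 :: xn4bG_vs4
noncomputable def xn4bG_vs2 : List Lev :=
  xn4bG_v2 :: xn4bG_vs3
noncomputable def xn4bG_vs1 : List Lev :=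
  xn4bG_v1 :: xn4bG_vs2
noncomputable def xn4bG_vs : List Lev :=
  xn4bG_v0 :: xn4bG_vs1
noncomputable def xn4b_x : List (ℕ × List ℕ) :=
  [((nat_lit 0), [])]
noncomputable def xn4b_G : Gl :=
  ⟨CL.Std.U33.P, xns, (app xD []), [([18], [20])], [], [], memM (app xD []) [], false⟩
noncomputable def xn4b_s : St :=
  ⟨(mkS CL.Std.U33.P.n xn4bG_vs xn4b_x), [[0], [2]], [], mapL Prod.snd xn4b_F, memM (app xD []) [[64], [66]], []⟩
noncomputable def xzt69 : ST :=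
  (.mis 0)
noncomputable def xn4c_F : List (List ℕ × ℕ × ℕ) :=
  [([0], (nat_lit 0), (nat_lit 0x8010208))]
noncomputable def xn4cG_v0 : Lev :=
  ⟨0, 28, sg (W (nat_lit 0x4030040100c0100c01)), [[4], [6]], 0, 2⟩
noncomputable def xn4cG_v1 : Lev :=
  ⟨1, 27, sg (W (nat_lit 0x1c0501c070140501c05)), [[8], [10]], 2, 2⟩
noncomputable def xn4cG_v2 : Lev :=
  ⟨2, 2, sg [8], [[10]], 4, 0⟩
noncomputable def xn4cG_v3 : Lev :=
  ⟨4, 4, sg (W (nat_lit 0xb02c0b)), [], 4, 0⟩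
noncomputable def xn4cG_vs4 : List Lev :=
  []
noncomputable def xn4cG_vs3 : List Lev :=
  xn4cG_v3 :: xn4cG_vs4
noncomputable def xn4cG_vs2 : List Lev :=
  xn4cG_v2 :: xn4cG_vs3
noncomputable def xn4cG_vs1 : List Lev :=
  xn4cG_v1 :: xn4cG_vs2
noncomputable def xn4cG_vs : List Lev :=
  xn4cG_v0 :: xn4cG_vs1
noncomputable def xn4c_x : List (ℕ × List ℕ) :=
  [((nat_lit 0), [])]
noncomputable def xn4c_G : Gl :=
  ⟨CL.Std.U33.P, xns, (app xD []), [([18], [21])], [], [], memM (app xD []) [], false⟩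
noncomputable def xn4c_s : St :=
  ⟨(mkS CL.Std.U33.P.n xn4cG_vs xn4c_x), [[0], [2]], [], mapL Prod.snd xn4c_F, memM (app xD []) [[64], [66]], []⟩
noncomputable def xzt76 : ST :=
  (.mis 0)
noncomputable def xn7_F : List (List ℕ × ℕ × ℕ) :=
  []
noncomputable def xn7G_v0 : Lev :=
  ⟨0, 28, sg (W (nat_lit 0x4030040100c0100c01)), [[4], [6]], 0, 2⟩
noncomputable def xn7G_v1 : Lev :=
  ⟨10, 27, sg (W (nat_lit 0x50140501c0501c0501c05)), [[84]], 40, 1⟩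
noncomputable def xn7G_v2 : Lev :=
  ⟨1, 8, sg (W (nat_lit 0x55154551545515455)), [], 41, 0⟩
noncomputable def xn7G_vs3 : List Lev :=
  []
noncomputable def xn7G_vs2 : List Lev :=
  xn7G_v2 :: xn7G_vs3
noncomputable def xn7G_vs1 : List Lev :=
  xn7G_v1 :: xn7G_vs2
noncomputable def xn7G_vs : List Lev :=
  xn7G_v0 :: xn7G_vs1
noncomputable def xn7_x : List (ℕ × List ℕ) :=
  [((nat_lit 0x40000000003), [(nat_lit 0xfffffff)]),
  ((nat_lit 0x4000000000c), []),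
  ((nat_lit 0), [(nat_lit 0xc51142),
   (nat_lit 0x41a4888)])]
noncomputable def xn7_G : Gl :=
  ⟨CL.Std.U33.P, xns, (app xD []), [([24], [25])], [], [], memM (app xD []) [], false⟩
noncomputable def xn7_s : St :=
  ⟨(mkS CL.Std.U33.P.n xn7G_vs xn7_x), [[0], [2]], [], mapL Prod.snd xn7_F, memM (app xD []) [[82]], []⟩
noncomputable def xzt83 : ST :=
  (.orb 0 (.br 0 [W (nat_lit 0x5314c53)] (W (nat_lit 0x4010040100401)) [(0, []), (1, W (nat_lit 0x100c01)), (2, W (nat_lit 0x856)), (5, W (nat_lit 0x802))] (.cons (.img (W (nat_lit 0x100401)) 0 (.br 0 [] [] [(17, W (nat_lit 0x1c55))] (.cons (.orb 1 (.img [0] 3 (.dif 1 0 (.mis 0))))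
 .nil)))
 (.cons (.img (W (nat_lit 0x100401)) 0 (.br 0 [] [] [(16, [6])] (.cons (.orb 0 (.img [0] 3 (.dif 1 0 (.mis 0))))
 .nil)))
 (.cons (.img (W (nat_lit 0x100401)) 0 (.br 0 [] [] [(19, W (nat_lit 0x2006))] (.cons (.orb 1 (.img [0] 3 (.dif 1 0 (.mis 0))))
 .nil)))
 (.cons (.img (W (nat_lit 0x100401)) 0 (.br 0 [] [] [(9, W (nat_lit 0x701455))] (.cons (.orb 0 (.img [0] 1 (.dif 1 0 (.mis 0))))
 .nil)))
 .nil))))))
noncomputable def xzm87 : ℕ :=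
  (nat_lit 0x208)
noncomputable def xzm88 : ℕ :=
  (nat_lit 0x8010208)
noncomputable def xn8_F : List (List ℕ × ℕ × ℕ) :=
  [([0], xzm87, xzm87),
  (W (nat_lit 0x401), xzm88, xzm88)]
noncomputable def xn8G_v0 : Lev :=
  ⟨16, 28, sg (W (nat_lit 0x403004030040100c01)), [[92], [94]], 44, 2⟩
noncomputable def xn8G_v1 : Lev :=
  ⟨27, 27, sg (W (nat_lit 0x17c5d17c5d17c5d17c5d)), [[96], [98]], 46, 2⟩
noncomputable def xn8G_v2 : Lev :=
  ⟨0, 8, sg (W (nat_lit 0x1846118c61)), [], 48, 0⟩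
noncomputable def xn8G_vs3 : List Lev :=
  []
noncomputable def xn8G_vs2 : List Lev :=
  xn8G_v2 :: xn8G_vs3
noncomputable def xn8G_vs1 : List Lev :=
  xn8G_v1 :: xn8G_vs2
noncomputable def xn8G_vs : List Lev :=
  xn8G_v0 :: xn8G_vs1
noncomputable def xn8_x : List (ℕ × List ℕ) :=
  [((nat_lit 0), []),
  ((nat_lit 0), []),
  ((nat_lit 0x3000000000000), [(nat_lit 0xd42043)]),
  ((nat_lit 0), [(nat_lit 0x1000000),
   (nat_lit 0x10)])]
noncomputable def xn8_G : Gl :=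
  ⟨CL.Std.U33.P, xns, (app xD []), [([26], [27])], [], [], memM (app xD []) [], false⟩
noncomputable def xn8_s : St :=
  ⟨(mkS CL.Std.U33.P.n xn8G_vs xn8_x), [[0], [2]], [], mapL Prod.snd xn8_F, memM (app xD []) [[86]], []⟩
noncomputable def xzt92 : ST :=
  (.dif 1 0 (.br 0 [W (nat_lit 0x16857)] [0] [(16, [])] (.cons (.img [0] 0 (.br 0 [] [] [(27, [])] (.cons (.orb 0 (.br 0 [[88]] (W (nat_lit 0x100401)) [(0, []), (1, W (nat_lit 0x18864))] (.cons (.orb 1 (.img [0] 0 (.and 2 0 (.mis 0))))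
 (.cons (.img [1] 0 (.orb 0 (.and 1 0 (.mis 0))))
 .nil))))
 .nil)))
 .nil)))
noncomputable def xzm96 : ℕ :=
  (nat_lit 0x100000)
noncomputable def xzm97 : ℕ :=
  (nat_lit 0xc300000)
noncomputable def xn12_F : List (List ℕ × ℕ × ℕ) :=
  [([0], xzm96, xzm96),
  (W (nat_lit 0x100401), xzm97, xzm97)]
noncomputable def xn12G_v0 : Lev :=
  ⟨20, 28, sg (W (nat_lit 0x10040100c0100c0100c01)), [[108], [110]], 52, 2⟩
noncomputable def xn12G_v1 : Lev :=
  ⟨21, 27, sg (W (nat_lit 0x6f1b46f1b46f1b46f1b46d)), [[112], [114]], 54, 2⟩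
noncomputable def xn12G_v2 : Lev :=
  ⟨0, 8, sg (W (nat_lit 0x1cc711cc71)), [], 56, 0⟩
noncomputable def xn12G_vs3 : List Lev :=
  []
noncomputable def xn12G_vs2 : List Lev :=
  xn12G_v2 :: xn12G_vs3
noncomputable def xn12G_vs1 : List Lev :=
  xn12G_v1 :: xn12G_vs2
noncomputable def xn12G_vs : List Lev :=
  xn12G_v0 :: xn12G_vs1
noncomputable def xn12_x : List (ℕ × List ℕ) :=
  [((nat_lit 0), []),
  ((nat_lit 0), []),
  ((nat_lit 0x100000000000000), [(nat_lit 0xf000f),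
   (nat_lit 0x3c000f0)]),
  ((nat_lit 0), [(nat_lit 0x2000000)])]
noncomputable def xn12_G : Gl :=
  ⟨CL.Std.U33.P, xns, (app xD []), [([28], [29])], [], [], memM (app xD []) [], false⟩
noncomputable def xn12_s : St :=
  ⟨(mkS CL.Std.U33.P.n xn12G_vs xn12_x), [[0], [2]], [], mapL Prod.snd xn12_F, memM (app xD []) [[100]], []⟩
noncomputable def xzt101 : ST :=
  (.br 0 [] [] [(20, [])] (.cons (.dif 2 1 (.br 0 [[100]] (W (nat_lit 0x401)) [(21, [])] (.cons (.orb 0 (.orb 1 (.img [0] 0 (.and 2 0 (.br 0 [[103]] (W (nat_lit 0x100401)) [(16, [112])] (.cons (.orb 0 (.img [0] 0 (.and 2 0 (.mis 0))))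
 .nil))))))
 .nil)))
 .nil))

theorem xzo0 : allL (fun p : ℕ × ℕ => movB CL.Std.U33.P.n CL.Std.U33.P.N xns (powW [12] (2 / p.1)) p.2) [(2, 0)] = true := by decide +kernel
theorem xzr1 : xchk [(powW [12] 2, [])] = true := by decide +kernel
theorem xzo2 : allL (fun p : ℕ × ℕ => movB CL.Std.U33.P.n CL.Std.U33.P.N xns (powW [14] (3 / p.1)) p.2) [(3, 0)] = true := by decide +kernel
theorem xzr3 : xchk [(powW [14] 3, [])] = true := by decide +kernel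
theorem xzr4 : xchk (pcsR xK3_9_ps []) = true := by decide +kernel
theorem xzb5 : bnd (pcsB xD xK3_9_ps []) (leB (app xD []) [[42], [44]] (pcGens xK3_9_ps [])) = true := by decide +kernel
theorem xzc6 : CL.Std.U33.P.chainB xns xD xK3_9_vs [[42], [44]] = true := by decide +kernel
theorem xzf8 : CL.Std.U33.P.fixXB xns (diag [[14]]) xc3_9_F = true := by decide +kernel
theorem xzc9 : CL.Std.U33.P.chainB xns xD xc3_9G_vs [[0], [2]] = true := by decide +kernel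
theorem xzs10 : ssB CL.Std.U33.P.N xns xD (mkS CL.Std.U33.P.n xc3_9G_vs xc3_9_x) [[0], [2]] = true := by decide +kernel
theorem xzs12 : xc3_9_G.chk xzt11 xc3_9_s none = true := by decide +kernel
theorem xzr13 : xchk (comR [[42], [44]] (mapL Prod.snd (diag [[14]]))) = true := by decide +kernel
theorem xzm14 : leB xD [[42], [44]] [[0], [2]] = true := by decide +kernel
theorem xzo15 : allL (fun p : ℕ × ℕ => movB CL.Std.U33.P.n CL.Std.U33.P.N xns (powW [16] (3 / p.1)) p.2) [(3, 0)] = true := by decide +kernel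
theorem xzr16 : xchk [(powW [16] 3, [])] = true := by decide +kernel
theorem xzo17 : allL (fun p : ℕ × ℕ => movB CL.Std.U33.P.n CL.Std.U33.P.N xns (powW [18] (4 / p.1)) p.2) [(2, 0)] = true := by decide +kernel
theorem xzr18 : xchk [(powW [18] 4, [])] = true := by decide +kernel
theorem xzo19 : allL (fun p : ℕ × ℕ => movB CL.Std.U33.P.n CL.Std.U33.P.N xns (powW [20] (4 / p.1)) p.2) [(2, 0)] = true := by decide +kernel
theorem xzr20 : xchk [(powW [20] 4, [])] = true := by decide +kernel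
theorem xzo21 : allL (fun p : ℕ × ℕ => movB CL.Std.U33.P.n CL.Std.U33.P.N xns (powW [22] (6 / p.1)) p.2) [(2, 0), (3, 0)] = true := by decide +kernel
theorem xzr22 : xchk [(powW [22] 6, [])] = true := by decide +kernel
theorem xzo23 : allL (fun p : ℕ × ℕ => movB CL.Std.U33.P.n CL.Std.U33.P.N xns (powW [24] (7 / p.1)) p.2) [(7, 0)] = true := by decide +kernel
theorem xzr24 : xchk [(powW [24] 7, [])] = true := by decide +kernel
theorem xzr25 : xchk (pcsR xK7_7_ps []) = true := by decide +kernel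
theorem xzb26 : bnd (pcsB xD xK7_7_ps []) (leB (app xD []) [[82]] (pcGens xK7_7_ps [])) = true := by decide +kernel
theorem xzc27 : CL.Std.U33.P.chainB xns xD xK7_7_vs [[82]] = true := by decide +kernel
theorem xzf28 : CL.Std.U33.P.fixXB xns (diag [[24]]) xc7_7_F = true := by decide +kernel
theorem xzc29 : CL.Std.U33.P.chainB xns xD xc7_7G_vs [[0], [2]] = true := by decide +kernel
theorem xzs30 : ssB CL.Std.U33.P.N xns xD (mkS CL.Std.U33.P.n xc7_7G_vs xc7_7_x) [[0], [2]] = true := by decide +kernel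
theorem xzs32 : xc7_7_G.chk xzt31 xc7_7_s none = true := by decide +kernel
theorem xzr33 : xchk (comR [[82]] (mapL Prod.snd (diag [[24]]))) = true := by decide +kernel
theorem xzm34 : leB xD [[82]] [[0], [2]] = true := by decide +kernel
theorem xzo35 : allL (fun p : ℕ × ℕ => movB CL.Std.U33.P.n CL.Std.U33.P.N xns (powW [26] (8 / p.1)) p.2) [(2, 0)] = true := by decide +kernel
theorem xzr36 : xchk [(powW [26] 8, [])] = true := by decide +kernel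
theorem xzr37 : xchk (pcsR xK8_8_ps []) = true := by decide +kernel
theorem xzb38 : bnd (pcsB xD xK8_8_ps []) (leB (app xD []) [[86]] (pcGens xK8_8_ps [])) = true := by decide +kernel
theorem xzc39 : CL.Std.U33.P.chainB xns xD xK8_8_vs [[86]] = true := by decide +kernel
theorem xzf42 : CL.Std.U33.P.fixXB xns (diag [[26]]) xc8_8_F = true := by decide +kernel
theorem xzc43 : CL.Std.U33.P.chainB xns xD xc8_8G_vs [[0], [2]] = true := by decide +kernel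
theorem xzs44 : ssB CL.Std.U33.P.N xns xD (mkS CL.Std.U33.P.n xc8_8G_vs xc8_8_x) [[0], [2]] = true := by decide +kernel
theorem xzs46 : xc8_8_G.chk xzt45 xc8_8_s none = true := by decide +kernel
theorem xzr47 : xchk (comR [[86]] (mapL Prod.snd (diag [[26]]))) = true := by decide +kernel
theorem xzm48 : leB xD [[86]] [[0], [2]] = true := by decide +kernel
theorem xzo49 : allL (fun p : ℕ × ℕ => movB CL.Std.U33.P.n CL.Std.U33.P.N xns (powW [28] (12 / p.1)) p.2) [(2, 0), (3, 0)] = true := by decide +kernel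
theorem xzr50 : xchk [(powW [28] 12, [])] = true := by decide +kernel
theorem xzf51 : CL.Std.U33.P.fixXB xns [([14], [16])] xn3_F = true := by decide +kernel
theorem xzc52 : CL.Std.U33.P.chainB xns xD xn3G_vs [[0], [2]] = true := by decide +kernel
theorem xzs53 : ssB CL.Std.U33.P.N xns xD (mkS CL.Std.U33.P.n xn3G_vs xn3_x) [[0], [2]] = true := by decide +kernel
theorem xzs55 : xn3_G.chk xzt54 xn3_s none = true := by decide +kernel
theorem xzr56 : xchk (comR [[52], [54]] (mapL Prod.snd [([14], [16])])) = true := by decide +kernel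
theorem xzm57 : leB xD [[52], [54]] [[0], [2]] = true := by decide +kernel
theorem xzf59 : CL.Std.U33.P.fixXB xns [([20], [21])] xn4a_F = true := by decide +kernel
theorem xzc60 : CL.Std.U33.P.chainB xns xD xn4aG_vs [[0], [2]] = true := by decide +kernel
theorem xzs61 : ssB CL.Std.U33.P.N xns xD (mkS CL.Std.U33.P.n xn4aG_vs xn4a_x) [[0], [2]] = true := by decide +kernel
theorem xzs63 : xn4a_G.chk xzt62 xn4a_s none = true := by decide +kernel
theorem xzr64 : xchk (comR [[64], [66]] (mapL Prod.snd [([20], [21])])) = true := by decide +kernel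
theorem xzm65 : leB xD [[64], [66]] [[0], [2]] = true := by decide +kernel
theorem xzf66 : CL.Std.U33.P.fixXB xns [([18], [20])] xn4b_F = true := by decide +kernel
theorem xzc67 : CL.Std.U33.P.chainB xns xD xn4bG_vs [[0], [2]] = true := by decide +kernel
theorem xzs68 : ssB CL.Std.U33.P.N xns xD (mkS CL.Std.U33.P.n xn4bG_vs xn4b_x) [[0], [2]] = true := by decide +kernel
theorem xzs70 : xn4b_G.chk xzt69 xn4b_s none = true := by decide +kernel
theorem xzr71 : xchk (comR [[64], [66]] (mapL Prod.snd [([18], [20])])) = true := by decide +kernel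
theorem xzm72 : leB xD [[64], [66]] [[0], [2]] = true := by decide +kernel
theorem xzf73 : CL.Std.U33.P.fixXB xns [([18], [21])] xn4c_F = true := by decide +kernel
theorem xzc74 : CL.Std.U33.P.chainB xns xD xn4cG_vs [[0], [2]] = true := by decide +kernel
theorem xzs75 : ssB CL.Std.U33.P.N xns xD (mkS CL.Std.U33.P.n xn4cG_vs xn4c_x) [[0], [2]] = true := by decide +kernel
theorem xzs77 : xn4c_G.chk xzt76 xn4c_s none = true := by decide +kernel
theorem xzr78 : xchk (comR [[64], [66]] (mapL Prod.snd [([18], [21])])) = true := by decide +kernel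
theorem xzm79 : leB xD [[64], [66]] [[0], [2]] = true := by decide +kernel
theorem xzf80 : CL.Std.U33.P.fixXB xns [([24], [25])] xn7_F = true := by decide +kernel
theorem xzc81 : CL.Std.U33.P.chainB xns xD xn7G_vs [[0], [2]] = true := by decide +kernel
theorem xzs82 : ssB CL.Std.U33.P.N xns xD (mkS CL.Std.U33.P.n xn7G_vs xn7_x) [[0], [2]] = true := by decide +kernel
theorem xzs84 : xn7_G.chk xzt83 xn7_s none = true := by decide +kernel
theorem xzr85 : xchk (comR [[82]] (mapL Prod.snd [([24], [25])])) = true := by decide +kernel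
theorem xzm86 : leB xD [[82]] [[0], [2]] = true := by decide +kernel
theorem xzf89 : CL.Std.U33.P.fixXB xns [([26], [27])] xn8_F = true := by decide +kernel
theorem xzc90 : CL.Std.U33.P.chainB xns xD xn8G_vs [[0], [2]] = true := by decide +kernel
theorem xzs91 : ssB CL.Std.U33.P.N xns xD (mkS CL.Std.U33.P.n xn8G_vs xn8_x) [[0], [2]] = true := by decide +kernel
theorem xzs93 : xn8_G.chk xzt92 xn8_s none = true := by decide +kernel
theorem xzr94 : xchk (comR [[86]] (mapL Prod.snd [([26], [27])])) = true := by decide +kernel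
theorem xzm95 : leB xD [[86]] [[0], [2]] = true := by decide +kernel
theorem xzf98 : CL.Std.U33.P.fixXB xns [([28], [29])] xn12_F = true := by decide +kernel
theorem xzc99 : CL.Std.U33.P.chainB xns xD xn12G_vs [[0], [2]] = true := by decide +kernel
theorem xzs100 : ssB CL.Std.U33.P.N xns xD (mkS CL.Std.U33.P.n xn12G_vs xn12_x) [[0], [2]] = true := by decide +kernel
theorem xzs102 : xn12_G.chk xzt101 xn12_s none = true := by decide +kernel
theorem xzr103 : xchk (comR [[100]] (mapL Prod.snd [([28], [29])])) = true := by decide +kernel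
theorem xzm104 : leB xD [[100]] [[0], [2]] = true := by decide +kernel
theorem xze105 : extB CL.Std.U33.ns xns 6 xws CL.Std.U33.D = true := by decide +kernel
theorem xzn106 : CL.Std.U33.P.netsB xns (mkDefs xws 6) = true := by decide +kernel

section
variable {G X : Type*} [Group G] [MulAction G X] {e : ℕ → X} {gs : List G}

theorem xlen {k} (c : Ctx CL.Std.U33.P e gs CL.Std.U33.ns CL.Std.U33.D k) : gs.length = 6 := c.len xze105

theorem xctx0 {k} (c : Ctx CL.Std.U33.P e gs CL.Std.U33.ns CL.Std.U33.D k) : Ctx CL.Std.U33.P e (ext gs xws) xns xD chk0 :=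
  c.ext rfl xze105 xzn106

theorem xctx {k} (c : Ctx CL.Std.U33.P e gs CL.Std.U33.ns CL.Std.U33.D k) {H : Subgroup G} (hF : Faithful e CL.Std.U33.P.n H) (hH : ∀ g ∈ gs, g ∈ H) :
    Ctx CL.Std.U33.P e (ext gs xws) xns xD xchk :=
  (xctx0 c).withB hF (mem_of_mem_ext hH _)

theorem xo2_96 (c : Ctx CL.Std.U33.P e gs xns xD xchk) :
    orderOf (wordG gs [12]) = 2 :=
  c.orderOf_eq (ps := [(2, 0)]) (by norm_num) xzr1 xzo0 (by decide +kernel)

theorem xo3_9 (c : Ctx CL.Std.U33.P e gs xns xD xchk) :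
    orderOf (wordG gs [14]) = 3 :=
  c.orderOf_eq (ps := [(3, 0)]) (by norm_num) xzr3 xzo2 (by decide +kernel)

theorem xK3_9_pr (c : Ctx CL.Std.U33.P e gs xns xD xchk) :
    Rels gs (pcsR xK3_9_ps []) :=
  (c.rels _ xzr4)

theorem xK3_9_pe (c : Ctx CL.Std.U33.P e gs xns xD xchk) :
    Rels gs (defRels []) :=
  (Rels.nil _)

theorem xK3_9_pb : bnd (pcsB xD xK3_9_ps []) (leB (app xD []) [[42], [44]] (pcGens xK3_9_ps [])) = true := xzb5

theorem xK3_9_ub (c : Ctx CL.Std.U33.P e gs xns xD xchk) :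
    UB (subW gs [[42], [44]]) 9 :=
  c.pcs (UB.nil gs) (xK3_9_pe c) (xK3_9_pr c) xK3_9_pb (by decide +kernel)

theorem xK3_9_c : CL.Std.U33.P.chainB xns xD xK3_9_vs [[42], [44]] = true :=
  xzc6

theorem xK3_9_o : prodL xK3_9_vs 1 = 9 := by decide +kernel

theorem xK3_9_lb (c : Ctx CL.Std.U33.P e gs xns xD xchk) :
    LB (subW gs [[42], [44]]) 9 :=
  c.lb xK3_9_c xK3_9_o

theorem xK3_9_card (c : Ctx CL.Std.U33.P e gs xns xD xchk) :
    Nat.card (subW gs [[42], [44]]) = 9 :=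
  (xK3_9_ub c).card_eq (xK3_9_lb c)

theorem xc3_9G_c : CL.Std.U33.P.chainB xns xD xc3_9G_vs [[0], [2]] = true :=
  xzc9

theorem xc3_9G_o : prodL xc3_9G_vs 1 = 6048 := by decide +kernel

theorem xc3_9 (c : Ctx CL.Std.U33.P e gs xns xD xchk) (hU : UB (subW gs [[0], [2]]) 6048) :
    (subW gs [[0], [2]]) ⊓ Subgroup.centralizer (subW gs [[14]] : Set G) = (subW gs [[42], [44]]) :=
  c.cent (lx := [[14]]) (Rels.nil _) (c.sOk (c.exact xc3_9G_c xc3_9G_o hU) xzs10) (fun _ h => by cases h)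
    (c.fixX xzf8) (c.rels _ xzr13) xzm14 xzs12

theorem xo3_108 (c : Ctx CL.Std.U33.P e gs xns xD xchk) :
    orderOf (wordG gs [16]) = 3 :=
  c.orderOf_eq (ps := [(3, 0)]) (by norm_num) xzr16 xzo15 (by decide +kernel)

theorem xo4_16 (c : Ctx CL.Std.U33.P e gs xns xD xchk) :
    orderOf (wordG gs [18]) = 4 :=
  c.orderOf_eq (ps := [(2, 0)]) (by norm_num) xzr18 xzo17 (by decide +kernel)

theorem xo4_96 (c : Ctx CL.Std.U33.P e gs xns xD xchk) :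
    orderOf (wordG gs [20]) = 4 :=
  c.orderOf_eq (ps := [(2, 0)]) (by norm_num) xzr20 xzo19 (by decide +kernel)

theorem xo6_12 (c : Ctx CL.Std.U33.P e gs xns xD xchk) :
    orderOf (wordG gs [22]) = 6 :=
  c.orderOf_eq (ps := [(2, 0), (3, 0)]) (by norm_num) xzr22 xzo21 (by decide +kernel)

theorem xo7_7 (c : Ctx CL.Std.U33.P e gs xns xD xchk) :
    orderOf (wordG gs [24]) = 7 :=
  c.orderOf_eq (ps := [(7, 0)]) (by norm_num) xzr24 xzo23 (by decide +kernel)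

theorem xK7_7_pr (c : Ctx CL.Std.U33.P e gs xns xD xchk) :
    Rels gs (pcsR xK7_7_ps []) :=
  (c.rels _ xzr25)

theorem xK7_7_pe (c : Ctx CL.Std.U33.P e gs xns xD xchk) :
    Rels gs (defRels []) :=
  (Rels.nil _)

theorem xK7_7_pb : bnd (pcsB xD xK7_7_ps []) (leB (app xD []) [[82]] (pcGens xK7_7_ps [])) = true := xzb26

theorem xK7_7_ub (c : Ctx CL.Std.U33.P e gs xns xD xchk) :
    UB (subW gs [[82]]) 7 :=
  c.pcs (UB.nil gs) (xK7_7_pe c) (xK7_7_pr c) xK7_7_pb (by decide +kernel)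

theorem xK7_7_c : CL.Std.U33.P.chainB xns xD xK7_7_vs [[82]] = true :=
  xzc27

theorem xK7_7_o : prodL xK7_7_vs 1 = 7 := by decide +kernel

theorem xK7_7_lb (c : Ctx CL.Std.U33.P e gs xns xD xchk) :
    LB (subW gs [[82]]) 7 :=
  c.lb xK7_7_c xK7_7_o

theorem xK7_7_card (c : Ctx CL.Std.U33.P e gs xns xD xchk) :
    Nat.card (subW gs [[82]]) = 7 :=
  (xK7_7_ub c).card_eq (xK7_7_lb c)

theorem xc7_7G_c : CL.Std.U33.P.chainB xns xD xc7_7G_vs [[0], [2]] = true :=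
  xzc29

theorem xc7_7G_o : prodL xc7_7G_vs 1 = 6048 := by decide +kernel

theorem xc7_7 (c : Ctx CL.Std.U33.P e gs xns xD xchk) (hU : UB (subW gs [[0], [2]]) 6048) :
    (subW gs [[0], [2]]) ⊓ Subgroup.centralizer (subW gs [[24]] : Set G) = (subW gs [[82]]) :=
  c.cent (lx := [[24]]) (Rels.nil _) (c.sOk (c.exact xc7_7G_c xc7_7G_o hU) xzs30) (fun _ h => by cases h)
    (c.fixX xzf28) (c.rels _ xzr33) xzm34 xzs32

theorem xo8_8 (c : Ctx CL.Std.U33.P e gs xns xD xchk) :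
    orderOf (wordG gs [26]) = 8 :=
  c.orderOf_eq (ps := [(2, 0)]) (by norm_num) xzr36 xzo35 (by decide +kernel)

theorem xK8_8_pr (c : Ctx CL.Std.U33.P e gs xns xD xchk) :
    Rels gs (pcsR xK8_8_ps []) :=
  (c.rels _ xzr37)

theorem xK8_8_pe (c : Ctx CL.Std.U33.P e gs xns xD xchk) :
    Rels gs (defRels []) :=
  (Rels.nil _)

theorem xK8_8_pb : bnd (pcsB xD xK8_8_ps []) (leB (app xD []) [[86]] (pcGens xK8_8_ps [])) = true := xzb38

theorem xK8_8_ub (c : Ctx CL.Std.U33.P e gs xns xD xchk) :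
    UB (subW gs [[86]]) 8 :=
  c.pcs (UB.nil gs) (xK8_8_pe c) (xK8_8_pr c) xK8_8_pb (by decide +kernel)

theorem xK8_8_c : CL.Std.U33.P.chainB xns xD xK8_8_vs [[86]] = true :=
  xzc39

theorem xK8_8_o : prodL xK8_8_vs 1 = 8 := by decide +kernel

theorem xK8_8_lb (c : Ctx CL.Std.U33.P e gs xns xD xchk) :
    LB (subW gs [[86]]) 8 :=
  c.lb xK8_8_c xK8_8_o

theorem xK8_8_card (c : Ctx CL.Std.U33.P e gs xns xD xchk) :
    Nat.card (subW gs [[86]]) = 8 :=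
  (xK8_8_ub c).card_eq (xK8_8_lb c)

theorem xc8_8G_c : CL.Std.U33.P.chainB xns xD xc8_8G_vs [[0], [2]] = true :=
  xzc43

theorem xc8_8G_o : prodL xc8_8G_vs 1 = 6048 := by decide +kernel

theorem xc8_8 (c : Ctx CL.Std.U33.P e gs xns xD xchk) (hU : UB (subW gs [[0], [2]]) 6048) :
    (subW gs [[0], [2]]) ⊓ Subgroup.centralizer (subW gs [[26]] : Set G) = (subW gs [[86]]) :=
  c.cent (lx := [[26]]) (Rels.nil _) (c.sOk (c.exact xc8_8G_c xc8_8G_o hU) xzs44) (fun _ h => by cases h)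
    (c.fixX xzf42) (c.rels _ xzr47) xzm48 xzs46

theorem xo12_12 (c : Ctx CL.Std.U33.P e gs xns xD xchk) :
    orderOf (wordG gs [28]) = 12 :=
  c.orderOf_eq (ps := [(2, 0), (3, 0)]) (by norm_num) xzr50 xzo49 (by decide +kernel)

theorem xn3G_c : CL.Std.U33.P.chainB xns xD xn3G_vs [[0], [2]] = true :=
  xzc52

theorem xn3G_o : prodL xn3G_vs 1 = 6048 := by decide +kernel

theorem xn3 (c : Ctx CL.Std.U33.P e gs xns xD xchk) (hU : UB (subW gs [[0], [2]]) 6048) :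
    ∀ g ∈ (subW gs [[0], [2]]), ¬ XS gs g [([14], [16])] :=
  c.notConj (xs := [([14], [16])]) (lK := [[52], [54]]) (c.sOk (c.exact xn3G_c xn3G_o hU) xzs53) (fun _ h => by cases h)
    (c.fixX xzf51) (c.rels _ xzr56) xzm57 xzs55

theorem xn4aG_c : CL.Std.U33.P.chainB xns xD xn4aG_vs [[0], [2]] = true :=
  xzc60

theorem xn4aG_o : prodL xn4aG_vs 1 = 6048 := by decide +kernel

theorem xn4a (c : Ctx CL.Std.U33.P e gs xns xD xchk) (hU : UB (subW gs [[0], [2]]) 6048) :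
    ∀ g ∈ (subW gs [[0], [2]]), ¬ XS gs g [([20], [21])] :=
  c.notConj (xs := [([20], [21])]) (lK := [[64], [66]]) (c.sOk (c.exact xn4aG_c xn4aG_o hU) xzs61) (fun _ h => by cases h)
    (c.fixX xzf59) (c.rels _ xzr64) xzm65 xzs63

theorem xn4bG_c : CL.Std.U33.P.chainB xns xD xn4bG_vs [[0], [2]] = true :=
  xzc67

theorem xn4bG_o : prodL xn4bG_vs 1 = 6048 := by decide +kernel

theorem xn4b (c : Ctx CL.Std.U33.P e gs xns xD xchk) (hU : UB (subW gs [[0], [2]]) 6048) :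
    ∀ g ∈ (subW gs [[0], [2]]), ¬ XS gs g [([18], [20])] :=
  c.notConj (xs := [([18], [20])]) (lK := [[64], [66]]) (c.sOk (c.exact xn4bG_c xn4bG_o hU) xzs68) (fun _ h => by cases h)
    (c.fixX xzf66) (c.rels _ xzr71) xzm72 xzs70

theorem xn4cG_c : CL.Std.U33.P.chainB xns xD xn4cG_vs [[0], [2]] = true :=
  xzc74

theorem xn4cG_o : prodL xn4cG_vs 1 = 6048 := by decide +kernel

theorem xn4c (c : Ctx CL.Std.U33.P e gs xns xD xchk) (hU : UB (subW gs [[0], [2]]) 6048) :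
    ∀ g ∈ (subW gs [[0], [2]]), ¬ XS gs g [([18], [21])] :=
  c.notConj (xs := [([18], [21])]) (lK := [[64], [66]]) (c.sOk (c.exact xn4cG_c xn4cG_o hU) xzs75) (fun _ h => by cases h)
    (c.fixX xzf73) (c.rels _ xzr78) xzm79 xzs77

theorem xn7G_c : CL.Std.U33.P.chainB xns xD xn7G_vs [[0], [2]] = true :=
  xzc81

theorem xn7G_o : prodL xn7G_vs 1 = 6048 := by decide +kernel

theorem xn7 (c : Ctx CL.Std.U33.P e gs xns xD xchk) (hU : UB (subW gs [[0], [2]]) 6048) :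
    ∀ g ∈ (subW gs [[0], [2]]), ¬ XS gs g [([24], [25])] :=
  c.notConj (xs := [([24], [25])]) (lK := [[82]]) (c.sOk (c.exact xn7G_c xn7G_o hU) xzs82) (fun _ h => by cases h)
    (c.fixX xzf80) (c.rels _ xzr85) xzm86 xzs84

theorem xn8G_c : CL.Std.U33.P.chainB xns xD xn8G_vs [[0], [2]] = true :=
  xzc90

theorem xn8G_o : prodL xn8G_vs 1 = 6048 := by decide +kernel

theorem xn8 (c : Ctx CL.Std.U33.P e gs xns xD xchk) (hU : UB (subW gs [[0], [2]]) 6048) :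
    ∀ g ∈ (subW gs [[0], [2]]), ¬ XS gs g [([26], [27])] :=
  c.notConj (xs := [([26], [27])]) (lK := [[86]]) (c.sOk (c.exact xn8G_c xn8G_o hU) xzs91) (fun _ h => by cases h)
    (c.fixX xzf89) (c.rels _ xzr94) xzm95 xzs93

theorem xn12G_c : CL.Std.U33.P.chainB xns xD xn12G_vs [[0], [2]] = true :=
  xzc99

theorem xn12G_o : prodL xn12G_vs 1 = 6048 := by decide +kernel

theorem xn12 (c : Ctx CL.Std.U33.P e gs xns xD xchk) (hU : UB (subW gs [[0], [2]]) 6048) :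
    ∀ g ∈ (subW gs [[0], [2]]), ¬ XS gs g [([28], [29])] :=
  c.notConj (xs := [([28], [29])]) (lK := [[100]]) (c.sOk (c.exact xn12G_c xn12G_o hU) xzs100) (fun _ h => by cases h)
    (c.fixX xzf98) (c.rels _ xzr103) xzm104 xzs102

theorem xtop {Γ : Type*} [Group Γ] (f : Nonempty (subW CL.Std.U33.gs1 [[0], [2]] ≃* Γ)) :
    ∃ (_ : MulAction Γ (Fin CL.Std.U33.P.n)) (cs : List Γ), Top CL.Std.U33.P xns xD xchk [[0], [2]] 6048 (eF CL.Std.U33.P.n) cs := by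
  obtain ⟨_, cs, t⟩ := CL.Std.U33.c1.exists_top (b := 6) (by decide +kernel) (by decide +kernel) ((faithful_eF _).mono le_top) CL.Std.U33.card (by norm_num) f
  exact ⟨_, _, t.ext (xctx t.c t.fa fun _ _ => trivial) (b := 6) (by decide +kernel) (by decide +kernel)⟩

end
end CL.U33C

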