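/-
Weil representations, abstract part.  A "Heisenberg basis" `π v` of `End W` is permuted by a group `G`; the
projective representation given by the Skolem-Noether theorem is normalised by the quotient of the determinants
on the two eigenspaces of the parity operator `P`, whose dimensions differ by one.
-/
import Cfsg.Agent.Char.Basic

set_option autoImplicit false

open Module Module.End

namespace CL.Weil

variable {V W G : Type*} [AddCommGroup V] [Fintype V] [AddCommGroup W] [Module ℂ W] [FiniteDimensional ℂ W]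
  [Group G]

/-- Heisenberg data. -/
structure Heis (V W : Type*) [AddCommGroup V] [AddCommGroup W] [Module ℂ W] where
  π : Basis V ℂ (End ℂ W)
  c : V → V → ℂ
  P : End ℂ W
  mul : ∀ v w, π v * π w = c v w • π (v + w)
  zero : π 0 = 1
  sq : P * P = 1
  neg : ∀ v, P * π v = π (-v) * P
  tr : LinearMap.trace ℂ W P = 1

namespace Heis

variable (H : Heis V W)

omit [Fintype V] in
theorem exists_smul {T : End ℂ W} (h : ∀ v, T * H.π v = H.π v * T) : ∃ a : ℂ, T = a • 1 := by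
  have h1 : LinearMap.mulLeft ℂ T = LinearMap.mulRight ℂ T := H.π.ext fun v => h v
  obtain ⟨a, ha⟩ := (Algebra.IsCentral.mem_center_iff ℂ).mp
    (Subalgebra.mem_center_iff.mpr fun S => (LinearMap.congr_fun h1 S).symm)
  exact ⟨a, by rw [ha, Algebra.algebraMap_eq_smul_one]⟩

omit [Fintype V] in
theorem exists_unit (a : V ≃+ V) (ha : ∀ v w, H.c (a v) (a w) = H.c v w) :
    ∃ T : (End ℂ W)ˣ, ∀ v, T * H.π v = H.π (a v) * T := by
  let e := H.π.equiv H.π a.toEquiv
  have he : ∀ v, e (H.π v) = H.π (a v) := fun v => H.π.equiv_apply v H.π a.toEquiv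
  have h1 : (LinearMap.mul ℂ (End ℂ W)).compr₂ e.toLinearMap =
      (LinearMap.mul ℂ (End ℂ W)).compl₁₂ e.toLinearMap e.toLinearMap :=
    H.π.ext fun v => H.π.ext fun w => by simp [he, H.mul, ha]
  obtain ⟨T, hT⟩ := (AlgEquiv.ofLinearEquiv e (by rw [← H.zero, he, map_zero]) fun x y =>
    LinearMap.congr_fun₂ h1 x y).eq_linearEquivConjAlgEquiv
  refine ⟨LinearMap.GeneralLinearGroup.ofLinearEquiv T, fun v => LinearMap.ext fun x => ?_⟩
  have h2 := LinearMap.congr_fun (AlgEquiv.congr_fun hT (H.π v)) (T x)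
  simp only [LinearEquiv.conjAlgEquiv_apply, LinearMap.comp_apply,
    LinearEquiv.coe_coe, LinearEquiv.symm_apply_apply] at h2
  exact h2.symm.trans (LinearMap.congr_fun (he v) (T x))

omit [Fintype V] in
theorem eq_smul {a : V → V} {S : End ℂ W} {T : (End ℂ W)ˣ} (hS : ∀ v, S * H.π v = H.π (a v) * S)
    (hT : ∀ v, T * H.π v = H.π (a v) * T) : ∃ c : ℂ, S = c • (T : End ℂ W) := by
  obtain ⟨c, hc⟩ := H.exists_smul (T := T⁻¹ * S) fun v => by
    rw [mul_assoc, hS, Units.inv_mul_eq_iff_eq_mul, ← mul_assoc, ← mul_assoc, hT, Units.mul_inv_cancel_right]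
  exact ⟨c, by rw [Units.inv_mul_eq_iff_eq_mul] at hc; rw [hc, mul_smul_comm, mul_one]⟩

omit [Fintype V] in
theorem comm_P {a : V ≃+ V} {T : (End ℂ W)ˣ} (hT : ∀ v, T * H.π v = H.π (a v) * T) : T * H.P = H.P * T := by
  obtain ⟨c, hc⟩ := H.eq_smul (a := a) (S := H.P * T * H.P) (fun v => by
    rw [mul_assoc, H.neg, ← mul_assoc, mul_assoc H.P, hT, ← mul_assoc, H.neg, map_neg a, neg_neg]
    simp only [mul_assoc]) hT
  have h1 : T * H.P * (T⁻¹ : (End ℂ W)ˣ) = c • H.P := by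
    rw [Units.mul_inv_eq_iff_eq_mul, smul_mul_assoc, ← mul_smul_comm, ← hc, ← mul_assoc, ← mul_assoc, H.sq,
      one_mul]
  have h2 := congrArg (LinearMap.trace ℂ W) h1
  rw [LinearMap.trace_conj, map_smul, H.tr, smul_eq_mul, mul_one] at h2
  rwa [← h2, one_smul, Units.mul_inv_eq_iff_eq_mul] at h1

/-- the eigenspaces of the parity operator -/
abbrev E (ε : ℂ) : Submodule ℂ W := eigenspace H.P ε

omit [Fintype V] in
theorem finrank_E {ε : ℂ} (hε : ε * ε = 1) : 2 * (finrank ℂ (H.E ε) : ℂ) = finrank ℂ W + ε := by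
  have h1 : LinearMap.IsProj (H.E ε) ((1 / 2 : ℂ) • (1 + ε • H.P)) := ⟨fun x => mem_eigenspace_iff.mpr (by
    have h2 := LinearMap.congr_fun H.sq x
    simp only [End.mul_apply, End.one_apply] at h2
    simp only [LinearMap.smul_apply, LinearMap.add_apply, End.one_apply, map_smul, map_add, h2, smul_add,
      smul_smul, mul_comm ε, mul_assoc _ ε ε, hε]
    rw [add_comm, mul_one]), fun x hx => by
      simp only [LinearMap.smul_apply, LinearMap.add_apply, End.one_apply, mem_eigenspace_iff.mp hx, smul_smul, hε]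
      module⟩
  rw [← h1.trace, map_smul, map_add, map_smul, H.tr, LinearMap.trace_one, smul_eq_mul, smul_eq_mul]
  ring

omit [Fintype V] in
theorem finrank_E_one : finrank ℂ (H.E 1) = finrank ℂ (H.E (-1)) + 1 := by
  have h1 := H.finrank_E (ε := 1) (by simp)
  have h2 := H.finrank_E (ε := -1) (by simp)
  exact_mod_cast (by linear_combination (h1 - h2) / 2 : (finrank ℂ (H.E 1) : ℂ) = finrank ℂ (H.E (-1)) + 1)

omit [Fintype V] in
theorem finrank_E_neg : 2 * finrank ℂ (H.E (-1)) + 1 = finrank ℂ W := by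
  have h2 := H.finrank_E (ε := -1) (by simp)
  exact_mod_cast (by linear_combination h2 : 2 * (finrank ℂ (H.E (-1)) : ℂ) + 1 = finrank ℂ W)

omit [Fintype V] [FiniteDimensional ℂ W] in
theorem maps {T : End ℂ W} (h : T * H.P = H.P * T) (ε : ℂ) : ∀ x ∈ H.E ε, T x ∈ H.E ε := fun x hx =>
  mem_eigenspace_iff.mpr (by rw [← End.mul_apply, ← h, End.mul_apply, mem_eigenspace_iff.mp hx, map_smul])

/-- determinant on an eigenspace -/
noncomputable def d (ε : ℂ) : Submonoid.centralizer {H.P} →* ℂ where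
  toFun T := LinearMap.det (T.1.restrict (H.maps (T.2 _ rfl).symm ε))
  map_one' := (congrArg LinearMap.det (by ext; simp)).trans (map_one LinearMap.det)
  map_mul' S T := (congrArg LinearMap.det (by ext; simp)).trans (map_mul LinearMap.det _ _)

omit [Fintype V] in
theorem d_smul (ε : ℂ) {S T : Submonoid.centralizer {H.P}} {c : ℂ} (h : S.1 = c • T.1) :
    H.d ε S = c ^ finrank ℂ (H.E ε) * H.d ε T :=
  (congrArg LinearMap.det (by ext; simp [h])).trans (LinearMap.det_smul c _)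

omit [Fintype V] in
theorem d_ne_zero (ε : ℂ) {T : (End ℂ W)ˣ} (h : T * H.P = H.P * T) :
    H.d ε ⟨T, fun _ e => e ▸ h.symm⟩ ≠ 0 := by
  have h1 : (T⁻¹ : (End ℂ W)ˣ) * H.P = H.P * (T⁻¹ : (End ℂ W)ˣ) := by
    rw [Units.inv_mul_eq_iff_eq_mul, ← mul_assoc, h, Units.mul_inv_cancel_right]
  refine left_ne_zero_of_mul_eq_one (b := H.d ε ⟨(T⁻¹ : (End ℂ W)ˣ), fun _ e => e ▸ h1.symm⟩) ?_
  rw [← map_mul, ← map_one (H.d ε)]
  exact congrArg _ (Subtype.ext T.mul_inv)

/-- `T` is the normalised intertwiner for `a`. -/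
def Nrm (a : V → V) (T : (End ℂ W)ˣ) : Prop :=
  (∀ v, T * H.π v = H.π (a v) * T) ∧ ∃ h : (T : End ℂ W) ∈ Submonoid.centralizer {H.P},
    H.d 1 ⟨T, h⟩ = H.d (-1) ⟨T, h⟩

omit [Fintype V] in
theorem Nrm.unique {a : V → V} {S T : (End ℂ W)ˣ} (hS : H.Nrm a S) (hT : H.Nrm a T) : S = T := by
  obtain ⟨c, hc⟩ := H.eq_smul hS.1 hT.1
  obtain ⟨-, s, hs⟩ := hS
  obtain ⟨-, t, ht⟩ := hT
  have h0 := H.d_ne_zero (-1) (s _ rfl).symm
  have h1 := H.d_smul 1 (S := ⟨S, s⟩) (T := ⟨T, t⟩) hc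
  have h2 := H.d_smul (-1) (S := ⟨S, s⟩) (T := ⟨T, t⟩) hc
  rw [H.finrank_E_one, pow_succ', mul_assoc, ht, ← h2, hs] at h1
  exact Units.ext (by rw [hc, (mul_eq_right₀ h0).mp h1.symm, one_smul])

omit [Fintype V] in
theorem exists_nrm (a : V ≃+ V) (ha : ∀ v w, H.c (a v) (a w) = H.c v w) : ∃ T, H.Nrm a T := by
  obtain ⟨T, hT⟩ := H.exists_unit a ha
  have h := H.comm_P hT
  have h1 := H.d_ne_zero 1 h
  have h2 := H.d_ne_zero (-1) h
  have hc := div_ne_zero h2 h1
  have h3 : ((Units.mk0 _ hc • T : (End ℂ W)ˣ) : End ℂ W) ∈ Submonoid.centralizer {H.P} := fun _ e => by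
    rw [e, Units.val_smul, Units.smul_def, mul_smul_comm, smul_mul_assoc]
    exact congrArg _ h.symm
  refine ⟨Units.mk0 _ hc • T, fun v => by
    rw [Units.val_smul, Units.smul_def, mul_smul_comm, smul_mul_assoc, hT], h3, ?_⟩
  rw [H.d_smul 1 (S := ⟨_, h3⟩) (T := ⟨T, fun _ e => e ▸ h.symm⟩) rfl,
    H.d_smul (-1) (S := ⟨_, h3⟩) (T := ⟨T, fun _ e => e ▸ h.symm⟩) rfl, H.finrank_E_one, pow_succ, mul_assoc,
    Units.val_mk0, div_mul_cancel₀ _ h1]

omit [Fintype V] in
/-- The Weil representation. -/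
theorem exists_weil (a : G → V ≃+ V) (hm : ∀ g h v, a (g * h) v = a g (a h v))
    (ha : ∀ g v w, H.c (a g v) (a g w) = H.c v w) :
    ∃ ω : Representation ℂ G W, (∀ g v, ω g * H.π v = H.π (a g v) * ω g) ∧ ∀ g, ω g * H.P = H.P * ω g := by
  choose T hT using fun g => H.exists_nrm (a g) (ha g)
  have hm' : ∀ g h, T (g * h) = T g * T h := fun g h => Nrm.unique H (hT (g * h)) (by
    obtain ⟨h1, s, hs⟩ := hT g
    obtain ⟨h2, t, ht⟩ := hT h
    refine ⟨fun v => by rw [Units.val_mul, mul_assoc, h2, ← mul_assoc, h1, mul_assoc, hm],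
      mul_mem s t, ?_⟩
    exact (map_mul (H.d 1) ⟨_, s⟩ ⟨_, t⟩).trans ((congrArg₂ _ hs ht).trans (map_mul (H.d (-1)) ⟨_, s⟩ ⟨_, t⟩).symm))
  exact ⟨(Units.coeHom _).comp (MonoidHom.mk' T hm'), fun g => (hT g).1, fun g => H.comm_P (hT g).1⟩

variable {H} {a : G → V ≃+ V} {ω : Representation ℂ G W}

omit [FiniteDimensional ℂ W] in
theorem comm_sum (hω : ∀ g v, ω g * H.π v = H.π (a g v) * ω g)
    (ht : ∀ v w, v ≠ 0 → w ≠ 0 → ∃ g, a g v = w) {T : End ℂ W} (hT : ∀ g, ω g * T = T * ω g) :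
    ∃ s t : ℂ, T = s • 1 + t • ∑ v, H.π v := by
  classical
  have key : ∀ g v, H.π.repr T (a g v) = H.π.repr T v := fun g v => by
    have h1 : T = ∑ w, H.π.repr T w • H.π (a g w) := by
      have h2 : T * ω g = (∑ w, H.π.repr T w • H.π (a g w)) * ω g := by
        rw [← hT, Finset.sum_mul]
        conv_lhs => rw [← H.π.sum_repr T, Finset.mul_sum]
        simp only [mul_smul_comm, smul_mul_assoc, hω]
      have h3 := congrArg (· * ω g⁻¹) h2
      simpa only [mul_assoc, ← map_mul, mul_inv_cancel, map_one, mul_one] using h3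
    conv_lhs => rw [h1]
    simp [Finsupp.single_apply]
  by_cases h0 : ∃ w : V, w ≠ 0
  · obtain ⟨w, hw⟩ := h0
    refine ⟨H.π.repr T 0 - H.π.repr T w, H.π.repr T w, H.π.repr.injective (Finsupp.ext fun v => ?_)⟩
    by_cases hv : v = 0
    · simp [← H.zero, hv, Finsupp.single_apply]
    · obtain ⟨g, rfl⟩ := ht w v hw hv
      simp [← H.zero, key, hv, Finsupp.single_apply]
  · push Not at h0
    refine ⟨H.π.repr T 0, 0, H.π.repr.injective (Finsupp.ext fun v => ?_)⟩
    simp [← H.zero, h0 v]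

theorem comm_P' [Nontrivial V] (hω : ∀ g v, ω g * H.π v = H.π (a g v) * ω g) (hP : ∀ g, ω g * H.P = H.P * ω g)
    (ht : ∀ v w, v ≠ 0 → w ≠ 0 → ∃ g, a g v = w) {T : End ℂ W} (hT : ∀ g, ω g * T = T * ω g) :
    ∃ s t : ℂ, T = s • 1 + t • H.P := by
  obtain ⟨s, t, h1⟩ := comm_sum hω ht hT
  obtain ⟨s', t', h2⟩ := comm_sum hω ht hP
  have h0 : t' ≠ 0 := by
    rintro rfl
    have h3 := H.tr
    have h4 := congrArg (LinearMap.trace ℂ W) H.sq
    rw [zero_smul, add_zero] at h2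
    rw [h2] at h3 h4
    simp only [smul_mul_assoc, one_mul, map_smul, LinearMap.trace_one, smul_eq_mul] at h3 h4
    have h5 : ((finrank ℂ W * finrank ℂ W : ℕ) : ℂ) = 1 := by
      push_cast
      linear_combination (-(finrank ℂ W : ℂ)) * h4 + (s' * finrank ℂ W + 1) * h3
    have h6 := finrank_eq_card_basis H.π
    rw [finrank_linearMap, Nat.cast_eq_one.mp h5] at h6
    exact Fintype.one_lt_card.ne h6
  refine ⟨s - t / t' * s', t / t', ?_⟩
  rw [h1, h2, smul_add, smul_smul, smul_smul, div_mul_cancel₀ _ h0]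
  module

/-- The eigenspaces as subrepresentations. -/
def sub (hP : ∀ g, ω g * H.P = H.P * ω g) (ε : ℂ) : Subrepresentation ω :=
  ⟨H.E ε, fun g _ hv => H.maps (hP g) ε _ hv⟩

theorem irreducible [Nontrivial V] [Finite G] (hω : ∀ g v, ω g * H.π v = H.π (a g v) * ω g)
    (hP : ∀ g, ω g * H.P = H.P * ω g) (ht : ∀ v w, v ≠ 0 → w ≠ 0 → ∃ g, a g v = w) {ε : ℂ}
    (h0 : H.E ε ≠ ⊥) : (sub hP ε).toRepresentation.IsIrreducible := by
  have : Nontrivial (Subrepresentation (sub hP ε).toRepresentation) := ⟨⊥, ⊤, fun e => h0 (by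
    have h1 : (⊥ : Submodule ℂ (H.E ε)) = ⊤ := congrArg Subrepresentation.toSubmodule e
    rw [← (H.E ε).map_subtype_top, ← h1, Submodule.map_bot])⟩
  refine ⟨fun U => ?_⟩
  let U' : Subrepresentation ω := ⟨U.toSubmodule.map (H.E ε).subtype, by
    rintro g _ ⟨x, hx, rfl⟩
    exact ⟨_, U.apply_mem_toSubmodule g hx, rfl⟩⟩
  obtain ⟨C, hC⟩ := exists_isCompl U'
  have hC' : IsCompl U'.toSubmodule C.toSubmodule :=
    ⟨disjoint_iff.mpr (congrArg Subrepresentation.toSubmodule (disjoint_iff.mp hC.1)),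
      codisjoint_iff.mpr (congrArg Subrepresentation.toSubmodule (codisjoint_iff.mp hC.2))⟩
  obtain ⟨s, t, hq⟩ := comm_P' hω hP ht (T := Submodule.projection _ _ hC') fun g => LinearMap.ext fun x => by
    obtain ⟨y, hy, z, hz, rfl⟩ := Submodule.mem_sup.mp (hC'.sup_eq_top ▸ Submodule.mem_top (x := x))
    simp only [End.mul_apply, map_add]
    rw [Submodule.projection_apply_of_mem_left hC' hy, (Submodule.projection_apply_eq_zero_iff hC').mpr hz,
      Submodule.projection_apply_of_mem_left hC' (U'.apply_mem_toSubmodule g hy),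
      (Submodule.projection_apply_eq_zero_iff hC').mpr (C.apply_mem_toSubmodule g hz), map_zero]
  have h1 : ∀ x : H.E ε, Submodule.projection _ _ hC' x = (s + t * ε) • (x : W) := fun x => by
    rw [hq, LinearMap.add_apply, LinearMap.smul_apply, LinearMap.smul_apply, mem_eigenspace_iff.mp x.2, smul_smul,
      add_smul, End.one_apply]
  by_cases h2 : s + t * ε = 0
  · refine Or.inl (Subrepresentation.toSubmodule_injective (eq_bot_iff.mpr fun x hx => Subtype.ext ?_))
    have h3 := h1 x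
    rw [h2, zero_smul] at h3
    exact (Submodule.projection_apply_of_mem_left hC' ⟨x, hx, rfl⟩).symm.trans h3
  · refine Or.inr (Subrepresentation.toSubmodule_injective (eq_top_iff.mpr fun x _ => ?_))
    obtain ⟨y, hy, e⟩ : (s + t * ε) • (x : W) ∈ U'.toSubmodule := h1 x ▸ Submodule.projection_apply_mem hC' x
    have h4 : y = (s + t * ε) • x := Subtype.ext e
    exact (U.toSubmodule.smul_mem_iff h2).mp (h4 ▸ hy)

end Heis

end CL.Weil
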