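/-
Weil representations of `Sp_{2n}(q)`, `q` odd: the Schrödinger model of the Heisenberg basis.
-/
import Cfsg.Agent.Known.Weil1
import Cfsg.Agent.Known.LSSp

set_option autoImplicit false

open Module Matrix

namespace CL.Weil

section op

variable {X : Type*}

/-- weighted composition operators -/
def op (φ : X → ℂ) (σ : X → X) : End ℂ (X → ℂ) where
  toFun f x := φ x * f (σ x)
  map_add' f g := funext fun x => mul_add _ _ _
  map_smul' c f := funext fun x => mul_left_comm _ _ _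

theorem op_apply (φ : X → ℂ) (σ : X → X) (f : X → ℂ) (x : X) : op φ σ f x = φ x * f (σ x) := rfl

theorem trace_op [Fintype X] [DecidableEq X] (φ : X → ℂ) (σ : X → X) :
    LinearMap.trace ℂ _ (op φ σ) = ∑ x, if σ x = x then φ x else 0 := by
  rw [LinearMap.trace_eq_matrix_trace ℂ (Pi.basisFun ℂ X)]
  simp [Matrix.trace, op_apply, Pi.single_apply]

end op

variable {F : Type*} [Field F] {n : Type*} [Fintype n] [DecidableEq n] (ψ : AddChar F ℂ)

/-- The Heisenberg operators. -/
noncomputable def hop (v : n ⊕ n → F) : End ℂ ((n → F) → ℂ) :=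
  op (fun x => ψ ((v ∘ Sum.inr) ⬝ᵥ x + (v ∘ Sum.inr) ⬝ᵥ (v ∘ Sum.inl) / 2)) fun x => x + v ∘ Sum.inl

theorem stdForm_eq (v w : n ⊕ n → F) :
    Sp.stdForm n F v w = (v ∘ Sum.inr) ⬝ᵥ (w ∘ Sum.inl) - (w ∘ Sum.inr) ⬝ᵥ (v ∘ Sum.inl) := by
  simp [Sp.stdForm_apply', dotProduct, mul_comm]

theorem hop_mul (h2 : (2 : F) ≠ 0) (v w : n ⊕ n → F) :
    hop ψ v * hop ψ w = ψ (-Sp.stdForm n F v w / 2) • hop ψ (v + w) := by
  refine LinearMap.ext fun f => funext fun x => ?_
  simp only [hop, End.mul_apply, op_apply, LinearMap.smul_apply, Pi.smul_apply, smul_eq_mul, ← mul_assoc,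
    ← AddChar.map_add_eq_mul, stdForm_eq, Pi.add_comp, add_assoc, add_dotProduct, dotProduct_add]
  congr 2
  field_simp
  ring

omit [DecidableEq n] in
theorem hop_zero : hop (n := n) ψ 0 = 1 := LinearMap.ext fun f => funext fun x => by simp [hop, op_apply]

variable {ψ} [Fintype F] [DecidableEq F]

theorem trace_hop (hψ : ψ ≠ 1) {v : n ⊕ n → F} (hv : v ≠ 0) : LinearMap.trace ℂ _ (hop ψ v) = 0 := by
  rw [hop, trace_op]
  by_cases h : v ∘ Sum.inl = 0
  · obtain ⟨i, hi⟩ : ∃ i, v (Sum.inr i) ≠ 0 := by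
      by_contra h'
      push Not at h'
      exact hv (funext fun j => j.rec (fun j => congrFun h j) h')
    obtain ⟨t, ht⟩ := AddChar.ne_one_iff.mp hψ
    have := AddChar.sum_eq_zero_of_ne_one (ψ := ψ.compAddMonoidHom (dotProductBilin F F (v ∘ Sum.inr)).toAddMonoidHom)
      (AddChar.ne_one_iff.mpr ⟨Pi.single i (t / v (Sum.inr i)), by simpa [mul_div_cancel₀ _ hi] using ht⟩)
    simpa [h] using this
  · simp [h]

theorem linearIndependent_hop (hψ : ψ ≠ 1) (h2 : (2 : F) ≠ 0) : LinearIndependent ℂ (hop (n := n) ψ) := by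
  refine Fintype.linearIndependent_iff.mpr fun c hc w => ?_
  have h1 := congrArg (fun T => LinearMap.trace ℂ _ (T * hop ψ (-w))) hc
  simp only [Finset.sum_mul, smul_mul_assoc, hop_mul ψ h2, map_sum, map_smul, zero_mul, map_zero] at h1
  rw [Finset.sum_eq_single w (fun v _ hv => by rw [trace_hop hψ (add_neg_eq_zero.not.mpr hv), smul_zero, smul_zero])
    (by simp), add_neg_cancel, hop_zero, LinearMap.trace_one, map_neg, Sp.alt_self (Sp.stdForm_isAlt n F)] at h1
  simpa using h1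

/-- The Schrödinger model. -/
noncomputable def heis (n : Type*) [Fintype n] [DecidableEq n] (hψ : ψ ≠ 1) (h2 : (2 : F) ≠ 0) :
    Heis (n ⊕ n → F) ((n → F) → ℂ) where
  π := basisOfLinearIndependentOfCardEqFinrank (linearIndependent_hop hψ h2) (by
    simp [finrank_linearMap, pow_add])
  c v w := ψ (-Sp.stdForm n F v w / 2)
  P := op 1 fun x => -x
  mul v w := by simp only [coe_basisOfLinearIndependentOfCardEqFinrank, hop_mul ψ h2]
  zero := by simp only [coe_basisOfLinearIndependentOfCardEqFinrank, hop_zero]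
  sq := LinearMap.ext fun f => funext fun x => by simp [op_apply]
  neg v := LinearMap.ext fun f => funext fun x => by
    simp [op_apply, hop, Pi.neg_comp, add_comm]
  tr := by
    rw [trace_op, Finset.sum_eq_single 0 (fun x _ hx => if_neg fun e => hx ?_) (by simp)]
    · simp
    · rw [neg_eq_iff_add_eq_zero, ← two_smul F, smul_eq_zero] at e
      exact e.resolve_left h2

theorem heis_π (hψ : ψ ≠ 1) (h2 : (2 : F) ≠ 0) (v : n ⊕ n → F) : (heis n hψ h2).π v = hop ψ v := by
  simp only [heis, coe_basisOfLinearIndependentOfCardEqFinrank]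

theorem exists_weil_sp (hψ : ψ ≠ 1) (h2 : (2 : F) ≠ 0) :
    ∃ ω : Representation ℂ (symplecticGroup n F) ((n → F) → ℂ),
      (∀ g v, ω g * (heis n hψ h2).π v = (heis n hψ h2).π ((Sp.spLin n F g).toAddEquiv v) * ω g) ∧
        ∀ g, ω g * (heis n hψ h2).P = (heis n hψ h2).P * ω g :=
  (heis n hψ h2).exists_weil (fun g => (Sp.spLin n F g).toAddEquiv) (fun g h v => by simp)
    fun g v w => congrArg (fun t => ψ (-t / 2)) (Sp.spLin_mem g v w)

omit [Fintype F] [DecidableEq F] in
theorem sp_trans (v w : n ⊕ n → F) (hv : v ≠ 0) (hw : w ≠ 0) :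
    ∃ g : symplecticGroup n F, (Sp.spLin n F g).toAddEquiv v = w := by
  obtain ⟨t, ht, e⟩ := Sp.exists_isom_apply_eq (Sp.stdForm_isAlt n F) (Sp.stdForm_nondegenerate n F) hv hw
  obtain ⟨g, rfl⟩ := Sp.exists_spLin_eq ht
  exact ⟨g, e⟩

theorem exists_irr_minus [Nonempty n] (h2 : (2 : F) ≠ 0) :
    ∃ ρ : Representation ℂ (symplecticGroup n F) (Fin ((Fintype.card F ^ Fintype.card n - 1) / 2) → ℂ),
      ρ.IsIrreducible := by
  obtain ⟨ψ, hψ⟩ := LS.exists_psi_complex (F := F)
  obtain ⟨ω, h3, h4⟩ := exists_weil_sp (n := n) hψ h2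
  have h5 := (heis n hψ h2).finrank_E_neg
  rw [finrank_fintype_fun_eq_card, Fintype.card_fun] at h5
  have h6 : 1 < Fintype.card F ^ Fintype.card n := Nat.one_lt_pow Fintype.card_ne_zero Fintype.one_lt_card
  have := Heis.irreducible h3 h4 sp_trans (ε := -1) fun e => by
    rw [e, finrank_bot] at h5
    omega
  obtain ⟨σ, ⟨e⟩⟩ := Char.exists_equiv_fin (Heis.sub h4 (-1)).toRepresentation
  have h7 := Char.isIrreducible_of_equiv e
  rw [show (Fintype.card F ^ Fintype.card n - 1) / 2 = finrank ℂ ((heis n hψ h2).E (-1)) by omega]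
  exact ⟨σ, h7⟩

end CL.Weil
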